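import Groth.Prelude.Def_AlgSp2
import Groth.Agent.Lib.Helper10.AlgSpPoints
import Mathlib.AlgebraicGeometry.Morphisms.UniversallyOpen
import Mathlib.AlgebraicGeometry.Morphisms.Etale

/-!
# Basic lemmas on points and charts of fppf sheaves / algebraic spaces (helper11)

Builds on `Groth.Agent.Lib.helper10.exists_point_of_isPullback`.
-/

set_option autoImplicit false
universe u

open CategoryTheory CategoryTheory.Limits AlgebraicGeometry Opposite

namespace Groth.Agent.Lib.helper11

open AlgSp

variable {S : Scheme.{u}}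

/-- `ofPt` of `h_φ` is `ofScheme` of the image point. -/
theorem ofPt_yon_map {T T' : Over S} (φ : T ⟶ T') (t : ↥T.left) :
    Points.ofPt ((yon S).map φ) t = Points.ofScheme T' (φ.left t) := by
  rw [← Points.ofScheme_toScheme T' (Points.ofPt ((yon S).map φ) t), Points.toScheme_ofPt]

/-- Functoriality of `ofPt` in the scheme. -/
theorem ofPt_yon_map_comp {F : Sp S} {T T' : Over S} (φ : T ⟶ T') (g : (yon S).obj T' ⟶ F)
    (t : ↥T.left) : Points.ofPt ((yon S).map φ ≫ g) t = Points.ofPt g (φ.left t) := by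
  rw [← Points.map_ofPt, ofPt_yon_map, ← Points.ofPt_eq_map_ofScheme]

/-- Points of a pullback square whose corner and one leg come from schemes. -/
theorem exists_of_isPullback_scheme {F G : Sp S} {U V : Over S} {fst : (yon S).obj V ⟶ F} {snd : V ⟶ U}
    {f : F ⟶ G} {g : (yon S).obj U ⟶ G} (h : IsPullback fst ((yon S).map snd) f g)
    (x : Points F) (u : ↥U.left) (hxu : Points.map f x = Points.ofPt g u) :
    ∃ v : ↥V.left, Points.ofPt fst v = x ∧ snd.left v = u := by
  rw [Points.ofPt_eq_map_ofScheme] at hxu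
  obtain ⟨w, hw1, hw2⟩ := Groth.Agent.Lib.helper10.exists_point_of_isPullback h x _ hxu
  refine ⟨Points.toScheme V w, ?_, ?_⟩
  · rw [Points.ofPt_eq_map_ofScheme, Points.ofScheme_toScheme, hw1]
  · have h1 : Points.ofPt ((yon S).map snd) (Points.toScheme V w) = Points.ofScheme U u := by
      rw [Points.ofPt_eq_map_ofScheme, Points.ofScheme_toScheme, hw2]
    rw [ofPt_yon_map] at h1
    exact (Points.schemeEquiv U).injective h1

/-- Points of a pullback square of `h_U ⟶ G ⟵ h_T` represented by a scheme. -/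
theorem exists_of_isPullback_schemes {G : Sp S} {U T V : Over S} {φ : V ⟶ U} {snd : V ⟶ T}
    {a : (yon S).obj U ⟶ G} {g : (yon S).obj T ⟶ G}
    (h : IsPullback ((yon S).map φ) ((yon S).map snd) a g)
    (u : ↥U.left) (t : ↥T.left) (hut : Points.ofPt a u = Points.ofPt g t) :
    ∃ v : ↥V.left, φ.left v = u ∧ snd.left v = t := by
  have hxu : Points.map a (Points.ofScheme U u) = Points.ofPt g t := by
    rw [← Points.ofPt_eq_map_ofScheme, hut]
  obtain ⟨v, hv1, hv2⟩ := exists_of_isPullback_scheme h (Points.ofScheme U u) t hxu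
  refine ⟨v, ?_, hv2⟩
  rw [ofPt_yon_map] at hv1
  exact (Points.schemeEquiv U).injective hv1

/-- Commutativity of a represented square on points. -/
theorem ofPt_comm {G : Sp S} {U T V : Over S} {φ : V ⟶ U} {snd : V ⟶ T}
    {a : (yon S).obj U ⟶ G} {g : (yon S).obj T ⟶ G}
    (w : (yon S).map φ ≫ a = (yon S).map snd ≫ g) (v : ↥V.left) :
    Points.ofPt a (φ.left v) = Points.ofPt g (snd.left v) := by
  rw [← ofPt_yon_map_comp, w, ofPt_yon_map_comp]

/-- A representable etale map from a scheme induces an open map on points. -/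
theorem isOpenMap_ofPt {F : Sp S} {U : Over S} (a : (yon S).obj U ⟶ F) (ha : RepWith @Etale a) :
    IsOpenMap (Points.ofPt a) := by
  intro W hW
  rw [Points.isOpen_iff]
  intro T g
  obtain ⟨V, snd, fst, hpb⟩ := ha.rep g
  obtain ⟨φ, rfl⟩ := (yon S).map_surjective fst
  have het : Etale snd.left := ha.2 g _ snd hpb
  have hopen : IsOpenMap snd.left := snd.left.isOpenMap
  have : Points.ofPt g ⁻¹' (Points.ofPt a '' W) = snd.left '' (φ.left ⁻¹' W) := by
    ext t
    constructor
    · rintro ⟨w, hw, hwt⟩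
      obtain ⟨v, hv1, hv2⟩ := exists_of_isPullback_schemes hpb w t hwt
      exact ⟨v, by simpa [hv1] using hw, hv2⟩
    · rintro ⟨v, hv, rfl⟩
      exact ⟨φ.left v, hv, ofPt_comm hpb.w v⟩
  rw [this]
  exact hopen _ (hW.preimage φ.left.continuous)

/-- A representable surjective map from a scheme is surjective on points. -/
theorem surjective_ofPt {F : Sp S} {U : Over S} (p : (yon S).obj U ⟶ F)
    (hs : RepWith @Surjective p) : Function.Surjective (Points.ofPt p) := by
  intro x
  induction x using Points.ind with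
  | h q =>
  obtain ⟨V, snd, fst, hpb⟩ := hs.rep q.toHom
  obtain ⟨φ, rfl⟩ := (yon S).map_surjective fst
  have hsur : Surjective snd.left := hs.2 q.toHom _ snd hpb
  obtain ⟨v, hv⟩ := hsur.surj (IsLocalRing.closedPoint q.K)
  refine ⟨φ.left v, ?_⟩
  rw [ofPt_comm hpb.w v, Points.ofPt_toHom]

/-- A representable etale surjective chart induces a quotient map on points. -/
theorem isQuotientMap_ofPt {F : Sp S} {U : Over S} (p : (yon S).obj U ⟶ F)
    (hp : RepWith @Etale p) (hs : RepWith @Surjective p) : Topology.IsQuotientMap (Points.ofPt p) :=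
  (isOpenMap_ofPt p hp).isQuotientMap (Points.continuous_ofPt p) (surjective_ofPt p hs)

/-- A representable map from a scheme which is surjective on points is representable surjective. -/
theorem repWith_surjective_of_surjective {F : Sp S} {U : Over S} (a : (yon S).obj U ⟶ F)
    (ha : Representable a) (hs : Function.Surjective (Points.ofPt a)) : RepWith @Surjective a := by
  refine ⟨ha, ?_⟩
  intro T V g fst snd hpb
  obtain ⟨φ, rfl⟩ := (yon S).map_surjective fst
  refine ⟨fun t => ?_⟩
  obtain ⟨u, hu⟩ := hs (Points.ofPt g t)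
  obtain ⟨v, _, hv2⟩ := exists_of_isPullback_schemes hpb u t hu
  exact ⟨v, hv2⟩

/-- Every point of an algebraic space lies in the image of some etale chart. -/
theorem exists_chart_ofPt (X : Space S) (x : Points X.obj) :
    ∃ (U : Over S) (p : (yon S).obj U ⟶ X.obj) (u : ↥U.left),
      RepWith @Etale p ∧ RepWith @Surjective p ∧ Points.ofPt p u = x := by
  obtain ⟨U, p, hpe, hps⟩ := X.property.atlas
  obtain ⟨u, hu⟩ := surjective_ofPt p hps x
  exact ⟨U, p, u, hpe, hps, hu⟩

/-- Precomposing a chart with an etale morphism of schemes gives a chart. -/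
theorem chart_comp {F : Sp S} {U : Over S} (p : (yon S).obj U ⟶ F) (hpe : RepWith @Etale p)
    {V : Scheme.{u}} (j : V ⟶ U.left) [Etale j] :
    RepWith @Etale ((yon S).map (Over.homMk (U := Over.mk (j ≫ U.hom)) j rfl) ≫ p) ∧
    ∀ v : V, Points.ofPt ((yon S).map (Over.homMk (U := Over.mk (j ≫ U.hom)) j rfl) ≫ p) v =
      Points.ofPt p (j v) := by
  refine ⟨(repWith_isMultiplicative (S := S) @Etale).comp_mem _ _ ?_ hpe, fun v => ?_⟩
  · rw [repWith_yon_map_iff]
    exact ‹Etale j›
  · rw [ofPt_yon_map_comp]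
    rfl

/-- A sheaf with a chart and compact space of points has an affine etale surjective chart. -/
theorem exists_affine_chart_of_compactSpace {F : Sp S} {U : Over S} (p : (yon S).obj U ⟶ F)
    (hpe : RepWith @Etale p) (hps : RepWith @Surjective p) [CompactSpace (Points F)] :
    ∃ (V : Over S) (q : (yon S).obj V ⟶ F), IsAffine V.left ∧ RepWith @Etale q ∧
      RepWith @Surjective q := by
  classical
  -- the open cover of `|F|` by images of affine opens
  have hcov : (Set.univ : Set (Points F)) ⊆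
      ⋃ i : U.left.affineOpens, Points.ofPt p '' ((i : U.left.Opens) : Set ↥U.left) := by
    intro x _
    obtain ⟨u, rfl⟩ := surjective_ofPt p hps x
    obtain ⟨_, ⟨U₀, hU₀, rfl⟩, hu, -⟩ :=
      (U.left.isBasis_affineOpens).exists_subset_of_mem_open (Set.mem_univ u) isOpen_univ
    exact Set.mem_iUnion.mpr ⟨⟨U₀, hU₀⟩, u, hu, rfl⟩
  obtain ⟨s, hs⟩ := isCompact_univ.elim_finite_subcover
    (fun i : U.left.affineOpens => Points.ofPt p '' ((i : U.left.Opens) : Set ↥U.left))
    (fun i => isOpenMap_ofPt p hpe _ (i : U.left.Opens).2) hcov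
  let g : {i // i ∈ s} → Scheme.{u} := fun i => ((i.1 : U.left.Opens) : Scheme.{u})
  have : ∀ i, IsAffine (g i) := fun i => i.1.2
  let j : (∐ g) ⟶ U.left := Sigma.desc fun i => (i.1 : U.left.Opens).ι
  have hj : Etale j := IsZariskiLocalAtSource.sigmaDesc (P := @Etale) fun i => inferInstance
  obtain ⟨h1, h2⟩ := chart_comp p hpe j
  refine ⟨Over.mk (j ≫ U.hom), _, inferInstanceAs (IsAffine (∐ g)), h1,
    repWith_surjective_of_surjective _ h1.rep ?_⟩
  intro x
  obtain ⟨i, hi, u, hu, rfl⟩ : ∃ i ∈ s, ∃ u ∈ ((i : U.left.Opens) : Set ↥U.left), Points.ofPt p u = x := by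
    have := hs (Set.mem_univ x)
    simp only [Set.mem_iUnion] at this
    obtain ⟨i, hi, u, hu, rfl⟩ := this
    exact ⟨i, hi, u, hu, rfl⟩
  refine ⟨(Sigma.ι g ⟨i, hi⟩) ⟨u, hu⟩, ?_⟩
  rw [h2]
  congr 1
  rw [← Scheme.Hom.comp_apply, Sigma.ι_desc]
  rfl

end Groth.Agent.Lib.helper11
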