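import Mathlib

set_option autoImplicit false
universe u v w
open DirectSum

namespace Groth.Agent.Lib.helper11.GenFree

section FiltrationFree

variable {R : Type u} [CommRing R] {P : Type v} [AddCommGroup P] [Module R P]

/-- the family of summands: `D 0 = F 0`, `D (n+1) = C n` -/
def summand (F0 : Submodule R P) (C : ℕ → Submodule R P) : ℕ → Submodule R P
  | 0 => F0
  | n + 1 => C n

theorem lsum_mem_of_support_le (D : ℕ → Submodule R P) (F : ℕ → Submodule R P) (hF : Monotone F)
    (hle : ∀ n, D n ≤ F n) (N : ℕ) (x : Π₀ n, D n) (hx : ∀ n, N < n → x n = 0) :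
    DFinsupp.lsum ℕ (fun i => (D i).subtype) x ∈ F N := by
  classical
  rw [DFinsupp.lsum_apply_apply, DFinsupp.sumAddHom_apply]
  refine Submodule.sum_mem _ fun i hi => ?_
  have hiN : i ≤ N := by
    by_contra h
    exact (DFinsupp.mem_support_iff.mp hi) (hx i (not_le.mp h))
  exact hF hiN (hle i (x i).2)

theorem iSupIndep_summand (F : ℕ → Submodule R P) (hF : Monotone F) (C : ℕ → Submodule R P)
    (hC : ∀ n, C n ≤ F (n + 1)) (hdisj : ∀ n, Disjoint (F n) (C n)) :
    iSupIndep (summand (F 0) C) := by
  classical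
  have hle : ∀ n, summand (F 0) C n ≤ F n := by
    intro n
    cases n with
    | zero => exact le_rfl
    | succ n => exact hC n
  rw [iSupIndep_iff_dfinsupp_lsum_injective]
  rw [← LinearMap.ker_eq_bot, LinearMap.ker_eq_bot']
  suffices H : ∀ N : ℕ, ∀ x : Π₀ n, summand (F 0) C n, (∀ n, N < n → x n = 0) →
      DFinsupp.lsum ℕ (fun i => (summand (F 0) C i).subtype) x = 0 → x = 0 by
    intro x hx
    rcases x.support.eq_empty_or_nonempty with he | hne
    · exact DFinsupp.support_eq_empty.mp he
    · refine H (x.support.max' hne) x (fun n hn => ?_) hx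
      by_contra h
      have := Finset.le_max' x.support n (DFinsupp.mem_support_iff.mpr h)
      omega
  intro N
  induction N with
  | zero =>
    intro x hx h0
    have hx' : x = DFinsupp.single 0 (x 0) := by
      ext n
      by_cases hn : n = 0
      · subst hn; simp
      · rw [hx n (Nat.pos_of_ne_zero hn), DFinsupp.single_eq_of_ne hn]
    rw [hx', DFinsupp.lsum_single] at h0
    have h1 : x 0 = 0 := Subtype.ext h0
    rw [hx', h1, DFinsupp.single_zero]
  | succ N ih =>
    intro x hx h0
    have hdec : x = x.erase (N + 1) + DFinsupp.single (N + 1) (x (N + 1)) := by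
      rw [DFinsupp.erase_add_single]
    have hy : ∀ n, N < n → (x.erase (N + 1)) n = 0 := by
      intro n hn
      by_cases hn' : n = N + 1
      · subst hn'; simp
      · rw [DFinsupp.erase_ne hn']
        exact hx n (by omega)
    have hmem := lsum_mem_of_support_le (summand (F 0) C) F hF hle N (x.erase (N + 1)) hy
    rw [hdec, map_add, DFinsupp.lsum_single] at h0
    have hxC : ((x (N + 1) : summand (F 0) C (N + 1)) : P) ∈ C N := (x (N + 1)).2
    have hxF : ((x (N + 1) : summand (F 0) C (N + 1)) : P) ∈ F N := by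
      have : ((x (N + 1) : summand (F 0) C (N + 1)) : P) =
          -(DFinsupp.lsum ℕ (fun i => (summand (F 0) C i).subtype) (x.erase (N + 1))) := by
        rw [eq_neg_iff_add_eq_zero, add_comm]
        exact h0
      rw [this]
      exact (F N).neg_mem hmem
    have hz : ((x (N + 1) : summand (F 0) C (N + 1)) : P) = 0 :=
      (Submodule.disjoint_def.mp (hdisj N)) _ hxF hxC
    have hz' : x (N + 1) = 0 := Subtype.ext hz
    have hxe : x = x.erase (N + 1) := by
      ext n
      by_cases hn' : n = N + 1
      · subst hn'; rw [hz']; simp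
      · rw [DFinsupp.erase_ne hn']
    have h0' : DFinsupp.lsum ℕ (fun i => (summand (F 0) C i).subtype) (x.erase (N + 1)) = 0 := by
      rw [hz', map_zero, add_zero] at h0
      exact h0
    rw [hxe]
    exact ih _ hy h0'

theorem iSup_summand_eq_top (F : ℕ → Submodule R P) (hex : ∀ x : P, ∃ n, x ∈ F n)
    (C : ℕ → Submodule R P) (hsup : ∀ n, F (n + 1) ≤ F n ⊔ C n) :
    ⨆ n, summand (F 0) C n = ⊤ := by
  rw [eq_top_iff]
  have H : ∀ N, F N ≤ ⨆ n, summand (F 0) C n := by
    intro N
    induction N with
    | zero => exact le_iSup (summand (F 0) C) 0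
    | succ N ih => exact (hsup N).trans (sup_le ih (le_iSup (summand (F 0) C) (N + 1)))
  intro x _
  obtain ⟨n, hn⟩ := hex x
  exact H n hn

/-- free from a filtration with free complements -/
theorem free_of_compl (F : ℕ → Submodule R P) (hF : Monotone F) (hex : ∀ x : P, ∃ n, x ∈ F n)
    (C : ℕ → Submodule R P) (hC : ∀ n, C n ≤ F (n + 1)) (hdisj : ∀ n, Disjoint (F n) (C n))
    (hsup : ∀ n, F (n + 1) ≤ F n ⊔ C n)
    (h0 : Module.Free R (F 0)) (hfree : ∀ n, Module.Free R (C n)) : Module.Free R P := by
  classical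
  have hint := DirectSum.isInternal_submodule_of_iSupIndep_of_iSup_eq_top
    (iSupIndep_summand F hF C hC hdisj) (iSup_summand_eq_top F hex C hsup)
  have hfr : ∀ n, Module.Free R (summand (F 0) C n) := by
    intro n
    cases n with
    | zero => exact h0
    | succ n => exact hfree n
  exact Module.Free.of_equiv (LinearEquiv.ofBijective (DirectSum.coeLinearMap _) hint)

/-- **Lemma A**: a module with an exhaustive `ℕ`-filtration whose `F 0` and successive quotients
are free is free. -/
theorem free_of_filtration (F : ℕ → Submodule R P) (hF : Monotone F)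
    (hex : ∀ x : P, ∃ n, x ∈ F n) (h0 : Module.Free R (F 0))
    (Q : ℕ → Type w) [∀ n, AddCommGroup (Q n)] [∀ n, Module R (Q n)]
    (hQ : ∀ n, Module.Free R (Q n))
    (π : ∀ n, F (n + 1) →ₗ[R] Q n) (hπ : ∀ n, Function.Surjective (π n))
    (hker : ∀ n (x : F (n + 1)), π n x = 0 ↔ (x : P) ∈ F n) : Module.Free R P := by
  classical
  have hsec : ∀ n, ∃ s : Q n →ₗ[R] F (n + 1), (π n) ∘ₗ s = LinearMap.id := fun n =>
    Module.projective_lifting_property (π n) LinearMap.id (hπ n)
  choose s hs using hsec
  have hs' : ∀ n q, π n (s n q) = q := fun n q => LinearMap.congr_fun (hs n) q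
  let g : ∀ n, Q n →ₗ[R] P := fun n => (F (n + 1)).subtype ∘ₗ s n
  have hginj : ∀ n, Function.Injective (g n) := by
    intro n q q' h
    have h1 : s n q = s n q' := Subtype.ext h
    rw [← hs' n q, ← hs' n q', h1]
  refine free_of_compl F hF hex (fun n => LinearMap.range (g n)) ?_ ?_ ?_ h0 ?_
  · rintro n _ ⟨q, rfl⟩
    exact (s n q).2
  · intro n
    rw [Submodule.disjoint_def]
    rintro x hx ⟨q, rfl⟩
    have h1 : π n (s n q) = 0 := (hker n (s n q)).mpr hx
    rw [hs' n q] at h1
    rw [h1, map_zero]
  · intro n y hy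
    let y' : F (n + 1) := ⟨y, hy⟩
    have h1 : π n (y' - s n (π n y')) = 0 := by rw [map_sub, hs', sub_self]
    have h2 : ((y' - s n (π n y') : F (n + 1)) : P) ∈ F n := (hker n _).mp h1
    have h3 : y = ((y' - s n (π n y') : F (n + 1)) : P) + g n (π n y') := by
      simp [g, y']
    rw [h3]
    exact Submodule.add_mem_sup h2 ⟨_, rfl⟩
  · intro n
    exact Module.Free.of_equiv (LinearEquiv.ofInjective (g n) (hginj n))

end FiltrationFree

end Groth.Agent.Lib.helper11.GenFree
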