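import Mathlib
import Groth.Agent.Lib.Helper11.GenFree1

set_option autoImplicit false
universe u u' v w
open TensorProduct

namespace Groth.Agent.Lib.helper11.GenFree

section BaseChangeFiltration

variable {A : Type u} [CommRing A] (S : Type u') [CommRing S] [Algebra A S] [Module.Flat A S]
  {M : Type v} [AddCommGroup M] [Module A M]

/-- **Lemma A'**: base change along a flat algebra of a module with an exhaustive filtration
whose graded pieces become free after base change is free. -/
theorem free_baseChange_of_filtration (F : ℕ → Submodule A M) (hF : Monotone F)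
    (hex : ∀ x : M, ∃ n, x ∈ F n) (h0 : Module.Free S (S ⊗[A] F 0))
    (Q : ℕ → Type w) [∀ n, AddCommGroup (Q n)] [∀ n, Module A (Q n)]
    (hQ : ∀ n, Module.Free S (S ⊗[A] Q n))
    (π : ∀ n, F (n + 1) →ₗ[A] Q n) (hπ : ∀ n, Function.Surjective (π n))
    (hker : ∀ n (x : F (n + 1)), π n x = 0 ↔ (x : M) ∈ F n) : Module.Free S (S ⊗[A] M) := by
  classical
  let ι : ∀ n, S ⊗[A] F n →ₗ[S] S ⊗[A] M := fun n => (F n).subtype.baseChange S
  have hιinj : ∀ n, Function.Injective (ι n) := fun n =>
    Module.Flat.lTensor_preserves_injective_linearMap (M := S) (F n).subtype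
      (F n).injective_subtype
  let G : ℕ → Submodule S (S ⊗[A] M) := fun n => LinearMap.range (ι n)
  let e : ∀ n, (S ⊗[A] F n) ≃ₗ[S] G n := fun n => LinearEquiv.ofInjective (ι n) (hιinj n)
  have hcomp : ∀ n m (h : n ≤ m),
      ι n = ι m ∘ₗ (Submodule.inclusion (hF h)).baseChange S := by
    intro n m h
    rw [← LinearMap.baseChange_comp]
    rfl
  have hG : Monotone G := by
    intro n m h
    change LinearMap.range (ι n) ≤ LinearMap.range (ι m)
    rw [hcomp n m h]
    exact LinearMap.range_comp_le_range _ _
  have hGex : ∀ z : S ⊗[A] M, ∃ n, z ∈ G n := by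
    intro z
    induction z using TensorProduct.induction_on with
    | zero => exact ⟨0, (G 0).zero_mem⟩
    | tmul s m =>
      obtain ⟨n, hn⟩ := hex m
      exact ⟨n, ⟨s ⊗ₜ ⟨m, hn⟩, rfl⟩⟩
    | add x y hx hy =>
      obtain ⟨n, hn⟩ := hx
      obtain ⟨m, hm⟩ := hy
      exact ⟨max n m, (G _).add_mem (hG (le_max_left n m) hn) (hG (le_max_right n m) hm)⟩
  have h0' : Module.Free S (G 0) := Module.Free.of_equiv (e 0)
  let π' : ∀ n, G (n + 1) →ₗ[S] S ⊗[A] Q n := fun n =>
    (π n).baseChange S ∘ₗ (e (n + 1)).symm.toLinearMap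
  refine free_of_filtration G hG hGex h0' (fun n => S ⊗[A] Q n) hQ π' ?_ ?_
  · intro n
    have h1 : Function.Surjective ((π n).baseChange S) :=
      LinearMap.lTensor_surjective S (hπ n)
    exact h1.comp (e (n + 1)).symm.surjective
  · intro n x
    have hexact : Function.Exact (Submodule.inclusion (hF (Nat.le_succ n))) (π n) := by
      intro y
      rw [hker n y]
      constructor
      · intro hy
        exact ⟨⟨y.1, hy⟩, rfl⟩
      · rintro ⟨w, rfl⟩
        exact w.2
    have hexact' := Module.Flat.lTensor_exact S hexact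
    have hx : ι (n + 1) ((e (n + 1)).symm x) = x := by
      have := (e (n + 1)).apply_symm_apply x
      exact congrArg Subtype.val this
    change (π n).lTensor S ((e (n + 1)).symm x) = 0 ↔ (x : S ⊗[A] M) ∈ G n
    rw [hexact' ((e (n + 1)).symm x)]
    constructor
    · rintro ⟨w, hw⟩
      refine ⟨w, ?_⟩
      rw [← hx, ← hw, hcomp n (n + 1) (Nat.le_succ n)]
      rfl
    · rintro ⟨w, hw⟩
      refine ⟨w, ?_⟩
      apply hιinj (n + 1)
      rw [hx, ← hw, hcomp n (n + 1) (Nat.le_succ n)]
      rfl

end BaseChangeFiltration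

section GF

variable (A : Type u) [CommRing A]

/-- `M_a` is free over `A_a` (tensor formulation). -/
def PF (a : A) (M : Type v) [AddCommGroup M] [Module A M] : Prop :=
  Module.Free (Localization.Away a) (Localization.Away a ⊗[A] M)

/-- generic freeness of the `A`-module `M`. -/
def GF (M : Type v) [AddCommGroup M] [Module A M] : Prop :=
  ∃ a : A, a ≠ 0 ∧ PF A a M

variable {A}

theorem free_baseChange_of_algHom {S : Type u'} [CommRing S] [Algebra A S]
    {S' : Type w} [CommRing S'] [Algebra A S'] (f : S →ₐ[A] S')
    {M : Type v} [AddCommGroup M] [Module A M] (h : Module.Free S (S ⊗[A] M)) :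
    Module.Free S' (S' ⊗[A] M) := by
  let _ : Algebra S S' := f.toRingHom.toAlgebra
  have : IsScalarTower A S S' := IsScalarTower.of_algebraMap_eq (fun x => (f.commutes x).symm)
  have e := TensorProduct.AlgebraTensorModule.cancelBaseChange A S S' S' M
  exact Module.Free.of_equiv e

theorem PF.of_equiv {a : A} {M : Type v} [AddCommGroup M] [Module A M]
    {N : Type w} [AddCommGroup N] [Module A N] (e : M ≃ₗ[A] N) (h : PF A a M) : PF A a N := by
  unfold PF at h ⊢
  exact Module.Free.of_equiv (LinearEquiv.baseChange A (Localization.Away a) M N e)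

theorem PF.mul_right {a : A} (b : A) {M : Type v} [AddCommGroup M] [Module A M]
    (h : PF A a M) : PF A (a * b) M := by
  unfold PF at h ⊢
  let f : Localization.Away a →ₐ[A] Localization.Away (a * b) :=
    { IsLocalization.Away.awayToAwayRight a b with
      commutes' := fun x => IsLocalization.Away.awayToAwayRight_eq a b x }
  exact free_baseChange_of_algHom f h

theorem PF.of_dvd {a a' : A} (hd : a ∣ a') {M : Type v} [AddCommGroup M] [Module A M]
    (h : PF A a M) : PF A a' M := by
  obtain ⟨b, rfl⟩ := hd
  exact h.mul_right b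

theorem GF.of_equiv {M : Type v} [AddCommGroup M] [Module A M]
    {N : Type w} [AddCommGroup N] [Module A N] (e : M ≃ₗ[A] N) (h : GF A M) : GF A N := by
  obtain ⟨a, ha, h⟩ := h
  exact ⟨a, ha, h.of_equiv e⟩

theorem exists_common [IsDomain A] {ι : Type*} [Finite ι] (N : ι → Type v)
    [∀ i, AddCommGroup (N i)] [∀ i, Module A (N i)] (h : ∀ i, GF A (N i)) :
    ∃ a : A, a ≠ 0 ∧ ∀ i, PF A a (N i) := by
  classical
  cases nonempty_fintype ι
  choose a ha hPF using h
  refine ⟨∏ i, a i, Finset.prod_ne_zero_iff.mpr (fun i _ => ha i), fun i => ?_⟩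
  exact (hPF i).of_dvd (Finset.dvd_prod_of_mem a (Finset.mem_univ i))

/-- PF from any localized module presentation. -/
theorem PF_iff_free_localizedModule (a : A) (M : Type v) [AddCommGroup M] [Module A M] :
    PF A a M ↔ Module.Free (Localization.Away a) (LocalizedModule (Submonoid.powers a) M) := by
  have hbc : IsBaseChange (Localization.Away a)
      (LocalizedModule.mkLinearMap (Submonoid.powers a) M) :=
    IsLocalizedModule.isBaseChange (Submonoid.powers a) (Localization.Away a) _
  constructor
  · intro h
    unfold PF at h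
    exact Module.Free.of_equiv hbc.equiv
  · intro h
    unfold PF
    exact Module.Free.of_equiv hbc.equiv.symm

/-- base case: finitely presented modules over a domain are generically free. -/
theorem GF_of_finitePresentation [IsDomain A] (M : Type v) [AddCommGroup M] [Module A M]
    [Module.FinitePresentation A M] : GF A M := by
  obtain ⟨r, hr, hfree, -⟩ := Module.FinitePresentation.exists_free_localizedModule_powers
    (nonZeroDivisors A) (LocalizedModule.mkLinearMap (nonZeroDivisors A) M) (FractionRing A)
  refine ⟨r, nonZeroDivisors.ne_zero hr, ?_⟩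
  rw [PF_iff_free_localizedModule]
  exact hfree

end GF

end Groth.Agent.Lib.helper11.GenFree
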