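import Mathlib
import Groth.Agent.Lib.Helper11.GenFree2

set_option autoImplicit false
universe u u' v w
open TensorProduct

namespace Groth.Agent.Lib.helper11.GenFree

section Step

variable {B : Type u'} [CommRing B] {M : Type v} [AddCommGroup M] [Module B M]

/-- the filtration `M₀ ⊆ M₀ + T M₀ ⊆ M₀ + T M₀ + T² M₀ ⊆ …` -/
def filt (T : M →ₗ[B] M) (M₀ : Submodule B M) : ℕ → Submodule B M
  | 0 => M₀
  | n + 1 => M₀ ⊔ (filt T M₀ n).map T

variable (T : M →ₗ[B] M) (M₀ : Submodule B M)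

theorem filt_zero : filt T M₀ 0 = M₀ := rfl

theorem filt_succ (n : ℕ) : filt T M₀ (n + 1) = M₀ ⊔ (filt T M₀ n).map T := rfl

theorem filt_mono : Monotone (filt T M₀) := by
  apply monotone_nat_of_le_succ
  intro n
  induction n with
  | zero => exact le_sup_left
  | succ n ih =>
    rw [filt_succ T M₀ (n + 1), filt_succ T M₀ n]
    exact sup_le_sup_left (Submodule.map_mono ih) _

theorem map_filt_le (n : ℕ) : (filt T M₀ n).map T ≤ filt T M₀ (n + 1) := le_sup_right

theorem apply_mem_filt {n : ℕ} {x : M} (hx : x ∈ filt T M₀ n) : T x ∈ filt T M₀ (n + 1) :=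
  map_filt_le T M₀ n (Submodule.mem_map_of_mem hx)

theorem pow_succ_apply' (n : ℕ) (x : M) : (T ^ (n + 1)) x = T ((T ^ n) x) := by
  rw [pow_succ']
  rfl

theorem pow_mem_filt {m : M} (hm : m ∈ M₀) (n : ℕ) : (T ^ n) m ∈ filt T M₀ n := by
  induction n with
  | zero => simpa [filt_zero] using hm
  | succ n ih =>
    rw [pow_succ_apply']
    exact apply_mem_filt T M₀ ih

theorem pow_mem_filt_add {k : ℕ} {x : M} (hx : x ∈ filt T M₀ k) (n : ℕ) :
    (T ^ n) x ∈ filt T M₀ (k + n) := by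
  induction n with
  | zero => simpa using hx
  | succ n ih =>
    rw [pow_succ_apply']
    exact apply_mem_filt T M₀ ih

theorem filt_succ_decomp (n : ℕ) {y : M} (hy : y ∈ filt T M₀ (n + 1)) :
    ∃ m ∈ M₀, y - (T ^ (n + 1)) m ∈ filt T M₀ n := by
  induction n generalizing y with
  | zero =>
    rw [filt_succ, Submodule.mem_sup] at hy
    obtain ⟨m', hm', z, hz, rfl⟩ := hy
    obtain ⟨m, hm, rfl⟩ := hz
    refine ⟨m, hm, ?_⟩
    simpa [filt_zero] using hm'
  | succ n ih =>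
    rw [filt_succ, Submodule.mem_sup] at hy
    obtain ⟨m', hm', z, hz, rfl⟩ := hy
    obtain ⟨z', hz', rfl⟩ := hz
    obtain ⟨m, hm, hmz⟩ := ih hz'
    refine ⟨m, hm, ?_⟩
    have : m' + T z' - (T ^ (n + 1 + 1)) m = m' + T (z' - (T ^ (n + 1)) m) := by
      rw [pow_succ_apply' T (n + 1), map_sub]
      abel
    rw [this, filt_succ T M₀ n]
    exact Submodule.add_mem_sup hm' (Submodule.mem_map_of_mem hmz)

/-- the graded piece -/
abbrev gr (n : ℕ) : Type v :=
  (filt T M₀ (n + 1)) ⧸ (filt T M₀ n).comap (filt T M₀ (n + 1)).subtype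

/-- `m ↦ [T^{n+1} m]` -/
noncomputable def φ (n : ℕ) : M₀ →ₗ[B] gr T M₀ n :=
  (Submodule.mkQ _) ∘ₗ
    LinearMap.codRestrict (filt T M₀ (n + 1)) ((T ^ (n + 1)) ∘ₗ M₀.subtype)
      (fun m => pow_mem_filt T M₀ m.2 (n + 1))

theorem φ_surjective (n : ℕ) : Function.Surjective (φ T M₀ n) := by
  intro q
  obtain ⟨y, rfl⟩ := Submodule.Quotient.mk_surjective _ q
  obtain ⟨m, hm, hmy⟩ := filt_succ_decomp T M₀ n y.2
  refine ⟨⟨m, hm⟩, ?_⟩
  change Submodule.Quotient.mk _ = Submodule.Quotient.mk y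
  rw [Submodule.Quotient.eq]
  change (_ : M) ∈ filt T M₀ n
  have : ((T ^ (n + 1)) m - (y : M)) = -((y : M) - (T ^ (n + 1)) m) := by abel
  change ((T ^ (n + 1)) m - (y : M)) ∈ filt T M₀ n
  rw [this]
  exact (filt T M₀ n).neg_mem hmy

theorem mem_ker_φ (n : ℕ) (m : M₀) :
    m ∈ LinearMap.ker (φ T M₀ n) ↔ (T ^ (n + 1)) (m : M) ∈ filt T M₀ n := by
  rw [LinearMap.mem_ker]
  change Submodule.Quotient.mk _ = 0 ↔ _
  rw [Submodule.Quotient.mk_eq_zero]
  rfl

theorem ker_φ_mono : Monotone (fun n => LinearMap.ker (φ T M₀ n)) := by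
  apply monotone_nat_of_le_succ
  intro n m hm
  rw [mem_ker_φ] at hm ⊢
  rw [pow_succ_apply']
  exact apply_mem_filt T M₀ hm

end Step

section StepMain

variable {A : Type u} [CommRing A] [IsDomain A]
  {B : Type u'} [CommRing B] [Algebra A B] [IsNoetherianRing B]
  {M : Type v} [AddCommGroup M] [Module A M] [Module B M] [IsScalarTower A B M]

/-- **Step lemma** (Eisenbud 14.4): if all finite `B`-modules are generically free over `A`, then
so is any `B`-module with an endomorphism `T` which is generated by a finite submodule `M₀`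
under `T`. -/
theorem GF_of_step
    (hB : ∀ (N : Type v) [AddCommGroup N] [Module A N] [Module B N] [IsScalarTower A B N]
      [Module.Finite B N], GF A N)
    (T : M →ₗ[B] M) (M₀ : Submodule B M) (hfg : M₀.FG)
    (hex : ∀ x : M, ∃ n, x ∈ filt T M₀ n) : GF A M := by
  classical
  have hfin : Module.Finite B M₀ := Module.Finite.iff_fg.mpr hfg
  have hnoeth : IsNoetherian B M₀ := isNoetherian_of_isNoetherianRing_of_finite B M₀
  let K : ℕ →o Submodule B M₀ := ⟨fun n => LinearMap.ker (φ T M₀ n), ker_φ_mono T M₀⟩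
  obtain ⟨i₀, hi₀⟩ := monotone_stabilizes_iff_noetherian.mpr hnoeth K
  obtain ⟨a₁, ha₁, hP₁⟩ := hB M₀
  obtain ⟨a₂, ha₂, hP₂⟩ := exists_common (A := A) (fun j : Fin (i₀ + 1) => M₀ ⧸ K j)
    (fun j => hB _)
  refine ⟨a₁ * a₂, mul_ne_zero ha₁ ha₂, ?_⟩
  have hPK : ∀ n, PF A (a₁ * a₂) (M₀ ⧸ K n) := by
    intro n
    by_cases hn : n ≤ i₀
    · exact (hP₂ ⟨n, by omega⟩).of_dvd (dvd_mul_left _ _)
    · have : K n = K i₀ := (hi₀ n (by omega)).symm
      rw [this]
      exact (hP₂ ⟨i₀, by omega⟩).of_dvd (dvd_mul_left _ _)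
  have hPgr : ∀ n, PF A (a₁ * a₂) (gr T M₀ n) := by
    intro n
    let e : (M₀ ⧸ K n) ≃ₗ[B] gr T M₀ n :=
      LinearMap.quotKerEquivOfSurjective (φ T M₀ n) (φ_surjective T M₀ n)
    exact (hPK n).of_equiv (e.restrictScalars A)
  have hflat : Module.Flat A (Localization.Away (a₁ * a₂)) :=
    IsLocalization.flat _ (Submonoid.powers (a₁ * a₂))
  unfold PF
  let π : ∀ n, ((filt T M₀ (n + 1)).restrictScalars A) →ₗ[A] gr T M₀ n := fun n =>
    { toFun := fun x => Submodule.Quotient.mk (⟨x.1, x.2⟩ : filt T M₀ (n + 1))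
      map_add' := fun x y => rfl
      map_smul' := fun c x => rfl }
  refine free_baseChange_of_filtration (Localization.Away (a₁ * a₂))
    (fun n => (filt T M₀ n).restrictScalars A) ?_ hex ?_ (fun n => gr T M₀ n) hPgr π ?_ ?_
  · intro n m h x hx
    exact filt_mono T M₀ h hx
  · exact (hP₁.of_dvd (dvd_mul_right _ _))
  · intro n q
    obtain ⟨y, rfl⟩ := Submodule.Quotient.mk_surjective _ q
    exact ⟨⟨y.1, y.2⟩, rfl⟩
  · intro n x
    change Submodule.Quotient.mk _ = 0 ↔ _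
    rw [Submodule.Quotient.mk_eq_zero]
    rfl

end StepMain

end Groth.Agent.Lib.helper11.GenFree
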