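import Mathlib
import Groth.Agent.Lib.Helper11.GenFree3

set_option autoImplicit false
universe u u' v w
open TensorProduct Polynomial

namespace Groth.Agent.Lib.helper11.GenFree

/-- finiteness transfers along a surjective ring hom compatible with the actions -/
theorem finite_of_surjective_compat {R : Type*} {R' : Type*} {M : Type*} [Semiring R] [Semiring R']
    [AddCommMonoid M] [Module R M] [Module R' M] (f : R' →+* R) (hf : Function.Surjective f)
    (hcompat : ∀ (r' : R') (m : M), r' • m = f r' • m) [Module.Finite R M] :
    Module.Finite R' M := by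
  obtain ⟨s, hs⟩ := Module.Finite.fg_top (R := R) (M := M)
  refine ⟨⟨s, ?_⟩⟩
  rw [eq_top_iff]
  intro x hxtop
  clear hxtop
  have hx : x ∈ Submodule.span R (s : Set M) := by rw [hs]; trivial
  induction hx using Submodule.span_induction with
  | mem x hx => exact Submodule.subset_span hx
  | zero => exact Submodule.zero_mem _
  | add x y _ _ hx hy => exact Submodule.add_mem _ hx hy
  | smul r x _ hx =>
    obtain ⟨r', rfl⟩ := hf r
    rw [← hcompat]
    exact Submodule.smul_mem _ r' hx

section Poly

variable {A : Type u} [CommRing A] [IsDomain A]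
  {B : Type u'} [CommRing B] [Algebra A B] [IsNoetherianRing B]

theorem GF_polynomial
    (hB : ∀ (N : Type v) [AddCommGroup N] [Module A N] [Module B N] [IsScalarTower A B N]
      [Module.Finite B N], GF A N)
    (M : Type v) [AddCommGroup M] [Module A M] [Module B[X] M] [IsScalarTower A B[X] M]
    [Module.Finite B[X] M] : GF A M := by
  classical
  let _ : Module B M := Module.compHom M (Polynomial.C : B →+* B[X])
  have hCsmul : ∀ (b : B) (m : M), b • m = (Polynomial.C b : B[X]) • m := fun b m => rfl
  have : IsScalarTower B B[X] M := ⟨fun b p m => by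
    rw [hCsmul, Polynomial.smul_eq_C_mul, mul_smul]⟩
  have : IsScalarTower A B M := ⟨fun a b m => by
    rw [hCsmul, hCsmul, ← Polynomial.smul_C, smul_assoc]⟩
  let T : M →ₗ[B] M :=
    { toFun := fun x => (Polynomial.X : B[X]) • x
      map_add' := fun x y => smul_add _ x y
      map_smul' := fun b x => by
        simp only [RingHom.id_apply]
        rw [hCsmul, hCsmul, smul_smul, smul_smul, Polynomial.X_mul_C] }
  have hTpow : ∀ (k : ℕ) (x : M), (T ^ k) x = (Polynomial.X ^ k : B[X]) • x := by
    intro k x
    induction k with
    | zero => simp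
    | succ k ih =>
      rw [pow_succ_apply', ih, pow_succ', mul_smul]
      rfl
  obtain ⟨s, hs⟩ := Module.Finite.fg_top (R := B[X]) (M := M)
  let M₀ : Submodule B M := Submodule.span B (s : Set M)
  have hfg : M₀.FG := ⟨s, rfl⟩
  refine GF_of_step hB T M₀ hfg ?_
  let N : Submodule B[X] M :=
    { carrier := {x | ∃ n, x ∈ filt T M₀ n}
      zero_mem' := ⟨0, Submodule.zero_mem _⟩
      add_mem' := by
        rintro x y ⟨n, hn⟩ ⟨m, hm⟩
        exact ⟨max n m, Submodule.add_mem _ (filt_mono T M₀ (le_max_left n m) hn)
          (filt_mono T M₀ (le_max_right n m) hm)⟩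
      smul_mem' := by
        rintro p x ⟨n, hn⟩
        induction p using Polynomial.induction_on' with
        | add p q hp hq =>
          obtain ⟨n₁, h₁⟩ := hp
          obtain ⟨n₂, h₂⟩ := hq
          refine ⟨max n₁ n₂, ?_⟩
          rw [add_smul]
          exact Submodule.add_mem _ (filt_mono T M₀ (le_max_left _ _) h₁)
            (filt_mono T M₀ (le_max_right _ _) h₂)
        | monomial k b =>
          refine ⟨n + k, ?_⟩
          rw [← Polynomial.C_mul_X_pow_eq_monomial, mul_smul, ← hTpow, ← hCsmul]
          exact Submodule.smul_mem _ b (pow_mem_filt_add T M₀ hn k) }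
  have hsN : (s : Set M) ⊆ N := fun x hx => ⟨0, Submodule.subset_span hx⟩
  have hN : N = ⊤ := by
    rw [eq_top_iff, ← hs]
    exact Submodule.span_le.mpr hsN
  intro x
  have : x ∈ N := by rw [hN]; trivial
  exact this

end Poly

section MvPoly

variable {A : Type u} [CommRing A] [IsDomain A] [IsNoetherianRing A]

omit [IsDomain A] [IsNoetherianRing A] in
/-- transport of structure: a finite module over `R` with compatible `A`-action is a finite module
over `R'` for a surjective `A`-algebra map `R' → R`. -/
theorem GF_of_surjective_algHom {R : Type u'} [CommRing R] [Algebra A R]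
    {R' : Type w} [CommRing R'] [Algebra A R'] (f : R' →ₐ[A] R) (hf : Function.Surjective f)
    (hR' : ∀ (N : Type v) [AddCommGroup N] [Module A N] [Module R' N] [IsScalarTower A R' N]
      [Module.Finite R' N], GF A N)
    (M : Type v) [AddCommGroup M] [Module A M] [Module R M] [IsScalarTower A R M]
    [Module.Finite R M] : GF A M := by
  let _ : Module R' M := Module.compHom M (f : R' →+* R)
  have hsmul : ∀ (r' : R') (m : M), r' • m = f r' • m := fun r' m => rfl
  have : IsScalarTower A R' M := ⟨fun a r' m => by
    rw [hsmul, hsmul, map_smul, smul_assoc]⟩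
  have : Module.Finite R' M := finite_of_surjective_compat (f : R' →+* R) hf hsmul
  exact hR' M

theorem GF_mvPolynomial (n : ℕ) :
    ∀ (M : Type v) [AddCommGroup M] [Module A M] [Module (MvPolynomial (Fin n) A) M]
      [IsScalarTower A (MvPolynomial (Fin n) A) M] [Module.Finite (MvPolynomial (Fin n) A) M],
      GF A M := by
  induction n with
  | zero =>
    intro M _ _ _ _ _
    have : Module.Finite A (MvPolynomial (Fin 0) A) :=
      Module.Finite.equiv (MvPolynomial.isEmptyAlgEquiv A (Fin 0)).symm.toLinearEquiv
    have : Module.Finite A M := Module.Finite.trans (MvPolynomial (Fin 0) A) M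
    have : Module.FinitePresentation A M := Module.finitePresentation_of_finite A M
    exact GF_of_finitePresentation M
  | succ n ih =>
    intro M _ _ _ _ _
    refine GF_of_surjective_algHom (R := MvPolynomial (Fin (n + 1)) A)
      (R' := Polynomial (MvPolynomial (Fin n) A))
      ((MvPolynomial.finSuccEquiv A n).symm : _ →ₐ[A] _)
      (MvPolynomial.finSuccEquiv A n).symm.surjective ?_ M
    intro N _ _ _ _ _
    exact GF_polynomial (B := MvPolynomial (Fin n) A) (fun N' => ih N') N

/-- **Generic freeness** (Noetherian base): `A` a Noetherian domain, `B` a finite type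
`A`-algebra, `M` a finite `B`-module; then `M_a` is free over `A_a` for some `a ≠ 0`. -/
theorem GF_of_finiteType (B : Type u') [CommRing B] [Algebra A B] [Algebra.FiniteType A B]
    (M : Type v) [AddCommGroup M] [Module A M] [Module B M] [IsScalarTower A B M]
    [Module.Finite B M] : GF A M := by
  obtain ⟨n, f, hf⟩ := Algebra.FiniteType.iff_quotient_mvPolynomial''.mp
    (inferInstance : Algebra.FiniteType A B)
  exact GF_of_surjective_algHom f hf (fun N => GF_mvPolynomial n N) M

/-- localized-module form of generic freeness -/
theorem exists_free_localizedModule_of_finiteType (B : Type u') [CommRing B] [Algebra A B]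
    [Algebra.FiniteType A B]
    (M : Type v) [AddCommGroup M] [Module A M] [Module B M] [IsScalarTower A B M]
    [Module.Finite B M] :
    ∃ a : A, a ≠ 0 ∧
      Module.Free (Localization.Away a) (LocalizedModule (Submonoid.powers a) M) := by
  obtain ⟨a, ha, h⟩ := GF_of_finiteType (A := A) B M
  exact ⟨a, ha, (PF_iff_free_localizedModule a M).mp h⟩

end MvPoly

end Groth.Agent.Lib.helper11.GenFree
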