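import Mathlib
import Groth.Agent.Lib.Helper11.GenFree4

set_option autoImplicit false
universe u u' v w w'
open TensorProduct

namespace Groth.Agent.Lib.helper11.GenFree

section Transfer

variable {R₀ : Type u} [CommRing R₀] {R : Type u'} [CommRing R] [Algebra R₀ R]

/-- generic freeness transfers along base change of the base ring. -/
theorem PF.of_isBaseChange {a₀ : R₀} {M₀ : Type v} [AddCommGroup M₀] [Module R₀ M₀]
    {M : Type w} [AddCommGroup M] [Module R₀ M] [Module R M] [IsScalarTower R₀ R M]
    {h : M₀ →ₗ[R₀] M} (hbc : IsBaseChange R h) (hPF : PF R₀ a₀ M₀) :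
    PF R (algebraMap R₀ R a₀) M := by
  unfold PF at *
  let a : R := algebraMap R₀ R a₀
  let S := Localization.Away a
  have : IsScalarTower R₀ R S := inferInstance
  have hunit : IsUnit (algebraMap R₀ S a₀) := by
    rw [IsScalarTower.algebraMap_apply R₀ R S]
    exact IsLocalization.Away.algebraMap_isUnit a
  let φ : Localization.Away a₀ →ₐ[R₀] S :=
    { IsLocalization.Away.lift (S := Localization.Away a₀) a₀ (g := algebraMap R₀ S) hunit with
      commutes' := fun x => IsLocalization.Away.lift_eq a₀ hunit x }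
  have h1 : Module.Free S (S ⊗[R₀] M₀) := free_baseChange_of_algHom φ hPF
  have e1 : S ⊗[R] (R ⊗[R₀] M₀) ≃ₗ[S] S ⊗[R₀] M₀ :=
    TensorProduct.AlgebraTensorModule.cancelBaseChange R₀ R S S M₀
  have e2 : S ⊗[R] (R ⊗[R₀] M₀) ≃ₗ[S] S ⊗[R] M :=
    LinearEquiv.baseChange R S _ _ hbc.equiv
  exact Module.Free.of_equiv (e1.symm.trans e2)

end Transfer

section Descent

open MvPolynomial

variable {R : Type u} [CommRing R] [IsDomain R] (n : ℕ)

/-- **Generic freeness for finitely presented modules over polynomial rings over an arbitrary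
domain** (Stacks 051S), by descent to a finitely generated `ℤ`-subalgebra. -/
theorem GF_of_finitePresentation_mvPolynomial (M : Type v) [AddCommGroup M] [Module R M]
    [Module (MvPolynomial (Fin n) R) M] [IsScalarTower R (MvPolynomial (Fin n) R) M]
    [Module.FinitePresentation (MvPolynomial (Fin n) R) M] : GF R M := by
  classical
  obtain ⟨b, a, f, g, hf, hfg⟩ :=
    Module.FinitePresentation.exists_fin' (MvPolynomial (Fin n) R) M
  let v : Fin a → (Fin b → MvPolynomial (Fin n) R) := fun j => g (Pi.single j 1)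
  have hg : ∀ c : Fin a → MvPolynomial (Fin n) R, g c = ∑ j, c j • v j := by
    intro c
    conv_lhs => rw [← Finset.univ_sum_single c]
    rw [map_sum]
    refine Finset.sum_congr rfl fun j _ => ?_
    have : (Pi.single j (c j) : Fin a → MvPolynomial (Fin n) R) = c j • Pi.single j 1 := by
      rw [← Pi.single_smul, smul_eq_mul, mul_one]
    rw [this, map_smul]
  let C : Set R := ⋃ j, ⋃ i, ((v j i).coeffs : Set R)
  have hCfin : C.Finite :=
    Set.finite_iUnion fun j => Set.finite_iUnion fun i => Finset.finite_toSet _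
  let R₀ : Subalgebra ℤ R := Algebra.adjoin ℤ C
  have : Algebra.FiniteType ℤ R₀ := Algebra.FiniteType.adjoin_of_finite hCfin
  have : IsNoetherianRing R₀ := Algebra.FiniteType.isNoetherianRing ℤ R₀
  have : IsDomain R₀ := inferInstance
  let φ : MvPolynomial (Fin n) R₀ →ₐ[R₀] MvPolynomial (Fin n) R :=
    MvPolynomial.mapAlgHom (Algebra.ofId R₀ R)
  have hφ : ∀ p, φ p = MvPolynomial.map (algebraMap R₀ R) p := fun p => rfl
  have hbcφ : IsBaseChange R φ.toLinearMap := by
    refine IsBaseChange.of_equiv (MvPolynomial.algebraTensorAlgEquiv R₀ R).toLinearEquiv ?_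
    intro x
    simp [hφ]
  have hv : ∀ j i, ∃ p₀ : MvPolynomial (Fin n) R₀, φ p₀ = v j i := by
    intro j i
    have : v j i ∈ Set.range (MvPolynomial.map (algebraMap R₀ R)) := by
      rw [MvPolynomial.mem_range_map_iff_coeffs_subset]
      intro r hr
      have hrC : r ∈ C := Set.mem_iUnion.mpr ⟨j, Set.mem_iUnion.mpr ⟨i, hr⟩⟩
      exact ⟨⟨r, Algebra.subset_adjoin hrC⟩, rfl⟩
    exact this
  choose v₀ hv₀ using hv
  let g₀ : (Fin a → MvPolynomial (Fin n) R₀) →ₗ[MvPolynomial (Fin n) R₀]
      (Fin b → MvPolynomial (Fin n) R₀) :=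
    Fintype.linearCombination (MvPolynomial (Fin n) R₀) (fun j => (fun i => v₀ j i))
  let h₁ := φ.toLinearMap.compLeft (Fin a)
  let h₂ := φ.toLinearMap.compLeft (Fin b)
  have isb₁ : IsBaseChange R h₁ := IsBaseChange.finitePow (Fin a) hbcφ
  have isb₂ : IsBaseChange R h₂ := IsBaseChange.finitePow (Fin b) hbcφ
  have comm₁ : h₂.comp (g₀.restrictScalars R₀) = ((g.restrictScalars R).restrictScalars R₀).comp h₁ := by
    ext c i
    simp only [LinearMap.coe_comp, LinearMap.coe_restrictScalars, Function.comp_apply]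
    rw [hg]
    simp only [h₂, h₁, g₀, LinearMap.compLeft_apply, Function.comp_apply, AlgHom.toLinearMap_apply,
      Fintype.linearCombination_apply, Finset.sum_apply, Pi.smul_apply, smul_eq_mul, map_sum,
      map_mul, hv₀]
  let K₀ : Submodule (MvPolynomial (Fin n) R₀) (Fin b → MvPolynomial (Fin n) R₀) :=
    LinearMap.range g₀
  let q₀ : (Fin b → MvPolynomial (Fin n) R₀) →ₗ[R₀] ((Fin b → MvPolynomial (Fin n) R₀) ⧸ K₀) :=
    K₀.mkQ.restrictScalars R₀
  have hle : K₀.restrictScalars R₀ ≤
      LinearMap.ker (((f.restrictScalars R).restrictScalars R₀).comp h₂) := by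
    rintro x ⟨c, rfl⟩
    rw [LinearMap.mem_ker]
    have h1 := LinearMap.congr_fun comm₁ c
    simp only [LinearMap.coe_comp, LinearMap.coe_restrictScalars, Function.comp_apply] at h1 ⊢
    rw [h1]
    exact hfg.apply_apply_eq_zero _
  let h₃' : ((Fin b → MvPolynomial (Fin n) R₀) ⧸ K₀.restrictScalars R₀) →ₗ[R₀] M :=
    (K₀.restrictScalars R₀).liftQ (((f.restrictScalars R).restrictScalars R₀).comp h₂) hle
  let h₃ : ((Fin b → MvPolynomial (Fin n) R₀) ⧸ K₀) →ₗ[R₀] M :=
    h₃'.comp (Submodule.Quotient.restrictScalarsEquiv R₀ K₀).symm.toLinearMap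
  have comm₂ : h₃.comp q₀ = ((f.restrictScalars R).restrictScalars R₀).comp h₂ := by
    ext x
    rfl
  have exact₁ : Function.Exact (g₀.restrictScalars R₀) q₀ := by
    intro x
    change K₀.mkQ x = 0 ↔ x ∈ Set.range g₀
    rw [Submodule.mkQ_apply, Submodule.Quotient.mk_eq_zero]
    rfl
  have surj₁ : Function.Surjective q₀ := K₀.mkQ_surjective
  have hbc : IsBaseChange R h₃ :=
    IsBaseChange.of_right_exact R h₁ h₂ h₃ comm₁ comm₂ isb₁ isb₂ exact₁ surj₁
      (f' := g.restrictScalars R) (g' := f.restrictScalars R) hfg hf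
  have hGF₀ : GF R₀ ((Fin b → MvPolynomial (Fin n) R₀) ⧸ K₀) :=
    GF_of_finiteType (A := R₀) (MvPolynomial (Fin n) R₀) _
  obtain ⟨a₀, ha₀, hPF₀⟩ := hGF₀
  refine ⟨algebraMap R₀ R a₀, ?_, PF.of_isBaseChange hbc hPF₀⟩
  intro h0
  apply ha₀
  exact Subtype.ext h0

end Descent

section FP

variable {R : Type u} [CommRing R] [IsDomain R]

/-- **Generic freeness, finitely presented case** (Stacks 051S): `R` a domain, `S` a finitely
presented `R`-algebra, `M` a finitely presented `S`-module. -/
theorem GF_of_finitePresentation_algebra (S : Type u') [CommRing S] [Algebra R S]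
    [Algebra.FinitePresentation R S] (M : Type v) [AddCommGroup M] [Module R M] [Module S M]
    [IsScalarTower R S M] [Module.FinitePresentation S M] : GF R M := by
  obtain ⟨n, f, hf, hker⟩ := (Algebra.FinitePresentation.out : ∃ (n : ℕ)
    (f : MvPolynomial (Fin n) R →ₐ[R] S), Function.Surjective f ∧ (RingHom.ker f.toRingHom).FG)
  let _ : Algebra (MvPolynomial (Fin n) R) S := f.toRingHom.toAlgebra
  let _ : Module (MvPolynomial (Fin n) R) M := Module.compHom M f.toRingHom
  have hsmul : ∀ (p : MvPolynomial (Fin n) R) (m : M), p • m = f p • m := fun p m => rfl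
  have t1 : IsScalarTower (MvPolynomial (Fin n) R) S M := ⟨fun p s m => by
    rw [hsmul, Algebra.smul_def, mul_smul]
    rfl⟩
  have t2 : IsScalarTower R (MvPolynomial (Fin n) R) M := ⟨fun r p m => by
    rw [hsmul, hsmul, map_smul, smul_assoc]⟩
  have hfpS : Module.FinitePresentation (MvPolynomial (Fin n) R) S := by
    refine Module.finitePresentation_of_surjective
      (Algebra.linearMap (MvPolynomial (Fin n) R) S) hf ?_
    exact hker
  have : Module.FinitePresentation (MvPolynomial (Fin n) R) M :=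
    Module.FinitePresentation.trans (MvPolynomial (Fin n) R) M S
  exact GF_of_finitePresentation_mvPolynomial n M

end FP

end Groth.Agent.Lib.helper11.GenFree
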