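import Mathlib
import Groth.Agent.Lib.Helper11.GenFree7

set_option autoImplicit false
universe u u' v w w'
open TensorProduct

namespace Groth.Agent.Lib.helper11.GenFree

section Torsion

/-- **T2**: a surjection whose kernel is `a`-power torsion becomes bijective after inverting `a`. -/
theorem baseChange_away_bijective {A : Type u} [CommRing A] (a : A)
    {M' : Type v} {M : Type w} [AddCommGroup M'] [AddCommGroup M] [Module A M'] [Module A M]
    (π : M' →ₗ[A] M) (hπ : Function.Surjective π)
    (hker : ∀ x, π x = 0 → ∃ k : ℕ, a ^ k • x = 0) :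
    Function.Bijective (π.baseChange (Localization.Away a)) := by
  have hflat : Module.Flat A (Localization.Away a) :=
    IsLocalization.flat _ (Submonoid.powers a)
  refine ⟨?_, LinearMap.lTensor_surjective (Localization.Away a) hπ⟩
  have hex : Function.Exact (LinearMap.ker π).subtype π := LinearMap.exact_subtype_ker_map π
  have hex' := Module.Flat.lTensor_exact (Localization.Away a) hex
  have hsub : ∀ w : Localization.Away a ⊗[A] (LinearMap.ker π), w = 0 := by
    intro w
    induction w using TensorProduct.induction_on with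
    | zero => rfl
    | tmul s k =>
      obtain ⟨j, hj⟩ := hker k.1 k.2
      have hk : a ^ j • k = 0 := Subtype.ext hj
      obtain ⟨u, hu⟩ := (IsLocalization.Away.algebraMap_pow_isUnit (S := Localization.Away a) a j)
      have hs : s = (a ^ j) • (s * ↑u⁻¹) := by
        rw [Algebra.smul_def, map_pow, ← hu, mul_comm s, ← mul_assoc, Units.mul_inv, one_mul]
      rw [hs, TensorProduct.smul_tmul, hk, tmul_zero]
    | add x y hx hy => rw [hx, hy, add_zero]
  rw [injective_iff_map_eq_zero]
  intro z hz
  have hz' : (π.lTensor (Localization.Away a)) z = 0 := hz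
  obtain ⟨w, rfl⟩ := (hex' z).mp hz'
  rw [hsub w, map_zero]

/-- **T1**: in a module which becomes free after inverting `f` (over a domain), torsion elements
are `f`-power torsion. -/
theorem exists_pow_smul_eq_zero_of_PF {R : Type u} [CommRing R] [IsDomain R] {f : R} (hf : f ≠ 0)
    {M' : Type v} [AddCommGroup M'] [Module R M'] (hPF : PF R f M') {x : M'} {r : R} (hr : r ≠ 0)
    (hrx : r • x = 0) : ∃ k : ℕ, f ^ k • x = 0 := by
  unfold PF at hPF
  have hle : Submonoid.powers f ≤ nonZeroDivisors R :=
    Submonoid.powers_le.mpr (mem_nonZeroDivisors_of_ne_zero hf)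
  have hdom : IsDomain (Localization.Away f) :=
    IsLocalization.isDomain_localization hle
  have hinj : Function.Injective (algebraMap R (Localization.Away f)) :=
    IsLocalization.injective _ hle
  have hr' : algebraMap R (Localization.Away f) r ≠ 0 := by
    rw [Ne, map_eq_zero_iff _ hinj]
    exact hr
  have h1 : algebraMap R (Localization.Away f) r • ((1 : Localization.Away f) ⊗ₜ[R] x) = 0 := by
    rw [algebraMap_smul, TensorProduct.smul_tmul', TensorProduct.smul_tmul, hrx, tmul_zero]
  have h2 : ((1 : Localization.Away f) ⊗ₜ[R] x) = 0 := by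
    have hreg : IsSMulRegular (Localization.Away f ⊗[R] M')
        (algebraMap R (Localization.Away f) r) :=
      (IsRegular.of_ne_zero hr').isSMulRegular
    apply hreg
    change algebraMap R (Localization.Away f) r • ((1 : Localization.Away f) ⊗ₜ[R] x) =
      algebraMap R (Localization.Away f) r • 0
    rw [smul_zero]
    exact h1
  have h3 : TensorProduct.mk R (Localization.Away f) M' 1 x = 0 := h2
  rw [IsLocalizedModule.eq_zero_iff (Submonoid.powers f)] at h3
  obtain ⟨⟨_, k, rfl⟩, hk⟩ := h3
  exact ⟨k, hk⟩

/-- **FPsurj**: finite presentation descends along a surjective ring map. -/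
theorem finitePresentation_of_surjective_algebraMap {A : Type u} {B : Type u'} [CommRing A]
    [CommRing B] [Algebra A B] (hs : Function.Surjective (algebraMap A B))
    (M : Type v) [AddCommGroup M] [Module A M] [Module B M] [IsScalarTower A B M]
    [Module.FinitePresentation A M] : Module.FinitePresentation B M := by
  let e : B ⊗[A] M →ₗ[B] M := LinearMap.liftBaseChange B (LinearMap.id : M →ₗ[A] M)
  have he : ∀ b m, e (b ⊗ₜ m) = b • m := fun b m => by simp [e]
  have hform : ∀ z : B ⊗[A] M, ∃ m : M, z = 1 ⊗ₜ m := by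
    intro z
    induction z using TensorProduct.induction_on with
    | zero => exact ⟨0, by simp⟩
    | tmul b m =>
      obtain ⟨a, rfl⟩ := hs b
      refine ⟨a • m, ?_⟩
      rw [← TensorProduct.smul_tmul, Algebra.smul_def, mul_one]
    | add x y hx hy =>
      obtain ⟨m, rfl⟩ := hx
      obtain ⟨m', rfl⟩ := hy
      exact ⟨m + m', by rw [tmul_add]⟩
  have hbij : Function.Bijective e := by
    constructor
    · rw [injective_iff_map_eq_zero]
      intro z hz
      obtain ⟨m, rfl⟩ := hform z
      rw [he, one_smul] at hz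
      rw [hz, tmul_zero]
    · intro m
      exact ⟨1 ⊗ₜ m, by rw [he, one_smul]⟩
  exact Module.FinitePresentation.of_equiv (LinearEquiv.ofBijective e hbij)

end Torsion

section Approx

/-- abstract approximation lemma: a submodule `N` of `L` contains a finitely generated `N'` with
`N / N'` `D`-torsion, provided `L` embeds in a Noetherian module over the localization at `D`. -/
theorem exists_fg_le_torsion_quot {P : Type u} [CommRing P] {Q : Type u'} [CommRing Q]
    [Algebra P Q] (D : Submonoid P) [IsLocalization D Q]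
    {L : Type v} [AddCommGroup L] [Module P L]
    {L' : Type w} [AddCommGroup L'] [Module P L'] [Module Q L'] [IsScalarTower P Q L']
    [IsNoetherian Q L'] (Ψ : L →ₗ[P] L') (hΨ : Function.Injective Ψ) (N : Submodule P L) :
    ∃ N' : Submodule P L, N' ≤ N ∧ N'.FG ∧ ∀ x ∈ N, ∃ d ∈ D, d • x ∈ N' := by
  classical
  have hfg : (Submodule.span Q (Ψ '' (N : Set L))).FG := IsNoetherian.noetherian _
  obtain ⟨s', hs'sub, hs'span⟩ := (Submodule.fg_span_iff_fg_span_finset_subset _).mp hfg
  have hch : ∀ y : s', ∃ x : L, x ∈ N ∧ Ψ x = y := fun y => hs'sub y.2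
  choose w hwN hwΨ using hch
  refine ⟨Submodule.span P (Set.range w), ?_, Submodule.fg_span (Set.finite_range w), ?_⟩
  · exact Submodule.span_le.mpr (by rintro _ ⟨y, rfl⟩; exact hwN y)
  · intro x hx
    have h1 : Ψ x ∈ Submodule.span Q (Set.range (fun y : s' => Ψ (w y))) := by
      have hr : Set.range (fun y : s' => Ψ (w y)) = (s' : Set L') := by
        ext z
        constructor
        · rintro ⟨y, rfl⟩
          change Ψ (w y) ∈ (s' : Set L')
          rw [hwΨ]
          exact y.2
        · intro hz
          exact ⟨⟨z, hz⟩, hwΨ _⟩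
      rw [hr, ← hs'span]
      exact Submodule.subset_span ⟨x, hx, rfl⟩
    rw [Submodule.mem_span_range_iff_exists_fun] at h1
    obtain ⟨c, hc⟩ := h1
    obtain ⟨b, hb⟩ := IsLocalization.exist_integer_multiples_of_finite D c
    choose p hp using hb
    refine ⟨b, b.2, ?_⟩
    have h2 : (b : P) • x = ∑ y, p y • w y := by
      apply hΨ
      rw [map_smul, ← hc, Finset.smul_sum, map_sum]
      refine Finset.sum_congr rfl fun y _ => ?_
      rw [map_smul, ← smul_assoc, ← hp y, algebraMap_smul]
    rw [h2]
    exact Submodule.sum_mem _ fun y _ => Submodule.smul_mem _ _ (Submodule.subset_span ⟨y, rfl⟩)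

end Approx

section ApproxMv

open MvPolynomial

variable {R : Type u} [CommRing R] [IsDomain R] (n : ℕ)

attribute [local instance] MvPolynomial.algebraMvPolynomial

theorem exists_fg_le_torsion_quot_mv {L : Type v} [AddCommGroup L]
    [Module (MvPolynomial (Fin n) R) L] [Module R L] [IsScalarTower R (MvPolynomial (Fin n) R) L]
    {L' : Type w} [AddCommGroup L'] [Module (MvPolynomial (Fin n) R) L']
    [Module (MvPolynomial (Fin n) (FractionRing R)) L']
    [IsScalarTower (MvPolynomial (Fin n) R) (MvPolynomial (Fin n) (FractionRing R)) L']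
    [IsNoetherian (MvPolynomial (Fin n) (FractionRing R)) L']
    (Ψ : L →ₗ[MvPolynomial (Fin n) R] L') (hΨ : Function.Injective Ψ)
    (N : Submodule (MvPolynomial (Fin n) R) L) :
    ∃ N' : Submodule (MvPolynomial (Fin n) R) L, N' ≤ N ∧ N'.FG ∧
      ∀ x ∈ N, ∃ r : R, r ≠ 0 ∧ r • x ∈ N' := by
  obtain ⟨N', hle, hfg, h⟩ := exists_fg_le_torsion_quot
    (Q := MvPolynomial (Fin n) (FractionRing R))
    ((nonZeroDivisors R).map (C (σ := Fin n))) Ψ hΨ N
  refine ⟨N', hle, hfg, fun x hx => ?_⟩
  obtain ⟨d, ⟨r, hr, rfl⟩, hd⟩ := h x hx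
  refine ⟨r, nonZeroDivisors.ne_zero hr, ?_⟩
  have : (C r : MvPolynomial (Fin n) R) • x = r • x := by
    rw [← MvPolynomial.algebraMap_eq, algebraMap_smul]
  rw [← this]
  exact hd

omit [IsDomain R] in
theorem injective_algebraMap_mv :
    Function.Injective (algebraMap (MvPolynomial (Fin n) R)
      (MvPolynomial (Fin n) (FractionRing R))) :=
  MvPolynomial.map_injective _ (IsFractionRing.injective R (FractionRing R))

/-- finitely generated approximation of a submodule of a finite free module over a polynomial
ring over a domain, up to torsion. -/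
theorem exists_fg_le_torsion_quot_pi (b : ℕ)
    (N : Submodule (MvPolynomial (Fin n) R) (Fin b → MvPolynomial (Fin n) R)) :
    ∃ N' : Submodule (MvPolynomial (Fin n) R) (Fin b → MvPolynomial (Fin n) R), N' ≤ N ∧ N'.FG ∧
      ∀ x ∈ N, ∃ r : R, r ≠ 0 ∧ r • x ∈ N' := by
  refine exists_fg_le_torsion_quot_mv n
    (L' := Fin b → MvPolynomial (Fin n) (FractionRing R))
    ((Algebra.linearMap (MvPolynomial (Fin n) R)
      (MvPolynomial (Fin n) (FractionRing R))).compLeft (Fin b)) ?_ N
  intro x y hxy
  funext i
  exact injective_algebraMap_mv n (congrFun hxy i)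

/-- the same for ideals -/
theorem exists_fg_le_torsion_quot_ideal (I : Ideal (MvPolynomial (Fin n) R)) :
    ∃ I' : Ideal (MvPolynomial (Fin n) R), I' ≤ I ∧ I'.FG ∧
      ∀ x ∈ I, ∃ r : R, r ≠ 0 ∧ r • x ∈ I' :=
  exists_fg_le_torsion_quot_mv n (L' := MvPolynomial (Fin n) (FractionRing R))
    (Algebra.linearMap (MvPolynomial (Fin n) R) (MvPolynomial (Fin n) (FractionRing R)))
    (injective_algebraMap_mv n) I

end ApproxMv

section ApproxMod

open MvPolynomial

variable {R : Type u} [CommRing R] [IsDomain R] (n : ℕ)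

/-- a finite module over a polynomial ring over a domain is a quotient of a finitely presented
one with `R`-torsion kernel. -/
theorem exists_fp_approx (M : Type v) [AddCommGroup M] [Module R M]
    [Module (MvPolynomial (Fin n) R) M] [IsScalarTower R (MvPolynomial (Fin n) R) M]
    [Module.Finite (MvPolynomial (Fin n) R) M] :
    ∃ (b : ℕ) (N' : Submodule (MvPolynomial (Fin n) R) (Fin b → MvPolynomial (Fin n) R))
      (π : ((Fin b → MvPolynomial (Fin n) R) ⧸ N') →ₗ[MvPolynomial (Fin n) R] M),
      N'.FG ∧ Function.Surjective π ∧ ∀ x, π x = 0 → ∃ r : R, r ≠ 0 ∧ r • x = 0 := by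
  obtain ⟨b, f, hf⟩ := Module.Finite.exists_fin' (MvPolynomial (Fin n) R) M
  obtain ⟨N', hle, hfg, h⟩ := exists_fg_le_torsion_quot_pi n b (LinearMap.ker f)
  refine ⟨b, N', N'.liftQ f hle, hfg, ?_, ?_⟩
  · intro m
    obtain ⟨x, rfl⟩ := hf m
    exact ⟨Submodule.Quotient.mk x, rfl⟩
  · intro q hq
    obtain ⟨x, rfl⟩ := Submodule.Quotient.mk_surjective _ q
    have hx : x ∈ LinearMap.ker f := hq
    obtain ⟨r, hr, hrx⟩ := h x hx
    refine ⟨r, hr, ?_⟩
    rw [← Submodule.Quotient.mk_smul]
    exact (Submodule.Quotient.mk_eq_zero N').mpr hrx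

/-- **Generic freeness over an arbitrary domain** (Stacks 051T (a)) for finite modules over
polynomial rings. -/
theorem GF_of_finite_mvPolynomial (M : Type v) [AddCommGroup M] [Module R M]
    [Module (MvPolynomial (Fin n) R) M] [IsScalarTower R (MvPolynomial (Fin n) R) M]
    [Module.Finite (MvPolynomial (Fin n) R) M] : GF R M := by
  obtain ⟨b, N', π, hfg, hπ, hker⟩ := exists_fp_approx (R := R) n M
  have hfp : Module.FinitePresentation (MvPolynomial (Fin n) R)
      ((Fin b → MvPolynomial (Fin n) R) ⧸ N') :=
    Module.finitePresentation_of_surjective N'.mkQ N'.mkQ_surjective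
      (by rw [Submodule.ker_mkQ]; exact hfg)
  obtain ⟨f, hf, hPF⟩ := GF_of_finitePresentation_mvPolynomial (R := R) n
    ((Fin b → MvPolynomial (Fin n) R) ⧸ N')
  refine ⟨f, hf, ?_⟩
  have hbij := baseChange_away_bijective f (π.restrictScalars R) hπ (fun x hx => by
    obtain ⟨r, hr, hrx⟩ := hker x hx
    exact exists_pow_smul_eq_zero_of_PF hf hPF hr hrx)
  unfold PF at hPF ⊢
  exact Module.Free.of_equiv (LinearEquiv.ofBijective _ hbij)

/-- **Generic freeness over an arbitrary domain** (Stacks 051T (a)): `R` a domain, `S` a finite type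
`R`-algebra, `M` a finite `S`-module. -/
theorem GF_of_finiteType_domain (S : Type u') [CommRing S] [Algebra R S] [Algebra.FiniteType R S]
    (M : Type v) [AddCommGroup M] [Module R M] [Module S M] [IsScalarTower R S M]
    [Module.Finite S M] : GF R M := by
  obtain ⟨n, f, hf⟩ := Algebra.FiniteType.iff_quotient_mvPolynomial''.mp
    (inferInstance : Algebra.FiniteType R S)
  exact GF_of_surjective_algHom f hf (fun N => GF_of_finite_mvPolynomial n N) M

end ApproxMod

end Groth.Agent.Lib.helper11.GenFree
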