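import Mathlib

/-!
# Krull dimension and specialization order: lifting chains along generalizing maps,
strict monotonicity for maps with discrete fibres (helper11)
-/

set_option autoImplicit false

open Order Topology

namespace Groth.Agent.Lib.helper11.SpecDim

section
variable {X Y : Type*} [TopologicalSpace X] [TopologicalSpace Y]

attribute [local instance] specializationPreorder

/-- A continuous map to a T0 space whose fibres have no nontrivial specializations is strictly
monotone for the specialization preorders. -/
theorem strictMono_of_fibres [T0Space Y] {f : X → Y} (hf : Continuous f)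
    (hfib : ∀ a b : X, b ⤳ a → f a = f b → a = b) : StrictMono f := by
  intro a b hab
  have h1 : b ⤳ a := hab.le
  have h2 : ¬ (a ⤳ b) := hab.not_ge
  refine lt_of_le_not_ge (h1.map hf) ?_
  intro h3
  have h3' : f a ⤳ f b := h3
  have : f a = f b := (h3'.antisymm (h1.map hf)).eq
  exact h2 (by rw [hfib a b h1 this])

omit [TopologicalSpace Y] in
/-- Fibres that are discrete have no nontrivial specializations. -/
theorem eq_of_specializes_of_isDiscrete {f : X → Y} (hd : ∀ y, IsDiscrete (f ⁻¹' {y}))
    (a b : X) (h : b ⤳ a) (hab : f a = f b) : a = b := by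
  have := (hd (f a)).to_subtype
  let a' : f ⁻¹' {f a} := ⟨a, rfl⟩
  let b' : f ⁻¹' {f a} := ⟨b, hab.symm⟩
  have h' : b' ⤳ a' := Topology.IsInducing.subtypeVal.specializes_iff.1 h
  have := h'.eq
  exact (congrArg Subtype.val this).symm

/-- Lifting chains along a continuous generalizing map, starting from a given lift of the head. -/
theorem exists_ltSeries_lift {f : X → Y} (hf : Continuous f) (hg : GeneralizingMap f)
    (l : LTSeries Y) (w : X) (hw : f w = l.head) :
    ∃ L : LTSeries X, L.length = l.length ∧ L.head = w := by
  induction l using RelSeries.inductionOn generalizing w with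
  | singleton q => exact ⟨RelSeries.singleton _ w, rfl, rfl⟩
  | cons l q lt ih =>
    simp only [RelSeries.head_cons] at hw
    have lt' : q < l.head := lt
    have h1 : l.head ⤳ f w := by rw [hw]; exact lt'.le
    obtain ⟨w', hw'1, hw'2⟩ := hg h1
    obtain ⟨L, hL1, hL2⟩ := ih w' hw'2
    have hlt : w < L.head := by
      rw [hL2]
      refine lt_of_le_not_ge hw'1 ?_
      intro h3
      have h3' : w ⤳ w' := h3
      have := h3'.map hf
      rw [hw, hw'2] at this
      exact lt'.not_ge this
    exact ⟨L.cons w hlt, by simp [hL1], by simp⟩

theorem coheight_le_of_generalizingMap {f : X → Y} (hf : Continuous f) (hg : GeneralizingMap f)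
    (w : X) : coheight (f w) ≤ coheight w := by
  refine coheight_le fun p hp => ?_
  obtain ⟨L, hL1, hL2⟩ := exists_ltSeries_lift hf hg p w hp.symm
  rw [← hL1]
  exact length_le_coheight (by rw [hL2])

theorem krullDim_le_of_generalizingMap {f : X → Y} (hf : Continuous f) (hg : GeneralizingMap f)
    (hs : Function.Surjective f) : krullDim Y ≤ krullDim X := by
  unfold krullDim
  refine iSup_le fun l => ?_
  obtain ⟨w, hw⟩ := hs l.head
  obtain ⟨L, hL1, hL2⟩ := exists_ltSeries_lift hf hg l w hw
  rw [← hL1]
  exact le_iSup (fun L : LTSeries X => (L.length : WithBot ℕ∞)) L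

/-- Topological Krull dimension as the Krull dimension of the specialization preorder. -/
theorem topologicalKrullDim_eq_krullDim [QuasiSober X] [T0Space X] :
    topologicalKrullDim X = krullDim X := by
  let _ := specializationOrder X
  exact krullDim_eq_of_orderIso (irreducibleSetEquivPoints (α := X))

end

end Groth.Agent.Lib.helper11.SpecDim
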