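import Groth.Prelude.Def_AlgSpDec
import Groth.Prelude.Def_Dual3
import Groth.Agent.Lib.Helper11.AlgSpBasic
import Mathlib

/-!
# Independence of `AlgSp.HasAtMor` of the chosen chart diagram (helper11)

* `EtInv Q`: `Q` is invariant under etale localisation on source and target (at points).
* `exists_common_refinement`: two chart diagrams of `f` through the same point have a common etale refinement.
* `hasAtMor_iff`: for `EtInv Q`, `HasAtMor Q f x ↔ Q h u` for ANY chart diagram `(a, b, h, u)` of `f` at `x`.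
* `exists_comp_diagram`: compatible chart diagrams for a composition `f ≫ g` of morphisms of algebraic spaces.
* `resTrdeg_comp`, `resTrdeg_eq_zero_of_etale`, `etInv_resTrdeg`.
-/

set_option autoImplicit false
universe u

open CategoryTheory CategoryTheory.Limits AlgebraicGeometry Opposite

namespace Groth.Agent.Lib.helper11

open AlgSp

variable {S : Scheme.{u}}

/-- `Q` is invariant under etale localisation at the source and the target. -/
def EtInv (Q : ∀ (U V : Scheme.{u}), (U ⟶ V) → ↥U → Prop) : Prop :=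
  ∀ ⦃U V U' V' : Scheme.{u}⦄ (h : U ⟶ V) (h' : U' ⟶ V') (p : U' ⟶ U) (q : V' ⟶ V),
    Etale p → Etale q → p ≫ h = h' ≫ q → ∀ u' : ↥U', Q U V h (p u') ↔ Q U' V' h' u'

/-- Two chart diagrams for `f` through the same point have a common etale refinement. -/
theorem exists_common_refinement {F G : Sp S} (f : F ⟶ G) {U V U' V' : Over S}
    (a : (yon S).obj U ⟶ F) (b : (yon S).obj V ⟶ G) (h : U ⟶ V)
    (a' : (yon S).obj U' ⟶ F) (b' : (yon S).obj V' ⟶ G) (h' : U' ⟶ V')
    (ha : RepWith @Etale a) (hb : RepWith @Etale b) (ha' : RepWith @Etale a')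
    (hb' : RepWith @Etale b')
    (comm : a ≫ f = (yon S).map h ≫ b) (comm' : a' ≫ f = (yon S).map h' ≫ b')
    (u : ↥U.left) (u' : ↥U'.left) (huu' : Points.ofPt a u = Points.ofPt a' u') :
    ∃ (U₀ V₀ : Over S) (p : U₀ ⟶ U) (p' : U₀ ⟶ U') (q : V₀ ⟶ V) (q' : V₀ ⟶ V') (h₀ : U₀ ⟶ V₀)
      (u₀ : ↥U₀.left),
      Etale p.left ∧ Etale p'.left ∧ Etale q.left ∧ Etale q'.left ∧ p ≫ h = h₀ ≫ q ∧
        p' ≫ h' = h₀ ≫ q' ∧ p.left u₀ = u ∧ p'.left u₀ = u' ∧
        (yon S).map p ≫ a = (yon S).map p' ≫ a' ∧ (yon S).map q ≫ b = (yon S).map q' ≫ b' := by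
  obtain ⟨U₀, p', fst, hpbU⟩ := ha.rep a'
  obtain ⟨p, rfl⟩ := (yon S).map_surjective fst
  obtain ⟨V₀, q', fst, hpbV⟩ := hb.rep b'
  obtain ⟨q, rfl⟩ := (yon S).map_surjective fst
  have hp' : Etale p'.left := ha.2 _ _ _ hpbU
  have hq' : Etale q'.left := hb.2 _ _ _ hpbV
  have hp : Etale p.left := ha'.2 _ _ _ hpbU.flip
  have hq : Etale q.left := hb'.2 _ _ _ hpbV.flip
  obtain ⟨l, hl1, hl2⟩ := hpbV.exists_lift ((yon S).map (p ≫ h)) ((yon S).map (p' ≫ h')) (by
    rw [Functor.map_comp, Functor.map_comp, Category.assoc, Category.assoc, ← comm, ← comm',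
      reassoc_of% hpbU.w])
  obtain ⟨h₀, rfl⟩ := (yon S).map_surjective l
  obtain ⟨u₀, hu1, hu2⟩ := exists_of_isPullback_schemes hpbU u u' huu'
  refine ⟨U₀, V₀, p, p', q, q', h₀, u₀, hp, hp', hq, hq', ?_, ?_, hu1, hu2, hpbU.w, hpbV.w⟩
  · exact (yon S).map_injective (by rw [(yon S).map_comp h₀ q]; exact hl1.symm)
  · exact (yon S).map_injective (by rw [(yon S).map_comp h₀ q']; exact hl2.symm)

/-- For `Q` invariant under etale localisation, `HasAtMor Q f x` can be tested on any chart diagram. -/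
theorem hasAtMor_iff {Q : ∀ (U V : Scheme.{u}), (U ⟶ V) → ↥U → Prop} (hQ : EtInv Q)
    {F G : Sp S} (f : F ⟶ G) (x : Points F) {U V : Over S}
    (a : (yon S).obj U ⟶ F) (b : (yon S).obj V ⟶ G) (h : U ⟶ V) (u : ↥U.left)
    (ha : RepWith @Etale a) (hb : RepWith @Etale b) (comm : a ≫ f = (yon S).map h ≫ b)
    (hu : Points.ofPt a u = x) :
    HasAtMor Q f x ↔ Q U.left V.left h.left u := by
  constructor
  · rintro ⟨U', V', a', b', h', u', ha', hb', comm', hu', hQ'⟩
    obtain ⟨U₀, V₀, p, p', q, q', h₀, u₀, hp, hp', hq, hq', e1, e2, rfl, rfl, -, -⟩ :=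
      exists_common_refinement f a b h a' b' h' ha hb ha' hb' comm comm' u u' (hu.trans hu'.symm)
    have e1' : p.left ≫ h.left = h₀.left ≫ q.left := by
      rw [← Over.comp_left, e1, Over.comp_left]
    have e2' : p'.left ≫ h'.left = h₀.left ≫ q'.left := by
      rw [← Over.comp_left, e2, Over.comp_left]
    exact (hQ h.left h₀.left p.left q.left hp hq e1' u₀).2
      ((hQ h'.left h₀.left p'.left q'.left hp' hq' e2' u₀).1 hQ')
  · intro hq
    exact ⟨U, V, a, b, h, u, ha, hb, comm, hu, hq⟩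

/-- Compatible chart diagrams for a composition of morphisms of algebraic spaces, through a given
point of the source. -/
theorem exists_comp_diagram {X Y Z : Sp S} (hX : IsAlgSpace X) (hY : IsAlgSpace Y)
    (hZ : IsAlgSpace Z) (f : X ⟶ Y) (g : Y ⟶ Z) (x : Points X) :
    ∃ (U V W : Over S) (a : (yon S).obj U ⟶ X) (b : (yon S).obj V ⟶ Y) (c : (yon S).obj W ⟶ Z)
      (h : U ⟶ V) (k : V ⟶ W) (u : ↥U.left),
      RepWith @Etale a ∧ RepWith @Etale b ∧ RepWith @Etale c ∧ a ≫ f = (yon S).map h ≫ b ∧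
        b ≫ g = (yon S).map k ≫ c ∧ Points.ofPt a u = x := by
  obtain ⟨W, c, hce, hcs⟩ := hZ.atlas
  obtain ⟨V₁, b₁, hb₁e, hb₁s⟩ := hY.atlas
  obtain ⟨U₁, a₁, ha₁e, ha₁s⟩ := hX.atlas
  obtain ⟨V, r, fst, hpbV⟩ := hce.rep (b₁ ≫ g)
  obtain ⟨k, rfl⟩ := (yon S).map_surjective fst
  have hr : Etale r.left := hce.2 _ _ _ hpbV
  have hrs : Surjective r.left := hcs.2 _ _ _ hpbV
  have hbe : RepWith @Etale ((yon S).map r ≫ b₁) :=
    (repWith_isMultiplicative (S := S) @Etale).comp_mem _ _ ((repWith_yon_map_iff @Etale r).2 hr) hb₁e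
  have hbs : RepWith @Surjective ((yon S).map r ≫ b₁) :=
    (repWith_isMultiplicative (S := S) @Surjective).comp_mem _ _
      ((repWith_yon_map_iff @Surjective r).2 hrs) hb₁s
  obtain ⟨U, s, fst, hpbU⟩ := hbe.rep (a₁ ≫ f)
  obtain ⟨h, rfl⟩ := (yon S).map_surjective fst
  have hs : Etale s.left := hbe.2 _ _ _ hpbU
  have hss : Surjective s.left := hbs.2 _ _ _ hpbU
  have hae : RepWith @Etale ((yon S).map s ≫ a₁) :=
    (repWith_isMultiplicative (S := S) @Etale).comp_mem _ _ ((repWith_yon_map_iff @Etale s).2 hs) ha₁e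
  have has : RepWith @Surjective ((yon S).map s ≫ a₁) :=
    (repWith_isMultiplicative (S := S) @Surjective).comp_mem _ _
      ((repWith_yon_map_iff @Surjective s).2 hss) ha₁s
  obtain ⟨u, hu⟩ := surjective_ofPt _ has x
  refine ⟨U, V, W, (yon S).map s ≫ a₁, (yon S).map r ≫ b₁, c, h, k, u, hae, hbe, hce, ?_, ?_, hu⟩
  · rw [Category.assoc]; exact hpbU.w.symm
  · rw [Category.assoc]; exact hpbV.w.symm

/-! ### Transcendence degree of residue field extensions -/

theorem resTrdeg_comp {X Y Z : Scheme.{u}} (f : X ⟶ Y) (g : Y ⟶ Z) (x : ↥X) :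
    Dual3.resTrdeg (f ≫ g) x = Dual3.resTrdeg g (f x) + Dual3.resTrdeg f x := by
  unfold Dual3.resTrdeg
  let i1 : Algebra (Y.residueField (f x)) (X.residueField x) := (f.residueFieldMap x).hom.toAlgebra
  let i2 : Algebra (Z.residueField (g (f x))) (Y.residueField (f x)) :=
    (g.residueFieldMap (f x)).hom.toAlgebra
  let i3 : Algebra (Z.residueField (g (f x))) (X.residueField x) :=
    ((f ≫ g).residueFieldMap x).hom.toAlgebra
  have : IsScalarTower (Z.residueField (g (f x))) (Y.residueField (f x)) (X.residueField x) :=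
    IsScalarTower.of_algebraMap_eq' (by
      change ((f ≫ g).residueFieldMap x).hom =
        (f.residueFieldMap x).hom.comp (g.residueFieldMap (f x)).hom
      rw [Scheme.residueFieldMap_comp]
      rfl)
  exact (trdeg_add_eq (Z.residueField (g (f x))) (Y.residueField (f x)) (A := X.residueField x)).symm

theorem resTrdeg_eq_zero_of_etale {X Y : Scheme.{u}} (f : X ⟶ Y) [Etale f] (x : ↥X) :
    Dual3.resTrdeg f x = 0 := by
  unfold Dual3.resTrdeg
  let _ := (f.residueFieldMap x).hom.toAlgebra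
  have h1 : Algebra.IsSeparable (Y.residueField (f x)) (X.residueField x) := inferInstance
  have : Algebra.IsAlgebraic (Y.residueField (f x)) (X.residueField x) := inferInstance
  exact trdeg_eq_zero

theorem resTrdeg_congr {X Y : Scheme.{u}} {f g : X ⟶ Y} (e : f = g) (x : ↥X) :
    Dual3.resTrdeg f x = Dual3.resTrdeg g x := by subst e; rfl

theorem etInv_resTrdeg (r : Cardinal.{u}) :
    EtInv (fun (_ _ : Scheme.{u}) h u => Dual3.resTrdeg h u = r) := by
  intro U V U' V' h h' p q hp hq comm u'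
  have e1 : Dual3.resTrdeg (p ≫ h) u' = Dual3.resTrdeg h (p u') := by
    rw [resTrdeg_comp, resTrdeg_eq_zero_of_etale p, add_zero]
  have e2 : Dual3.resTrdeg (h' ≫ q) u' = Dual3.resTrdeg h' u' := by
    rw [resTrdeg_comp, resTrdeg_eq_zero_of_etale q, zero_add]
  change Dual3.resTrdeg h (p u') = r ↔ Dual3.resTrdeg h' u' = r
  rw [← e1, ← e2, resTrdeg_congr comm]

theorem resTrdeg_eq_zero_of_lqf {X Y : Scheme.{u}} (f : X ⟶ Y) [LocallyQuasiFinite f] (x : ↥X) :
    Dual3.resTrdeg f x = 0 := by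
  unfold Dual3.resTrdeg
  let i1 : Algebra (Y.residueField (f x)) (X.residueField x) := (f.residueFieldMap x).hom.toAlgebra
  have hq : (f.stalkMap x).hom.QuasiFinite := f.quasiFiniteAt x
  let i2 : Algebra (Y.presheaf.stalk (f x)) (X.presheaf.stalk x) := (f.stalkMap x).hom.toAlgebra
  have hq' : Algebra.QuasiFinite (Y.presheaf.stalk (f x)) (X.presheaf.stalk x) := hq
  let i3 : Algebra (X.presheaf.stalk x) (X.residueField x) := (X.residue x).hom.toAlgebra
  let i5 : Algebra (Y.presheaf.stalk (f x)) (Y.residueField (f x)) := (Y.residue (f x)).hom.toAlgebra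
  let i4 : Algebra (Y.presheaf.stalk (f x)) (X.residueField x) :=
    ((X.residue x).hom.comp (f.stalkMap x).hom).toAlgebra
  have t1 : IsScalarTower (Y.presheaf.stalk (f x)) (X.presheaf.stalk x) (X.residueField x) :=
    IsScalarTower.of_algebraMap_eq' rfl
  have t2 : IsScalarTower (Y.presheaf.stalk (f x)) (Y.residueField (f x)) (X.residueField x) :=
    IsScalarTower.of_algebraMap_eq' (by
      change (X.residue x).hom.comp (f.stalkMap x).hom =
        (f.residueFieldMap x).hom.comp (Y.residue (f x)).hom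
      rw [← CommRingCat.hom_comp, ← CommRingCat.hom_comp, Scheme.residue_residueFieldMap])
  have q0 : Algebra.QuasiFinite (X.presheaf.stalk x) (X.residueField x) := by
    have : Module.Finite (X.presheaf.stalk x) (X.residueField x) :=
      Module.Finite.of_surjective (Algebra.linearMap _ _) (X.residue_surjective x)
    infer_instance
  have q1 : Algebra.QuasiFinite (Y.presheaf.stalk (f x)) (X.residueField x) :=
    .trans _ (X.presheaf.stalk x) _
  have q2 : Algebra.QuasiFinite (Y.residueField (f x)) (X.residueField x) :=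
    .of_restrictScalars (Y.presheaf.stalk (f x)) _ _
  have : Module.Finite (Y.residueField (f x)) (X.residueField x) := .of_quasiFinite
  have : Algebra.IsAlgebraic (Y.residueField (f x)) (X.residueField x) := inferInstance
  exact trdeg_eq_zero

end Groth.Agent.Lib.helper11
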