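import Mathlib

/-! Regular sequences are quasi-regular (helper11). -/

set_option autoImplicit false

namespace Groth.Agent.Lib.helper11.QuasiReg

open MvPolynomial

variable {B : Type*} [CommRing B]

/-- quasi-regularity of a family (elementwise polynomial form) -/
def QR {ι : Type*} (g : ι → B) : Prop :=
  ∀ (n : ℕ) (P : MvPolynomial ι B), P.IsHomogeneous n →
    MvPolynomial.eval g P ∈ Ideal.span (Set.range g) ^ (n + 1) →
      ∀ d : ι →₀ ℕ, P.coeff d ∈ Ideal.span (Set.range g)

/-- value of a homogeneous form with coefficients in `K` -/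
lemma eval_mem_mul {ι : Type*} [Fintype ι] (g : ι → B) (K : Ideal B) (j : ℕ)
    (F : MvPolynomial ι B) (hF : F.IsHomogeneous j) (hK : ∀ d, F.coeff d ∈ K) :
    MvPolynomial.eval g F ∈ K * Ideal.span (Set.range g) ^ j := by
  rw [MvPolynomial.eval_eq']
  apply Ideal.sum_mem
  intro d hd
  apply Ideal.mul_mem_mul (hK d)
  rw [Ideal.mem_span_pow_iff_exists_isHomogeneous]
  refine ⟨monomial d 1, ?_, ?_⟩
  · apply isHomogeneous_monomial
    rw [Finsupp.degree_eq_weight_one]
    exact hF (mem_support_iff.1 hd)
  · simp [MvPolynomial.eval_monomial]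

/-- elements of `I^(n+1)` are values of forms of degree `n` with coefficients in `I` -/
lemma exists_form_of_mem_pow_succ {ι : Type*} (g : ι → B) (n : ℕ) (a : B)
    (ha : a ∈ Ideal.span (Set.range g) ^ (n + 1)) :
    ∃ G : MvPolynomial ι B, G.IsHomogeneous n ∧ (∀ d, G.coeff d ∈ Ideal.span (Set.range g)) ∧
      MvPolynomial.eval g G = a := by
  rw [pow_succ'] at ha
  refine Submodule.mul_induction_on ha ?_ ?_
  · intro b hb c hc
    obtain ⟨G0, hG0, rfl⟩ := (Ideal.mem_span_pow_iff_exists_isHomogeneous g c).1 hc
    refine ⟨C b * G0, ?_, ?_, ?_⟩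
    · have := (isHomogeneous_C ι b).mul hG0
      rwa [zero_add] at this
    · intro d
      rw [coeff_C_mul]
      exact Ideal.mul_mem_right _ _ hb
    · simp
  · rintro x y ⟨G1, h1, h1', rfl⟩ ⟨G2, h2, h2', rfl⟩
    refine ⟨G1 + G2, h1.add h2, ?_, by simp⟩
    intro d
    rw [coeff_add]
    exact Ideal.add_mem _ (h1' d) (h2' d)

/-- colon of powers (Matsumura 16.2 (i), ring case) -/
lemma colon_pow {c : ℕ} (s : Fin c → B) (hs : QR s) (y : B)
    (hy : ∀ b, y * b ∈ Ideal.span (Set.range s) → b ∈ Ideal.span (Set.range s)) :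
    ∀ (j : ℕ) (b : B), y * b ∈ Ideal.span (Set.range s) ^ j → b ∈ Ideal.span (Set.range s) ^ j := by
  intro j
  induction j with
  | zero => intro b _; simp
  | succ j ih =>
    intro b hb
    have h1 : b ∈ Ideal.span (Set.range s) ^ j :=
      ih b (Ideal.pow_le_pow_right (Nat.le_succ j) hb)
    obtain ⟨F, hF, rfl⟩ := (Ideal.mem_span_pow_iff_exists_isHomogeneous s b).1 h1
    have h2 : ∀ d, (C y * F).coeff d ∈ Ideal.span (Set.range s) := by
      apply hs j (C y * F)
      · have := (isHomogeneous_C (Fin c) y).mul hF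
        rwa [zero_add] at this
      · simpa using hb
    have h3 : ∀ d, F.coeff d ∈ Ideal.span (Set.range s) := by
      intro d
      apply hy
      have := h2 d
      rwa [coeff_C_mul] at this
    have := eval_mem_mul s _ j F hF h3
    rwa [← pow_succ'] at this


lemma degree_cons {c : ℕ} (d : Fin c →₀ ℕ) (i : ℕ) :
    (Finsupp.weight 1) (d.cons i) = i + (Finsupp.weight 1) d := by
  simp only [Finsupp.weight_apply, Pi.one_apply, smul_eq_mul, mul_one, Finsupp.sum_cons]

/-- degree-zero forms -/
lemma coeff_mem_of_deg_zero {ι : Type*} (g : ι → B) (K : Ideal B) (F : MvPolynomial ι B)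
    (hF : F.IsHomogeneous 0) (hval : MvPolynomial.eval g F ∈ K) (d : ι →₀ ℕ) : F.coeff d ∈ K := by
  classical
  have h1 : F = C (F.coeff 0) := by
    rw [← totalDegree_eq_zero_iff_eq_C]
    exact Nat.le_zero.1 hF.totalDegree_le
  rw [h1, eval_C] at hval
  rw [h1, coeff_C]
  split_ifs
  · exact hval
  · exact K.zero_mem

/-- the inductive step: adjoin a new first element -/
theorem QR_cons {c : ℕ} (s : Fin c → B) (hs : QR s) (y : B)
    (hy : ∀ b, y * b ∈ Ideal.span (Set.range s) → b ∈ Ideal.span (Set.range s)) :
    QR (Fin.cons y s : Fin (c + 1) → B) := by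
  have hI : Ideal.span (Set.range (Fin.cons y s : Fin (c + 1) → B)) =
      Ideal.span {y} ⊔ Ideal.span (Set.range s) := by
    rw [Fin.range_cons, Ideal.span_insert]
  have hI'I : Ideal.span (Set.range s) ≤ Ideal.span (Set.range (Fin.cons y s : Fin (c + 1) → B)) := by
    rw [hI]; exact le_sup_right
  have hyI : y ∈ Ideal.span (Set.range (Fin.cons y s : Fin (c + 1) → B)) := by
    rw [hI]; exact Ideal.mem_sup_left (Ideal.subset_span rfl)
  intro ν
  induction ν with
  | zero =>
    intro F hF hval d
    rw [zero_add, pow_one] at hval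
    exact coeff_mem_of_deg_zero _ _ F hF hval d
  | succ ν ih =>
    intro F hF hval
    obtain ⟨G, hG, hGc, hGe⟩ := exists_form_of_mem_pow_succ _ (ν + 1) _ hval
    -- reduce to a form vanishing at the point
    have hF' : (F - G).IsHomogeneous (ν + 1) := hF.sub hG
    have hev : MvPolynomial.eval (Fin.cons y s : Fin (c + 1) → B) (F - G) = 0 := by
      rw [map_sub, hGe, sub_self]
    suffices hsuff : ∀ e, (F - G).coeff e ∈
        Ideal.span (Set.range (Fin.cons y s : Fin (c + 1) → B)) by
      intro d
      have h1 := Ideal.add_mem _ (hsuff d) (hGc d)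
      rwa [coeff_sub, sub_add_cancel] at h1
    generalize F - G = F' at hF' hev
    -- split off the first variable
    set P' := finSuccEquiv B c F' with hP'
    set Q := P'.divX with hQ
    set G0 := P'.coeff 0 with hG0
    have hG0h : G0.IsHomogeneous (ν + 1) :=
      hF'.finSuccEquiv_coeff_isHomogeneous 0 (ν + 1) (zero_add _)
    set hval' := Polynomial.eval y (Polynomial.map (MvPolynomial.eval s) Q) with hhval
    have h0 : hval' * y + MvPolynomial.eval s G0 = 0 := by
      rw [eval_eq_eval_mv_eval', ← hP', ← Polynomial.divX_mul_X_add P'] at hev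
      simpa using hev
    have h1 : hval' ∈ Ideal.span (Set.range s) ^ (ν + 1) := by
      apply colon_pow s hs y hy
      have : y * hval' = - MvPolynomial.eval s G0 := by linear_combination h0
      rw [this]
      apply Submodule.neg_mem
      exact (Ideal.mem_span_pow_iff_exists_isHomogeneous s _).2 ⟨G0, hG0h, rfl⟩
    -- the quotient form H
    set Hmv := (finSuccEquiv B c).symm Q with hHmv
    have hHQ : finSuccEquiv B c Hmv = Q := (finSuccEquiv B c).apply_symm_apply Q
    have hHcoeff : ∀ (d : Fin c →₀ ℕ) (i : ℕ), Hmv.coeff (d.cons i) = F'.coeff (d.cons (i + 1)) := by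
      intro d i
      rw [← finSuccEquiv_coeff_coeff, hHQ, hQ, Polynomial.coeff_divX, hP', finSuccEquiv_coeff_coeff]
    have hHh : Hmv.IsHomogeneous ν := by
      intro e he
      have he' : e = e.tail.cons (e 0) := (Finsupp.cons_tail e).symm
      rw [he'] at he ⊢
      rw [hHcoeff] at he
      have := hF' he
      rw [degree_cons] at this ⊢
      omega
    have hHev : MvPolynomial.eval (Fin.cons y s : Fin (c + 1) → B) Hmv = hval' := by
      rw [eval_eq_eval_mv_eval', hHQ]
    have hHc : ∀ e, Hmv.coeff e ∈ Ideal.span (Set.range (Fin.cons y s : Fin (c + 1) → B)) := by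
      apply ih Hmv hHh
      rw [hHev]
      exact Ideal.pow_right_mono hI'I _ h1
    -- the remaining coefficients
    obtain ⟨h, hh, hhe⟩ := (Ideal.mem_span_pow_iff_exists_isHomogeneous s _).1 h1
    have hsum : ∀ d, (G0 + C y * h).coeff d ∈ Ideal.span (Set.range s) := by
      apply hs (ν + 1) (G0 + C y * h)
      · apply hG0h.add
        have := (isHomogeneous_C (Fin c) y).mul hh
        rwa [zero_add] at this
      · have : MvPolynomial.eval s (G0 + C y * h) = 0 := by
          rw [map_add, map_mul, eval_C, hhe]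
          linear_combination h0
        rw [this]
        exact Ideal.zero_mem _
    intro e
    have he' : e = e.tail.cons (e 0) := (Finsupp.cons_tail e).symm
    rw [he']
    rcases Nat.eq_zero_or_pos (e 0) with h00 | hpos
    · rw [h00, ← finSuccEquiv_coeff_coeff, ← hP', ← hG0]
      have h2 := hsum e.tail
      rw [coeff_add, coeff_C_mul] at h2
      have h3 : G0.coeff e.tail = (G0.coeff e.tail + y * h.coeff e.tail) - y * h.coeff e.tail := by
        ring
      rw [h3]
      exact Ideal.sub_mem _ (hI'I h2) (Ideal.mul_mem_right _ _ hyI)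
    · obtain ⟨i, hi⟩ : ∃ i, e 0 = i + 1 := ⟨e 0 - 1, by omega⟩
      rw [hi, ← hHcoeff]
      exact hHc _

/-- quasi-regularity is invariant under reindexing -/
lemma QR_reindex {ι κ : Type*} (g : ι → B) (e : κ ≃ ι) (hg : QR g) : QR (g ∘ e) := by
  have hr : Set.range (g ∘ e) = Set.range g := e.surjective.range_comp g
  intro n P hP hval d
  rw [hr] at hval ⊢
  have h1 := hg n (rename e P) (hP.rename_isHomogeneous) (by rwa [eval_rename])
    (d.mapDomain e)
  rwa [coeff_rename_mapDomain e e.injective] at h1

lemma span_range_eq_ofList {c : ℕ} (f : Fin c → B) :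
    Ideal.span (Set.range f) = Ideal.ofList (List.ofFn f) := by
  unfold Ideal.ofList
  congr 1
  ext x
  simp [List.mem_ofFn]

/-- **Regular sequences are quasi-regular** (Matsumura 16.2, ring case). -/
theorem QR_of_isWeaklyRegular : ∀ (c : ℕ) (f : Fin c → B),
    RingTheory.Sequence.IsWeaklyRegular B (List.ofFn f) → QR f := by
  intro c
  induction c with
  | zero =>
    intro f _ n P hP hval d
    have hP' : P = C (P.coeff 0) := MvPolynomial.eq_C_of_isEmpty P
    have hd : d = 0 := Subsingleton.elim _ _
    subst hd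
    rw [hP', eval_C] at hval
    rcases Nat.eq_zero_or_pos n with rfl | hn
    · simpa using hval
    · by_contra hne
      have hne0 : P.coeff 0 ≠ 0 := fun h => hne (h ▸ Ideal.zero_mem _)
      have := hP hne0
      simp at this
      omega
  | succ c ih =>
    intro f hf
    rw [List.ofFn_succ', List.concat_eq_append,
      RingTheory.Sequence.isWeaklyRegular_append_iff] at hf
    obtain ⟨hf1, hf2⟩ := hf
    have hs : QR (Fin.init f : Fin c → B) := ih _ hf1
    rw [RingTheory.Sequence.isWeaklyRegular_singleton_iff] at hf2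
    have hy : ∀ b, f (Fin.last c) * b ∈ Ideal.span (Set.range (Fin.init f : Fin c → B)) →
        b ∈ Ideal.span (Set.range (Fin.init f : Fin c → B)) := by
      intro b hb
      rw [span_range_eq_ofList] at hb ⊢
      have h2 := (isSMulRegular_quotient_iff_mem_of_smul_mem (M := B)
        (N := Ideal.ofList (List.ofFn (Fin.init f : Fin c → B)) • (⊤ : Submodule B B))
        (r := f (Fin.last c))).1 hf2
      have h3 : (Ideal.ofList (List.ofFn (Fin.init f : Fin c → B)) • (⊤ : Submodule B B))
          = Ideal.ofList (List.ofFn (Fin.init f : Fin c → B)) := by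
        simp
      rw [h3] at h2
      exact h2 b hb
    have h4 := QR_cons (Fin.init f : Fin c → B) hs (f (Fin.last c)) hy
    have h5 := QR_reindex _ (finRotate (c + 1)) h4
    have h6 : (Fin.cons (f (Fin.last c)) (Fin.init f : Fin c → B) : Fin (c + 1) → B)
        ∘ (finRotate (c + 1)) = f := by
      have := Fin.snoc_eq_cons_rotate (Fin.init f : Fin c → B) (f (Fin.last c))
      rw [Fin.snoc_init_self] at this
      exact this.symm
    rwa [h6] at h5

end Groth.Agent.Lib.helper11.QuasiReg
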