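import Groth.Agent.Lib.Helper11.InvMod
import Groth.Prelude.Def_SecTwist

/-!
# Sections of invertible modules and `X_s`: local description by functions (helper11, LT1)

* `sec s U : Γ(L, U)` the section named by `s : O ⟶ L` on `U` (= `SecTwist.val s U`), `fn s U : Γ(X, U)` for
  `s : O ⟶ O`; `app_apply : s(V)(a) = a • sec s V`; `res_sec`, `res_fn`.
* `isIso_app_iff_isUnit`, `le_isoLocus_iff_isUnit`, `isoLocus_inf_eq_basicOpen`, `isoLocus_eq_basicOpen`,
  `genLocus_structureModule`: for `s : O ⟶ O`, `X_s = D(f)`.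
* `localEnd φ eM eN`, `localFn φ eM eN`: the endomorphism of `O_U` / the function on `U` describing `φ|_U` in
  trivializations; `isoLocus_inf_eq_basicOpen_localFn`, `exists_isoLocus_inf_eq_basicOpen`,
  `exists_genLocus_inf_eq_basicOpen`.
-/

set_option autoImplicit false
universe u
open CategoryTheory CategoryTheory.Limits AlgebraicGeometry TopologicalSpace Opposite
open Scheme.Modules
open Groth.Agent.Lib.helper11.IsoLocus Groth.Agent.Lib.helper11.InvMod

namespace Groth.Agent.Lib.helper11.GenLocus

variable {X Y : Scheme.{u}}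

/-- The value of a global section `s : O ⟶ L` over `U`, as an element of `Γ(L, U)`. -/
noncomputable abbrev sec {L : X.Modules} (s : Coh.structureModule X ⟶ L) (U : X.Opens) : Γ(L, U) :=
  SecTwist.val s U

/-- The function on `U` named by an endomorphism of the structure sheaf. -/
noncomputable abbrev fn (s : Coh.structureModule X ⟶ Coh.structureModule X) (U : X.Opens) :
    Γ(X, U) :=
  SecTwist.val s U

theorem app_apply {L : X.Modules} (s : Coh.structureModule X ⟶ L) (V : X.Opens) (a : Γ(X, V)) :
    (s.app V).hom (a : Γ(Coh.structureModule X, V)) = a • sec s V := by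
  have h := Hom.app_smul s a ((1 : Γ(X, V)) : Γ(Coh.structureModule X, V))
  have e : a • ((1 : Γ(X, V)) : Γ(Coh.structureModule X, V)) = (a : Γ(Coh.structureModule X, V)) :=
    mul_one a
  exact (congrArg (s.app V).hom e).symm.trans h

theorem res_sec {L : X.Modules} (s : Coh.structureModule X ⟶ L) {U V : X.Opens} (i : V ⟶ U) :
    L.presheaf.map i.op (sec s U) = sec s V :=
  SecTwist.map_val s i

theorem res_fn (s : Coh.structureModule X ⟶ Coh.structureModule X) {U V : X.Opens} (i : V ⟶ U) :
    X.presheaf.map i.op (fn s U) = fn s V :=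
  SecTwist.map_val s i


/-- For an endomorphism `s` of the structure sheaf, `s(V)` is bijective iff the function it names
on `V` is a unit. -/
theorem isIso_app_iff_isUnit (s : Coh.structureModule X ⟶ Coh.structureModule X) (V : X.Opens) :
    IsIso (s.app V) ↔ IsUnit (fn s V) := by
  rw [ConcreteCategory.isIso_iff_bijective]
  constructor
  · intro h
    obtain ⟨a, ha⟩ := h.2 ((1 : Γ(X, V)) : Γ(Coh.structureModule X, V))
    have h2 : (show Γ(X, V) from a) * fn s V = 1 := (app_apply s V a).symm.trans ha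
    exact IsUnit.of_mul_eq_one_right _ h2
  · intro h
    obtain ⟨u, hu⟩ := h
    have key : ∀ a : Γ(X, V), (s.app V).hom (a : Γ(Coh.structureModule X, V)) = a * fn s V :=
      fun a => app_apply s V a
    constructor
    · intro a b hab
      have h3 : (show Γ(X, V) from a) * fn s V = (show Γ(X, V) from b) * fn s V :=
        (key a).symm.trans (hab.trans (key b))
      rw [← hu] at h3
      exact (Units.mul_left_inj u).mp h3
    · intro b
      refine ⟨((show Γ(X, V) from b) * (↑u⁻¹ : Γ(X, V)) : Γ(X, V)), ?_⟩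
      refine (key _).trans ?_
      rw [← hu, mul_assoc, Units.inv_mul, mul_one]

theorem le_isoLocus_iff_isUnit (s : Coh.structureModule X ⟶ Coh.structureModule X)
    (U : X.Opens) : U ≤ isoLocus s ↔ IsUnit (fn s U) := by
  constructor
  · intro h
    exact (isIso_app_iff_isUnit s U).mp (isIso_app_of_le_isoLocus s h)
  · intro h
    rw [le_isoLocus_iff, isIso_restrict_iff_app]
    intro V hV
    rw [isIso_app_iff_isUnit, ← res_fn s (homOfLE hV)]
    exact h.map _

/-- For an endomorphism `s` of `O_X`: `X_s ∩ U = D(f)` where `f ∈ Γ(X, U)` is the function named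
by `s` on `U`. -/
theorem isoLocus_inf_eq_basicOpen (s : Coh.structureModule X ⟶ Coh.structureModule X)
    (U : X.Opens) : isoLocus s ⊓ U = X.basicOpen (fn s U) := by
  refine le_antisymm ?_ ?_
  · have h1 : IsUnit (fn s (isoLocus s ⊓ U)) := (le_isoLocus_iff_isUnit s _).mp inf_le_left
    rw [← res_fn s (homOfLE (inf_le_right : isoLocus s ⊓ U ≤ U))] at h1
    have h2 := X.basicOpen_of_isUnit h1
    rw [Scheme.basicOpen_res] at h2
    exact (inf_eq_left.mp h2)
  · refine le_inf ?_ (X.basicOpen_le _)
    rw [le_isoLocus_iff_isUnit, ← res_fn s (homOfLE (X.basicOpen_le (fn s U)))]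
    exact RingedSpace.isUnit_res_basicOpen _ (fn s U)

theorem isoLocus_eq_basicOpen (s : Coh.structureModule X ⟶ Coh.structureModule X) :
    isoLocus s = X.basicOpen (fn s ⊤) := by
  rw [← isoLocus_inf_eq_basicOpen, inf_top_eq]

/-- `X_s` for a section of the structure sheaf is the basic open of the corresponding function. -/
theorem genLocus_structureModule (s : Coh.structureModule X ⟶ Coh.structureModule X) :
    CohB1.genLocus (Coh.structureModule X) s = X.basicOpen (fn s ⊤) :=
  isoLocus_eq_basicOpen s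


/-! ### Local description of a morphism between modules that are trivial on `U` -/

/-- For `φ : M ⟶ N` and trivializations of `M` and `N` over `U`, the endomorphism of `O_U`
corresponding to `φ|_U`. -/
noncomputable def localEnd {M N : X.Modules} (φ : M ⟶ N) {U : X.Opens}
    (eM : M.restrict U.ι ≅ Coh.structureModule (↑U : Scheme.{u}))
    (eN : N.restrict U.ι ≅ Coh.structureModule (↑U : Scheme.{u})) :
    Coh.structureModule (↑U : Scheme.{u}) ⟶ Coh.structureModule (↑U : Scheme.{u}) :=
  eM.inv ≫ (restrictFunctor U.ι).map φ ≫ eN.hom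

theorem localEnd_comp {M N K : X.Modules} (φ : M ⟶ N) (ψ : N ⟶ K) {U : X.Opens}
    (eM : M.restrict U.ι ≅ Coh.structureModule (↑U : Scheme.{u}))
    (eN : N.restrict U.ι ≅ Coh.structureModule (↑U : Scheme.{u}))
    (eK : K.restrict U.ι ≅ Coh.structureModule (↑U : Scheme.{u})) :
    localEnd (φ ≫ ψ) eM eK = localEnd φ eM eN ≫ localEnd ψ eN eK := by
  simp [localEnd]

theorem isoLocus_localEnd {M N : X.Modules} (φ : M ⟶ N) {U : X.Opens}
    (eM : M.restrict U.ι ≅ Coh.structureModule (↑U : Scheme.{u}))
    (eN : N.restrict U.ι ≅ Coh.structureModule (↑U : Scheme.{u})) :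
    isoLocus (localEnd φ eM eN) = U.ι ⁻¹ᵁ isoLocus φ := by
  rw [localEnd, isoLocus_comp_of_isIso_left, isoLocus_comp_of_isIso_right,
    isoLocus_restrictFunctor]

/-- The function on `U` describing `φ|_U` in the given trivializations. -/
noncomputable def localFn {M N : X.Modules} (φ : M ⟶ N) {U : X.Opens}
    (eM : M.restrict U.ι ≅ Coh.structureModule (↑U : Scheme.{u}))
    (eN : N.restrict U.ι ≅ Coh.structureModule (↑U : Scheme.{u})) : Γ(X, U) :=
  U.topIso.hom (fn (localEnd φ eM eN) ⊤)

/-- `isoLocus φ ∩ U` is the basic open of the local function of `φ` in any trivializations on `U`. -/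
theorem isoLocus_inf_eq_basicOpen_localFn {M N : X.Modules} (φ : M ⟶ N) {U : X.Opens}
    (eM : M.restrict U.ι ≅ Coh.structureModule (↑U : Scheme.{u}))
    (eN : N.restrict U.ι ≅ Coh.structureModule (↑U : Scheme.{u})) :
    isoLocus φ ⊓ U = X.basicOpen (localFn φ eM eN) := by
  have h1 : U.ι ''ᵁ (U.ι ⁻¹ᵁ isoLocus φ) = isoLocus φ ⊓ U := by
    rw [Scheme.Hom.image_preimage_eq_opensRange_inf, Scheme.Opens.opensRange_ι, inf_comm]
  rw [← h1, ← isoLocus_localEnd φ eM eN, isoLocus_eq_basicOpen, localFn,
    Scheme.Opens.ι_image_basicOpen, Scheme.Opens.topIso_hom]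
  have h2 := Scheme.basicOpen_res X (fn (localEnd φ eM eN) ⊤ : Γ(X, U.ι ''ᵁ ⊤))
    (eqToHom U.ι_image_top.symm).op
  refine Eq.trans ?_ h2.symm
  refine (inf_eq_right.mpr ?_).symm
  exact (X.basicOpen_le _).trans U.ι_image_top.le

/-- If `M` and `N` are both trivial on `U`, then `isoLocus φ ∩ U` is a basic open of `U`. -/
theorem exists_isoLocus_inf_eq_basicOpen {M N : X.Modules} (φ : M ⟶ N) {U : X.Opens}
    (hM : IsTrivOn M U) (hN : IsTrivOn N U) :
    ∃ f : Γ(X, U), isoLocus φ ⊓ U = X.basicOpen f := by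
  obtain ⟨eM⟩ := hM
  obtain ⟨eN⟩ := hN
  exact ⟨_, isoLocus_inf_eq_basicOpen_localFn φ eM eN⟩

/-- If `L` is trivial on `U`, then `X_s ∩ U = D(f)` for some `f ∈ Γ(X, U)`. -/
theorem exists_genLocus_inf_eq_basicOpen {L : X.Modules} (s : Coh.structureModule X ⟶ L)
    {U : X.Opens} (hL : IsTrivOn L U) :
    ∃ f : Γ(X, U), CohB1.genLocus L s ⊓ U = X.basicOpen f :=
  exists_isoLocus_inf_eq_basicOpen s (isTrivOn_structureModule U) hL

end Groth.Agent.Lib.helper11.GenLocus
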