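import Groth.Agent.Lib.Helper11.IsoLocus
import Mathlib.Algebra.Category.ModuleCat.Sheaf.PullbackFree
import Mathlib.CategoryTheory.Filtered.Final

/-!
# Invertible modules: basic API for `PicF.IsInvertible` (helper11, LT1)

* `IsTrivOn L U`: `L|_U ≅ O_U`; stable under shrinking `U` (`IsTrivOn.of_le`), isomorphisms of `L`
  (`IsTrivOn.of_iso`), restriction along open immersions (`IsTrivOn.restrict`) and pullback
  (`IsTrivOn.pullback`).
* `isInvertible_of_iso`, `isInvertible_structureModule`, `isInvertible_restrict`,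
  `isInvertible_pullback`, `exists_affine_isTrivOn` (trivializing affine opens form a basis).
* `pullbackUnitIso f : f^* O_X ≅ O_Y`, `restrictRestrictIso` (restriction in stages),
  `pullbackRestrictIso`.
-/

set_option autoImplicit false
universe u
open CategoryTheory CategoryTheory.Limits AlgebraicGeometry TopologicalSpace Opposite
open Scheme.Modules

namespace Groth.Agent.Lib.helper11.InvMod

variable {X Y : Scheme.{u}}

instance final_opensMap {A B : TopCat.{u}} (f : A ⟶ B) : (Opens.map f).Final :=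
  Functor.final_of_exists_of_isFiltered _ (fun _ => ⟨⊤, ⟨homOfLE le_top⟩⟩)
    (fun {_ c} _ _ => ⟨c, 𝟙 _, Subsingleton.elim _ _⟩)

/-- The canonical map from the pullback of the structure sheaf to the structure sheaf. -/
noncomputable def pullbackUnitHom (f : Y ⟶ X) :
    (Scheme.Modules.pullback f).obj (Coh.structureModule X) ⟶ Coh.structureModule Y :=
  SheafOfModules.pullbackObjUnitToUnit f.toRingCatSheafHom

instance (f : Y ⟶ X) : IsIso (pullbackUnitHom f) := by
  unfold pullbackUnitHom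
  exact SheafOfModules.instIsIsoPullbackObjUnitToUnitOfFinal _

/-- The pullback of the structure sheaf is the structure sheaf. -/
noncomputable def pullbackUnitIso (f : Y ⟶ X) :
    (Scheme.Modules.pullback f).obj (Coh.structureModule X) ≅ Coh.structureModule Y :=
  asIso (pullbackUnitHom f)

/-- Restriction in stages: `(M|_U)|_V ≅ M|_V` for `V ≤ U`. -/
noncomputable def restrictRestrictIso (M : X.Modules) {U V : X.Opens} (h : V ≤ U) :
    (M.restrict U.ι).restrict (X.homOfLE h) ≅ M.restrict V.ι :=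
  ((restrictFunctorComp (X.homOfLE h) U.ι).app M).symm ≪≫
    (restrictFunctorCongr (X.homOfLE_ι h)).app M

/-- `L` is trivial on the open `U`: `L|_U ≅ O_U`. -/
def IsTrivOn (L : X.Modules) (U : X.Opens) : Prop :=
  Nonempty (L.restrict U.ι ≅ Coh.structureModule (↑U : Scheme.{u}))

theorem isInvertible_iff {L : X.Modules} :
    PicF.IsInvertible L ↔ ∀ x : X, ∃ U : X.Opens, x ∈ U ∧ IsTrivOn L U := Iff.rfl

theorem IsTrivOn.of_le {L : X.Modules} {U V : X.Opens} (h : V ≤ U) (hU : IsTrivOn L U) :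
    IsTrivOn L V := by
  obtain ⟨e⟩ := hU
  exact ⟨(restrictRestrictIso L h).symm ≪≫ (restrictFunctor (X.homOfLE h)).mapIso e ≪≫
    restrictUnitIso (X.homOfLE h)⟩

theorem IsTrivOn.of_iso {L L' : X.Modules} (e : L ≅ L') {U : X.Opens} (hU : IsTrivOn L U) :
    IsTrivOn L' U := by
  obtain ⟨e'⟩ := hU
  exact ⟨(restrictFunctor U.ι).mapIso e.symm ≪≫ e'⟩

theorem isTrivOn_top_iff {L : X.Modules} :
    IsTrivOn L ⊤ ↔ Nonempty (L ≅ Coh.structureModule X) := by
  constructor
  · rintro ⟨e⟩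
    -- restriction along `⊤.ι` is an equivalence; use the iso `X ≅ ⊤`
    have h1 : L ≅ (L.restrict (⊤ : X.Opens).ι).restrict (X.topIso.inv) :=
      (restrictFunctorId.app L).symm ≪≫
        (restrictFunctorCongr (f := 𝟙 X) (g := X.topIso.inv ≫ (⊤ : X.Opens).ι) (by simp)).app L ≪≫
        (restrictFunctorComp X.topIso.inv (⊤ : X.Opens).ι).app L
    exact ⟨h1 ≪≫ (restrictFunctor X.topIso.inv).mapIso e ≪≫ restrictUnitIso X.topIso.inv⟩
  · rintro ⟨e⟩
    exact ⟨(restrictFunctor _).mapIso e ≪≫ restrictUnitIso _⟩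

theorem isInvertible_of_iso {L L' : X.Modules} (e : L ≅ L') (hL : PicF.IsInvertible L) :
    PicF.IsInvertible L' := by
  intro x
  obtain ⟨U, hxU, hU⟩ := hL x
  exact ⟨U, hxU, IsTrivOn.of_iso e hU⟩

theorem isTrivOn_structureModule (U : X.Opens) : IsTrivOn (Coh.structureModule X) U :=
  ⟨restrictUnitIso U.ι⟩

theorem isInvertible_structureModule (X : Scheme.{u}) : PicF.IsInvertible (Coh.structureModule X) :=
  fun _ => ⟨⊤, trivial, isTrivOn_structureModule ⊤⟩

theorem isInvertible_of_iso_structureModule {L : X.Modules} (e : L ≅ Coh.structureModule X) :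
    PicF.IsInvertible L :=
  isInvertible_of_iso e.symm (isInvertible_structureModule X)

/-- Trivializing affine opens form a basis. -/
theorem exists_affine_isTrivOn {L : X.Modules} (hL : PicF.IsInvertible L) (x : X) (W : X.Opens)
    (hxW : x ∈ W) : ∃ U : X.Opens, IsAffineOpen U ∧ x ∈ U ∧ U ≤ W ∧ IsTrivOn L U := by
  obtain ⟨U, hxU, hU⟩ := hL x
  obtain ⟨V, hV, hxV, hVle⟩ := (Opens.isBasis_iff_nbhd.mp X.isBasis_affineOpens)
    (show x ∈ (U ⊓ W : X.Opens) from ⟨hxU, hxW⟩)
  exact ⟨V, hV, hxV, hVle.trans inf_le_right, IsTrivOn.of_le (hVle.trans inf_le_left) hU⟩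

/-- The trivializing affine opens of an invertible module form a basis of the topology. -/
theorem isBasis_affine_isTrivOn {L : X.Modules} (hL : PicF.IsInvertible L) :
    Opens.IsBasis {U : X.Opens | IsAffineOpen U ∧ IsTrivOn L U} := by
  rw [Opens.isBasis_iff_nbhd]
  intro W x hxW
  obtain ⟨U, hU, hxU, hUW, hT⟩ := exists_affine_isTrivOn hL x W hxW
  exact ⟨U, ⟨hU, hT⟩, hxU, hUW⟩

/-- Restriction of a restriction along an open immersion. -/
noncomputable def restrictRestrictIso' (f : Y ⟶ X) [IsOpenImmersion f] (L : X.Modules)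
    (U : X.Opens) :
    (L.restrict f).restrict (f ⁻¹ᵁ U).ι ≅ (L.restrict U.ι).restrict (f ∣_ U) :=
  ((restrictFunctorComp (f ⁻¹ᵁ U).ι f).app L).symm ≪≫
    (restrictFunctorCongr (morphismRestrict_ι f U).symm).app L ≪≫
    (restrictFunctorComp (f ∣_ U) U.ι).app L

theorem IsTrivOn.restrict (f : Y ⟶ X) [IsOpenImmersion f] {L : X.Modules} {U : X.Opens}
    (hU : IsTrivOn L U) : IsTrivOn (L.restrict f) (f ⁻¹ᵁ U) := by
  obtain ⟨e⟩ := hU
  exact ⟨restrictRestrictIso' f L U ≪≫ (restrictFunctor (f ∣_ U)).mapIso e ≪≫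
    restrictUnitIso (f ∣_ U)⟩

theorem isInvertible_restrict (f : Y ⟶ X) [IsOpenImmersion f] {L : X.Modules}
    (hL : PicF.IsInvertible L) : PicF.IsInvertible (L.restrict f) := by
  intro y
  obtain ⟨U, hxU, hU⟩ := hL (f y)
  exact ⟨f ⁻¹ᵁ U, hxU, IsTrivOn.restrict f hU⟩

/-- Pullback followed by restriction to the preimage of an open. -/
noncomputable def pullbackRestrictIso (f : Y ⟶ X) (L : X.Modules) (U : X.Opens) :
    ((Scheme.Modules.pullback f).obj L).restrict (f ⁻¹ᵁ U).ι ≅
      (Scheme.Modules.pullback (f ∣_ U)).obj (L.restrict U.ι) :=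
  (restrictFunctorIsoPullback (f ⁻¹ᵁ U).ι).app _ ≪≫
    (pullbackComp (f ⁻¹ᵁ U).ι f).app L ≪≫
    (pullbackCongr (morphismRestrict_ι f U).symm).app L ≪≫
    ((pullbackComp (f ∣_ U) U.ι).app L).symm ≪≫
    (Scheme.Modules.pullback (f ∣_ U)).mapIso ((restrictFunctorIsoPullback U.ι).app L).symm

theorem IsTrivOn.pullback (f : Y ⟶ X) {L : X.Modules} {U : X.Opens}
    (hU : IsTrivOn L U) : IsTrivOn ((Scheme.Modules.pullback f).obj L) (f ⁻¹ᵁ U) := by
  obtain ⟨e⟩ := hU
  exact ⟨pullbackRestrictIso f L U ≪≫ (Scheme.Modules.pullback (f ∣_ U)).mapIso e ≪≫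
    pullbackUnitIso (f ∣_ U)⟩

/-- The pullback of an invertible module is invertible. -/
theorem isInvertible_pullback (f : Y ⟶ X) {L : X.Modules}
    (hL : PicF.IsInvertible L) : PicF.IsInvertible ((Scheme.Modules.pullback f).obj L) := by
  intro y
  obtain ⟨U, hxU, hU⟩ := hL (f y)
  exact ⟨f ⁻¹ᵁ U, hxU, IsTrivOn.pullback f hU⟩

end Groth.Agent.Lib.helper11.InvMod
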