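import Groth.Agent.Lib.Helper11.SerreGG

/-!
# Tensor products and generation by sections; Serre's theorem in quotient form (helper11)

* `exists_local_toSheafify`: sections of a sheafification locally come from the presheaf.
* `tspan M N W` (span of pure tensors), `exists_local_mem_tspan`: sections of `M ⊗ N` are locally
  sums of pure tensors.
* `tmul_add_right`, `tmul_zero_right`, `tmul_smul_right`.
* `psub`, `exists_local_mem_psub`, `tensHom M A T i : M ⟶ M ⊗ A` (`μ ↦ μ ⊗ T i`), `tensHom_apply`,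
  `epi_desc_tensHom`: if the `T i` generate `A` then `∐ M ⟶ M ⊗ A` is an epimorphism.
* `cancelIso`, `exists_epi_sigma_of_isAmple`: Serre's theorem, quotient form.
-/

set_option autoImplicit false
universe u

open CategoryTheory CategoryTheory.Limits AlgebraicGeometry Opposite TopologicalSpace MonoidalCategory

namespace Groth.Agent.Lib.helper11.TensorEpi

open Groth.Agent.Lib.helper12.TwistExtend Groth.Agent.Lib.helper11.IsoLocus
open Groth.Agent.Lib.helper12.TensorRestrict Groth.Agent.Lib.helper12.TensorSec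
open Groth.Agent.Lib.helper11.SerreGG

variable {X : Scheme.{u}}

/-- Sections of a sheafification locally come from the presheaf. -/
theorem exists_local_toSheafify (P : X.PresheafOfModules) (V : X.Opens)
    (σ : ((CohB1.sheafifyMod X).obj P).val.obj (op V)) (y : X) (hy : y ∈ V) :
    ∃ (W : X.Opens) (hW : W ≤ V), y ∈ W ∧ ∃ z : P.obj (op W),
      ((toSheafify P).app (op W)).hom z = res ((CohB1.sheafifyMod X).obj P) hW σ := by
  have hls : Presheaf.IsLocallySurjective (Opens.grothendieckTopology X)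
      ((PresheafOfModules.toPresheaf _).map (toSheafify P)) :=
    GrothendieckTopology.W.isLocallySurjective (W_toSheafify P)
  have h1 := Presheaf.imageSieve_mem (Opens.grothendieckTopology X)
    ((PresheafOfModules.toPresheaf _).map (toSheafify P)) (U := op V) σ
  obtain ⟨W, i, ⟨z, hz⟩, hyW⟩ := h1 y hy
  exact ⟨W, leOfHom i, hyW, z, hz⟩

/-- The span of the pure tensors in `(M ⊗ N)(W)`. -/
noncomputable def tspan (M N : X.Modules) (W : X.Opens) :
    Submodule (X.ringCatSheaf.obj.obj (op W)) ((CohB1.tensorMod M N).val.obj (op W)) :=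
  Submodule.span _ {x | ∃ (m : M.val.obj (op W)) (n : N.val.obj (op W)), x = SecTwist.tmul M N W m n}

theorem tmul_mem_tspan (M N : X.Modules) (W : X.Opens) (m : M.val.obj (op W))
    (n : N.val.obj (op W)) : SecTwist.tmul M N W m n ∈ tspan M N W :=
  Submodule.subset_span ⟨m, n, rfl⟩

theorem toSheafify_mem_tspan (M N : X.Modules) (W : X.Opens)
    (z : (CohB1.tensorPre M N : X.PresheafOfModules).obj (op W)) :
    ((toSheafify (CohB1.tensorPre M N : X.PresheafOfModules)).app (op W)).hom z ∈ tspan M N W := by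
  have key : ∀ z : TensorProduct ((X.sheaf.obj ⋙ forget₂ CommRingCat RingCat).obj (op W))
      ((CohB1.toPMod M).obj (op W)) ((CohB1.toPMod N).obj (op W)),
      ((toSheafify (CohB1.tensorPre M N : X.PresheafOfModules)).app (op W)).hom
        (show (CohB1.tensorPre M N : X.PresheafOfModules).obj (op W) from z) ∈ tspan M N W := by
    intro z
    induction z using TensorProduct.induction_on with
    | zero =>
      have h0 := map_zero ((toSheafify (CohB1.tensorPre M N : X.PresheafOfModules)).app (op W)).hom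
      exact h0.symm ▸ Submodule.zero_mem _
    | tmul m n => exact tmul_mem_tspan M N W m n
    | add a b ha hb =>
      have h0 := map_add ((toSheafify (CohB1.tensorPre M N : X.PresheafOfModules)).app (op W)).hom
        (show (CohB1.tensorPre M N : X.PresheafOfModules).obj (op W) from a)
        (show (CohB1.tensorPre M N : X.PresheafOfModules).obj (op W) from b)
      exact h0.symm ▸ Submodule.add_mem _ ha hb
  exact key z

/-- Sections of a tensor product are locally sums of pure tensors. -/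
theorem exists_local_mem_tspan (M N : X.Modules) (V : X.Opens)
    (σ : (CohB1.tensorMod M N).val.obj (op V)) (y : X) (hy : y ∈ V) :
    ∃ (W : X.Opens) (hW : W ≤ V), y ∈ W ∧ res (CohB1.tensorMod M N) hW σ ∈ tspan M N W := by
  obtain ⟨W, hW, hyW, z, hz⟩ := exists_local_toSheafify
    (CohB1.tensorPre M N : X.PresheafOfModules) V σ y hy
  refine ⟨W, hW, hyW, ?_⟩
  have := toSheafify_mem_tspan M N W z
  rw [hz] at this
  exact this

/-! ### Bilinearity of `tmul` in the second variable -/

theorem tmul_add_right (M N : X.Modules) (U : X.Opens) (m : M.val.obj (op U))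
    (n n' : N.val.obj (op U)) :
    SecTwist.tmul M N U m (n + n') = SecTwist.tmul M N U m n + SecTwist.tmul M N U m n' := by
  unfold SecTwist.tmul
  rw [TensorProduct.tmul_add]
  exact map_add ((SecTwist.toTensor M N).app (op U)).hom _ _

theorem tmul_zero_right (M N : X.Modules) (U : X.Opens) (m : M.val.obj (op U)) :
    SecTwist.tmul M N U m (0 : N.val.obj (op U)) = 0 := by
  unfold SecTwist.tmul
  rw [TensorProduct.tmul_zero]
  exact map_zero ((SecTwist.toTensor M N).app (op U)).hom

theorem tmul_smul_right (M N : X.Modules) (U : X.Opens) (r : X.ringCatSheaf.obj.obj (op U))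
    (m : M.val.obj (op U)) (n : N.val.obj (op U)) :
    SecTwist.tmul M N U m (r • n) = r • SecTwist.tmul M N U m n := by
  rw [← Groth.Agent.Lib.helper12.AmpleBasis.tmul_smul_left]
  unfold SecTwist.tmul
  have h : (m ⊗ₜ (r • n) : ↥((CohB1.tensorPre M N).obj (op U))) =
      ((r • m) ⊗ₜ n : ↥((CohB1.tensorPre M N).obj (op U))) :=
    (TensorProduct.smul_tmul
      (R := (X.sheaf.obj ⋙ forget₂ CommRingCat RingCat).obj (op U))
      (R' := (X.sheaf.obj ⋙ forget₂ CommRingCat RingCat).obj (op U))
      (M := (CohB1.toPMod M).obj (op U)) (N := (CohB1.toPMod N).obj (op U)) r m n).symm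
  rw [h]

/-! ### Generation of `M ⊗ A` by the maps `μ ↦ μ ⊗ T i` -/

section Gen

variable (M A : X.Modules) {J : Type*} (T : J → A.val.obj (op ⊤))

/-- The span of the sections `μ ⊗ T i`. -/
noncomputable def psub (W : X.Opens) :
    Submodule (X.ringCatSheaf.obj.obj (op W)) ((CohB1.tensorMod M A).val.obj (op W)) :=
  Submodule.span _ {x | ∃ (i : J) (μ : M.val.obj (op W)),
    x = SecTwist.tmul M A W μ (res A (le_top : W ≤ ⊤) (T i))}

theorem tmul_mem_psub (W : X.Opens) (μ : M.val.obj (op W)) {a : A.val.obj (op W)}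
    (ha : a ∈ gsubBy A T W) : SecTwist.tmul M A W μ a ∈ psub M A T W := by
  induction ha using Submodule.span_induction with
  | mem a ha =>
    obtain ⟨i, rfl⟩ := ha
    exact Submodule.subset_span ⟨i, μ, rfl⟩
  | zero => rw [tmul_zero_right]; exact Submodule.zero_mem _
  | add a b _ _ ha hb => rw [tmul_add_right]; exact Submodule.add_mem _ ha hb
  | smul r a _ ha => rw [tmul_smul_right]; exact Submodule.smul_mem _ _ ha

theorem res_mem_psub {U V : X.Opens} (h : V ≤ U) {x : (CohB1.tensorMod M A).val.obj (op U)}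
    (hx : x ∈ psub M A T U) : res (CohB1.tensorMod M A) h x ∈ psub M A T V := by
  induction hx using Submodule.span_induction with
  | mem x hx =>
    obtain ⟨i, μ, rfl⟩ := hx
    have h1 : res (CohB1.tensorMod M A) h (SecTwist.tmul M A U μ (res A (le_top : U ≤ ⊤) (T i))) =
        SecTwist.tmul M A V (res M h μ) (res A h (res A (le_top : U ≤ ⊤) (T i))) :=
      SecTwist.map_tmul M A (homOfLE h) μ _
    rw [h1, res_res]
    exact Submodule.subset_span ⟨i, _, rfl⟩
  | zero => rw [res_zero]; exact Submodule.zero_mem _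
  | add x y _ _ hx hy => rw [res_add]; exact Submodule.add_mem _ hx hy
  | smul r x _ hx => rw [res_smul]; exact Submodule.smul_mem _ _ hx

/-- If the `T i` generate `A` near `y`, then the sections `μ ⊗ T i` generate `M ⊗ A` near `y`. -/
theorem exists_local_mem_psub {y : X} (hT : GenAtBy A T y) (V : X.Opens)
    (σ : (CohB1.tensorMod M A).val.obj (op V)) (hy : y ∈ V) :
    ∃ (W : X.Opens) (hW : W ≤ V), y ∈ W ∧ res (CohB1.tensorMod M A) hW σ ∈ psub M A T W := by
  obtain ⟨W₁, hW₁, hyW₁, hmem⟩ := exists_local_mem_tspan M A V σ y hy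
  have key : ∀ x ∈ tspan M A W₁, ∃ (W : X.Opens) (hW : W ≤ W₁), y ∈ W ∧
      res (CohB1.tensorMod M A) hW x ∈ psub M A T W := by
    intro x hx
    induction hx using Submodule.span_induction with
    | mem x hx =>
      obtain ⟨m, a, rfl⟩ := hx
      obtain ⟨W, hW, hyW, ha⟩ := hT W₁ a hyW₁
      refine ⟨W, hW, hyW, ?_⟩
      have h1 : res (CohB1.tensorMod M A) hW (SecTwist.tmul M A W₁ m a) =
          SecTwist.tmul M A W (res M hW m) (res A hW a) := SecTwist.map_tmul M A (homOfLE hW) m a
      rw [h1]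
      exact tmul_mem_psub M A T W _ ha
    | zero => exact ⟨W₁, le_rfl, hyW₁, by rw [res_zero]; exact Submodule.zero_mem _⟩
    | add a b _ _ ha hb =>
      obtain ⟨Wa, hWa, hyWa, ha'⟩ := ha
      obtain ⟨Wb, hWb, hyWb, hb'⟩ := hb
      refine ⟨Wa ⊓ Wb, inf_le_left.trans hWa, ⟨hyWa, hyWb⟩, ?_⟩
      rw [res_add]
      refine Submodule.add_mem _ ?_ ?_
      · rw [← res_res _ hWa (inf_le_left : Wa ⊓ Wb ≤ Wa)]
        exact res_mem_psub M A T _ ha'
      · rw [← res_res _ hWb (inf_le_right : Wa ⊓ Wb ≤ Wb)]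
        exact res_mem_psub M A T _ hb'
    | smul r a _ ha =>
      obtain ⟨Wa, hWa, hyWa, ha'⟩ := ha
      exact ⟨Wa, hWa, hyWa, by rw [res_smul]; exact Submodule.smul_mem _ _ ha'⟩
  obtain ⟨W, hW, hyW, h⟩ := key _ hmem
  refine ⟨W, hW.trans hW₁, hyW, ?_⟩
  rw [← res_res _ hW₁ hW]
  exact h

end Gen

section EpiDesc

open Groth.Agent.Lib.helper12.PullTensor Groth.Agent.Lib.helper12.AmpleBasis

variable (M A : X.Modules) {J : Type*} (T : J → A.val.obj (op ⊤))

/-- `μ ↦ μ ⊗ T i`, as a morphism `M ⟶ M ⊗ A`. -/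
noncomputable def tensHom (i : J) : M ⟶ CohB1.tensorMod M A :=
  (SecTwist.unitorR M).inv ≫
    Groth.Agent.Lib.Lead.ModTensor.tensorMap (𝟙 M) (homOfSec A (T i))

theorem tensHom_apply (i : J) (W : X.Opens) (μ : M.val.obj (op W)) :
    ((tensHom M A T i).val.app (op W)).hom μ =
      SecTwist.tmul M A W μ (res A (le_top : W ≤ ⊤) (T i)) := by
  change ((Groth.Agent.Lib.Lead.ModTensor.tensorMap (𝟙 M) (homOfSec A (T i))).val.app (op W)).hom
    (((SecTwist.unitorR M).inv.val.app (op W)).hom μ) = _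
  rw [unitorR_inv_apply, tensorMap_tmul]
  have h1 : ((homOfSec A (T i)).val.app (op W)).hom
      ((1 : X.ringCatSheaf.obj.obj (op W)) : (Coh.structureModule X).val.obj (op W)) =
      res A (le_top : W ≤ ⊤) (T i) := val_homOfSec A (T i) W
  rw [h1]
  rfl

theorem psub_le_range_desc [HasCoproduct (fun _ : J => M)] (W : X.Opens) :
    psub M A T W ≤ LinearMap.range
      ((Sigma.desc (tensHom M A T) : (∐ fun _ : J => M) ⟶ CohB1.tensorMod M A).val.app (op W)).hom := by
  unfold psub
  rw [Submodule.span_le]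
  rintro _ ⟨i, μ, rfl⟩
  refine ⟨((Sigma.ι (fun _ : J => M) i).val.app (op W)).hom μ, ?_⟩
  have h1 : ((Sigma.ι (fun _ : J => M) i ≫ Sigma.desc (tensHom M A T)).val.app (op W)).hom μ =
      SecTwist.tmul M A W μ (res A (le_top : W ≤ ⊤) (T i)) := by
    rw [Sigma.ι_desc]
    exact tensHom_apply M A T i W μ
  exact h1

/-- If the global sections `T i` generate `A`, then the maps `μ ↦ μ ⊗ T i` are jointly epimorphic
onto `M ⊗ A`. -/
theorem epi_desc_tensHom [HasCoproduct (fun _ : J => M)] (hT : ∀ y : X, GenAtBy A T y) :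
    Epi (Sigma.desc (tensHom M A T) : (∐ fun _ : J => M) ⟶ CohB1.tensorMod M A) := by
  refine Groth.Agent.Lib.helper28.SecEpi.epi_of_locally_surjective _ fun V s y hy => ?_
  obtain ⟨W, hW, hyW, hmem⟩ := exists_local_mem_psub M A T (hT y) V s hy
  obtain ⟨t, ht⟩ := psub_le_range_desc M A T W hmem
  exact ⟨W, hW, hyW, t, ht⟩

end EpiDesc

/-! ### Serre's theorem, quotient form -/

open Groth.Agent.Lib.helper12.TensorPowAdd in
/-- `N ⊗ (F ⊗ P) ≅ F` when `P ⊗ N ≅ O`. -/
noncomputable def cancelIso (F P N : X.Modules) (e : CohB1.tensorMod P N ≅ Coh.structureModule X) :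
    CohB1.tensorMod N (CohB1.tensorMod F P) ≅ F :=
  Groth.Agent.Lib.Lead.ModTensor.braid _ _ ≪≫ assocMod F P N ≪≫
    PicGrp.tensorModIso (Iso.refl F) e ≪≫ SecTwist.unitorR F

/-- **Serre's theorem, quotient form**: for `L` ample and `F` coherent on a quasi-compact
quasi-separated scheme, and all large `n`, `F` is a quotient of a finite direct sum of copies of any
inverse `N` of `L^{⊗ n}`. -/
theorem exists_epi_sigma_of_isAmple [QuasiSeparatedSpace X] {L : X.Modules}
    (hL : CohB1.IsAmple L) (F : X.Modules) (hF : Coh.IsCoh F) :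
    ∃ n₀ : ℕ, ∀ n, n₀ ≤ n → ∀ N : X.Modules, ClSub.IsInverseOf (CohB1.tensorPow L n) N →
      ∃ (m : ℕ) (π : (∐ fun _ : Fin m => N) ⟶ F), Epi π := by
  obtain ⟨n₀, h⟩ := exists_finite_genAtBy_twist hL F hF
  refine ⟨n₀, fun n hn N ⟨e⟩ => ?_⟩
  obtain ⟨ι, hι, T, hT⟩ := h n hn
  obtain ⟨m, ⟨eq⟩⟩ := Finite.exists_equiv_fin ι
  let T' : Fin m → (CohB1.tensorMod F (CohB1.tensorPow L n)).val.obj (op ⊤) := fun j => T (eq.symm j)
  have hT' : ∀ y : X, GenAtBy (CohB1.tensorMod F (CohB1.tensorPow L n)) T' y := fun y =>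
    GenAtBy.mono (τ := T) (τ' := T') (fun i => ⟨eq i, by simp [T']⟩) (hT y)
  have hepi := epi_desc_tensHom N (CohB1.tensorMod F (CohB1.tensorPow L n)) T' hT'
  exact ⟨m, Sigma.desc (tensHom N _ T') ≫ (cancelIso F _ N e).hom, epi_comp _ _⟩

end Groth.Agent.Lib.helper11.TensorEpi
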