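import Groth.Agent.Lib.Helper11.GenLocus

/-!
# Morphisms between invertible modules (helper11, LT1)

* `fn_comp`, `fn_id`, `fn_zero`, `sec_comp`, `sec_zero`, `app_eq_zero_iff_sec`.
* `IsZeroOn φ V` (`φ|_V = 0`), `IsZeroOn.mono`, `isZeroOn_top_iff`, `isZeroOn_iff_sec`,
  `isZeroOn_of_forall_exists` / `eq_zero_of_forall_exists_isZeroOn` (vanishing is local).
* `localEnd_app`, `localEnd_app_eq_zero_iff`, `isZeroOn_image_iff`, `localEnd_zero`, `isIso_localEnd_iff`,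
  `isIso_iff_isUnit_fn_top`.
* `isIso_of_isIso_comp`: if `φ ≫ ψ` is an isomorphism (all three modules invertible), so are `φ` and `ψ`.
* Integral schemes: `isZeroOn_of_isZeroOn_of_le`, `eq_zero_of_isZeroOn` (a morphism of invertible modules vanishing on a
  nonempty open is zero), `comp_ne_zero`.
-/

set_option autoImplicit false
universe u
open CategoryTheory CategoryTheory.Limits AlgebraicGeometry TopologicalSpace Opposite
open Scheme.Modules
open Groth.Agent.Lib.helper11.IsoLocus Groth.Agent.Lib.helper11.InvMod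
  Groth.Agent.Lib.helper11.GenLocus

namespace Groth.Agent.Lib.helper11.InvHom

variable {X Y : Scheme.{u}}

/-! ### Endomorphisms of the structure sheaf -/

theorem fn_comp (σ τ : Coh.structureModule X ⟶ Coh.structureModule X) (V : X.Opens) :
    fn (σ ≫ τ) V = fn σ V * fn τ V :=
  app_apply τ V (fn σ V)

theorem sec_comp {L L' : X.Modules} (s : Coh.structureModule X ⟶ L) (φ : L ⟶ L') (V : X.Opens) :
    sec (s ≫ φ) V = (φ.app V).hom (sec s V) := rfl

theorem fn_id (V : X.Opens) : fn (𝟙 (Coh.structureModule X)) V = 1 := rfl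

theorem fn_zero (V : X.Opens) : fn (0 : Coh.structureModule X ⟶ Coh.structureModule X) V = 0 := rfl

theorem sec_zero {L : X.Modules} (V : X.Opens) : sec (0 : Coh.structureModule X ⟶ L) V = 0 := rfl

theorem app_eq_zero_iff_sec {L : X.Modules} (s : Coh.structureModule X ⟶ L) (V : X.Opens) :
    s.app V = 0 ↔ sec s V = 0 := by
  constructor
  · intro h
    have : (s.app V).hom ((1 : Γ(X, V)) : Γ(Coh.structureModule X, V)) = 0 := by rw [h]; rfl
    exact this
  · intro h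
    ext a
    have := app_apply s V a
    rw [h, smul_zero] at this
    exact this

/-- `φ` vanishes on the open `V` (i.e. `φ|_V = 0`). -/
def IsZeroOn {M N : X.Modules} (φ : M ⟶ N) (V : X.Opens) : Prop :=
  ∀ W : X.Opens, W ≤ V → φ.app W = 0

theorem IsZeroOn.mono {M N : X.Modules} {φ : M ⟶ N} {V W : X.Opens} (h : IsZeroOn φ V)
    (hWV : W ≤ V) : IsZeroOn φ W := fun W' hW' => h W' (hW'.trans hWV)

theorem isZeroOn_top_iff {M N : X.Modules} (φ : M ⟶ N) : IsZeroOn φ ⊤ ↔ φ = 0 := by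
  constructor
  · intro h
    ext W : 1
    exact h W le_top
  · rintro rfl W _
    rfl

/-- A section of the structure sheaf `O → L` vanishes on `V` iff its value on `V` is zero. -/
theorem isZeroOn_iff_sec {L : X.Modules} (s : Coh.structureModule X ⟶ L) (V : X.Opens) :
    IsZeroOn s V ↔ sec s V = 0 := by
  constructor
  · intro h
    exact (app_eq_zero_iff_sec s V).mp (h V le_rfl)
  · intro h W hW
    rw [app_eq_zero_iff_sec, ← res_sec s (homOfLE hW), h, map_zero]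

/-- Vanishing is local. -/
theorem isZeroOn_of_forall_exists {M N : X.Modules} (φ : M ⟶ N) (V : X.Opens)
    (h : ∀ x ∈ V, ∃ U : X.Opens, x ∈ U ∧ IsZeroOn φ U) : IsZeroOn φ V := by
  intro W hW
  ext m
  change (φ.app W).hom m = 0
  refine TopCat.Presheaf.section_ext ⟨N.presheaf, N.isSheaf⟩ W _ _ (fun x hx => ?_)
  obtain ⟨U, hxU, hU⟩ := h x (hW hx)
  have h1 := hU (W ⊓ U) inf_le_right
  have nat : N.presheaf.map (homOfLE (inf_le_left : W ⊓ U ≤ W)).op ((φ.app W).hom m) =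
      (φ.app (W ⊓ U)).hom (M.presheaf.map (homOfLE (inf_le_left : W ⊓ U ≤ W)).op m) :=
    (congrFun (congrArg (fun f => (AddCommGrpCat.Hom.hom f : _ → _))
      (φ.mapPresheaf.naturality (homOfLE (inf_le_left : W ⊓ U ≤ W)).op)) m).symm
  have h2 := TopCat.Presheaf.germ_res_apply N.presheaf (homOfLE (inf_le_left : W ⊓ U ≤ W)) x
    ⟨hx, hxU⟩ ((φ.app W).hom m)
  rw [← h2, nat, h1]
  simp

theorem eq_zero_of_forall_exists_isZeroOn {M N : X.Modules} (φ : M ⟶ N)
    (h : ∀ x : X, ∃ U : X.Opens, x ∈ U ∧ IsZeroOn φ U) : φ = 0 :=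
  (isZeroOn_top_iff φ).mp (isZeroOn_of_forall_exists φ ⊤ fun x _ => h x)


/-! ### Local description -/

theorem localEnd_app {M N : X.Modules} (φ : M ⟶ N) {U : X.Opens}
    (eM : M.restrict U.ι ≅ Coh.structureModule (↑U : Scheme.{u}))
    (eN : N.restrict U.ι ≅ Coh.structureModule (↑U : Scheme.{u})) (V' : U.toScheme.Opens) :
    (localEnd φ eM eN).app V' =
      eM.inv.app V' ≫ ((restrictFunctor U.ι).map φ).app V' ≫ eN.hom.app V' := rfl

theorem localEnd_app_eq_zero_iff {M N : X.Modules} (φ : M ⟶ N) {U : X.Opens}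
    (eM : M.restrict U.ι ≅ Coh.structureModule (↑U : Scheme.{u}))
    (eN : N.restrict U.ι ≅ Coh.structureModule (↑U : Scheme.{u})) (V' : U.toScheme.Opens) :
    (localEnd φ eM eN).app V' = 0 ↔ φ.app (U.ι ''ᵁ V') = 0 := by
  rw [localEnd_app]
  change _ ↔ ((restrictFunctor U.ι).map φ).app V' = 0
  constructor
  · intro h
    have e1 : eM.hom.app V' ≫ eM.inv.app V' = 𝟙 _ := by
      rw [← Hom.comp_app, eM.hom_inv_id]; rfl
    have e2 : eN.hom.app V' ≫ eN.inv.app V' = 𝟙 _ := by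
      rw [← Hom.comp_app, eN.hom_inv_id]; rfl
    calc ((restrictFunctor U.ι).map φ).app V'
        = (eM.hom.app V' ≫ eM.inv.app V') ≫ ((restrictFunctor U.ι).map φ).app V' ≫
            (eN.hom.app V' ≫ eN.inv.app V') := by rw [e1, e2]; simp
      _ = eM.hom.app V' ≫ (eM.inv.app V' ≫ ((restrictFunctor U.ι).map φ).app V' ≫
            eN.hom.app V') ≫ eN.inv.app V' := by simp only [Category.assoc]
      _ = 0 := by rw [h]; simp
  · intro h
    rw [h]; simp

/-- `φ` vanishes on `U.ι(V')` iff the function describing `φ` on `V'` vanishes. -/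
theorem isZeroOn_image_iff {M N : X.Modules} (φ : M ⟶ N) {U : X.Opens}
    (eM : M.restrict U.ι ≅ Coh.structureModule (↑U : Scheme.{u}))
    (eN : N.restrict U.ι ≅ Coh.structureModule (↑U : Scheme.{u})) (V' : U.toScheme.Opens) :
    IsZeroOn φ (U.ι ''ᵁ V') ↔ fn (localEnd φ eM eN) V' = 0 := by
  refine Iff.trans ?_ (isZeroOn_iff_sec (localEnd φ eM eN) V')
  constructor
  · intro h W' hW'
    rw [localEnd_app_eq_zero_iff]
    exact h _ (U.ι.image_mono hW')
  · intro h W hW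
    have e : U.ι ''ᵁ (U.ι ⁻¹ᵁ W) = W := by
      rw [Scheme.Hom.image_preimage_eq_opensRange_inf, Scheme.Opens.opensRange_ι]
      refine inf_eq_right.mpr (hW.trans ?_)
      rintro _ ⟨y, -, rfl⟩
      exact y.2
    have h1 := (localEnd_app_eq_zero_iff φ eM eN (U.ι ⁻¹ᵁ W)).mp (h (U.ι ⁻¹ᵁ W) ?_)
    · rw [e] at h1; exact h1
    · intro y hy
      have : U.ι y ∈ U.ι ''ᵁ V' := hW hy
      obtain ⟨z, hz, hzy⟩ := this
      have : z = y := U.ι.isOpenEmbedding.injective hzy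
      exact this ▸ hz


theorem localEnd_zero {M N : X.Modules} {U : X.Opens}
    (eM : M.restrict U.ι ≅ Coh.structureModule (↑U : Scheme.{u}))
    (eN : N.restrict U.ι ≅ Coh.structureModule (↑U : Scheme.{u})) :
    localEnd (0 : M ⟶ N) eM eN = 0 := by
  simp [localEnd]

theorem isIso_localEnd_iff {M N : X.Modules} (φ : M ⟶ N) {U : X.Opens}
    (eM : M.restrict U.ι ≅ Coh.structureModule (↑U : Scheme.{u}))
    (eN : N.restrict U.ι ≅ Coh.structureModule (↑U : Scheme.{u})) :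
    IsIso (localEnd φ eM eN) ↔ IsIso ((restrictFunctor U.ι).map φ) := by
  unfold localEnd
  constructor
  · intro h
    have : (restrictFunctor U.ι).map φ =
        eM.hom ≫ (eM.inv ≫ (restrictFunctor U.ι).map φ ≫ eN.hom) ≫ eN.inv := by simp
    rw [this]
    infer_instance
  · intro h
    infer_instance

theorem isIso_iff_isUnit_fn_top (σ : Coh.structureModule X ⟶ Coh.structureModule X) :
    IsIso σ ↔ IsUnit (fn σ ⊤) := by
  rw [← isoLocus_eq_top_iff, ← top_le_iff, le_isoLocus_iff_isUnit]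

/-- If a composite of morphisms between invertible modules is an isomorphism, so are both
factors. -/
theorem isIso_of_isIso_comp {M N K : X.Modules} (hM : PicF.IsInvertible M)
    (hN : PicF.IsInvertible N) (hK : PicF.IsInvertible K) (φ : M ⟶ N) (ψ : N ⟶ K)
    [h : IsIso (φ ≫ ψ)] : IsIso φ ∧ IsIso ψ := by
  have key : ∀ x : X, ∃ U : X.Opens, x ∈ U ∧ IsIso ((restrictFunctor U.ι).map φ) ∧
      IsIso ((restrictFunctor U.ι).map ψ) := by
    intro x
    obtain ⟨U₁, hx₁, h₁⟩ := hM x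
    obtain ⟨U₂, hx₂, h₂⟩ := hN x
    obtain ⟨U₃, hx₃, h₃⟩ := hK x
    let U := U₁ ⊓ U₂ ⊓ U₃
    obtain ⟨eM⟩ : IsTrivOn M U := IsTrivOn.of_le (inf_le_left.trans inf_le_left) h₁
    obtain ⟨eN⟩ : IsTrivOn N U := IsTrivOn.of_le (inf_le_left.trans inf_le_right) h₂
    obtain ⟨eK⟩ : IsTrivOn K U := IsTrivOn.of_le inf_le_right h₃
    refine ⟨U, ⟨⟨hx₁, hx₂⟩, hx₃⟩, ?_⟩
    have h1 : IsIso (localEnd (φ ≫ ψ) eM eK) := (isIso_localEnd_iff _ eM eK).mpr inferInstance
    rw [localEnd_comp φ ψ eM eN eK, isIso_iff_isUnit_fn_top, fn_comp] at h1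
    rw [← isIso_localEnd_iff φ eM eN, ← isIso_localEnd_iff ψ eN eK, isIso_iff_isUnit_fn_top,
      isIso_iff_isUnit_fn_top]
    exact ⟨isUnit_of_mul_isUnit_left h1, isUnit_of_mul_isUnit_right h1⟩
  exact ⟨isIso_of_forall_restrict φ fun x => (key x).imp fun U hU => ⟨hU.1, hU.2.1⟩,
    isIso_of_forall_restrict ψ fun x => (key x).imp fun U hU => ⟨hU.1, hU.2.2⟩⟩

/-! ### Integral schemes -/

theorem isZeroOn_of_isZeroOn_of_le [IsIntegral X] {M N : X.Modules} (φ : M ⟶ N) {U : X.Opens}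
    (hM : IsTrivOn M U) (hN : IsTrivOn N U) {V : X.Opens} (hVU : V ≤ U)
    (hV : (V : Set X).Nonempty) (h : IsZeroOn φ V) : IsZeroOn φ U := by
  obtain ⟨eM⟩ := hM
  obtain ⟨eN⟩ := hN
  have hUne : Nonempty U := by
    obtain ⟨x, hx⟩ := hV
    exact ⟨⟨x, hVU hx⟩⟩
  have e : U.ι ''ᵁ (U.ι ⁻¹ᵁ V) = V := by
    rw [Scheme.Hom.image_preimage_eq_opensRange_inf, Scheme.Opens.opensRange_ι]
    exact inf_eq_right.mpr hVU
  rw [← e, isZeroOn_image_iff φ eM eN] at h
  have hV' : Nonempty (U.ι ⁻¹ᵁ V) := by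
    obtain ⟨x, hx⟩ := hV
    exact ⟨⟨⟨x, hVU hx⟩, hx⟩⟩
  have hUint : IsIntegral U.toScheme := isIntegral_of_isOpenImmersion U.ι
  have hinj := map_injective_of_isIntegral U.toScheme
    (homOfLE (le_top : U.ι ⁻¹ᵁ V ≤ ⊤))
  have h0 : fn (localEnd φ eM eN) ⊤ = 0 := by
    apply hinj
    rw [map_zero]
    exact (res_fn (localEnd φ eM eN) (homOfLE (le_top : U.ι ⁻¹ᵁ V ≤ ⊤))).trans h
  have := (isZeroOn_image_iff φ eM eN ⊤).mpr h0
  rwa [U.ι_image_top] at this

/-- On an integral scheme, a morphism of invertible modules vanishing on a nonempty open is zero. -/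
theorem eq_zero_of_isZeroOn [IsIntegral X] {M N : X.Modules} (hM : PicF.IsInvertible M)
    (hN : PicF.IsInvertible N) (φ : M ⟶ N) {V : X.Opens} (hV : (V : Set X).Nonempty)
    (h : IsZeroOn φ V) : φ = 0 := by
  refine eq_zero_of_forall_exists_isZeroOn φ fun x => ?_
  obtain ⟨U₁, hx₁, h₁⟩ := hM x
  obtain ⟨U₂, hx₂, h₂⟩ := hN x
  refine ⟨U₁ ⊓ U₂, ⟨hx₁, hx₂⟩, ?_⟩
  have hne : ((U₁ ⊓ U₂ ⊓ V : X.Opens) : Set X).Nonempty :=
    nonempty_preirreducible_inter (U₁ ⊓ U₂).isOpen V.isOpen ⟨x, hx₁, hx₂⟩ hV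
  exact isZeroOn_of_isZeroOn_of_le φ (IsTrivOn.of_le inf_le_left h₁)
    (IsTrivOn.of_le inf_le_right h₂) inf_le_left hne (h.mono inf_le_right)

/-- On an integral scheme, the composite of nonzero morphisms of invertible modules is nonzero. -/
theorem comp_ne_zero [IsIntegral X] {M N K : X.Modules} (hM : PicF.IsInvertible M)
    (hN : PicF.IsInvertible N) (hK : PicF.IsInvertible K) (φ : M ⟶ N) (ψ : N ⟶ K)
    (hφ : φ ≠ 0) (hψ : ψ ≠ 0) : φ ≫ ψ ≠ 0 := by
  intro h0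
  obtain ⟨x⟩ : Nonempty X := inferInstance
  obtain ⟨U₁, hx₁, h₁⟩ := hM x
  obtain ⟨U₂, hx₂, h₂⟩ := hN x
  obtain ⟨U₃, hx₃, h₃⟩ := hK x
  let U := U₁ ⊓ U₂ ⊓ U₃
  have hxU : x ∈ U := ⟨⟨hx₁, hx₂⟩, hx₃⟩
  have hUne : Nonempty U := ⟨⟨x, hxU⟩⟩
  obtain ⟨eM⟩ : IsTrivOn M U := IsTrivOn.of_le (inf_le_left.trans inf_le_left) h₁
  obtain ⟨eN⟩ : IsTrivOn N U := IsTrivOn.of_le (inf_le_left.trans inf_le_right) h₂
  obtain ⟨eK⟩ : IsTrivOn K U := IsTrivOn.of_le inf_le_right h₃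
  have h1 : fn (localEnd φ eM eN) ⊤ * fn (localEnd ψ eN eK) ⊤ = 0 := by
    rw [← fn_comp, ← localEnd_comp, h0, localEnd_zero]
    rfl
  have hU' : ((U.ι ''ᵁ ⊤ : X.Opens) : Set X).Nonempty := by
    rw [U.ι_image_top]; exact ⟨x, hxU⟩
  have hUint : IsIntegral U.toScheme := isIntegral_of_isOpenImmersion U.ι
  rcases mul_eq_zero.mp h1 with h2 | h2
  · exact hφ (eq_zero_of_isZeroOn hM hN φ hU' ((isZeroOn_image_iff φ eM eN ⊤).mpr h2))
  · exact hψ (eq_zero_of_isZeroOn hN hK ψ hU' ((isZeroOn_image_iff ψ eN eK ⊤).mpr h2))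

end Groth.Agent.Lib.helper11.InvHom
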