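import Groth.Agent.Lib.Helper11.InvHom

/-!
# Pullback of morphisms between invertible modules (helper11, LT1)

* `pullbackEnd f σ : O_Y ⟶ O_Y` (the pullback of an endomorphism of `O_X`, via `pullbackUnitIso`), `unitToPush f`,
  `pullbackEnd_comm`, `fn_pullbackEnd : fn (pullbackEnd f σ) (f⁻¹ V) = f^♯ (fn σ V)`, `isoLocus_pullbackEnd`,
  `isoLocus_pullback_map_end`.
* `isoLocus_eq_of_arrow_iso`, `pullbackRestrictNatIso` (natural version of `InvMod.pullbackRestrictIso`).
* `isoLocus_pullback_map`: for `φ` between invertible modules, `isoLocus (f^* φ) = f⁻¹ (isoLocus φ)`.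
* `genLocus_pullback`: `Z_{u^* s} = u⁻¹ (S_s)` (statement S4413).
-/

set_option autoImplicit false
universe u
open CategoryTheory CategoryTheory.Limits AlgebraicGeometry TopologicalSpace Opposite
open Scheme.Modules
open Groth.Agent.Lib.helper11.IsoLocus Groth.Agent.Lib.helper11.InvMod
  Groth.Agent.Lib.helper11.GenLocus Groth.Agent.Lib.helper11.InvHom

namespace Groth.Agent.Lib.helper11.InvPullback

variable {X Y : Scheme.{u}}

/-- The endomorphism of `O_Y` induced by pulling back an endomorphism of `O_X`. -/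
noncomputable def pullbackEnd (f : Y ⟶ X) (σ : Coh.structureModule X ⟶ Coh.structureModule X) :
    Coh.structureModule Y ⟶ Coh.structureModule Y :=
  (pullbackUnitIso f).inv ≫ (Scheme.Modules.pullback f).map σ ≫ (pullbackUnitIso f).hom

/-- `O_X ⟶ f_* O_Y`. -/
noncomputable def unitToPush (f : Y ⟶ X) :
    Coh.structureModule X ⟶ (Scheme.Modules.pushforward f).obj (Coh.structureModule Y) :=
  SheafOfModules.unitToPushforwardObjUnit f.toRingCatSheafHom

theorem pullbackUnitHom_eq (f : Y ⟶ X) :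
    pullbackUnitHom f =
      ((Scheme.Modules.pullbackPushforwardAdjunction f).homEquiv _ _).symm (unitToPush f) := rfl

theorem pullbackEnd_comm (f : Y ⟶ X) (σ : Coh.structureModule X ⟶ Coh.structureModule X) :
    σ ≫ unitToPush f = unitToPush f ≫ (Scheme.Modules.pushforward f).map (pullbackEnd f σ) := by
  let adj := Scheme.Modules.pullbackPushforwardAdjunction f
  have h1 : (Scheme.Modules.pullback f).map σ ≫ pullbackUnitHom f =
      (adj.homEquiv _ _).symm (σ ≫ unitToPush f) :=
    (adj.homEquiv_naturality_left_symm σ (unitToPush f)).symm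
  have h2 : pullbackUnitHom f ≫ pullbackEnd f σ =
      (adj.homEquiv _ _).symm (unitToPush f ≫ (Scheme.Modules.pushforward f).map (pullbackEnd f σ)) :=
    (adj.homEquiv_naturality_right_symm (unitToPush f) (pullbackEnd f σ)).symm
  have h3 : (Scheme.Modules.pullback f).map σ ≫ pullbackUnitHom f =
      pullbackUnitHom f ≫ pullbackEnd f σ := by
    change _ = (pullbackUnitIso f).hom ≫ _
    simp [pullbackEnd, pullbackUnitIso]
  exact (adj.homEquiv _ _).symm.injective (h1.symm.trans (h3.trans h2))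


theorem unitToPush_app_apply (f : Y ⟶ X) (V : X.Opens) (a : Γ(X, V)) :
    ((unitToPush f).app V).hom (a : Γ(Coh.structureModule X, V)) = f.app V a := rfl

/-- The function named by the pulled-back endomorphism is the pullback of the function. -/
theorem fn_pullbackEnd (f : Y ⟶ X) (σ : Coh.structureModule X ⟶ Coh.structureModule X)
    (V : X.Opens) : fn (pullbackEnd f σ) (f ⁻¹ᵁ V) = f.app V (fn σ V) := by
  have h := congrArg (fun φ : Coh.structureModule X ⟶
      (Scheme.Modules.pushforward f).obj (Coh.structureModule Y) =>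
      (Hom.app φ V).hom ((1 : Γ(X, V)) : Γ(Coh.structureModule X, V)))
    (pullbackEnd_comm f σ)
  have h1 : (Hom.app (σ ≫ unitToPush f) V).hom ((1 : Γ(X, V)) : Γ(Coh.structureModule X, V)) =
      f.app V (fn σ V) := rfl
  have h2 : (Hom.app (unitToPush f ≫ (Scheme.Modules.pushforward f).map (pullbackEnd f σ)) V).hom
      ((1 : Γ(X, V)) : Γ(Coh.structureModule X, V)) =
      ((pullbackEnd f σ).app (f ⁻¹ᵁ V)).hom (f.app V (1 : Γ(X, V))) := rfl
  rw [map_one] at h2
  exact (h2.symm.trans (h.symm.trans h1))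

theorem isoLocus_pullbackEnd (f : Y ⟶ X) (σ : Coh.structureModule X ⟶ Coh.structureModule X) :
    isoLocus (pullbackEnd f σ) = f ⁻¹ᵁ isoLocus σ := by
  rw [isoLocus_eq_basicOpen, isoLocus_eq_basicOpen, Scheme.preimage_basicOpen]
  exact congrArg _ (fn_pullbackEnd f σ ⊤)

theorem isoLocus_pullback_map_end (f : Y ⟶ X)
    (σ : Coh.structureModule X ⟶ Coh.structureModule X) :
    isoLocus ((Scheme.Modules.pullback f).map σ) = f ⁻¹ᵁ isoLocus σ := by
  rw [← isoLocus_pullbackEnd, pullbackEnd, isoLocus_comp_of_isIso_left,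
    isoLocus_comp_of_isIso_right]


theorem isoLocus_eq_of_arrow_iso {M N M' N' : X.Modules} {φ : M ⟶ N} {ψ : M' ⟶ N'}
    (a : M ≅ M') (b : N ≅ N') (h : φ ≫ b.hom = a.hom ≫ ψ) : isoLocus φ = isoLocus ψ := by
  rw [← isoLocus_comp_of_isIso_right φ b.hom, h, isoLocus_comp_of_isIso_left]

/-- Pullback followed by restriction to `f⁻¹ U` is restriction to `U` followed by pullback along
`f ∣_ U`, naturally. -/
noncomputable def pullbackRestrictNatIso (f : Y ⟶ X) (U : X.Opens) :
    Scheme.Modules.pullback f ⋙ restrictFunctor (f ⁻¹ᵁ U).ι ≅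
      restrictFunctor U.ι ⋙ Scheme.Modules.pullback (f ∣_ U) :=
  Functor.isoWhiskerLeft (Scheme.Modules.pullback f) (restrictFunctorIsoPullback (f ⁻¹ᵁ U).ι) ≪≫
    pullbackComp (f ⁻¹ᵁ U).ι f ≪≫
    pullbackCongr (morphismRestrict_ι f U).symm ≪≫
    (pullbackComp (f ∣_ U) U.ι).symm ≪≫
    Functor.isoWhiskerRight (restrictFunctorIsoPullback U.ι).symm (Scheme.Modules.pullback (f ∣_ U))

/-- For a morphism between invertible modules, the iso-locus of the pullback is the preimage of
the iso-locus. -/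
theorem isoLocus_pullback_map (f : Y ⟶ X) {M N : X.Modules} (hM : PicF.IsInvertible M)
    (hN : PicF.IsInvertible N) (φ : M ⟶ N) :
    isoLocus ((Scheme.Modules.pullback f).map φ) = f ⁻¹ᵁ isoLocus φ := by
  ext z
  obtain ⟨U₁, hz₁, h₁⟩ := hM (f z)
  obtain ⟨U₂, hz₂, h₂⟩ := hN (f z)
  let U := U₁ ⊓ U₂
  obtain ⟨eM⟩ : IsTrivOn M U := IsTrivOn.of_le inf_le_left h₁
  obtain ⟨eN⟩ : IsTrivOn N U := IsTrivOn.of_le inf_le_right h₂
  have hzW : z ∈ f ⁻¹ᵁ U := ⟨hz₁, hz₂⟩
  let g := f ∣_ U
  let σ := localEnd φ eM eN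
  -- compare the preimages in `W = f⁻¹ U`
  have key : (f ⁻¹ᵁ U).ι ⁻¹ᵁ isoLocus ((Scheme.Modules.pullback f).map φ) =
      (f ⁻¹ᵁ U).ι ⁻¹ᵁ (f ⁻¹ᵁ isoLocus φ) := by
    rw [← isoLocus_restrictFunctor]
    have e1 : isoLocus ((restrictFunctor (f ⁻¹ᵁ U).ι).map ((Scheme.Modules.pullback f).map φ)) =
        isoLocus ((Scheme.Modules.pullback g).map ((restrictFunctor U.ι).map φ)) :=
      isoLocus_eq_of_arrow_iso ((pullbackRestrictNatIso f U).app M)
        ((pullbackRestrictNatIso f U).app N) ((pullbackRestrictNatIso f U).hom.naturality φ)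
    have e2 : isoLocus ((Scheme.Modules.pullback g).map ((restrictFunctor U.ι).map φ)) =
        isoLocus ((Scheme.Modules.pullback g).map σ) := by
      refine isoLocus_eq_of_arrow_iso ((Scheme.Modules.pullback g).mapIso eM)
        ((Scheme.Modules.pullback g).mapIso eN) ?_
      simp only [Functor.mapIso_hom, ← Functor.map_comp]
      congr 1
      simp [σ, localEnd]
    rw [e1, e2, isoLocus_pullback_map_end, isoLocus_localEnd, ← Scheme.Hom.comp_preimage,
      ← Scheme.Hom.comp_preimage, morphismRestrict_ι]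
  have := congrArg (fun O : (f ⁻¹ᵁ U).toScheme.Opens => (⟨z, hzW⟩ : (f ⁻¹ᵁ U).toScheme) ∈ O) key
  exact iff_of_eq this

/-- `X_{u^* s} = u⁻¹(X_s)` for a section of an invertible module (the section of `u^*L` being
`e.hom ≫ u^*(s)` for any identification `e : O_Z ≅ u^* O_S`). -/
theorem genLocus_pullback {Z S : Scheme.{u}} (w : Z ⟶ S) (L : S.Modules)
    (hL : PicF.IsInvertible L) (s : Coh.structureModule S ⟶ L)
    (e : Coh.structureModule Z ≅ (Scheme.Modules.pullback w).obj (Coh.structureModule S)) :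
    CohB1.genLocus ((Scheme.Modules.pullback w).obj L)
      (e.hom ≫ (Scheme.Modules.pullback w).map s) = w ⁻¹ᵁ CohB1.genLocus L s := by
  change isoLocus _ = w ⁻¹ᵁ isoLocus s
  rw [isoLocus_comp_of_isIso_left,
    isoLocus_pullback_map w (isInvertible_structureModule S) hL s]

end Groth.Agent.Lib.helper11.InvPullback
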