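import Groth.Prelude.Def_CohB1

/-!
# Isomorphisms of `O_X`-modules are local; the iso-locus of a morphism; `CohB1.genLocus` API (helper11, LT1)

Light-weight (only Mathlib + `Def_CohB1`).

* `stalkMap φ x`: the map on stalks (in `Ab`) of a morphism of `O_X`-modules.
* `isIso_restrict_iff_stalk`: `φ|_U` is an isomorphism iff all stalk maps at points of `U` are.
* `isIso_iff_stalk`, `isIso_of_forall_restrict`: isomorphisms are local.
* `isoLocus φ`: the largest open on which `φ` is an isomorphism, with `le_isoLocus_iff`, `mem_isoLocus_iff`,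
  `isIso_restrict_isoLocus`, behaviour under composition with isomorphisms and restriction to opens.
* `genLocus_eq_isoLocus`: `CohB1.genLocus L s = isoLocus s` (definitional), and the resulting API
  `le_genLocus_iff`, `mem_genLocus_iff`, …
-/

set_option autoImplicit false
universe u
open CategoryTheory CategoryTheory.Limits AlgebraicGeometry TopologicalSpace Opposite
open Scheme.Modules

namespace Groth.Agent.Lib.helper11.IsoLocus

variable {X Y : Scheme.{u}}

/-- Sections of a restricted morphism: `(φ|_X)(V) = φ(f(V))`. -/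
theorem restrictFunctor_map_app (f : X ⟶ Y) [IsOpenImmersion f] {M N : Y.Modules} (φ : M ⟶ N)
    (V : X.Opens) : ((restrictFunctor f).map φ).app V = φ.app (f ''ᵁ V) := rfl

/-- The map on stalks at `x` (in `Ab`) induced by a morphism of `O_X`-modules. -/
noncomputable abbrev stalkMap {M N : X.Modules} (φ : M ⟶ N) (x : X) :
    (toPresheaf X ⋙ TopCat.Presheaf.stalkFunctor Ab.{u} x).obj M ⟶
      (toPresheaf X ⋙ TopCat.Presheaf.stalkFunctor Ab.{u} x).obj N :=
  (toPresheaf X ⋙ TopCat.Presheaf.stalkFunctor Ab.{u} x).map φ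

theorem stalkMap_comp {M N K : X.Modules} (φ : M ⟶ N) (ψ : N ⟶ K) (x : X) :
    stalkMap (φ ≫ ψ) x = stalkMap φ x ≫ stalkMap ψ x :=
  Functor.map_comp _ _ _

instance {M N : X.Modules} (φ : M ⟶ N) [IsIso φ] (x : X) : IsIso (stalkMap φ x) :=
  inferInstanceAs (IsIso ((toPresheaf X ⋙ TopCat.Presheaf.stalkFunctor Ab.{u} x).map φ))

/-- Stalk maps of a restriction along an open immersion. -/
theorem isIso_stalkMap_restrict_iff (f : X ⟶ Y) [IsOpenImmersion f] {M N : Y.Modules} (φ : M ⟶ N)
    (x : X) : IsIso (stalkMap ((restrictFunctor f).map φ) x) ↔ IsIso (stalkMap φ (f x)) :=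
  NatIso.isIso_map_iff (restrictStalkNatIso f x) φ

/-- All sections of `φ` over opens inside `U` are isomorphisms iff `φ|_U` is an isomorphism. -/
theorem isIso_restrict_iff_app {M N : X.Modules} (φ : M ⟶ N) (U : X.Opens) :
    IsIso ((restrictFunctor U.ι).map φ) ↔ ∀ V : X.Opens, V ≤ U → IsIso (φ.app V) := by
  rw [Hom.isIso_iff_isIso_app]
  constructor
  · intro h V hV
    have e : U.ι ''ᵁ (U.ι ⁻¹ᵁ V) = V := by
      rw [Scheme.Hom.image_preimage_eq_opensRange_inf, Scheme.Opens.opensRange_ι]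
      exact inf_eq_right.mpr hV
    have := h (U.ι ⁻¹ᵁ V)
    have h2 : IsIso (φ.app (U.ι ''ᵁ (U.ι ⁻¹ᵁ V))) := this
    rwa [e] at h2
  · intro h W
    change IsIso (φ.app (U.ι ''ᵁ W))
    apply h
    intro x hx
    obtain ⟨y, -, rfl⟩ := hx
    exact y.2

/-- `φ|_U` is an isomorphism iff the stalk maps of `φ` at all points of `U` are. -/
theorem isIso_restrict_iff_stalk {M N : X.Modules} (φ : M ⟶ N) (U : X.Opens) :
    IsIso ((restrictFunctor U.ι).map φ) ↔ ∀ x ∈ U, IsIso (stalkMap φ x) := by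
  constructor
  · intro h x hx
    have := (isIso_stalkMap_restrict_iff U.ι φ ⟨x, hx⟩).mp inferInstance
    exact this
  · intro h
    rw [isIso_restrict_iff_app]
    intro V hV
    let F : TopCat.Sheaf Ab.{u} X := ⟨M.presheaf, M.isSheaf⟩
    let G : TopCat.Sheaf Ab.{u} X := ⟨N.presheaf, N.isSheaf⟩
    let f : F ⟶ G := ⟨φ.mapPresheaf⟩
    have : ∀ x : V, IsIso ((TopCat.Presheaf.stalkFunctor Ab.{u} x.1).map f.hom) :=
      fun x => h x.1 (hV x.2)
    exact TopCat.Presheaf.app_isIso_of_stalkFunctor_map_iso f V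

/-- A morphism of `O_X`-modules is an isomorphism iff all its stalk maps are. -/
theorem isIso_iff_stalk {M N : X.Modules} (φ : M ⟶ N) :
    IsIso φ ↔ ∀ x : X, IsIso (stalkMap φ x) := by
  constructor
  · intro h _; infer_instance
  · intro h
    rw [Hom.isIso_iff_isIso_app]
    intro V
    exact (isIso_restrict_iff_app φ ⊤).mp ((isIso_restrict_iff_stalk φ ⊤).mpr fun x _ => h x) V le_top

/-- Being an isomorphism is local: if every point has an open neighbourhood `U` with `φ|_U` an
isomorphism, then `φ` is an isomorphism. -/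
theorem isIso_of_forall_restrict {M N : X.Modules} (φ : M ⟶ N)
    (h : ∀ x : X, ∃ U : X.Opens, x ∈ U ∧ IsIso ((restrictFunctor U.ι).map φ)) : IsIso φ := by
  rw [isIso_iff_stalk]
  intro x
  obtain ⟨U, hxU, hU⟩ := h x
  exact (isIso_restrict_iff_stalk φ U).mp hU x hxU

theorem isIso_iff_forall_restrict {M N : X.Modules} (φ : M ⟶ N) :
    IsIso φ ↔ ∀ x : X, ∃ U : X.Opens, x ∈ U ∧ IsIso ((restrictFunctor U.ι).map φ) :=
  ⟨fun _ x => ⟨⊤, trivial, inferInstance⟩, isIso_of_forall_restrict φ⟩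

/-- Restricting to a smaller open preserves "being an isomorphism". -/
theorem isIso_restrict_of_le {M N : X.Modules} (φ : M ⟶ N) {U V : X.Opens} (hVU : V ≤ U)
    (h : IsIso ((restrictFunctor U.ι).map φ)) : IsIso ((restrictFunctor V.ι).map φ) := by
  rw [isIso_restrict_iff_stalk] at h ⊢
  exact fun x hx => h x (hVU hx)

/-- An open cover of `U` by opens on which `φ` is an isomorphism. -/
theorem isIso_restrict_iSup {M N : X.Modules} (φ : M ⟶ N) {ι : Sort*} (U : ι → X.Opens)
    (h : ∀ i, IsIso ((restrictFunctor (U i).ι).map φ)) :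
    IsIso ((restrictFunctor (⨆ i, U i).ι).map φ) := by
  rw [isIso_restrict_iff_stalk]
  intro x hx
  obtain ⟨i, hi⟩ := Opens.mem_iSup.mp hx
  exact (isIso_restrict_iff_stalk φ (U i)).mp (h i) x hi

/-- Restriction along an arbitrary open immersion: `φ|_X` is an isomorphism iff `φ|_{f(X)}` is. -/
theorem isIso_restrictFunctor_iff_opensRange (f : X ⟶ Y) [IsOpenImmersion f] {M N : Y.Modules}
    (φ : M ⟶ N) :
    IsIso ((restrictFunctor f).map φ) ↔ IsIso ((restrictFunctor f.opensRange.ι).map φ) := by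
  rw [isIso_restrict_iff_stalk, isIso_iff_stalk]
  constructor
  · rintro h _ ⟨x, rfl⟩
    exact (isIso_stalkMap_restrict_iff f φ x).mp (h x)
  · intro h x
    exact (isIso_stalkMap_restrict_iff f φ x).mpr (h _ ⟨x, rfl⟩)

/-! ### The iso-locus -/

/-- The largest open of `X` over which `φ` is an isomorphism. -/
noncomputable def isoLocus {M N : X.Modules} (φ : M ⟶ N) : X.Opens :=
  sSup {U : X.Opens | IsIso ((restrictFunctor U.ι).map φ)}

theorem isIso_restrict_isoLocus {M N : X.Modules} (φ : M ⟶ N) :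
    IsIso ((restrictFunctor (isoLocus φ).ι).map φ) := by
  rw [isoLocus, sSup_eq_iSup']
  exact isIso_restrict_iSup φ _ fun i => i.2

theorem le_isoLocus_iff {M N : X.Modules} (φ : M ⟶ N) (U : X.Opens) :
    U ≤ isoLocus φ ↔ IsIso ((restrictFunctor U.ι).map φ) :=
  ⟨fun h => isIso_restrict_of_le φ h (isIso_restrict_isoLocus φ), fun h => le_sSup h⟩

theorem mem_isoLocus_iff {M N : X.Modules} (φ : M ⟶ N) (x : X) :
    x ∈ isoLocus φ ↔ ∃ U : X.Opens, x ∈ U ∧ IsIso ((restrictFunctor U.ι).map φ) :=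
  ⟨fun h => ⟨isoLocus φ, h, isIso_restrict_isoLocus φ⟩,
    fun ⟨U, hxU, hU⟩ => (le_isoLocus_iff φ U).mpr hU hxU⟩

theorem isIso_stalkMap_of_mem_isoLocus {M N : X.Modules} (φ : M ⟶ N) {x : X}
    (hx : x ∈ isoLocus φ) : IsIso (stalkMap φ x) :=
  (isIso_restrict_iff_stalk φ _).mp (isIso_restrict_isoLocus φ) x hx

theorem isoLocus_eq_top_iff {M N : X.Modules} (φ : M ⟶ N) : isoLocus φ = ⊤ ↔ IsIso φ := by
  rw [← top_le_iff, le_isoLocus_iff, isIso_restrict_iff_stalk, isIso_iff_stalk]
  exact ⟨fun h x => h x trivial, fun h x _ => h x⟩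

theorem isIso_app_of_le_isoLocus {M N : X.Modules} (φ : M ⟶ N) {V : X.Opens}
    (hV : V ≤ isoLocus φ) : IsIso (φ.app V) :=
  (isIso_restrict_iff_app φ _).mp (isIso_restrict_isoLocus φ) V hV

theorem isoLocus_comp_of_isIso_right {M N K : X.Modules} (φ : M ⟶ N) (ψ : N ⟶ K) [IsIso ψ] :
    isoLocus (φ ≫ ψ) = isoLocus φ := by
  refine le_antisymm ?_ ?_
  · rw [le_isoLocus_iff]
    have := isIso_restrict_isoLocus (φ ≫ ψ)
    rw [Functor.map_comp] at this
    exact IsIso.of_isIso_comp_right _ ((restrictFunctor _).map ψ)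
  · rw [le_isoLocus_iff, Functor.map_comp]
    have := isIso_restrict_isoLocus φ
    infer_instance

theorem isoLocus_comp_of_isIso_left {M N K : X.Modules} (φ : M ⟶ N) (ψ : N ⟶ K) [IsIso φ] :
    isoLocus (φ ≫ ψ) = isoLocus ψ := by
  refine le_antisymm ?_ ?_
  · rw [le_isoLocus_iff]
    have := isIso_restrict_isoLocus (φ ≫ ψ)
    rw [Functor.map_comp] at this
    exact IsIso.of_isIso_comp_left ((restrictFunctor _).map φ) _
  · rw [le_isoLocus_iff, Functor.map_comp]
    have := isIso_restrict_isoLocus ψ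
    infer_instance

/-- The iso-locus of a restriction along an open immersion is the preimage of the iso-locus. -/
theorem isoLocus_restrictFunctor (f : X ⟶ Y) [IsOpenImmersion f] {M N : Y.Modules} (φ : M ⟶ N) :
    isoLocus ((restrictFunctor f).map φ) = f ⁻¹ᵁ isoLocus φ := by
  refine le_antisymm ?_ ?_
  · intro x hx
    obtain ⟨V, hxV, hV⟩ := (mem_isoLocus_iff _ x).mp hx
    -- `φ` is an iso on the open `f(V)`
    refine (le_isoLocus_iff φ (f ''ᵁ V)).mpr ?_ ⟨x, hxV, rfl⟩
    rw [isIso_restrict_iff_stalk] at hV ⊢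
    rintro _ ⟨y, hyV, rfl⟩
    exact (isIso_stalkMap_restrict_iff f φ y).mp (hV y hyV)
  · rw [le_isoLocus_iff, isIso_restrict_iff_stalk]
    intro x hx
    rw [isIso_stalkMap_restrict_iff]
    exact isIso_stalkMap_of_mem_isoLocus φ hx

/-! ### `CohB1.genLocus` -/

theorem genLocus_eq_isoLocus (L : X.Modules) (s : Coh.structureModule X ⟶ L) :
    CohB1.genLocus L s = isoLocus s := rfl

theorem isIso_restrict_genLocus (L : X.Modules) (s : Coh.structureModule X ⟶ L) :
    IsIso ((restrictFunctor (CohB1.genLocus L s).ι).map s) :=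
  isIso_restrict_isoLocus s

theorem le_genLocus_iff (L : X.Modules) (s : Coh.structureModule X ⟶ L) (U : X.Opens) :
    U ≤ CohB1.genLocus L s ↔ IsIso ((restrictFunctor U.ι).map s) :=
  le_isoLocus_iff s U

theorem mem_genLocus_iff (L : X.Modules) (s : Coh.structureModule X ⟶ L) (x : X) :
    x ∈ CohB1.genLocus L s ↔ ∃ U : X.Opens, x ∈ U ∧ IsIso ((restrictFunctor U.ι).map s) :=
  mem_isoLocus_iff s x

theorem genLocus_eq_top_iff (L : X.Modules) (s : Coh.structureModule X ⟶ L) :
    CohB1.genLocus L s = ⊤ ↔ IsIso s :=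
  isoLocus_eq_top_iff s

/-- `X_s` does not change when `L` is replaced by an isomorphic module. -/
theorem genLocus_comp_iso {L L' : X.Modules} (s : Coh.structureModule X ⟶ L) (e : L ≅ L') :
    CohB1.genLocus L' (s ≫ e.hom) = CohB1.genLocus L s :=
  isoLocus_comp_of_isIso_right s e.hom

theorem genLocus_comp_of_isIso {L L' : X.Modules} (s : Coh.structureModule X ⟶ L) (e : L ⟶ L')
    [IsIso e] : CohB1.genLocus L' (s ≫ e) = CohB1.genLocus L s :=
  isoLocus_comp_of_isIso_right s e

/-- `X_s` for the restriction of `s` to an open subscheme (along any open immersion `f`):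
the section of `L|_X` is `restrictUnitIso⁻¹ ≫ s|_X`. -/
theorem genLocus_restrict (f : X ⟶ Y) [IsOpenImmersion f] (L : Y.Modules)
    (s : Coh.structureModule Y ⟶ L) :
    CohB1.genLocus (L.restrict f) ((restrictUnitIso f).inv ≫ (restrictFunctor f).map s) =
      f ⁻¹ᵁ CohB1.genLocus L s := by
  change isoLocus _ = f ⁻¹ᵁ isoLocus s
  rw [isoLocus_comp_of_isIso_left, isoLocus_restrictFunctor]

end Groth.Agent.Lib.helper11.IsoLocus
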