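import Mathlib

/-!
# Finitely generated / finitely presented objects relative to a class `Fr` of "finite free" objects
in an abelian category (helper11)

`Fr : A → Prop` is a class of objects closed under isomorphism and binary biproducts with the
lifting property `Ax.lift`: a map from an `Fr`-object `P` into the target of an epimorphism lifts after
precomposing with an epimorphism `P' ⟶ P` from an `Fr`-object whose kernel is a quotient of an `Fr`-object.

* `FG Fr K`: `K` is a quotient of an `Fr`-object.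
* `FP Fr F`: `F` is a quotient of an `Fr`-object with `FG` kernel.
* `FG.ext`, `FG.kernel_comp`, `FP.coker_map`, `FP.ext`, `FP.ker_map`.
-/

set_option autoImplicit false
universe v w
open CategoryTheory CategoryTheory.Limits

namespace Groth.Agent.Lib.helper11.AbsFP

variable {A : Type w} [Category.{v} A] [Abelian A] (Fr : A → Prop)

/-- quotients of objects in `Fr` -/
def FG (K : A) : Prop := ∃ (P : A) (π : P ⟶ K), Fr P ∧ Epi π

/-- quotients of objects in `Fr` with `FG` kernel -/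
def FP (F : A) : Prop := ∃ (P : A) (π : P ⟶ F), Fr P ∧ Epi π ∧ FG Fr (kernel π)

/-- the axioms on the class `Fr` -/
structure Ax : Prop where
  iso : ∀ {P Q : A}, (P ≅ Q) → Fr P → Fr Q
  biprod : ∀ {P Q : A}, Fr P → Fr Q → Fr (P ⊞ Q)
  lift : ∀ {P G' G'' : A}, Fr P → ∀ (e : G' ⟶ G'') [Epi e] (s : P ⟶ G''),
    ∃ (P' : A) (r : P' ⟶ P) (s' : P' ⟶ G'), Fr P' ∧ Epi r ∧ FG Fr (kernel r) ∧ s' ≫ e = r ≫ s

variable {Fr}

lemma FG.of_epi {K K' : A} (h : FG Fr K) (p : K ⟶ K') [Epi p] : FG Fr K' := by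
  obtain ⟨P, π, hP, hπ⟩ := h
  exact ⟨P, π ≫ p, hP, epi_comp _ _⟩

lemma FG.of_iso {K K' : A} (h : FG Fr K) (e : K ≅ K') : FG Fr K' := h.of_epi e.hom

lemma FG.of_fr {P : A} (h : Fr P) : FG Fr P := ⟨P, 𝟙 P, h, inferInstance⟩

lemma FG.biprod (ax : Ax Fr) {K₁ K₂ : A} (h₁ : FG Fr K₁) (h₂ : FG Fr K₂) : FG Fr (K₁ ⊞ K₂) := by
  obtain ⟨P₁, π₁, hP₁, _⟩ := h₁
  obtain ⟨P₂, π₂, hP₂, _⟩ := h₂
  exact ⟨P₁ ⊞ P₂, biprod.map π₁ π₂, ax.biprod hP₁ hP₂, inferInstance⟩

lemma FP.fg {F : A} (h : FP Fr F) : FG Fr F := by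
  obtain ⟨P, π, hP, hπ, -⟩ := h
  exact ⟨P, π, hP, hπ⟩

/-- the cokernel of the kernel of an epimorphism -/
noncomputable def cokerKerIso {X Y : A} (f : X ⟶ Y) [Epi f] : cokernel (kernel.ι f) ≅ Y :=
  (colimit.isColimit (parallelPair (kernel.ι f) 0)).coconePointUniqueUpToIso
    (Abelian.epiIsCokernelOfKernel (limit.cone (parallelPair f 0)) (limit.isLimit _))

lemma FP.of_iso {F F' : A} (h : FP Fr F) (e : F ≅ F') : FP Fr F' := by
  obtain ⟨P, π, hP, _, hK⟩ := h
  refine ⟨P, π ≫ e.hom, hP, epi_comp _ _, hK.of_iso (kernelCompMono π e.hom).symm⟩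

/-- cokernels of maps between `Fr`-objects are finitely presented -/
theorem FP.of_cokernel {P Q : A} (ψ : P ⟶ Q) (hP : Fr P) (hQ : Fr Q) : FP Fr (cokernel ψ) :=
  ⟨Q, cokernel.π ψ, hQ, inferInstance, ⟨P, Abelian.factorThruImage ψ, hP, inferInstance⟩⟩

/-- finitely presented objects are cokernels of maps between `Fr`-objects -/
theorem FP.exists_presentation {F : A} (h : FP Fr F) :
    ∃ (P Q : A) (ψ : P ⟶ Q), Fr P ∧ Fr Q ∧ Nonempty (F ≅ cokernel ψ) := by
  obtain ⟨Q, π, hQ, _, P, q, hP, _⟩ := h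
  exact ⟨P, Q, q ≫ kernel.ι π, hP, hQ, ⟨(cokerKerIso π).symm ≪≫ (cokernelEpiComp q (kernel.ι π)).symm⟩⟩

/-- a criterion for `biprod.desc (p₁ ≫ S.f) s'` to be an epimorphism -/
lemma epi_desc_of_exact (S : ShortComplex A) (hS : S.Exact) [Epi S.g] {Q₁ Q₃ : A} (p₁ : Q₁ ⟶ S.X₁)
    [Epi p₁] (s' : Q₃ ⟶ S.X₂) (hs' : Epi (s' ≫ S.g)) : Epi (biprod.desc (p₁ ≫ S.f) s') := by
  apply Preadditive.epi_of_cancel_zero
  intro Z h hh
  have h1 : S.f ≫ h = 0 := by
    rw [← cancel_epi p₁, comp_zero]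
    have := biprod.inl ≫= hh
    simpa using this
  have h2 : s' ≫ h = 0 := by
    have := biprod.inr ≫= hh
    simpa using this
  have h4 : h = S.g ≫ hS.desc h h1 := (hS.g_desc h h1).symm
  rw [h4] at h2 ⊢
  rw [← Category.assoc] at h2
  have h3 : hS.desc h h1 = 0 := by
    rw [← cancel_epi (s' ≫ S.g), h2, comp_zero]
  rw [h3, comp_zero]

/-- extensions of finitely generated objects are finitely generated -/
theorem FG.ext (ax : Ax Fr) (S : ShortComplex A) (hS : S.Exact) [Epi S.g] (h₁ : FG Fr S.X₁)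
    (h₃ : FG Fr S.X₃) : FG Fr S.X₂ := by
  obtain ⟨Q₁, p₁, hQ₁, _⟩ := h₁
  obtain ⟨Q₃, p₃, hQ₃, _⟩ := h₃
  obtain ⟨Q₃', r, s', hQ₃', _, -, hs'⟩ := ax.lift hQ₃ S.g p₃
  refine ⟨Q₁ ⊞ Q₃', biprod.desc (p₁ ≫ S.f) s', ax.biprod hQ₁ hQ₃', ?_⟩
  exact epi_desc_of_exact S hS p₁ s' (hs' ▸ epi_comp r p₃)

/-- the kernel of a composition `e₁ ≫ e₂` with `e₁` epi is finitely generated if both kernels are -/
theorem FG.kernel_comp (ax : Ax Fr) {X Y Z : A} (e₁ : X ⟶ Y) [Epi e₁] (e₂ : Y ⟶ Z)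
    (h₁ : FG Fr (kernel e₁)) (h₂ : FG Fr (kernel e₂)) : FG Fr (kernel (e₁ ≫ e₂)) := by
  let S : ShortComplex A := ShortComplex.mk
    (kernel.lift (e₁ ≫ e₂) (kernel.ι e₁) (by rw [← Category.assoc, kernel.condition, zero_comp]))
    (kernel.lift e₂ (kernel.ι (e₁ ≫ e₂) ≫ e₁) (by rw [Category.assoc, kernel.condition]))
    (by
      rw [← cancel_mono (kernel.ι e₂), Category.assoc, kernel.lift_ι, kernel.lift_ι_assoc,
        kernel.condition, zero_comp])
  have hS : S.Exact := by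
    rw [ShortComplex.exact_iff_exact_up_to_refinements]
    intro T x hx
    have hx' : (x ≫ kernel.ι (e₁ ≫ e₂)) ≫ e₁ = 0 := by
      have := hx =≫ kernel.ι e₂
      simpa [S] using this
    refine ⟨T, 𝟙 T, inferInstance, kernel.lift e₁ (x ≫ kernel.ι (e₁ ≫ e₂)) hx', ?_⟩
    rw [← cancel_mono (kernel.ι (e₁ ≫ e₂))]
    simp [S]
  haveI : Epi S.g := by
    rw [epi_iff_surjective_up_to_refinements]
    intro T x
    obtain ⟨T', π, hπ, y, hy⟩ := surjective_up_to_refinements_of_epi e₁ (x ≫ kernel.ι e₂)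
    have hy' : y ≫ e₁ ≫ e₂ = 0 := by
      rw [← Category.assoc, ← hy, Category.assoc, Category.assoc, kernel.condition, comp_zero,
        comp_zero]
    refine ⟨T', π, hπ, kernel.lift (e₁ ≫ e₂) y hy', ?_⟩
    rw [← cancel_mono (kernel.ι e₂)]
    simp [S, hy]
  exact FG.ext ax S hS h₁ h₂

/-- the cokernel of a map from a finitely generated object to a finitely presented one is finitely
presented -/
theorem FP.coker_map (ax : Ax Fr) {K G : A} (a : K ⟶ G) (hK : FG Fr K) (hG : FP Fr G) :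
    FP Fr (cokernel a) := by
  obtain ⟨P, π, hP, _, hπ⟩ := hG
  obtain ⟨Q, p, hQ, _⟩ := hK
  obtain ⟨Q', r, s', hQ', _, -, hs'⟩ := ax.lift hQ π (p ≫ a)
  refine ⟨P, π ≫ cokernel.π a, hP, epi_comp _ _, ?_⟩
  have w : biprod.desc (kernel.ι π) s' ≫ π ≫ cokernel.π a = 0 := by
    apply biprod.hom_ext'
    · simp
    · rw [biprod.inr_desc_assoc, ← Category.assoc, hs']
      simp
  let m : kernel π ⊞ Q' ⟶ kernel (π ≫ cokernel.π a) := kernel.lift _ _ w
  have hm : m ≫ kernel.ι (π ≫ cokernel.π a) = biprod.desc (kernel.ι π) s' := kernel.lift_ι _ _ w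
  haveI : Epi m := by
    rw [epi_iff_surjective_up_to_refinements]
    intro T x
    have hx : (x ≫ kernel.ι (π ≫ cokernel.π a) ≫ π) ≫ cokernel.π a = 0 := by
      rw [Category.assoc, Category.assoc, kernel.condition, comp_zero]
    obtain ⟨T₁, π₁, hπ₁, k, hk⟩ :=
      (ShortComplex.exact_cokernel a).exact_up_to_refinements _ hx
    dsimp at k hk
    obtain ⟨T₂, π₂, hπ₂, w', hw'⟩ := surjective_up_to_refinements_of_epi (r ≫ p) k
    have hv : (π₂ ≫ π₁ ≫ x ≫ kernel.ι (π ≫ cokernel.π a) - w' ≫ s') ≫ π = 0 := by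
      rw [Preadditive.sub_comp]
      simp only [Category.assoc]
      rw [hs', hk, reassoc_of% hw', sub_self]
    refine ⟨T₂, π₂ ≫ π₁, epi_comp _ _, biprod.lift (kernel.lift π _ hv) w', ?_⟩
    rw [← cancel_mono (kernel.ι (π ≫ cokernel.π a))]
    simp only [Category.assoc]
    rw [hm]
    simp
  exact (FG.biprod ax hπ (FG.of_fr hQ')).of_epi m

lemma comp_desc_eq {X Y Z T : A} (u : T ⟶ X ⊞ Y) (f : X ⟶ Z) (g : Y ⟶ Z) :
    u ≫ biprod.desc f g = (u ≫ biprod.fst) ≫ f + (u ≫ biprod.snd) ≫ g := by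
  rw [biprod.desc_eq, Preadditive.comp_add, Category.assoc, Category.assoc]

/-- extensions of finitely presented objects are finitely presented -/
theorem FP.ext (ax : Ax Fr) (S : ShortComplex A) (hS : S.ShortExact) (h₁ : FP Fr S.X₁)
    (h₃ : FP Fr S.X₃) : FP Fr S.X₂ := by
  haveI := hS.mono_f
  haveI := hS.epi_g
  obtain ⟨P₁, π₁, hP₁, _, hK₁⟩ := h₁
  obtain ⟨P₃, π₃, hP₃, _, hK₃⟩ := h₃
  obtain ⟨P₃', r, l, hP₃', _, hKr, hl⟩ := ax.lift hP₃ S.g π₃
  let π₂ : P₁ ⊞ P₃' ⟶ S.X₂ := biprod.desc (π₁ ≫ S.f) l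
  have hπ₂ : ∀ {T : A} (u : T ⟶ P₁ ⊞ P₃'),
      u ≫ π₂ = (u ≫ biprod.fst) ≫ π₁ ≫ S.f + (u ≫ biprod.snd) ≫ l := fun u => comp_desc_eq u _ _
  haveI : Epi π₂ := epi_desc_of_exact S hS.exact π₁ l (hl ▸ epi_comp r π₃)
  refine ⟨P₁ ⊞ P₃', π₂, ax.biprod hP₁ hP₃', inferInstance, ?_⟩
  have w₁ : (kernel.ι π₁ ≫ biprod.inl) ≫ π₂ = 0 := by
    simp [π₂]
  have w₂ : (kernel.ι π₂ ≫ biprod.snd) ≫ r ≫ π₃ = 0 := by
    have h0 := kernel.condition π₂
    rw [hπ₂] at h0
    have h1 := h0 =≫ S.g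
    simp only [Preadditive.add_comp, Category.assoc, S.zero, comp_zero, zero_add, zero_comp] at h1
    rw [Category.assoc, ← hl]
    exact h1
  let S' : ShortComplex A := ShortComplex.mk (kernel.lift π₂ _ w₁) (kernel.lift (r ≫ π₃) _ w₂)
    (by
      rw [← cancel_mono (kernel.ι (r ≫ π₃)), Category.assoc, kernel.lift_ι, kernel.lift_ι_assoc]
      simp)
  have hS' : S'.Exact := by
    rw [ShortComplex.exact_iff_exact_up_to_refinements]
    intro T x hx
    have hx' : x ≫ kernel.ι π₂ ≫ biprod.snd = 0 := by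
      have := hx =≫ kernel.ι (r ≫ π₃)
      simpa [S'] using this
    have h0 : (x ≫ kernel.ι π₂) ≫ π₂ = 0 := by
      rw [Category.assoc, kernel.condition, comp_zero]
    rw [hπ₂] at h0
    simp only [Category.assoc] at h0
    rw [reassoc_of% hx', zero_comp, add_zero] at h0
    have h1 : (x ≫ kernel.ι π₂ ≫ biprod.fst) ≫ π₁ = 0 := by
      rw [← cancel_mono S.f, zero_comp]
      simpa only [Category.assoc] using h0
    refine ⟨T, 𝟙 T, inferInstance, kernel.lift π₁ _ h1, ?_⟩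
    rw [← cancel_mono (kernel.ι π₂)]
    apply biprod.hom_ext
    · simp [S']
    · simp [S', hx']
  haveI : Epi S'.g := by
    rw [epi_iff_surjective_up_to_refinements]
    intro T y
    have hb : (y ≫ kernel.ι (r ≫ π₃) ≫ l) ≫ S.g = 0 := by
      simp only [Category.assoc]
      rw [hl, kernel.condition, comp_zero]
    obtain ⟨T₁, π, hπ, z, hz⟩ := hS.exact.exact_up_to_refinements _ hb
    obtain ⟨T₂, π', hπ', w', hw'⟩ := surjective_up_to_refinements_of_epi π₁ z
    have hu : biprod.lift (-w') (π' ≫ π ≫ y ≫ kernel.ι (r ≫ π₃)) ≫ π₂ = 0 := by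
      rw [hπ₂]
      simp only [biprod.lift_fst, biprod.lift_snd, Category.assoc, Preadditive.neg_comp]
      rw [hz, ← reassoc_of% hw']
      simp
    refine ⟨T₂, π' ≫ π, epi_comp _ _, kernel.lift π₂ _ hu, ?_⟩
    rw [← cancel_mono (kernel.ι (r ≫ π₃))]
    simp [S']
  exact FG.ext ax S' hS' hK₁ (FG.kernel_comp ax r π₃ hKr hK₃)

/-- kernels of maps between finitely presented objects are finitely presented, provided that kernels of
maps between `Fr`-objects are -/
theorem FP.ker_map (ax : Ax Fr)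
    (hker : ∀ {P Q : A} (φ : P ⟶ Q), Fr P → Fr Q → FP Fr (kernel φ))
    {F G : A} (α : F ⟶ G) (hF : FP Fr F) (hG : FP Fr G) : FP Fr (kernel α) := by
  obtain ⟨PF, πF, hPF, _, hKF⟩ := hF
  obtain ⟨PG, πG, hPG, _, QG, qG, hQG, _⟩ := hG
  obtain ⟨P', r, β, hP', _, hKr, hβ⟩ := ax.lift hPF πG (πF ≫ α)
  let φ : P' ⊞ QG ⟶ PG := biprod.desc β (qG ≫ kernel.ι πG)
  have hT : FP Fr (kernel φ) := hker φ (ax.biprod hP' hQG) hPG
  have hφ : ∀ {T : A} (u : T ⟶ P' ⊞ QG),
      u ≫ φ = (u ≫ biprod.fst) ≫ β + (u ≫ biprod.snd) ≫ qG ≫ kernel.ι πG :=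
    fun u => comp_desc_eq u _ _
  have w : (kernel.ι φ ≫ biprod.fst ≫ r ≫ πF) ≫ α = 0 := by
    have h0 := kernel.condition φ
    rw [hφ] at h0
    have h1 := h0 =≫ πG
    simp only [Preadditive.add_comp, Category.assoc, kernel.condition, comp_zero, add_zero,
      zero_comp] at h1
    simp only [Category.assoc]
    rw [← hβ]
    exact h1
  let θ : kernel φ ⟶ kernel α := kernel.lift α _ w
  have hθ : θ ≫ kernel.ι α = kernel.ι φ ≫ biprod.fst ≫ r ≫ πF := kernel.lift_ι _ _ w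
  -- local lifting of elements of `P'` killed by `β ≫ πG` to `kernel φ`
  have key : ∀ {T : A} (a : T ⟶ P') (_ : a ≫ β ≫ πG = 0),
      ∃ (T₁ : A) (π' : T₁ ⟶ T) (_ : Epi π') (u : T₁ ⟶ kernel φ),
        u ≫ kernel.ι φ ≫ biprod.fst = π' ≫ a := by
    intro T a ha
    have ha' : (a ≫ β) ≫ πG = 0 := by rw [Category.assoc, ha]
    obtain ⟨T₁, π', hπ', d, hd⟩ := surjective_up_to_refinements_of_epi qG (kernel.lift πG _ ha')
    have hu : biprod.lift (π' ≫ a) (-d) ≫ φ = 0 := by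
      rw [hφ]
      simp only [biprod.lift_fst, biprod.lift_snd, Category.assoc, Preadditive.neg_comp]
      rw [← reassoc_of% hd, kernel.lift_ι]
      simp
    exact ⟨T₁, π', hπ', kernel.lift φ _ hu, by simp⟩
  haveI : Epi θ := by
    rw [epi_iff_surjective_up_to_refinements]
    intro T₀ x
    obtain ⟨T₁, π, hπ, a, ha⟩ := surjective_up_to_refinements_of_epi (r ≫ πF) (x ≫ kernel.ι α)
    have ha' : a ≫ β ≫ πG = 0 := by
      rw [hβ, ← Category.assoc r, ← Category.assoc a, ← ha]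
      simp
    obtain ⟨T₂, π', hπ', u, hu⟩ := key a ha'
    refine ⟨T₂, π' ≫ π, epi_comp _ _, u, ?_⟩
    rw [← cancel_mono (kernel.ι α)]
    simp only [Category.assoc]
    rw [hθ, reassoc_of% hu, ha]
  have hKθ : FG Fr (kernel θ) := by
    have w₁ : (kernel.ι (qG ≫ kernel.ι πG) ≫ biprod.inr) ≫ φ = 0 := by
      simp [φ]
    have w₁' : kernel.lift φ _ w₁ ≫ θ = 0 := by
      rw [← cancel_mono (kernel.ι α), Category.assoc, hθ, kernel.lift_ι_assoc]
      simp
    have w₂ : (kernel.ι θ ≫ kernel.ι φ ≫ biprod.fst) ≫ r ≫ πF = 0 := by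
      simp only [Category.assoc]
      rw [← hθ, kernel.condition_assoc, zero_comp]
    let S' : ShortComplex A := ShortComplex.mk (kernel.lift θ _ w₁') (kernel.lift (r ≫ πF) _ w₂)
      (by
        rw [← cancel_mono (kernel.ι (r ≫ πF)), Category.assoc, kernel.lift_ι, kernel.lift_ι_assoc,
          kernel.lift_ι_assoc]
        simp)
    have hS' : S'.Exact := by
      rw [ShortComplex.exact_iff_exact_up_to_refinements]
      intro T x hx
      have hx' : x ≫ kernel.ι θ ≫ kernel.ι φ ≫ biprod.fst = 0 := by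
        have := hx =≫ kernel.ι (r ≫ πF)
        simpa [S'] using this
      have h0 : (x ≫ kernel.ι θ ≫ kernel.ι φ) ≫ φ = 0 := by
        simp only [Category.assoc]
        rw [kernel.condition, comp_zero, comp_zero]
      rw [hφ] at h0
      simp only [Category.assoc] at h0
      rw [reassoc_of% hx', zero_comp, zero_add] at h0
      have h1 : (x ≫ kernel.ι θ ≫ kernel.ι φ ≫ biprod.snd) ≫ qG ≫ kernel.ι πG = 0 := by
        simpa only [Category.assoc] using h0
      refine ⟨T, 𝟙 T, inferInstance, kernel.lift (qG ≫ kernel.ι πG) _ h1, ?_⟩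
      rw [← cancel_mono (kernel.ι θ), ← cancel_mono (kernel.ι φ)]
      apply biprod.hom_ext
      · simp [S', hx']
      · simp [S']
    haveI : Epi S'.g := by
      rw [epi_iff_surjective_up_to_refinements]
      intro T y
      have ha' : (y ≫ kernel.ι (r ≫ πF)) ≫ β ≫ πG = 0 := by
        rw [hβ]
        simp only [Category.assoc]
        rw [← Category.assoc r, kernel.condition_assoc, zero_comp, comp_zero]
      obtain ⟨T₁, π', hπ', u, hu⟩ := key _ ha'
      have hu' : u ≫ θ = 0 := by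
        rw [← cancel_mono (kernel.ι α), Category.assoc, hθ, reassoc_of% hu]
        rw [kernel.condition, comp_zero, comp_zero, zero_comp]
      refine ⟨T₁, π', hπ', kernel.lift θ u hu', ?_⟩
      rw [← cancel_mono (kernel.ι (r ≫ πF))]
      simp [S', hu]
    exact FG.ext ax S' hS' (hker (qG ≫ kernel.ι πG) hQG hPG).fg (FG.kernel_comp ax r πF hKr hKF)
  exact (FP.coker_map ax (kernel.ι θ) hKθ hT).of_iso (cokerKerIso θ)

/-- a coproduct over a sum type is the biproduct of the two coproducts -/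
noncomputable def biprodSigmaIso {ι κ : Type*} (g : ι ⊕ κ → A) [HasCoproduct g]
    [HasCoproduct (fun i => g (Sum.inl i))] [HasCoproduct (fun j => g (Sum.inr j))] :
    (∐ fun i => g (Sum.inl i)) ⊞ (∐ fun j => g (Sum.inr j)) ≅ ∐ g where
  hom := biprod.desc (Sigma.desc fun i => Sigma.ι g (Sum.inl i))
    (Sigma.desc fun j => Sigma.ι g (Sum.inr j))
  inv := Sigma.desc (fun x => match x with
    | Sum.inl i => Sigma.ι (fun i => g (Sum.inl i)) i ≫ biprod.inl
    | Sum.inr j => Sigma.ι (fun j => g (Sum.inr j)) j ≫ biprod.inr)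
  hom_inv_id := by
    apply biprod.hom_ext' <;> apply Sigma.hom_ext <;> intro i <;> simp
  inv_hom_id := by
    apply Sigma.hom_ext
    rintro (i | j) <;> simp

end Groth.Agent.Lib.helper11.AbsFP
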