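import Mathlib
import Groth.Agent.Lib.Helper8.FormalCompletion
import Groth.Agent.Lib.Helper8.ReesIdeal

/-!
# Pullback of the submodules `𝔞 M` (helper11)

For `f : X ⟶ Y` over `Spec A`, `M` an `O_Y`-module and `𝔞` an ideal of `A`:
* `sbPull f hf 𝔞 M : f^*(𝔞 M) ⟶ 𝔞 (f^* M)`, an epimorphism, natural for the multiplication maps `sbMul`;
* `sbMap 𝔞 φ : 𝔞 M ⟶ 𝔞 N`, functoriality of `M ↦ 𝔞 M`.
-/

set_option autoImplicit false
universe u
open CategoryTheory CategoryTheory.Limits AlgebraicGeometry Opposite TopologicalSpace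

namespace Groth.Agent.Lib.helper11.AdicSys

open Formal Groth.Agent.Lib.helper8.FF Groth.Agent.Lib.helper8.FPull Groth.Agent.Lib.helper8.FCompl
  Groth.Agent.Lib.helper8.Rees

section Map

variable {A : Type u} [CommRing A] {X : Scheme.{u}} [X.Over (Spec (CommRingCat.of A))]

/-- functoriality of `M ↦ 𝔞 M` -/
noncomputable def sbMap (𝔞 : Ideal A) {M N : X.Modules} (φ : M ⟶ N) : Sb 𝔞 M ⟶ Sb 𝔞 N :=
  kernel.map (qπ 𝔞 M) (qπ 𝔞 N) φ (Qmap 𝔞 φ) (qπ_Qmap 𝔞 φ)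

@[reassoc (attr := simp)]
lemma sbMap_ι (𝔞 : Ideal A) {M N : X.Modules} (φ : M ⟶ N) :
    sbMap 𝔞 φ ≫ sbι 𝔞 N = sbι 𝔞 M ≫ φ := kernel.lift_ι _ _ _

lemma sbMap_id (𝔞 : Ideal A) (M : X.Modules) : sbMap 𝔞 (𝟙 M) = 𝟙 _ := by
  rw [← cancel_mono (sbι 𝔞 M), sbMap_ι, Category.comp_id, Category.id_comp]

lemma sbMap_comp (𝔞 : Ideal A) {M N P : X.Modules} (φ : M ⟶ N) (ψ : N ⟶ P) :
    sbMap 𝔞 (φ ≫ ψ) = sbMap 𝔞 φ ≫ sbMap 𝔞 ψ := by
  rw [← cancel_mono (sbι 𝔞 P), sbMap_ι, Category.assoc, sbMap_ι, sbMap_ι_assoc]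

instance isIso_sbMap (𝔞 : Ideal A) {M N : X.Modules} (φ : M ⟶ N) [IsIso φ] : IsIso (sbMap 𝔞 φ) :=
  ⟨sbMap 𝔞 (inv φ), by rw [← sbMap_comp, IsIso.hom_inv_id, sbMap_id],
    by rw [← sbMap_comp, IsIso.inv_hom_id, sbMap_id]⟩

lemma sbMul_sbMap {𝔞 𝔟 : Ideal A} (a : A) (h : ∀ c ∈ 𝔞, a * c ∈ 𝔟) {M N : X.Modules} (φ : M ⟶ N) :
    sbMul a h M ≫ sbMap 𝔟 φ = sbMap 𝔞 φ ≫ sbMul a h N := by
  rw [← cancel_mono (sbι 𝔟 N), Category.assoc, sbMap_ι, sbMul_ι_assoc, Category.assoc, sbMul_ι,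
    sbMap_ι_assoc, smulMod_naturality]

lemma sbLift_sbMap {𝔞 : Ideal A} {a : A} (ha : a ∈ 𝔞) {M N : X.Modules} (φ : M ⟶ N) :
    sbLift M ha ≫ sbMap 𝔞 φ = φ ≫ sbLift N ha := by
  rw [← cancel_mono (sbι 𝔞 N), Category.assoc, sbMap_ι, sbLift_ι_assoc, Category.assoc, sbLift_ι,
    smulMod_naturality]

/-- multiplication by `a` on `𝔞 M` is `sbMul` followed by the inclusion -/
lemma smulMod_Sb {𝔞 𝔟 : Ideal A} (a : A) (h : ∀ c ∈ 𝔞, a * c ∈ 𝔟) (h' : 𝔟 ≤ 𝔞) (M : X.Modules) :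
    smulMod A (Sb 𝔞 M) a = sbMul a h M ≫ sbIncl h' M := by
  rw [← cancel_mono (sbι 𝔞 M), Category.assoc, sbIncl_ι, sbMul_ι, smulMod_naturality]

/-- if `𝔞` acts by zero on all modules then `𝔞 M = 0` -/
lemma isZero_Sb_of_smulMod_eq_zero (𝔞 : Ideal A) (M : X.Modules)
    (h : ∀ a ∈ 𝔞, smulMod A M a = 0) : IsZero (Sb 𝔞 M) := by
  rw [IsZero.iff_id_eq_zero]
  apply sb_hom_ext
  intro a
  rw [← Category.assoc, ι_sbCover, comp_zero, comp_zero, Category.comp_id]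
  rw [← cancel_mono (sbι 𝔞 M), sbLift_ι, zero_comp]
  exact h a a.2

/-- `⊤ M = M` -/
instance isIso_sbι_top (M : X.Modules) : IsIso (sbι (⊤ : Ideal A) M) := by
  have h0 : qπ (⊤ : Ideal A) M = 0 := by
    have := smulMod_qπ (𝔞 := (⊤ : Ideal A)) M (a := 1) trivial
    rwa [smulMod_one, Category.id_comp] at this
  have : IsIso (kernel.ι (0 : M ⟶ Q (⊤ : Ideal A) M)) := inferInstance
  have e : sbι (⊤ : Ideal A) M = (kernel.mapIso (qπ (⊤ : Ideal A) M) (0 : M ⟶ Q (⊤ : Ideal A) M)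
      (Iso.refl _) (Iso.refl _) (by simp [h0])).hom ≫ kernel.ι (0 : M ⟶ Q (⊤ : Ideal A) M) := by
    simp
  rw [e]
  infer_instance

end Map

section Pull

variable {X Y : Scheme.{u}} (f : X ⟶ Y) {A : Type u} [CommRing A]
  [X.Over (Spec (CommRingCat.of A))] [Y.Over (Spec (CommRingCat.of A))]
  (hf : f ≫ (Y ↘ Spec (CommRingCat.of A)) = X ↘ Spec (CommRingCat.of A))

include hf in
lemma pullback_sbι_qπ (𝔞 : Ideal A) (M : Y.Modules) :
    (Scheme.Modules.pullback f).map (sbι 𝔞 M) ≫ qπ 𝔞 ((Scheme.Modules.pullback f).obj M) = 0 := by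
  rw [← cancel_mono (pullbackQIso f hf 𝔞 M).hom, Category.assoc, qπ_pullbackQIso_hom,
    ← Functor.map_comp, kernel.condition, Functor.map_zero, zero_comp]

/-- the comparison `f^*(𝔞 M) ⟶ 𝔞 (f^* M)` -/
noncomputable def sbPull (𝔞 : Ideal A) (M : Y.Modules) :
    (Scheme.Modules.pullback f).obj (Sb 𝔞 M) ⟶ Sb 𝔞 ((Scheme.Modules.pullback f).obj M) :=
  kernel.lift _ ((Scheme.Modules.pullback f).map (sbι 𝔞 M)) (pullback_sbι_qπ f hf 𝔞 M)

@[reassoc (attr := simp)]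
lemma sbPull_ι (𝔞 : Ideal A) (M : Y.Modules) :
    sbPull f hf 𝔞 M ≫ sbι 𝔞 ((Scheme.Modules.pullback f).obj M) =
      (Scheme.Modules.pullback f).map (sbι 𝔞 M) := kernel.lift_ι _ _ _

@[reassoc]
lemma map_sbLift_sbPull {𝔞 : Ideal A} (M : Y.Modules) {a : A} (ha : a ∈ 𝔞) :
    (Scheme.Modules.pullback f).map (sbLift M ha) ≫ sbPull f hf 𝔞 M =
      sbLift ((Scheme.Modules.pullback f).obj M) ha := by
  rw [← cancel_mono (sbι 𝔞 ((Scheme.Modules.pullback f).obj M)), Category.assoc, sbPull_ι,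
    ← Functor.map_comp, sbLift_ι, sbLift_ι, pullback_map_smulMod f hf]

instance epi_sbPull (𝔞 : Ideal A) (M : Y.Modules) : Epi (sbPull f hf 𝔞 M) := by
  refine ⟨fun g g' hg => ?_⟩
  apply sb_hom_ext
  intro a
  rw [← Category.assoc, ← Category.assoc, ι_sbCover, ← map_sbLift_sbPull f hf M a.2,
    Category.assoc, Category.assoc, hg]

@[reassoc]
lemma map_sbMul_sbPull {𝔞 𝔟 : Ideal A} (a : A) (h : ∀ c ∈ 𝔞, a * c ∈ 𝔟) (M : Y.Modules) :
    (Scheme.Modules.pullback f).map (sbMul a h M) ≫ sbPull f hf 𝔟 M =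
      sbPull f hf 𝔞 M ≫ sbMul a h ((Scheme.Modules.pullback f).obj M) := by
  rw [← cancel_mono (sbι 𝔟 ((Scheme.Modules.pullback f).obj M)), Category.assoc, sbPull_ι,
    ← Functor.map_comp, sbMul_ι, Category.assoc, sbMul_ι, sbPull_ι_assoc, Functor.map_comp,
    pullback_map_smulMod f hf]

/-- maps out of the pullback of a coproduct are determined by their components -/
lemma pullback_sigma_hom_ext {ι : Type u} (M : ι → Y.Modules) {T : X.Modules}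
    (g g' : (Scheme.Modules.pullback f).obj (∐ M) ⟶ T)
    (h : ∀ a, (Scheme.Modules.pullback f).map (Sigma.ι M a) ≫ g =
      (Scheme.Modules.pullback f).map (Sigma.ι M a) ≫ g') : g = g' := by
  apply ((Scheme.Modules.pullbackPushforwardAdjunction f).homEquiv _ _).injective
  apply Sigma.hom_ext
  intro a
  rw [← Adjunction.homEquiv_naturality_left, ← Adjunction.homEquiv_naturality_left, h a]

include hf in
/-- if `𝔞` acts by zero on all `O_X`-modules, then `f^*` kills the inclusion `𝔞 M ⟶ M` -/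
lemma pullback_map_sbι_eq_zero (𝔞 : Ideal A)
    (h0 : ∀ (T : X.Modules), ∀ a ∈ 𝔞, smulMod A T a = 0) (M : Y.Modules) :
    (Scheme.Modules.pullback f).map (sbι 𝔞 M) = 0 := by
  haveI : Epi ((Scheme.Modules.pullback f).map (sbCover 𝔞 M)) := inferInstance
  rw [← cancel_epi ((Scheme.Modules.pullback f).map (sbCover 𝔞 M)), comp_zero, ← Functor.map_comp,
    sbCover_ι]
  apply pullback_sigma_hom_ext
  intro a
  rw [← Functor.map_comp, ι_smulFamily, comp_zero, pullback_map_smulMod f hf]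
  exact h0 _ _ a.2

end Pull

end Groth.Agent.Lib.helper11.AdicSys
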