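import Mathlib
import Groth.Agent.Lib.Helper21.FLFDual3
import Groth.Agent.Lib.Helper12.TensorInvLocal

/-!
# Duals of finite locally free modules (helper11), on top of helper21's `FLFDual`

* `isFinLocFree_dualMod`: the dual of a finite locally free module is finite locally free.
* `bid E : E ⟶ E^∨∨`, natural in `E` (`bid_naturality`); an isomorphism for `E` finite locally free
  (`isIso_bid`), `bidualIso`.
-/

set_option autoImplicit false
universe u

open CategoryTheory CategoryTheory.Limits Opposite AlgebraicGeometry TopologicalSpace MonoidalCategory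

namespace Groth.Agent.Lib.helper11.Bidual

open Groth.Agent.Lib.Helper21.TensorW Groth.Agent.Lib.Helper21.TensorAdj
  Groth.Agent.Lib.Helper21.TensorMon
open Groth.Agent.Lib.helper12.InvDual Groth.Agent.Lib.helper12.TensorPowAdd
  Groth.Agent.Lib.helper12.PullTensor Groth.Agent.Lib.helper12.TensorAssoc
  Groth.Agent.Lib.helper12.TensorRestrict Groth.Agent.Lib.helper12.TensorSec
open Groth.Agent.Lib.Lead.ModTensor (tensorMap tensorMap_id tensorMap_comp braid)
open Groth.Agent.Lib.helper21.ExtShDelta Groth.Agent.Lib.helper21.FLFDual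
open Groth.Agent.Lib.helper11.IsoLocus
open Scheme.Modules

variable {X : Scheme.{u}}

/-- the zigzag `E ⟶ j_* j^* E ⟵ O^n` through maps which are isomorphisms over `V ∋ y` -/
theorem exists_zigzag {E : X.Modules} (hE : FlatMod.IsFinLocFree E) (y : X) :
    ∃ (V : X.Opens) (n : ℕ) (Et : X.Modules) (a : E ⟶ Et) (b : FlatMod.freeMod X n ⟶ Et),
      y ∈ V ∧ V ≤ isoLocus a ∧ V ≤ isoLocus b := by
  obtain ⟨V, n, hyV, ⟨e⟩⟩ := hE y
  let Et : X.Modules := (Scheme.Modules.pushforward V.ι).obj ((restrictFunctor V.ι).obj E)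
  let a : E ⟶ Et := (restrictAdjunction V.ι).unit.app E
  let B : X.Modules := FlatMod.freeMod X n
  let c : (restrictFunctor V.ι).obj B ⟶ (restrictFunctor V.ι).obj E :=
    (Groth.Agent.Lib.helper16.FLF.restrictFreeModIso V.ι n).hom ≫ e.inv
  let b : B ⟶ Et := (restrictAdjunction V.ι).unit.app B ≫ (Scheme.Modules.pushforward V.ι).map c
  have ha : V ≤ isoLocus a := le_isoLocus_restrictAdjunction_unit E V
  have hb : V ≤ isoLocus b := by
    rw [le_isoLocus_iff]
    have h1 : IsIso ((restrictFunctor V.ι).map ((restrictAdjunction V.ι).unit.app B)) :=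
      (le_isoLocus_iff _ _).mp (le_isoLocus_restrictAdjunction_unit B V)
    change IsIso ((restrictFunctor V.ι).map (_ ≫ _))
    rw [Functor.map_comp]
    infer_instance
  exact ⟨V, n, Et, a, b, hyV, ha, hb⟩

theorem le_isoLocus_dualMap {E E' : X.Modules} (a : E' ⟶ E) (V : X.Opens)
    (h : V ≤ isoLocus a) : V ≤ isoLocus (dualMap a) :=
  le_isoLocus_hMap a (Coh.structureModule X) V h

theorem dualMap_zero (E E' : X.Modules) : dualMap (0 : E' ⟶ E) = 0 :=
  map_zero (shmHom (O := X.sheaf) E E' (Coh.structureModule X))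

theorem isIso_dualMap_of_iso {E E' : X.Modules} (e : E' ≅ E) : IsIso (dualMap e.hom) :=
  isIso_hMap_of_iso e (Coh.structureModule X)

/-- `O^∨ ≅ O` -/
noncomputable def dualUnitIso : dualMod (Coh.structureModule X) ≅ Coh.structureModule X :=
  (SecTwist.unitorR (dualMod (Coh.structureModule X))).symm ≪≫
    @asIso _ _ _ _ (evMod (Coh.structureModule X)) isIso_evMod_unit

attribute [local instance] Abelian.hasFiniteBiproducts

/-- `(⨁ O)^∨ ≅ ⨁ O` -/
noncomputable def dualBiproductIso (n : ℕ) :
    dualMod (⨁ fun _ : Fin n => Coh.structureModule X) ≅ ⨁ fun _ : Fin n => Coh.structureModule X where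
  hom := biproduct.lift (fun i => dualMap (biproduct.ι (fun _ : Fin n => Coh.structureModule X) i) ≫
    dualUnitIso.hom)
  inv := biproduct.desc (fun i => dualUnitIso.inv ≫
    dualMap (biproduct.π (fun _ : Fin n => Coh.structureModule X) i))
  hom_inv_id := by
    rw [biproduct.lift_desc]
    have h1 : ∀ i : Fin n, (dualMap (biproduct.ι (fun _ : Fin n => Coh.structureModule X) i) ≫
        dualUnitIso.hom) ≫ dualUnitIso.inv ≫
          dualMap (biproduct.π (fun _ : Fin n => Coh.structureModule X) i) =
        dualMap (biproduct.π (fun _ : Fin n => Coh.structureModule X) i ≫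
          biproduct.ι (fun _ : Fin n => Coh.structureModule X) i) := by
      intro i
      rw [Category.assoc, Iso.hom_inv_id_assoc, dualMap_comp]
    rw [Finset.sum_congr rfl (fun i _ => h1 i), ← dualMap_sum, biproduct.total, dualMap_id]
  inv_hom_id := by
    apply biproduct.hom_ext'
    intro i
    apply biproduct.hom_ext
    intro j
    rw [biproduct.ι_desc_assoc, Category.assoc, Category.assoc, biproduct.lift_π, Category.comp_id,
      ← Category.assoc (dualMap _), ← dualMap_comp, biproduct.ι_π]
    by_cases h : j = i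
    · subst h
      rw [dif_pos rfl, biproduct.ι_π_self, eqToHom_refl, dualMap_id, Category.id_comp,
        Iso.inv_hom_id]
    · rw [dif_neg h, dualMap_zero, zero_comp, comp_zero, biproduct.ι_π_ne _ (Ne.symm h)]

/-- `(O^n)^∨ ≅ O^n` -/
noncomputable def dualFreeModIso (n : ℕ) : dualMod (FlatMod.freeMod X n) ≅ FlatMod.freeMod X n :=
  haveI := isIso_dualMap_of_iso
    (biproduct.isoCoproduct (fun _ : Fin n => Coh.structureModule X))
  (asIso (dualMap (biproduct.isoCoproduct (fun _ : Fin n => Coh.structureModule X)).hom)) ≪≫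
    dualBiproductIso n ≪≫ biproduct.isoCoproduct _

/-- **the dual of a finite locally free module is finite locally free** -/
theorem isFinLocFree_dualMod {E : X.Modules} (hE : FlatMod.IsFinLocFree E) :
    FlatMod.IsFinLocFree (dualMod E) := by
  intro y
  obtain ⟨V, n, Et, a, b, hyV, ha, hb⟩ := exists_zigzag hE y
  refine ⟨V, n, hyV, ?_⟩
  have h1 : IsIso ((restrictFunctor V.ι).map (dualMap a)) :=
    (le_isoLocus_iff _ _).mp (le_isoLocus_dualMap a V ha)
  have h2 : IsIso ((restrictFunctor V.ι).map (dualMap b)) :=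
    (le_isoLocus_iff _ _).mp (le_isoLocus_dualMap b V hb)
  exact ⟨(asIso ((restrictFunctor V.ι).map (dualMap a))).symm ≪≫
    asIso ((restrictFunctor V.ι).map (dualMap b)) ≪≫
    (restrictFunctor V.ι).mapIso (dualFreeModIso n) ≪≫
    Groth.Agent.Lib.helper16.FLF.restrictFreeModIso V.ι n⟩

/-- the pairing `E ⊗ E^∨ ⟶ O` -/
noncomputable def pair (E : X.Modules) : CohB1.tensorMod E (dualMod E) ⟶ Coh.structureModule X :=
  (braid E (dualMod E)).hom ≫ evMod E

/-- the biduality map `E ⟶ E^∨∨` -/
noncomputable def bid (E : X.Modules) : E ⟶ dualMod (dualMod E) :=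
  (ModSite.sheafHomAdj (O := X.sheaf) (dualMod E)).homEquiv E (Coh.structureModule X) (pair E)

theorem pair_dinat {E E' : X.Modules} (a : E' ⟶ E) :
    tensorMap (𝟙 E') (dualMap a) ≫ pair E' = tensorMap a (𝟙 (dualMod E)) ≫ pair E := by
  apply tensorMod_hom_ext
  intro U e l
  unfold pair
  change ((evMod E').val.app (op U)).hom (((braid E' (dualMod E')).hom.val.app (op U)).hom
      (((tensorMap (𝟙 E') (dualMap a)).val.app (op U)).hom _)) =
    ((evMod E).val.app (op U)).hom (((braid E (dualMod E)).hom.val.app (op U)).hom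
      (((tensorMap a (𝟙 (dualMod E))).val.app (op U)).hom _))
  rw [tensorMap_tmul, tensorMap_tmul,
    Groth.Agent.Lib.helper12.TensorInvLocal.braid_tmul,
    Groth.Agent.Lib.helper12.TensorInvLocal.braid_tmul]
  exact evMod_dinat_apply a U l e

/-- naturality of the biduality map -/
theorem bid_naturality {E E' : X.Modules} (a : E' ⟶ E) :
    bid E' ≫ dualMap (dualMap a) = a ≫ bid E :=
  homEquiv_dinat (O := X.sheaf) (dualMap a) a (pair E') (pair E) (pair_dinat a)

/-- `a^∨∨` -/
noncomputable abbrev ddMap {E E' : X.Modules} (a : E' ⟶ E) :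
    dualMod (dualMod E') ⟶ dualMod (dualMod E) := dualMap (dualMap a)

theorem ddMap_comp {E E' E'' : X.Modules} (a : E'' ⟶ E') (b : E' ⟶ E) :
    ddMap (a ≫ b) = ddMap a ≫ ddMap b := by
  unfold ddMap
  rw [dualMap_comp, dualMap_comp]

theorem ddMap_id (E : X.Modules) : ddMap (𝟙 E) = 𝟙 _ := by
  unfold ddMap
  rw [dualMap_id, dualMap_id]

theorem ddMap_sum {E E' : X.Modules} {ι : Type*} (s : Finset ι) (a : ι → (E' ⟶ E)) :
    ddMap (∑ j ∈ s, a j) = ∑ j ∈ s, ddMap (a j) := by
  unfold ddMap
  rw [dualMap_sum, dualMap_sum]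

theorem isIso_ddMap_of_iso {E E' : X.Modules} (e : E' ≅ E) : IsIso (ddMap e.hom) :=
  isIso_of_inverse _ (ddMap e.inv)
    ((ddMap_comp e.hom e.inv).symm.trans (by rw [e.hom_inv_id]; exact ddMap_id E'))
    ((ddMap_comp e.inv e.hom).symm.trans (by rw [e.inv_hom_id]; exact ddMap_id E))

theorem le_isoLocus_ddMap {E E' : X.Modules} (a : E' ⟶ E) (V : X.Opens)
    (h : V ≤ isoLocus a) : V ≤ isoLocus (ddMap a) :=
  le_isoLocus_dualMap _ V (le_isoLocus_dualMap a V h)

theorem isIso_bid_unit : IsIso (bid (Coh.structureModule X)) := by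
  let u : dualMod (Coh.structureModule X) ≅ Coh.structureModule X := dualUnitIso
  let σ : CohB1.tensorMod (Coh.structureModule X) (Coh.structureModule X) ⟶ Coh.structureModule X :=
    tensorMap (𝟙 (Coh.structureModule X)) u.inv ≫ pair (Coh.structureModule X)
  have hpair : IsIso (pair (Coh.structureModule X)) := by
    unfold pair
    have := isIso_evMod_unit (X := X)
    infer_instance
  have hσ : IsIso σ := by
    have : IsIso (tensorMap (𝟙 (Coh.structureModule X)) u.inv) :=
      (Groth.Agent.Lib.Lead.ModTensor.tensorIso (Iso.refl _) u.symm).isIso_hom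
    exact IsIso.comp_isIso
  have h1 : tensorMap (𝟙 (Coh.structureModule X)) u.hom ≫ σ =
      tensorMap (𝟙 (Coh.structureModule X)) (𝟙 (dualMod (Coh.structureModule X))) ≫
        pair (Coh.structureModule X) := by
    rw [← Category.assoc, ← tensorMap_comp, Category.comp_id, u.hom_inv_id]
  have h2 : (ModSite.sheafHomAdj (O := X.sheaf) (Coh.structureModule X)).homEquiv
      (Coh.structureModule X) (Coh.structureModule X) σ ≫ dualMap u.hom =
        𝟙 _ ≫ bid (Coh.structureModule X) :=
    homEquiv_dinat (O := X.sheaf) u.hom (𝟙 (Coh.structureModule X)) σ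
      (pair (Coh.structureModule X)) h1
  rw [Category.id_comp] at h2
  rw [← h2]
  have h3 : IsIso ((ModSite.sheafHomAdj (O := X.sheaf) (Coh.structureModule X)).homEquiv
      (Coh.structureModule X) (Coh.structureModule X) σ) :=
    isIso_homEquiv_of_isIso (O := X.sheaf) (ModSite.unit X.sheaf)
      isIso_sheafHomAdj_unit_unit (T := Coh.structureModule X) (G := Coh.structureModule X) σ hσ
  have h4 : IsIso (dualMap u.hom) := isIso_dualMap_of_iso u
  exact IsIso.comp_isIso' h3 h4

theorem isIso_bid_of_iso {E E' : X.Modules} (e : E' ≅ E) (h : IsIso (bid E)) : IsIso (bid E') := by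
  have h1 := bid_naturality e.hom
  have h2 : IsIso (ddMap e.hom) := isIso_ddMap_of_iso e
  have h3 : bid E' = (e.hom ≫ bid E) ≫ inv (ddMap e.hom) := by
    rw [← h1, Category.assoc, IsIso.hom_inv_id, Category.comp_id]
  rw [h3]
  infer_instance

theorem isIso_bid_biproduct (n : ℕ) :
    IsIso (bid (⨁ fun _ : Fin n => Coh.structureModule X)) := by
  refine isIso_of_decomp Finset.univ (bid (⨁ fun _ : Fin n => Coh.structureModule X))
    (fun _ : Fin n => Coh.structureModule X)
    (fun _ : Fin n => dualMod (dualMod (Coh.structureModule X)))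
    (fun _ => bid (Coh.structureModule X)) (fun _ => isIso_bid_unit)
    (fun j => biproduct.π (fun _ : Fin n => Coh.structureModule X) j)
    (fun j => biproduct.ι (fun _ : Fin n => Coh.structureModule X) j)
    (fun j => ddMap (biproduct.π (fun _ : Fin n => Coh.structureModule X) j))
    (fun j => ddMap (biproduct.ι (fun _ : Fin n => Coh.structureModule X) j))
    (fun j => bid_naturality _) (fun j => bid_naturality _) biproduct.total ?_
  refine Eq.trans (Finset.sum_congr rfl fun j _ => (ddMap_comp _ _).symm) ?_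
  rw [← ddMap_sum, biproduct.total, ddMap_id]

theorem isIso_bid_freeMod (n : ℕ) : IsIso (bid (FlatMod.freeMod X n)) :=
  isIso_bid_of_iso (biproduct.isoCoproduct _).symm (isIso_bid_biproduct n)

/-- **biduality**: `E ⟶ E^∨∨` is an isomorphism for `E` finite locally free -/
theorem isIso_bid {E : X.Modules} (hE : FlatMod.IsFinLocFree E) : IsIso (bid E) := by
  rw [isIso_iff_stalk]
  intro y
  obtain ⟨V, n, Et, a, b, hyV, ha, hb⟩ := exists_zigzag hE y
  have hB : IsIso (bid (FlatMod.freeMod X n)) := isIso_bid_freeMod n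
  have h1 : IsIso (stalkMap (bid Et) y) :=
    isIso_stalkMap_of_square' _ _ _ _ (bid_naturality b).symm y
      (isIso_stalkMap_of_le _ hb hyV) inferInstance
      (isIso_stalkMap_of_le _ (le_isoLocus_ddMap b V hb) hyV)
  exact isIso_stalkMap_of_square _ _ _ _ (bid_naturality a).symm y
    (isIso_stalkMap_of_le _ ha hyV) h1
    (isIso_stalkMap_of_le _ (le_isoLocus_ddMap a V ha) hyV)

/-- `E ≅ E^∨∨` for `E` finite locally free -/
noncomputable def bidualIso {E : X.Modules} (hE : FlatMod.IsFinLocFree E) :
    E ≅ dualMod (dualMod E) :=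
  @asIso _ _ _ _ (bid E) (isIso_bid hE)

end Groth.Agent.Lib.helper11.Bidual
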