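import Mathlib
import Groth.Agent.Lib.Helper11.Bidual1
import Groth.Agent.Lib.Helper21.FLFDualExt

/-!
# `− ⊗ E ≅ ℋom(E^∨, −)` and injectivity of `I ⊗ E` for `E` finite locally free (helper11)
-/

set_option autoImplicit false
universe u

open CategoryTheory CategoryTheory.Limits Opposite AlgebraicGeometry TopologicalSpace MonoidalCategory

namespace Groth.Agent.Lib.helper11.Bidual

open Groth.Agent.Lib.Helper21.TensorW Groth.Agent.Lib.Helper21.TensorAdj
  Groth.Agent.Lib.Helper21.TensorMon
open Groth.Agent.Lib.helper12.InvDual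
open Groth.Agent.Lib.Lead.ModTensor (tensorMap tensorMap_id tensorMap_comp braid)
open Groth.Agent.Lib.helper21.ExtShDelta Groth.Agent.Lib.helper21.FLFDual
open Scheme.Modules

variable {X : Scheme.{u}}

/-- `− ⊗ E ≅ ℋom(E^∨, −)` for `E` finite locally free -/
noncomputable def tensSheafHomDualIso {E : X.Modules} (hE : FlatMod.IsFinLocFree E) :
    tens X.sheaf E ≅ ModSite.sheafHom (O := X.sheaf) (dualMod E) :=
  (ModSite.tensorBi X.sheaf).flip.mapIso (bidualIso hE) ≪≫ tensDualIso (isFinLocFree_dualMod hE)

/-- `− ⊗ E^∨ ⊣ − ⊗ E` for `E` finite locally free -/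
noncomputable def tensDualAdj' {E : X.Modules} (hE : FlatMod.IsFinLocFree E) :
    tens X.sheaf (dualMod E) ⊣ tens X.sheaf E :=
  (ModSite.sheafHomAdj (O := X.sheaf) (dualMod E)).ofNatIsoRight (tensSheafHomDualIso hE).symm

/-- `− ⊗ E` preserves injective objects for `E` finite locally free -/
theorem preservesInjectiveObjects_tens {E : X.Modules} (hE : FlatMod.IsFinLocFree E) :
    (tens X.sheaf E).PreservesInjectiveObjects := by
  have := preservesFiniteLimits_tens_dualMod hE
  exact Functor.preservesInjectiveObjects_of_adjunction_of_preservesMonomorphisms (tensDualAdj' hE)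

theorem injective_tensorMod_right {E : X.Modules} (hE : FlatMod.IsFinLocFree E) (I : X.Modules)
    (hI : Injective I) : Injective (CohB1.tensorMod I E) :=
  (preservesInjectiveObjects_tens hE).injective_obj hI

theorem injective_tensorMod_left {E : X.Modules} (hE : FlatMod.IsFinLocFree E) (I : X.Modules)
    (hI : Injective I) : Injective (CohB1.tensorMod E I) :=
  Injective.of_iso (braid I E) (injective_tensorMod_right hE I hI)

end Groth.Agent.Lib.helper11.Bidual
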