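import Groth.Agent.Lib.Helper7.QCohExt
import Groth.Agent.Lib.Helper7.IdealMod
import Groth.Agent.Lib.Helper7.QCohProd
import Groth.Agent.Lib.Helper11.GenLocus

/-!
# Serre's criterion for affineness: tools (helper11)

* `ofSec M m : O ⟶ M` for a global section `m`, `sec_ofSec`, `fn_ofSec`, `fn_ofSec_top`.
* `SurjNear α x`, `SurjNear.of_factor`, `surjNear_ofSec`, `epi_of_surjNear`.
* `mono_comp_snd` (abelian categories), `surj_top_of_H1` (global sections surject if `H¹` of the kernel
  vanishes), `H1Ideals X` (hypothesis of Serre's criterion), `isQuasicoherent_image`, `exists_decomp`.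
* `vanishingIdeal_ideal_eq_top`, `idealModι_app_surjective_of_disjoint`,
  `not_mem_basicOpen_of_mem_support`, `not_mem_basicOpen_of_mem`.
* `exists_eq_one`, `exists_basicOpen_of_closed_point`, `isAffine_of_H1Ideals`.
-/

set_option autoImplicit false
universe v u
open CategoryTheory CategoryTheory.Limits AlgebraicGeometry TopologicalSpace Opposite
open Scheme.Modules Groth.Agent.Lib.helper7
open Groth.Agent.Lib.helper11.GenLocus Groth.Agent.Lib.helper11.IsoLocus
open ZeroObject

namespace Groth.Agent.Lib.helper11.SerreCrit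


variable {X : Scheme.{u}}

/-- the morphism `O ⟶ M` named by a global section -/
noncomputable def ofSec (M : X.Modules) (m : Γ(M, ⊤)) : Coh.structureModule X ⟶ M :=
  M.unitHomEquiv.symm (PresheafOfModules.sectionsMk
    (fun U => M.val.map (homOfLE (le_top : U.unop ≤ ⊤)).op m) (fun U V f => by
      rw [← PresheafOfModules.map_comp_apply]
      rfl))

theorem sec_ofSec (M : X.Modules) (m : Γ(M, ⊤)) (U : X.Opens) :
    sec (ofSec M m) U = M.val.map (homOfLE (le_top : U ≤ ⊤)).op m :=
  congrArg (fun σ => σ.val (op U)) (M.unitHomEquiv.apply_symm_apply _)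

theorem fn_ofSec (f : Γ(X, ⊤)) (U : X.Opens) :
    fn (ofSec (Coh.structureModule X) f) U = X.presheaf.map (homOfLE (le_top : U ≤ ⊤)).op f :=
  sec_ofSec (Coh.structureModule X) f U

theorem fn_ofSec_top (f : Γ(X, ⊤)) : fn (ofSec (Coh.structureModule X) f) ⊤ = f := by
  rw [fn_ofSec]
  have : (homOfLE (le_top : (⊤ : X.Opens) ≤ ⊤)).op = 𝟙 _ := rfl
  rw [this, X.presheaf.map_id]
  rfl

/-- `α` is surjective on sections over some affine neighbourhood of `x` -/
def SurjNear {A B : X.Modules} (α : A ⟶ B) (x : X) : Prop :=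
  ∃ V : X.affineOpens, x ∈ V.1 ∧ Function.Surjective (α.app V.1).hom

theorem SurjNear.of_factor {A A' B : X.Modules} {α : A ⟶ B} {x : X} (hα : SurjNear α x)
    (g : A ⟶ A') (α' : A' ⟶ B) (hg : g ≫ α' = α) : SurjNear α' x := by
  obtain ⟨V, hxV, hs⟩ := hα
  refine ⟨V, hxV, fun b => ?_⟩
  obtain ⟨a, rfl⟩ := hs b
  refine ⟨(g.app V.1).hom a, ?_⟩
  rw [← hg]
  rfl

theorem surjNear_ofSec (f : Γ(X, ⊤)) (x : X) (hx : x ∈ X.basicOpen f) :
    SurjNear (ofSec (Coh.structureModule X) f) x := by
  obtain ⟨V, hV, hxV, hVf⟩ := Opens.isBasis_iff_nbhd.mp X.isBasis_affineOpens hx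
  refine ⟨⟨V, hV⟩, hxV, ?_⟩
  have h1 : V ≤ isoLocus (ofSec (Coh.structureModule X) f) := by
    rw [isoLocus_eq_basicOpen, fn_ofSec_top]
    exact hVf
  have h2 : IsIso ((ofSec (Coh.structureModule X) f).app V) :=
    (isIso_app_iff_isUnit _ V).mpr ((le_isoLocus_iff_isUnit _ V).mp h1)
  exact ((ConcreteCategory.isIso_iff_bijective _).mp h2).2

theorem epi_of_surjNear {A B : X.Modules} [A.IsQuasicoherent] [B.IsQuasicoherent] (α : A ⟶ B)
    (h : ∀ x, SurjNear α x) : Epi α := by
  choose V hxV hs using h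
  exact KerSections.epi_of_surjective_cover α (fun x => (V x).1) (fun x => (V x).2)
    (fun x => ⟨x, hxV x⟩) hs



section abelian
variable {C : Type u} [Category.{v} C] [Abelian C]

theorem mono_comp_snd {K A B M : C} (α : A ⟶ M) (β : B ⟶ M) [Mono α]
    (κ : K ⟶ A ⊞ B) [Mono κ] (hκ : κ ≫ biprod.desc α β = 0) : Mono (κ ≫ biprod.snd) := by
  refine Preadditive.mono_of_cancel_zero _ ?_
  intro T t ht
  set k := t ≫ κ with hk
  have h0 : k ≫ biprod.desc α β = 0 := by
    rw [hk, Category.assoc, hκ, comp_zero]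
  have h2 : k ≫ biprod.snd = 0 := by
    rw [hk, Category.assoc]; exact ht
  have h1 : (k ≫ biprod.fst) ≫ α = 0 := by
    have h3 : k ≫ (biprod.fst ≫ biprod.inl + biprod.snd ≫ biprod.inr) ≫ biprod.desc α β = 0 := by
      rw [biprod.total, Category.id_comp]; exact h0
    rw [Preadditive.add_comp, Preadditive.comp_add] at h3
    simp only [Category.assoc, biprod.inl_desc, biprod.inr_desc] at h3
    rw [← Category.assoc k biprod.snd, h2, zero_comp, add_zero] at h3
    rw [Category.assoc]; exact h3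
  have h1' : k ≫ biprod.fst = 0 := by
    rw [← cancel_mono α, h1, zero_comp]
  have h4 : k = 0 := by
    apply biprod.hom_ext
    · rw [h1', zero_comp]
    · rw [h2, zero_comp]
  rw [← cancel_mono κ, ← hk, h4, zero_comp]

end abelian


/-- sections over `⊤` surject when `H¹` of the kernel vanishes -/
theorem surj_top_of_H1 (S : ShortComplex X.Modules) (hS : S.ShortExact)
    (h1 : Subsingleton (Coh.HH X S.X₁ 1)) : Function.Surjective (S.g.app ⊤) := by
  have hS' := QCohExt.toSheaf_shortExact_general X.ringCatSheaf S hS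
  have hvan : Subsingleton (CohTop.HU (Coh.toAb S.X₁) 1 ⊤) :=
    @Equiv.subsingleton _ _ (Groth.Agent.Lib.helper27.SerreVan.HEquivHU (Coh.toAb S.X₁) 1).toEquiv h1
  have := Groth.Agent.Lib.helper27.CechLeray.surjective_of_ext_one
    (Opens.grothendieckTopology X) _ hS' ⊤ hvan
  exact this

/-- the hypothesis of Serre's criterion -/
def H1Ideals (X : Scheme.{u}) : Prop :=
  ∀ (I : X.Modules) (i : I ⟶ Coh.structureModule X), Mono i →
      Coh.IsQCoh I → Subsingleton (Coh.HH X I 1)

theorem isQuasicoherent_image {A B : X.Modules} [A.IsQuasicoherent] [B.IsQuasicoherent]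
    (φ : A ⟶ B) : (Abelian.image φ).IsQuasicoherent := by
  have : (cokernel φ).IsQuasicoherent := CohKer.isQuasicoherent_cokernel φ
  exact CohKer.isQuasicoherent_kernel (cokernel.π φ)

theorem exists_decomp_aux (h : H1Ideals X) {A B : X.Modules} [A.IsQuasicoherent]
    [B.IsQuasicoherent] (α : A ⟶ Coh.structureModule X) [Mono α] (β : B ⟶ Coh.structureModule X)
    (j : B ⟶ Coh.structureModule X) [Mono j] (p : A ⊞ B ⟶ Coh.structureModule X)
    (hp : p = biprod.desc α β)
    (s : Γ(Abelian.image p, ⊤)) :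
    ∃ (a : Γ(A, ⊤)) (b : Γ(B, ⊤)),
      ((Abelian.image.ι p).app ⊤).hom s = (α.app ⊤).hom a + (β.app ⊤).hom b := by
  have hAB : (A ⊞ B).IsQuasicoherent :=
    QCohProd.isQuasicoherent_biprod A B inferInstance inferInstance
  have hIm : (Abelian.image p).IsQuasicoherent := isQuasicoherent_image p
  have hK : (kernel (Abelian.factorThruImage p)).IsQuasicoherent :=
    CohKer.isQuasicoherent_kernel (Abelian.factorThruImage p)
  let S : ShortComplex X.Modules :=
    ShortComplex.mk (kernel.ι (Abelian.factorThruImage p)) (Abelian.factorThruImage p)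
      (kernel.condition _)
  have hS : S.ShortExact :=
    { exact := ShortComplex.exact_of_f_is_kernel _ (kernelIsKernel (Abelian.factorThruImage p))
      mono_f := inferInstanceAs (Mono (kernel.ι (Abelian.factorThruImage p)))
      epi_g := inferInstanceAs (Epi (Abelian.factorThruImage p)) }
  have hκ : kernel.ι (Abelian.factorThruImage p) ≫ biprod.desc α β = 0 := by
    rw [← hp]
    have := Abelian.image.fac p
    calc kernel.ι (Abelian.factorThruImage p) ≫ p
        = kernel.ι (Abelian.factorThruImage p) ≫ Abelian.factorThruImage p ≫ Abelian.image.ι p := by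
          rw [this]
      _ = 0 := by rw [← Category.assoc, kernel.condition, zero_comp]
  have hm : Mono (kernel.ι (Abelian.factorThruImage p) ≫ biprod.snd) :=
    mono_comp_snd α β _ hκ
  have hm' : Mono ((kernel.ι (Abelian.factorThruImage p) ≫ biprod.snd) ≫ j) := mono_comp _ _
  have h1 : Subsingleton (Coh.HH X S.X₁ 1) := h _ _ hm' hK
  obtain ⟨ab, hab⟩ := surj_top_of_H1 S hS h1 s
  refine ⟨((biprod.fst : A ⊞ B ⟶ A).app ⊤).hom ab, ((biprod.snd : A ⊞ B ⟶ B).app ⊤).hom ab, ?_⟩
  have e1 : p = biprod.fst ≫ α + biprod.snd ≫ β := hp.trans biprod.desc_eq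
  have e2 : ((Abelian.image.ι p).app ⊤).hom s = (p.app ⊤).hom ab := by
    rw [← hab]
    exact (congrArg (fun ψ => (Scheme.Modules.Hom.app ψ ⊤).hom ab) (Abelian.image.fac p))
  rw [e2, e1]
  rfl

theorem exists_decomp (h : H1Ideals X) {A B : X.Modules} [A.IsQuasicoherent]
    [B.IsQuasicoherent] (α : A ⟶ Coh.structureModule X) [Mono α] (β : B ⟶ Coh.structureModule X)
    (j : B ⟶ Coh.structureModule X) [Mono j]
    (s : Γ(Abelian.image (biprod.desc α β), ⊤)) :
    ∃ (a : Γ(A, ⊤)) (b : Γ(B, ⊤)),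
      ((Abelian.image.ι (biprod.desc α β)).app ⊤).hom s = (α.app ⊤).hom a + (β.app ⊤).hom b :=
  exists_decomp_aux h α β j _ rfl s




theorem vanishingIdeal_ideal_eq_top (Z : Closeds X) (V : X.affineOpens)
    (hV : Disjoint (V.1 : Set X) (Z : Set X)) :
    (Scheme.IdealSheafData.vanishingIdeal Z).ideal V = ⊤ := by
  rw [Scheme.IdealSheafData.vanishingIdeal_ideal]
  have hA : IsAffineOpen V.1 := V.2
  have : hA.fromSpec ⁻¹' (Z : Set X) = ∅ := by
    ext y
    simp only [Set.mem_preimage, Set.mem_empty_iff_false, iff_false]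
    intro hy
    have hyV : hA.fromSpec y ∈ (V.1 : Set X) := by
      rw [← hA.range_fromSpec]; exact ⟨y, rfl⟩
    exact Set.disjoint_left.mp hV hyV hy
  have e : PrimeSpectrum.vanishingIdeal (hA.fromSpec ⁻¹' (Z : Set X)) = ⊤ := by
    exact (congrArg (PrimeSpectrum.vanishingIdeal (R := Γ(X, V.1))) this).trans
      (PrimeSpectrum.vanishingIdeal_empty (R := Γ(X, V.1)))
  exact e

theorem idealModι_app_surjective_of_disjoint (Z : Closeds X) (V : X.affineOpens)
    (hV : Disjoint (V.1 : Set X) (Z : Set X)) :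
    Function.Surjective ((ClSub.idealModι (Scheme.IdealSheafData.vanishingIdeal Z)).app V.1).hom := by
  intro s
  have := (IdealMod.mem_range_idealModι_iff_of_affine (Scheme.IdealSheafData.vanishingIdeal Z) V s).mpr
    (by rw [vanishingIdeal_ideal_eq_top Z V hV]; trivial)
  exact this

theorem not_mem_basicOpen_of_mem_support (I : X.IdealSheafData)
    (a : Γ(ClSub.idealMod I, ⊤)) (z : X) (hz : z ∈ I.support) :
    z ∉ X.basicOpen (show Γ(X, ⊤) from ((ClSub.idealModι I).app ⊤).hom a) := by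
  obtain ⟨V, hzV⟩ := KerSections.exists_affine_mem z
  intro hzf
  rw [Scheme.IdealSheafData.mem_support_iff_of_mem hzV, Scheme.mem_zeroLocus_iff] at hz
  let i : V.1 ⟶ (⊤ : X.Opens) := homOfLE le_top
  have hmem := IdealMod.idealModι_app_mem I V ((ClSub.idealMod I).presheaf.map i.op a)
  have hnat : ((ClSub.idealModι I).app V.1).hom ((ClSub.idealMod I).presheaf.map i.op a) =
      X.presheaf.map i.op (show Γ(X, ⊤) from ((ClSub.idealModι I).app ⊤).hom a) :=
    PresheafOfModules.naturality_apply (ClSub.idealModι I).val i.op a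
  rw [hnat] at hmem
  have := hz _ hmem
  rw [Scheme.basicOpen_res] at this
  exact this ⟨hzV, hzf⟩

theorem not_mem_basicOpen_of_mem (Z : Closeds X)
    (a : Γ(ClSub.idealMod (Scheme.IdealSheafData.vanishingIdeal Z), ⊤)) (z : X) (hz : z ∈ Z) :
    z ∉ X.basicOpen (show Γ(X, ⊤) from
      ((ClSub.idealModι (Scheme.IdealSheafData.vanishingIdeal Z)).app ⊤).hom a) := by
  apply not_mem_basicOpen_of_mem_support
  have : ((Scheme.IdealSheafData.vanishingIdeal Z).support : Set X) = Z :=
    Scheme.IdealSheafData.coe_support_vanishingIdeal Z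
  show z ∈ ((Scheme.IdealSheafData.vanishingIdeal Z).support : Set X)
  rw [this]
  exact hz



theorem exists_eq_one (h : H1Ideals X) (l : List Γ(X, ⊤)) :
    ∀ {A : X.Modules} [A.IsQuasicoherent] (α : A ⟶ Coh.structureModule X) [Mono α],
      (∀ x : X, SurjNear α x ∨ ∃ f ∈ l, x ∈ X.basicOpen f) →
      ∃ (a : Γ(A, ⊤)) (c : Γ(X, ⊤)), c ∈ Ideal.span {f | f ∈ l} ∧
        (show Γ(X, ⊤) from (α.app ⊤).hom a) + c = 1 := by
  induction l with
  | nil =>
    intro A _ α _ hα
    have hs : ∀ x, SurjNear α x := fun x => (hα x).resolve_right (by simp)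
    have : Epi α := epi_of_surjNear α hs
    have : IsIso α := isIso_of_mono_of_epi α
    refine ⟨((inv α).app ⊤).hom ((1 : Γ(X, ⊤)) : Γ(Coh.structureModule X, ⊤)), 0,
      Ideal.zero_mem _, ?_⟩
    rw [add_zero]
    have e := congrArg (fun ψ : Coh.structureModule X ⟶ Coh.structureModule X =>
      (Scheme.Modules.Hom.app ψ ⊤).hom
      ((1 : Γ(X, ⊤)) : Γ(Coh.structureModule X, ⊤))) (IsIso.inv_hom_id α)
    exact e
  | cons f l ih =>
    intro A _ α _ hα
    let φ := ofSec (Coh.structureModule X) f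
    have hAO : (A ⊞ Coh.structureModule X).IsQuasicoherent :=
      QCohProd.isQuasicoherent_biprod A _ inferInstance inferInstance
    have hIm : (Abelian.image (biprod.desc α φ)).IsQuasicoherent :=
      isQuasicoherent_image (biprod.desc α φ)
    have hfac := Abelian.image.fac (biprod.desc α φ)
    have hα' : ∀ x : X, SurjNear (Abelian.image.ι (biprod.desc α φ)) x ∨
        ∃ g ∈ l, x ∈ X.basicOpen g := by
      intro x
      rcases hα x with h1 | ⟨g, hg, hxg⟩
      · left
        refine h1.of_factor (biprod.inl ≫ Abelian.factorThruImage (biprod.desc α φ)) _ ?_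
        rw [Category.assoc, hfac, biprod.inl_desc]
      · rcases List.mem_cons.mp hg with rfl | hg'
        · left
          refine (surjNear_ofSec g x hxg).of_factor
            (biprod.inr ≫ Abelian.factorThruImage (biprod.desc α φ)) _ ?_
          rw [Category.assoc, hfac, biprod.inr_desc]
        · exact Or.inr ⟨g, hg', hxg⟩
    obtain ⟨a', c, hc, hac⟩ := ih (Abelian.image.ι (biprod.desc α φ)) hα'
    obtain ⟨a, b, hab⟩ := exists_decomp h α φ (𝟙 _) a'
    refine ⟨a, (show Γ(X, ⊤) from b) * f + c, ?_, ?_⟩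
    · refine Ideal.add_mem _ (Ideal.mul_mem_left _ _ (Ideal.subset_span ?_))
        (Ideal.span_mono ?_ hc)
      · exact List.mem_cons_self
      · intro g hg
        exact List.mem_cons_of_mem _ hg
    · have hφb : (φ.app ⊤).hom b = (show Γ(X, ⊤) from b) * f := by
        have := app_apply φ ⊤ (show Γ(X, ⊤) from b)
        rw [this]
        show (show Γ(X, ⊤) from b) * fn φ ⊤ = _
        rw [fn_ofSec_top]
      rw [← hac, hab, hφb]
      exact (add_assoc (show Γ(X, ⊤) from (α.app ⊤).hom a) ((show Γ(X, ⊤) from b) * f) c).symm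



theorem exists_basicOpen_of_closed_point (h : H1Ideals X) (x : X) (hx : IsClosed ({x} : Set X))
    (U : X.Opens) (hxU : x ∈ U) :
    ∃ f : Γ(X, ⊤), x ∈ X.basicOpen f ∧ X.basicOpen f ≤ U := by
  let Z : Closeds X := ⟨(U : Set X)ᶜ, U.isOpen.isClosed_compl⟩
  let P : Closeds X := ⟨{x}, hx⟩
  let I := Scheme.IdealSheafData.vanishingIdeal Z
  let J := Scheme.IdealSheafData.vanishingIdeal P
  let α := ClSub.idealModι I
  let β := ClSub.idealModι J
  have hAB : (ClSub.idealMod I ⊞ ClSub.idealMod J).IsQuasicoherent :=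
    QCohProd.isQuasicoherent_biprod _ _ inferInstance inferInstance
  have hIm : (Abelian.image (biprod.desc α β)).IsQuasicoherent :=
    isQuasicoherent_image (biprod.desc α β)
  have hfac := Abelian.image.fac (biprod.desc α β)
  have hα' : ∀ y : X, SurjNear (Abelian.image.ι (biprod.desc α β)) y ∨
      ∃ g ∈ ([] : List Γ(X, ⊤)), y ∈ X.basicOpen g := by
    intro y
    left
    by_cases hy : y ∈ U
    · obtain ⟨V, hV, hyV, hVU⟩ := Opens.isBasis_iff_nbhd.mp X.isBasis_affineOpens hy
      have h1 : SurjNear α y := ⟨⟨V, hV⟩, hyV,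
        idealModι_app_surjective_of_disjoint Z ⟨V, hV⟩
          (Set.disjoint_left.mpr fun z hzV hzZ => hzZ (hVU hzV))⟩
      refine h1.of_factor (biprod.inl ≫ Abelian.factorThruImage (biprod.desc α β)) _ ?_
      rw [Category.assoc, hfac, biprod.inl_desc]
    · let W : X.Opens := ⟨({x} : Set X)ᶜ, hx.isOpen_compl⟩
      have hyW : y ∈ W := by
        intro hyx
        have : y = x := hyx
        exact hy (this ▸ hxU)
      obtain ⟨V, hV, hyV, hVW⟩ := Opens.isBasis_iff_nbhd.mp X.isBasis_affineOpens hyW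
      have h1 : SurjNear β y := ⟨⟨V, hV⟩, hyV,
        idealModι_app_surjective_of_disjoint P ⟨V, hV⟩
          (Set.disjoint_left.mpr fun z hzV hzP => hVW hzV hzP)⟩
      refine h1.of_factor (biprod.inr ≫ Abelian.factorThruImage (biprod.desc α β)) _ ?_
      rw [Category.assoc, hfac, biprod.inr_desc]
  obtain ⟨a', c, hc, hac⟩ := exists_eq_one h [] (Abelian.image.ι (biprod.desc α β)) hα'
  have hc0 : c = 0 := by
    have : {f : Γ(X, ⊤) | f ∈ ([] : List Γ(X, ⊤))} = ∅ := by ext; simp
    rw [this, Ideal.span_empty] at hc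
    exact hc
  rw [hc0, add_zero] at hac
  obtain ⟨a, b, hab⟩ := exists_decomp h α β β a'
  let f : Γ(X, ⊤) := (α.app ⊤).hom a
  let g : Γ(X, ⊤) := (β.app ⊤).hom b
  have hfg : f + g = 1 := hab.symm.trans hac
  have hg : x ∉ X.basicOpen g := not_mem_basicOpen_of_mem P b x rfl
  refine ⟨f, ?_, ?_⟩
  · have h1 : x ∈ X.basicOpen (f + g) := by
      rw [hfg, X.basicOpen_of_isUnit isUnit_one]
      trivial
    rcases X.basicOpen_add_le f g h1 with h2 | h2
    · exact h2
    · exact (hg h2).elim
  · intro z hz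
    by_contra hzU
    exact not_mem_basicOpen_of_mem Z a z hzU hz

theorem isAffine_of_H1Ideals [CompactSpace X] (h : H1Ideals X) : IsAffine X := by
  -- every point lies in an affine basic open
  have key : ∀ x : X, ∃ f : Γ(X, ⊤), x ∈ X.basicOpen f ∧ IsAffineOpen (X.basicOpen f) := by
    by_contra hcon
    push Not at hcon
    let W : X.Opens := ⨆ f : {f : Γ(X, ⊤) // IsAffineOpen (X.basicOpen f)}, X.basicOpen f.1
    have hWne : ((W : Set X)ᶜ).Nonempty := by
      obtain ⟨x, hx⟩ := hcon
      refine ⟨x, fun hxW => ?_⟩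
      obtain ⟨f, hxf⟩ := Opens.mem_iSup.mp hxW
      exact hx f.1 hxf f.2
    obtain ⟨x, hxW, hxc⟩ := W.isOpen.isClosed_compl.exists_closed_singleton hWne
    obtain ⟨U, hxU⟩ := KerSections.exists_affine_mem x
    obtain ⟨f, hxf, hfU⟩ := exists_basicOpen_of_closed_point h x hxc U.1 hxU
    have haff : IsAffineOpen (X.basicOpen f) := by
      have := U.2.basicOpen (X.presheaf.map (homOfLE (le_top : U.1 ≤ ⊤)).op f)
      rw [Scheme.basicOpen_res, inf_eq_right.mpr hfU] at this
      exact this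
    exact hxW (Opens.mem_iSup.mpr ⟨⟨f, haff⟩, hxf⟩)
  choose f hxf haff using key
  obtain ⟨t, ht⟩ := CompactSpace.elim_nhds_subcover (fun x => (X.basicOpen (f x) : Set X))
    (fun x => (X.basicOpen (f x)).isOpen.mem_nhds (hxf x))
  let l : List Γ(X, ⊤) := t.toList.map f
  have hZ : (0 : X.Modules).IsQuasicoherent := CohKer.isQuasicoherent_of_isZero (isZero_zero _)
  have hcov : ∀ x : X, SurjNear (0 : (0 : X.Modules) ⟶ Coh.structureModule X) x ∨
      ∃ g ∈ l, x ∈ X.basicOpen g := by
    intro x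
    right
    have hx : x ∈ ⋃ y ∈ t, (X.basicOpen (f y) : Set X) := ht ▸ Set.mem_univ x
    simp only [Set.mem_iUnion] at hx
    obtain ⟨y, hyt, hxy⟩ := hx
    exact ⟨f y, List.mem_map.mpr ⟨y, Finset.mem_toList.mpr hyt, rfl⟩, hxy⟩
  obtain ⟨a, c, hc, hac⟩ := exists_eq_one h l (0 : (0 : X.Modules) ⟶ Coh.structureModule X) hcov
  have hc1 : c = 1 := by
    have h0 : (show Γ(X, ⊤) from ((0 : (0 : X.Modules) ⟶ Coh.structureModule X).app ⊤).hom a) = 0 :=
      rfl
    rw [h0, zero_add] at hac
    exact hac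
  refine isAffine_of_isAffineOpen_basicOpen {g | g ∈ l} ?_ ?_
  · rw [Ideal.eq_top_iff_one, ← hc1]
    exact hc
  · intro g hg
    obtain ⟨y, -, rfl⟩ := List.mem_map.mp hg
    exact haff y


end Groth.Agent.Lib.helper11.SerreCrit
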