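import Groth.Agent.Lib.Helper11.IdealGG2
import Groth.Agent.Lib.Helper2.ModSec2
import Groth.Agent.Lib.Helper7.KerSections
import Groth.Agent.Lib.Helper12.AmpleBasis
import Groth.Agent.Lib.Helper11.SerreCrit

/-!
# Ampleness from vanishing of `H¹` of twisted ideals (helper11)

Hartshorne III 5.3-type criterion / Stacks 0B5T-type: `X` quasi-compact, `L` invertible; if every
quasi-coherent ideal `I` has some `n ≥ 1` with `H¹(X, I ⊗ L^{⊗ n}) = 0`, then `L` is ample.

* `mono_restrict`, `mono_of_forall_restrict`: monomorphisms of modules are Zariski-local.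
* `mono_tensorMap_left`: `− ⊗ N` preserves monomorphisms for `N` invertible.
* `eq_zero_of_le_isoLocus`: sections of `coker φ` vanish where `φ` is an isomorphism.
* `exists_preimage_of_cokernel_π_eq_zero`.
* `trivSec`, `genLocus_tensorMap_inf`: local description of `X_s` for `s` coming from `H ⊗ N`.
* `le_isoLocus_kernel_ι`, `subsingleton_quotMod_of_disjoint`.
* `exists_section_of_H1`: closed point `x₀` in an affine trivialising `U` ⇒ section `s` of `L^(n+1)` with
  `x₀ ∈ X_s ⊆ U`.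
* `isAmple_of_H1`: the criterion (S0050).
-/

set_option autoImplicit false
universe u
open CategoryTheory CategoryTheory.Limits AlgebraicGeometry TopologicalSpace Opposite
open Scheme.Modules
open Groth.Agent.Lib.helper11.IsoLocus Groth.Agent.Lib.helper11.InvMod
open Groth.Agent.Lib.helper11.GenLocus Groth.Agent.Lib.helper11.IdealGG
open Groth.Agent.Lib.helper11.IdealGG2
open Groth.Agent.Lib.helper12.TensorRestrict Groth.Agent.Lib.helper12.TensorInv
open Groth.Agent.Lib.helper12.TensorSec Groth.Agent.Lib.helper12.TwistLocal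
open Groth.Agent.Lib.helper12.PullTensor
open Groth.Agent.Lib.Lead.ModTensor
open Groth.Agent.Lib.helper2.ModSec Groth.Agent.Lib.helper7

namespace Groth.Agent.Lib.helper11.TwistH1

variable {X : Scheme.{u}}

theorem mono_restrict {M N : X.Modules} (φ : M ⟶ N) [hφ : Mono φ] (U : X.Opens) :
    Mono ((restrictFunctor U.ι).map φ) := by
  rw [mono_iff_injective_app]
  intro V
  exact (mono_iff_injective_app φ).mp hφ (U.ι ''ᵁ V)

theorem mono_of_forall_restrict {M N : X.Modules} (φ : M ⟶ N)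
    (h : ∀ x : X, ∃ U : X.Opens, x ∈ U ∧ Mono ((restrictFunctor U.ι).map φ)) : Mono φ := by
  rw [mono_iff_injective_app]
  intro V s t hst
  choose U hxU hU using h
  have hle : ∀ x : V, (U x.1).ι ''ᵁ ((U x.1).ι ⁻¹ᵁ V) ≤ V := fun x => by
    rw [Scheme.Hom.image_preimage_eq_opensRange_inf]
    exact inf_le_right
  refine sec_ext_cover M (fun x : V => (U x.1).ι ''ᵁ ((U x.1).ι ⁻¹ᵁ V)) V hle ?_ s t (fun x => ?_)
  · intro x hx
    exact Opens.mem_iSup.mpr ⟨⟨x, hx⟩, ⟨⟨x, hxU x⟩, hx, rfl⟩⟩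
  · have hinj := (mono_iff_injective_app _).mp (hU x.1) ((U x.1).ι ⁻¹ᵁ V)
    apply hinj
    change φ.app _ (M.presheaf.map (homOfLE (hle x)).op s) =
      φ.app _ (M.presheaf.map (homOfLE (hle x)).op t)
    rw [← map_app_apply, ← map_app_apply, hst]

/-- `− ⊗ N` preserves monomorphisms for `N` invertible -/
theorem mono_tensorMap_left {K I N : X.Modules} (k : K ⟶ I) [Mono k] (hN : PicF.IsInvertible N) :
    Mono (tensorMap k (𝟙 N)) := by
  refine mono_of_forall_restrict _ fun x => ?_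
  obtain ⟨U, hxU, ⟨e⟩⟩ := hN x
  refine ⟨U, hxU, ?_⟩
  have hn := tensorTrivIso_naturality k N U e
  have h1 : (restrictFunctor U.ι).map (tensorMap k (𝟙 N)) =
      (tensorTrivIso K N U e).hom ≫ (restrictFunctor U.ι).map k ≫
        (tensorTrivIso I N U e).inv := by
    rw [← Category.assoc, ← hn, Category.assoc, Iso.hom_inv_id, Category.comp_id]
  rw [h1]
  have := mono_restrict k U
  infer_instance

/-- sections of `coker φ` vanish where `φ` is an isomorphism -/
theorem eq_zero_of_le_isoLocus {A B : X.Modules} (φ : A ⟶ B) {V : X.Opens}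
    (hV : V ≤ isoLocus φ) (c : Γ(cokernel φ, V)) : c = 0 := by
  have key : ∀ y : V, ∃ (W : X.Opens) (hW : W ≤ V), y.1 ∈ W ∧
      (cokernel φ).presheaf.map (homOfLE hW).op c = 0 := by
    intro y
    obtain ⟨W, hW, hyW, b, hb⟩ := Groth.Agent.Lib.helper7.LocalLift.exists_local_lift
      (cokernel.π φ) V c y.1 y.2
    refine ⟨W, hW, hyW, ?_⟩
    have hiso : IsIso (φ.app W) := isIso_app_of_le_isoLocus φ (hW.trans hV)
    obtain ⟨a, rfl⟩ := ((ConcreteCategory.isIso_iff_bijective _).mp hiso).2 b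
    rw [← hb]
    have h0 : φ ≫ cokernel.π φ = 0 := cokernel.condition φ
    exact congrArg (fun ψ : A ⟶ cokernel φ => (ψ.app W).hom a) h0
  choose W hW hyW hc using key
  refine sec_ext_cover (cokernel φ) W V hW ?_ c 0 (fun y => ?_)
  · intro x hx
    exact Opens.mem_iSup.mpr ⟨⟨x, hx⟩, hyW ⟨x, hx⟩⟩
  · rw [hc y]
    exact (map_zero ((cokernel φ).presheaf.map (homOfLE (hW y)).op).hom).symm

/-- sections killed by `coker` come from the source, for a monomorphism -/
theorem exists_preimage_of_cokernel_π_eq_zero {A B : X.Modules} (φ : A ⟶ B) [Mono φ]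
    (V : X.Opens) (b : Γ(B, V)) (hb : ((cokernel.π φ).app V).hom b = 0) :
    ∃ a : Γ(A, V), (φ.app V).hom a = b := by
  let S := ShortComplex.mk φ (cokernel.π φ) (cokernel.condition φ)
  have hS : S.Exact := ShortComplex.exact_of_g_is_cokernel _ (cokernelIsCokernel φ)
  have hm : Mono S.f := inferInstanceAs (Mono φ)
  exact (KerSections.sections_leftExact S hS V).2 b hb

/-- the section of `H` over `A` describing `t : O ⟶ H ⊗ N` in the trivialisation `e` of `N` on `A` -/
noncomputable def trivSec {H N : X.Modules} (t : Coh.structureModule X ⟶ CohB1.tensorMod H N)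
    {A : X.Opens} (e : N.restrict A.ι ≅ Coh.structureModule (↑A : Scheme.{u})) :
    Γ(H, A.ι ''ᵁ ⊤) :=
  (((tensorTrivIso H N A e).hom.app ⊤).hom
    (show Γ((CohB1.tensorMod H N).restrict A.ι, ⊤) from SecTwist.val t (A.ι ''ᵁ ⊤)))

/-- in a trivialisation of `N` over `A`, the locus where the section `t ≫ (i ⊗ 1)` of `O ⊗ N`
generates is the basic open of the function `i (trivSec t e)` -/
theorem genLocus_tensorMap_inf {H N : X.Modules} (i : H ⟶ Coh.structureModule X)
    (t : Coh.structureModule X ⟶ CohB1.tensorMod H N) {A : X.Opens}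
    (e : N.restrict A.ι ≅ Coh.structureModule (↑A : Scheme.{u})) :
    CohB1.genLocus (CohB1.tensorMod (Coh.structureModule X) N) (t ≫ tensorMap i (𝟙 N)) ⊓ A =
      A ⊓ X.basicOpen (show Γ(X, A.ι ''ᵁ ⊤) from (i.app (A.ι ''ᵁ ⊤)).hom (trivSec t e)) := by
  let eM := restrictUnitIso A.ι
  let eN := tensorTrivIso (Coh.structureModule X) N A e ≪≫ restrictUnitIso A.ι
  have h1 := isoLocus_inf_eq_basicOpen_localFn (t ≫ tensorMap i (𝟙 N)) eM eN
  rw [genLocus_eq_isoLocus, h1]
  let ψ : Coh.structureModule (↑A : Scheme.{u}) ⟶ H.restrict A.ι :=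
    eM.inv ≫ (restrictFunctor A.ι).map t ≫ (tensorTrivIso H N A e).hom
  have h2 : localEnd (t ≫ tensorMap i (𝟙 N)) eM eN =
      ψ ≫ (restrictFunctor A.ι).map i ≫ (restrictUnitIso A.ι).hom := by
    have hn := tensorTrivIso_naturality i N A e
    simp only [localEnd, ψ, eN, Functor.map_comp, Iso.trans_hom, Category.assoc]
    rw [← Category.assoc ((restrictFunctor A.ι).map (tensorMap i (𝟙 N))), hn]
    simp only [Category.assoc]
  have hψ : SecTwist.val ψ ⊤ = trivSec t e := by
    have h5 : SecTwist.val ψ ⊤ = (((tensorTrivIso H N A e).hom.app ⊤).hom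
        ((t.app (A.ι ''ᵁ ⊤)).hom ((A.ι.appIso ⊤).inv (1 : Γ((↑A : Scheme.{u}), ⊤))))) := rfl
    rw [h5, map_one]
    rfl
  have h3 : localFn (t ≫ tensorMap i (𝟙 N)) eM eN =
      X.presheaf.map (eqToHom A.ι_image_top.symm).op
        (show Γ(X, A.ι ''ᵁ ⊤) from (i.app (A.ι ''ᵁ ⊤)).hom (trivSec t e)) := by
    unfold localFn
    rw [h2, Scheme.Opens.topIso_hom]
    have h4 : fn (ψ ≫ (restrictFunctor A.ι).map i ≫ (restrictUnitIso A.ι).hom) ⊤ =
        (A.ι.appIso ⊤).hom (show Γ(X, A.ι ''ᵁ ⊤) from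
          (i.app (A.ι ''ᵁ ⊤)).hom (SecTwist.val ψ ⊤)) := rfl
    rw [h4, Scheme.Opens.ι_appIso, hψ]
    rfl
  rw [h3, Scheme.basicOpen_res]

theorem le_isoLocus_kernel_ι {F G : X.Modules} (q : F ⟶ G) (W : X.Opens)
    (hsub : ∀ V : X.Opens, V ≤ W → Subsingleton Γ(G, V)) : W ≤ isoLocus (kernel.ι q) := by
  rw [le_isoLocus_iff, isIso_restrict_iff_app]
  intro V hV
  rw [ConcreteCategory.isIso_iff_bijective]
  refine ⟨KerSections.kernel_ι_app_injective q V, fun s => ?_⟩
  have := hsub V hV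
  exact KerSections.exists_kernel_section q V s (Subsingleton.elim _ _)

theorem subsingleton_quotMod_of_disjoint (I : X.IdealSheafData) (V : X.Opens)
    (hV : Disjoint (V : Set X) (I.support : Set X)) : Subsingleton Γ(ClSub.quotMod I, V) := by
  have hbot : I.subschemeι ⁻¹ᵁ V = ⊥ := by
    ext z
    simp only [Opens.coe_bot, Set.mem_empty_iff_false, iff_false]
    intro hz
    have h1 : I.subschemeι z ∈ (I.support : Set X) := by
      rw [← Scheme.IdealSheafData.range_subschemeι]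
      exact ⟨z, rfl⟩
    exact Set.disjoint_left.mp hV hz h1
  have key : ∀ (O : I.subscheme.Opens), O = ⊥ →
      ∀ s t : Γ(Coh.structureModule I.subscheme, O), s = t := by
    rintro _ rfl
    exact sec_bot _
  exact ⟨fun s t => key _ hbot s t⟩

theorem exists_section_of_H1 {L : X.Modules} (hL : PicF.IsInvertible L)
    (h : ∀ (I : X.Modules) (i : I ⟶ Coh.structureModule X), Mono i → Coh.IsQCoh I →
      ∃ n : ℕ, Subsingleton (Coh.HH X (CohB1.tensorMod I (CohB1.tensorPow L (n + 1))) 1))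
    {U : X.Opens} (hU : IsAffineOpen U) (hT : IsTrivOn L U) {x₀ : X} (hx₀ : x₀ ∈ U)
    (hcl : IsClosed ({x₀} : Set X)) :
    ∃ (n : ℕ) (s : Coh.structureModule X ⟶ CohB1.tensorPow L (n + 1)),
      x₀ ∈ CohB1.genLocus _ s ∧ CohB1.genLocus _ s ≤ U := by
  let Z : Closeds X := ⟨(U : Set X)ᶜ, U.2.isClosed_compl⟩
  let I0 := Scheme.IdealSheafData.vanishingIdeal Z
  let H := ClSub.idealMod I0
  let ιI : H ⟶ Coh.structureModule X := ClSub.idealModι I0
  obtain ⟨hle, hv⟩ := vanishingIdeal_compl_props hU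
  let P : Closeds X := ⟨{x₀}, hcl⟩
  let IP := Scheme.IdealSheafData.vanishingIdeal P
  let q : H ⟶ ClSub.quotMod IP := ιI ≫ ClSub.toSubscheme IP
  let K := kernel q
  let k : K ⟶ H := kernel.ι q
  have hKq : K.IsQuasicoherent := CohKer.isQuasicoherent_kernel q
  have hιI : Mono ιI := inferInstanceAs (Mono (kernel.ι (ClSub.toSubscheme I0)))
  have hmono : Mono (k ≫ ιI) := mono_comp _ _
  obtain ⟨n, hn⟩ := h K (k ≫ ιI) hmono hKq
  let N := CohB1.tensorPow L (n + 1)
  have hN : PicF.IsInvertible N := isInvertible_tensorPow hL _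
  obtain ⟨e⟩ := isTrivOn_tensorPow hT (n+1)
  let φ : CohB1.tensorMod K N ⟶ CohB1.tensorMod H N := tensorMap k (𝟙 N)
  have hφ : Mono φ := mono_tensorMap_left k hN
  let S : ShortComplex X.Modules := ShortComplex.mk φ (cokernel.π φ) (cokernel.condition φ)
  have hS : S.ShortExact :=
    { exact := ShortComplex.exact_of_g_is_cokernel _ (cokernelIsCokernel φ)
      mono_f := hφ
      epi_g := inferInstanceAs (Epi (cokernel.π φ)) }
  have hsurj := SerreCrit.surj_top_of_H1 S hS hn
  -- the punctured open and `φ` is an isomorphism there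
  let W : X.Opens := ⟨({x₀} : Set X)ᶜ, hcl.isOpen_compl⟩
  have hsupp : ((IP.support : Closeds X) : Set X) = {x₀} :=
    Scheme.IdealSheafData.coe_support_vanishingIdeal P
  have hWk : W ≤ isoLocus k := by
    refine le_isoLocus_kernel_ι q W (fun V hV => subsingleton_quotMod_of_disjoint IP V ?_)
    rw [hsupp]
    exact Set.disjoint_singleton_right.mpr (fun hx => hV hx rfl)
  have hWφ : W ≤ isoLocus φ := by
    refine le_trans ?_ (isoLocus_inf_le_tensorMap k (𝟙 N))
    refine le_inf hWk ?_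
    rw [(isoLocus_eq_top_iff (𝟙 N)).mpr inferInstance]
    exact le_top
  -- the trivialising open as an open of `X`
  let A : X.Opens := U.ι ''ᵁ ⊤
  have hAU : A = U := U.ι_image_top
  have hx₀A : x₀ ∈ A := hAU ▸ hx₀
  have hAle : A ≤ isoLocus ιI := hAU.le.trans hle
  have hisoA : IsIso (ιI.app A) := isIso_app_of_le_isoLocus ιI hAle
  obtain ⟨a₁, ha₁⟩ := ((ConcreteCategory.isIso_iff_bijective _).mp hisoA).2
    (1 : Γ(X, A))
  let θH := tensorTrivIso H N U e
  let θK := tensorTrivIso K N U e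
  let sA : Γ(CohB1.tensorMod H N, A) := ((θH.inv.app ⊤).hom (show Γ(H.restrict U.ι, ⊤) from a₁))
  let C := cokernel φ
  let π : CohB1.tensorMod H N ⟶ C := cokernel.π φ
  let cA : Γ(C, A) := (π.app A).hom sA
  obtain ⟨c, hc1, -⟩ := glue₂ C cA (0 : Γ(C, W))
    ((eq_zero_of_le_isoLocus φ (inf_le_right.trans hWφ) _).trans
      (eq_zero_of_le_isoLocus φ (inf_le_right.trans hWφ) _).symm)
  have htop : (⊤ : X.Opens) ≤ A ⊔ W := by
    intro y _
    by_cases hy : y = x₀
    · exact Or.inl (hy ▸ hx₀A)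
    · exact Or.inr hy
  let c' : Γ(C, ⊤) := C.presheaf.map (homOfLE htop).op c
  obtain ⟨s', hs'⟩ := hsurj c'
  let HN := CohB1.tensorMod H N
  let sres : Γ(HN, A) := HN.presheaf.map (homOfLE (le_top : A ≤ ⊤)).op s'
  have hπres : (π.app A).hom sres = cA := by
    have hnat : (π.app A).hom (HN.presheaf.map (homOfLE (le_top : A ≤ ⊤)).op s') =
        C.presheaf.map (homOfLE (le_top : A ≤ ⊤)).op ((π.app ⊤).hom s') :=
      PresheafOfModules.naturality_apply π.val (homOfLE (le_top : A ≤ ⊤)).op s'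
    have hs'' : (π.app ⊤).hom s' = c' := hs'
    rw [hnat, hs'', ← hc1]
    exact Groth.Agent.Lib.helper7.map_map C htop (le_top : A ≤ ⊤) c
  have hdiff : (π.app A).hom (sA - sres) = 0 := by
    rw [map_sub, hπres]
    exact sub_self _
  obtain ⟨t', ht'⟩ := exists_preimage_of_cokernel_π_eq_zero φ A (sA - sres) hdiff
  let b : Γ(K, A) := (θK.hom.app ⊤).hom (show Γ((CohB1.tensorMod K N).restrict U.ι, ⊤) from t')
  have hθ1 : (θH.hom.app ⊤).hom (show Γ(HN.restrict U.ι, ⊤) from sA) = a₁ :=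
    congrArg (fun ψ : H.restrict U.ι ⟶ H.restrict U.ι =>
      (Scheme.Modules.Hom.app ψ ⊤).hom (show Γ(H.restrict U.ι, ⊤) from a₁)) θH.inv_hom_id
  have hθ2 : (θH.hom.app ⊤).hom (show Γ(HN.restrict U.ι, ⊤) from (φ.app A).hom t') =
      (k.app A).hom b :=
    congrArg (fun ψ : (CohB1.tensorMod K N).restrict U.ι ⟶ H.restrict U.ι =>
      (Scheme.Modules.Hom.app ψ ⊤).hom (show Γ((CohB1.tensorMod K N).restrict U.ι, ⊤) from t'))
      (tensorTrivIso_naturality k N U e)
  let t : Coh.structureModule X ⟶ HN := Groth.Agent.Lib.helper12.AmpleBasis.homOfSec HN s'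
  have htriv : trivSec t e = (θH.hom.app ⊤).hom (show Γ(HN.restrict U.ι, ⊤) from sres) := by
    unfold trivSec
    rw [Groth.Agent.Lib.helper12.AmpleBasis.val_homOfSec]
    rfl
  have hsum : trivSec t e + (k.app A).hom b = a₁ := by
    rw [htriv, ← hθ2, ht', ← hθ1]
    have : (show Γ(HN.restrict U.ι, ⊤) from sres) + (show Γ(HN.restrict U.ι, ⊤) from (sA - sres)) =
        (show Γ(HN.restrict U.ι, ⊤) from sA) := add_sub_cancel sres sA
    exact (map_add (θH.hom.app ⊤).hom _ _).symm.trans (congrArg (θH.hom.app ⊤).hom this)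
  let f : Γ(X, A) := (ιI.app A).hom (trivSec t e)
  let g : Γ(X, A) := (ιI.app A).hom ((k.app A).hom b)
  have hfg : f + g = 1 := by
    rw [← ha₁, ← hsum]
    exact (map_add (ιI.app A).hom _ _).symm
  have hg : x₀ ∉ X.basicOpen g := by
    have hq0 : (q.app A).hom ((k.app A).hom b) = 0 := KerSections.kernel_ι_app_comp q A b
    have hmem : g ∈ Set.range ((ClSub.idealModι IP).app A).hom := by
      rw [IdealMod.mem_range_idealModι_iff]
      exact hq0
    obtain ⟨a', ha'⟩ := hmem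
    rw [← ha']
    refine not_mem_basicOpen_of_mem_support' IP A a' x₀ ?_
    show x₀ ∈ ((IP.support : Closeds X) : Set X)
    rw [hsupp]
    rfl
  have hf : x₀ ∈ X.basicOpen f := by
    have h1 : x₀ ∈ X.basicOpen (f + g) := by
      rw [hfg, X.basicOpen_of_isUnit isUnit_one]
      exact hx₀A
    rcases X.basicOpen_add_le f g h1 with h2 | h2
    · exact h2
    · exact (hg h2).elim
  refine ⟨n, (t ≫ tensorMap ιI (𝟙 N)) ≫ (leftUnitor N).hom, ?_, ?_⟩
  · have e2 : CohB1.genLocus N ((t ≫ tensorMap ιI (𝟙 N)) ≫ (leftUnitor N).hom) =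
        CohB1.genLocus _ (t ≫ tensorMap ιI (𝟙 N)) := genLocus_comp_iso _ (leftUnitor N)
    rw [e2]
    have h3 := genLocus_tensorMap_inf ιI t e
    have h4 : x₀ ∈ U ⊓ X.basicOpen f := ⟨hx₀, hf⟩
    rw [← h3] at h4
    exact h4.1
  · have e2 : CohB1.genLocus N ((t ≫ tensorMap ιI (𝟙 N)) ≫ (leftUnitor N).hom) =
        CohB1.genLocus _ (t ≫ tensorMap ιI (𝟙 N)) := genLocus_comp_iso _ (leftUnitor N)
    exact e2.le.trans (genLocus_tensorMap_le hN ιI hv t)

/-- **Ampleness from `H¹`-vanishing of twisted ideals** -/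
theorem isAmple_of_H1 [CompactSpace X] {L : X.Modules} (hL : PicF.IsInvertible L)
    (h : ∀ (I : X.Modules) (i : I ⟶ Coh.structureModule X), Mono i → Coh.IsQCoh I →
      ∃ n : ℕ, Subsingleton (Coh.HH X (CohB1.tensorMod I (CohB1.tensorPow L (n + 1))) 1)) :
    CohB1.IsAmple L := by
  refine ⟨hL, inferInstance, fun x => ?_⟩
  obtain ⟨x₀, hx₀cl, hx₀⟩ := (isClosed_closure (s := ({x} : Set X))).exists_closed_singleton
    ⟨x, subset_closure rfl⟩
  obtain ⟨U, hU, hx₀U, -, hTU⟩ := exists_affine_isTrivOn hL x₀ ⊤ trivial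
  obtain ⟨n, s, hxs, hsU⟩ := exists_section_of_H1 hL h hU hTU hx₀U hx₀
  refine ⟨n, s, ?_, Groth.Agent.Lib.helper12.AmpleBasis.isAffineOpen_genLocus_of_le s hU
    (isTrivOn_tensorPow hTU _) hsU⟩
  have hsp : x ⤳ x₀ := specializes_iff_mem_closure.mpr hx₀cl
  exact hsp.mem_open (CohB1.genLocus _ s).isOpen hxs

end Groth.Agent.Lib.helper11.TwistH1
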