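import Mathlib
import Groth.Agent.Lib.Helper12.TensorCocont
import Groth.Agent.Lib.Helper12.PullTensor
import Groth.Agent.Lib.Helper11.TwistH1
import Groth.Agent.Lib.Helper11.TensorEpi
import Groth.Agent.Lib.Helper16.FLF5

set_option autoImplicit false
universe u
open CategoryTheory CategoryTheory.Limits AlgebraicGeometry TopologicalSpace Opposite
open Scheme.Modules
open Groth.Agent.Lib.Lead.ModTensor
open Groth.Agent.Lib.helper12.PullTensor Groth.Agent.Lib.helper12.TensorRestrict
open Groth.Agent.Lib.helper12.TensorSec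

namespace Groth.Agent.Lib.helper11.ProjFormula

variable {X : Scheme.{u}}

attribute [local instance] Abelian.hasFiniteBiproducts

theorem add_val_app {M N : X.Modules} (φ ψ : M ⟶ N) (U : X.Opens) (m : M.val.obj (op U)) :
    ((φ + ψ).val.app (op U)).hom m = (φ.val.app (op U)).hom m + (ψ.val.app (op U)).hom m := by
  rfl

theorem tensorMap_add_right (M : X.Modules) {N N' : X.Modules} (φ ψ : N ⟶ N') :
    tensorMap (𝟙 M) (φ + ψ) = tensorMap (𝟙 M) φ + tensorMap (𝟙 M) ψ := by
  apply tensorMod_hom_ext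
  intro U m n
  rw [add_val_app, tensorMap_tmul, tensorMap_tmul, tensorMap_tmul, add_val_app,
    Groth.Agent.Lib.helper11.TensorEpi.tmul_add_right]

/-- `M ⊗ −` as a functor. -/
noncomputable def tensL (M : X.Modules) : X.Modules ⥤ X.Modules where
  obj N := CohB1.tensorMod M N
  map φ := tensorMap (𝟙 M) φ
  map_id N := tensorMap_id M N
  map_comp φ ψ := by
    have := tensorMap_comp (𝟙 M) (𝟙 M) φ ψ
    rw [Category.comp_id] at this
    exact this

instance (M : X.Modules) : (tensL M).Additive where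
  map_add {_ _ φ ψ} := tensorMap_add_right M φ ψ

theorem tensorMap_sum_right (M : X.Modules) {N N' : X.Modules} {ι : Type*} (s : Finset ι)
    (φ : ι → (N ⟶ N')) :
    tensorMap (𝟙 M) (∑ i ∈ s, φ i) = ∑ i ∈ s, tensorMap (𝟙 M) (φ i) :=
  (tensL M).map_sum φ s

theorem tensorMap_comp' {M M' M'' N N' N'' : X.Modules} (f : M ⟶ M') (f' : M' ⟶ M'')
    (g : N ⟶ N') (g' : N' ⟶ N'') :
    tensorMap f g ≫ tensorMap f' g' = tensorMap (f ≫ f') (g ≫ g') :=
  (tensorMap_comp f f' g g').symm

/-- `− ⊗ B` preserves monomorphisms when `B` is a finite biproduct of copies of `O`. -/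
theorem mono_tensorMap_biproduct {K I : X.Modules} (k : K ⟶ I) [Mono k] (n : ℕ) :
    Mono (tensorMap k (𝟙 (⨁ fun _ : Fin n => Coh.structureModule X))) := by
  set f : Fin n → X.Modules := fun _ => Coh.structureModule X with hf
  have hmono : Mono (tensorMap k (𝟙 (Coh.structureModule X))) :=
    Groth.Agent.Lib.helper11.TwistH1.mono_tensorMap_left k
      (Groth.Agent.Lib.helper11.InvMod.isInvertible_structureModule X)
  apply Preadditive.mono_of_cancel_zero
  intro Z h hh
  have h1 : ∀ i : Fin n, h ≫ tensorMap (𝟙 K) (biproduct.π f i) = 0 := by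
    intro i
    rw [← cancel_mono (tensorMap k (𝟙 (Coh.structureModule X))), zero_comp, Category.assoc,
      tensorMap_comp', Category.id_comp]
    have h2 : tensorMap k (biproduct.π f i ≫ 𝟙 _) =
        tensorMap k (𝟙 (⨁ f)) ≫ tensorMap (𝟙 I) (biproduct.π f i) := by
      rw [tensorMap_comp', Category.comp_id, Category.comp_id, Category.id_comp]
    rw [h2, ← Category.assoc, hh, zero_comp]
  have h3 : h = h ≫ tensorMap (𝟙 K) (𝟙 (⨁ f)) := by
    rw [tensorMap_id, Category.comp_id]
  rw [h3, ← biproduct.total, tensorMap_sum_right, Preadditive.comp_sum]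
  refine Finset.sum_eq_zero fun i _ => ?_
  have h4 : tensorMap (𝟙 K) (biproduct.π f i ≫ biproduct.ι f i) =
      tensorMap (𝟙 K) (biproduct.π f i) ≫ tensorMap (𝟙 K) (biproduct.ι f i) := by
    rw [tensorMap_comp', Category.comp_id]
  rw [h4, ← Category.assoc, h1, zero_comp]

/-- `− ⊗ E` preserves monomorphisms for `E` finite locally free. -/
theorem mono_tensorMap_of_isFinLocFree {K I E : X.Modules} (k : K ⟶ I) [Mono k]
    (hE : FlatMod.IsFinLocFree E) : Mono (tensorMap k (𝟙 E)) := by
  refine Groth.Agent.Lib.helper11.TwistH1.mono_of_forall_restrict _ fun x => ?_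
  obtain ⟨U, n, hxU, ⟨e⟩⟩ := hE x
  refine ⟨U, hxU, ?_⟩
  let B : (U : Scheme.{u}).Modules := ⨁ fun _ : Fin n => Coh.structureModule (U : Scheme.{u})
  let e' : (restrictFunctor U.ι).obj E ≅ B := e ≪≫ (biproduct.isoCoproduct _).symm
  have hn := restrictTensorIso_inv_naturality U.ι k (𝟙 E)
  have h1 : (restrictFunctor U.ι).map (tensorMap k (𝟙 E)) =
      (restrictTensorIso U.ι K E).hom ≫
        tensorMap ((restrictFunctor U.ι).map k) ((restrictFunctor U.ι).map (𝟙 E)) ≫
          (restrictTensorIso U.ι I E).inv := by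
    rw [hn, Iso.hom_inv_id_assoc]
  have h2 : tensorMap ((restrictFunctor U.ι).map k) ((restrictFunctor U.ι).map (𝟙 E)) =
      tensorMap (𝟙 _) e'.hom ≫ tensorMap ((restrictFunctor U.ι).map k) (𝟙 B) ≫
        tensorMap (𝟙 _) e'.inv := by
    rw [tensorMap_comp', tensorMap_comp', Category.id_comp, Category.comp_id,
      Category.id_comp, Iso.hom_inv_id, CategoryTheory.Functor.map_id]
  rw [h1, h2]
  have := Groth.Agent.Lib.helper11.TwistH1.mono_restrict k U
  have : Mono (tensorMap ((restrictFunctor U.ι).map k) (𝟙 B)) :=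
    mono_tensorMap_biproduct _ n
  have : IsIso (tensorMap (𝟙 ((restrictFunctor U.ι).obj K)) e'.hom) :=
    (tensorIso (Iso.refl _) e').isIso_hom
  have : IsIso (tensorMap (𝟙 ((restrictFunctor U.ι).obj I)) e'.inv) :=
    (tensorIso (Iso.refl _) e'.symm).isIso_hom
  infer_instance

open Groth.Agent.Lib.Helper20.TensorEquiv in
/-- `− ⊗ E` is exact for `E` finite locally free. -/
theorem preservesFiniteLimits_tensorRight {E : X.Modules} (hE : FlatMod.IsFinLocFree E) :
    PreservesFiniteLimits (tensorRight E) := by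
  have : (tensorRight E).Additive :=
    Groth.Agent.Lib.helper12.TensorCocont.additive_tensorRight E
  rw [((tensorRight E).preservesFiniteLimits_tfae.out 3 0 :)]
  intro S hS
  have h1 := Groth.Agent.Lib.helper12.TensorCocont.map_exact_and_epi E hS
  refine ⟨h1.1, ?_⟩
  have := hS.mono_f
  exact mono_tensorMap_of_isFinLocFree S.f hE

end Groth.Agent.Lib.helper11.ProjFormula
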