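import Mathlib
import Groth.Agent.Lib.Helper11.ProjFormulaA

set_option autoImplicit false
universe u
open CategoryTheory CategoryTheory.Limits AlgebraicGeometry TopologicalSpace Opposite
open Scheme.Modules
open Groth.Agent.Lib.Lead.ModTensor
open Groth.Agent.Lib.helper12.PullTensor Groth.Agent.Lib.helper12.TensorRestrict
open Groth.Agent.Lib.helper12.TensorSec
open Groth.Agent.Lib.helper11.IsoLocus

namespace Groth.Agent.Lib.helper11.ProjFormula

theorem comp_val_app_apply {Z : Scheme.{u}} {A B C : Z.Modules} (a : A ⟶ B) (b : B ⟶ C)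
    (U : Z.Opens) (x : A.val.obj (op U)) :
    ((a ≫ b).val.app (op U)).hom x = (b.val.app (op U)).hom ((a.val.app (op U)).hom x) := rfl

theorem id_val_app_apply {Z : Scheme.{u}} (A : Z.Modules)
    (U : Z.Opens) (x : A.val.obj (op U)) :
    ((𝟙 A : A ⟶ A).val.app (op U)).hom x = x := rfl

variable {X Y : Scheme.{u}} (f : X ⟶ Y)

theorem pushforward_map_val_app_apply {A B : X.Modules} (a : A ⟶ B) (V : Y.Opens)
    (x : A.val.obj (op (f ⁻¹ᵁ V))) :
    (((Scheme.Modules.pushforward f).map a).val.app (op V)).hom x =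
      (a.val.app (op (f ⁻¹ᵁ V))).hom x := rfl

/-- the projection morphism `f_*M ⊗ E ⟶ f_*(M ⊗ f^*E)` -/
noncomputable def proj (M : X.Modules) (E : Y.Modules) :
    CohB1.tensorMod ((Scheme.Modules.pushforward f).obj M) E ⟶
      (Scheme.Modules.pushforward f).obj (CohB1.tensorMod M ((Scheme.Modules.pullback f).obj E)) :=
  tensorMap (𝟙 _) ((pbAdj f).unit.app E) ≫ laxHom f M ((Scheme.Modules.pullback f).obj E)

theorem proj_tmul (M : X.Modules) (E : Y.Modules) (V : Y.Opens)
    (m : M.val.obj (op (f ⁻¹ᵁ V))) (e : E.val.obj (op V)) :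
    ((proj f M E).val.app (op V)).hom
        (SecTwist.tmul ((Scheme.Modules.pushforward f).obj M) E V m e) =
      SecTwist.tmul M ((Scheme.Modules.pullback f).obj E) (f ⁻¹ᵁ V) m (unitSec f E V e) := by
  have h1 := tensorMap_tmul (𝟙 ((Scheme.Modules.pushforward f).obj M)) ((pbAdj f).unit.app E) V m e
  have h2 := laxHom_tmul f M ((Scheme.Modules.pullback f).obj E) V m (unitSec f E V e)
  have h3 : ((proj f M E).val.app (op V)).hom
        (SecTwist.tmul ((Scheme.Modules.pushforward f).obj M) E V m e) =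
      ((laxHom f M ((Scheme.Modules.pullback f).obj E)).val.app (op V)).hom
        (((tensorMap (𝟙 ((Scheme.Modules.pushforward f).obj M)) ((pbAdj f).unit.app E)).val.app (op V)).hom
          (SecTwist.tmul ((Scheme.Modules.pushforward f).obj M) E V m e)) := rfl
  exact h3.trans ((congrArg _ h1).trans h2)


theorem proj_naturality_left {M M' : X.Modules} (φ : M ⟶ M') (E : Y.Modules) :
    tensorMap ((Scheme.Modules.pushforward f).map φ) (𝟙 E) ≫ proj f M' E =
      proj f M E ≫ (Scheme.Modules.pushforward f).map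
        (tensorMap φ (𝟙 ((Scheme.Modules.pullback f).obj E))) := by
  apply tensorMod_hom_ext
  intro V m e
  have h1 := tensorMap_tmul ((Scheme.Modules.pushforward f).map φ) (𝟙 E) V m e
  have h2 := proj_tmul f M' E V ((φ.val.app (op (f ⁻¹ᵁ V))).hom m) e
  have h3 := proj_tmul f M E V m e
  have h4 := tensorMap_tmul φ (𝟙 ((Scheme.Modules.pullback f).obj E)) (f ⁻¹ᵁ V) m (unitSec f E V e)
  refine (comp_val_app_apply _ _ V _).trans ?_
  refine ((congrArg _ h1).trans h2).trans ?_
  refine Eq.trans ?_ (comp_val_app_apply _ _ V _).symm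
  refine Eq.trans ?_ (congrArg _ h3).symm
  exact h4.symm

theorem proj_naturality_right (M : X.Modules) {E E' : Y.Modules} (a : E ⟶ E') :
    tensorMap (𝟙 ((Scheme.Modules.pushforward f).obj M)) a ≫ proj f M E' =
      proj f M E ≫ (Scheme.Modules.pushforward f).map
        (tensorMap (𝟙 M) ((Scheme.Modules.pullback f).map a)) := by
  apply tensorMod_hom_ext
  intro V m e
  have h1 := tensorMap_tmul (𝟙 ((Scheme.Modules.pushforward f).obj M)) a V m e
  have h2 := proj_tmul f M E' V m ((a.val.app (op V)).hom e)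
  have h3 := proj_tmul f M E V m e
  have h4 := tensorMap_tmul (𝟙 M) ((Scheme.Modules.pullback f).map a) (f ⁻¹ᵁ V) m (unitSec f E V e)
  have h5 := unitSec_naturality f a V e
  refine (comp_val_app_apply _ _ V _).trans ?_
  refine ((congrArg _ h1).trans h2).trans ?_
  refine Eq.trans ?_ (comp_val_app_apply _ _ V _).symm
  refine Eq.trans ?_ (congrArg _ h3).symm
  refine Eq.trans ?_ h4.symm
  rw [h5]
  rfl


open Groth.Agent.Lib.helper11.InvMod Groth.Agent.Lib.helper11.InvPullback in
theorem proj_unit (M : X.Modules) :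
    proj f M (Coh.structureModule Y) ≫ (Scheme.Modules.pushforward f).map
        (tensorMap (𝟙 M) (pullbackUnitIso f).hom ≫ (SecTwist.unitorR M).hom) =
      (SecTwist.unitorR ((Scheme.Modules.pushforward f).obj M)).hom := by
  apply tensorMod_hom_ext
  intro V m a
  have h1 := proj_tmul f M (Coh.structureModule Y) V m a
  have h2 := tensorMap_tmul (𝟙 M) (pullbackUnitIso f).hom (f ⁻¹ᵁ V) m
    (unitSec f (Coh.structureModule Y) V a)
  have h3 := pullbackUnitIso_hom_unitSec f V a
  have h4 := SecTwist.unitorR_tmul M (f ⁻¹ᵁ V) m (f.app V a)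
  have h5 := SecTwist.unitorR_tmul ((Scheme.Modules.pushforward f).obj M) V m a
  refine (comp_val_app_apply _ _ V _).trans ?_
  refine (congrArg _ h1).trans ?_
  refine (pushforward_map_val_app_apply f _ V _).trans ?_
  refine (comp_val_app_apply _ _ (f ⁻¹ᵁ V) _).trans ?_
  refine (congrArg _ h2).trans ?_
  refine Eq.trans ?_ h5.symm
  rw [h3]
  exact h4


open Groth.Agent.Lib.helper11.InvMod Groth.Agent.Lib.helper11.InvPullback in
theorem isIso_proj_unit (M : X.Modules) : IsIso (proj f M (Coh.structureModule Y)) := by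
  have h1 := proj_unit f M
  have h0 : IsIso (tensorMap (𝟙 M) (pullbackUnitIso f).hom) :=
    (tensorIso (Iso.refl M) (pullbackUnitIso f)).isIso_hom
  have h3 : IsIso ((Scheme.Modules.pushforward f).map
      (tensorMap (𝟙 M) (pullbackUnitIso f).hom ≫ (SecTwist.unitorR M).hom)) := inferInstance
  have h2 : proj f M (Coh.structureModule Y) =
      (SecTwist.unitorR ((Scheme.Modules.pushforward f).obj M)).hom ≫
        inv ((Scheme.Modules.pushforward f).map
          (tensorMap (𝟙 M) (pullbackUnitIso f).hom ≫ (SecTwist.unitorR M).hom)) := by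
    rw [← h1, Category.assoc, IsIso.hom_inv_id, Category.comp_id]
  rw [h2]
  infer_instance

theorem le_isoLocus_pushforward {A B : X.Modules} (ψ : A ⟶ B) (V : Y.Opens)
    (h : f ⁻¹ᵁ V ≤ isoLocus ψ) : V ≤ isoLocus ((Scheme.Modules.pushforward f).map ψ) := by
  rw [le_isoLocus_iff, isIso_restrict_iff_app]
  intro W hW
  have h1 : IsIso (ψ.app (f ⁻¹ᵁ W)) :=
    isIso_app_of_le_isoLocus ψ (le_trans (fun x hx => hW hx) h)
  exact h1


section additive

variable {C D : Type*} [Category C] [Category D] [Preadditive C] [Preadditive D]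

/-- a natural transformation between additive functors which is an isomorphism on each summand
is an isomorphism on a finite biproduct -/
theorem isIso_app_biproduct (F G : C ⥤ D) [F.Additive] [G.Additive] (α : F ⟶ G) {n : ℕ}
    (g : Fin n → C) [HasBiproduct g] (h : ∀ i, IsIso (α.app (g i))) : IsIso (α.app (⨁ g)) := by
  refine ⟨∑ i, G.map (biproduct.π g i) ≫ inv (α.app (g i)) ≫ F.map (biproduct.ι g i), ?_, ?_⟩
  · rw [Preadditive.comp_sum]
    have : ∀ i, α.app (⨁ g) ≫ G.map (biproduct.π g i) ≫ inv (α.app (g i)) ≫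
        F.map (biproduct.ι g i) = F.map (biproduct.π g i ≫ biproduct.ι g i) := by
      intro i
      rw [← Category.assoc, ← α.naturality, Category.assoc, IsIso.hom_inv_id_assoc,
        F.map_comp]
    simp_rw [this]
    rw [← F.map_sum, biproduct.total, F.map_id]
  · rw [Preadditive.sum_comp]
    have : ∀ i, (G.map (biproduct.π g i) ≫ inv (α.app (g i)) ≫
        F.map (biproduct.ι g i)) ≫ α.app (⨁ g) = G.map (biproduct.π g i ≫ biproduct.ι g i) := by
      intro i
      rw [Category.assoc, Category.assoc, α.naturality, IsIso.inv_hom_id_assoc, G.map_comp]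
    simp_rw [this]
    rw [← G.map_sum, biproduct.total, G.map_id]

end additive


attribute [local instance] Abelian.hasFiniteBiproducts

instance : (Scheme.Modules.pullback f).Additive :=
  (Scheme.Modules.pullbackPushforwardAdjunction f).left_adjoint_additive

/-- `proj` as a natural transformation in `E` -/
noncomputable def projNatE (M : X.Modules) :
    tensL ((Scheme.Modules.pushforward f).obj M) ⟶
      Scheme.Modules.pullback f ⋙ tensL M ⋙ Scheme.Modules.pushforward f where
  app E := proj f M E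
  naturality _ _ a := proj_naturality_right f M a

theorem isIso_proj_biproduct (M : X.Modules) (n : ℕ) :
    IsIso (proj f M (⨁ fun _ : Fin n => Coh.structureModule Y)) :=
  isIso_app_biproduct _ _ (projNatE f M) (fun _ : Fin n => Coh.structureModule Y)
    (fun _ => isIso_proj_unit f M)

theorem isIso_proj_of_iso (M : X.Modules) {E E' : Y.Modules} (e : E ≅ E')
    (h : IsIso (proj f M E)) : IsIso (proj f M E') := by
  have h1 := proj_naturality_right f M e.hom
  have h2 : IsIso (tensorMap (𝟙 ((Scheme.Modules.pushforward f).obj M)) e.hom) :=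
    (tensorIso (Iso.refl _) e).isIso_hom
  have h3 : IsIso (tensorMap (𝟙 M) ((Scheme.Modules.pullback f).map e.hom)) :=
    (tensorIso (Iso.refl _) ((Scheme.Modules.pullback f).mapIso e)).isIso_hom
  have h4 : proj f M E' = inv (tensorMap (𝟙 ((Scheme.Modules.pushforward f).obj M)) e.hom) ≫
      proj f M E ≫ (Scheme.Modules.pushforward f).map
        (tensorMap (𝟙 M) ((Scheme.Modules.pullback f).map e.hom)) := by
    rw [← h1, IsIso.inv_hom_id_assoc]
  rw [h4]
  infer_instance

theorem isIso_proj_freeMod (M : X.Modules) (n : ℕ) :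
    IsIso (proj f M (FlatMod.freeMod Y n)) :=
  isIso_proj_of_iso f M (biproduct.isoCoproduct _) (isIso_proj_biproduct f M n)


open Groth.Agent.Lib.helper16.FLF in
/-- **projection formula in degree 0**: `f_*M ⊗ E ⟶ f_*(M ⊗ f^*E)` is an isomorphism for `E` finite
locally free. -/
theorem isIso_proj (M : X.Modules) {E : Y.Modules} (hE : FlatMod.IsFinLocFree E) :
    IsIso (proj f M E) := by
  rw [isIso_iff_stalk]
  intro y
  obtain ⟨V, n, hyV, ⟨e⟩⟩ := hE y
  let Et : Y.Modules := (Scheme.Modules.pushforward V.ι).obj ((restrictFunctor V.ι).obj E)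
  let a : E ⟶ Et := (restrictAdjunction V.ι).unit.app E
  let B : Y.Modules := FlatMod.freeMod Y n
  let c : (restrictFunctor V.ι).obj B ⟶ (restrictFunctor V.ι).obj E :=
    (restrictFreeModIso V.ι n).hom ≫ e.inv
  let b : B ⟶ Et := (restrictAdjunction V.ι).unit.app B ≫ (Scheme.Modules.pushforward V.ι).map c
  have ha : V ≤ isoLocus a := le_isoLocus_restrictAdjunction_unit E V
  have hb : V ≤ isoLocus b := by
    rw [le_isoLocus_iff]
    have h1 : IsIso ((restrictFunctor V.ι).map ((restrictAdjunction V.ι).unit.app B)) :=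
      (le_isoLocus_iff _ _).mp (le_isoLocus_restrictAdjunction_unit B V)
    change IsIso ((restrictFunctor V.ι).map (_ ≫ _))
    rw [Functor.map_comp]
    infer_instance
  have key : ∀ {E₁ E₂ : Y.Modules} (t : E₁ ⟶ E₂), V ≤ isoLocus t →
      V ≤ isoLocus (tensorMap (𝟙 ((Scheme.Modules.pushforward f).obj M)) t) ∧
      V ≤ isoLocus ((Scheme.Modules.pushforward f).map
        (tensorMap (𝟙 M) ((Scheme.Modules.pullback f).map t))) := by
    intro E₁ E₂ t ht
    refine ⟨le_trans (by rw [isoLocus_id, top_inf_eq]; exact ht)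
      (isoLocus_inf_le_tensorMap (𝟙 _) t), ?_⟩
    apply le_isoLocus_pushforward
    refine le_trans ?_ (isoLocus_inf_le_tensorMap _ _)
    rw [isoLocus_id, top_inf_eq]
    exact le_trans (fun z hz => ht hz) (preimage_isoLocus_le f t)
  obtain ⟨ha1, ha2⟩ := key a ha
  obtain ⟨hb1, hb2⟩ := key b hb
  have hB : IsIso (proj f M B) := isIso_proj_freeMod f M n
  have h1 : IsIso (stalkMap (proj f M Et) y) :=
    isIso_stalkMap_of_square' _ _ _ _ (proj_naturality_right f M b) y
      (isIso_stalkMap_of_le _ hb1 hyV) inferInstance (isIso_stalkMap_of_le _ hb2 hyV)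
  exact isIso_stalkMap_of_square _ _ _ _ (proj_naturality_right f M a) y
    (isIso_stalkMap_of_le _ ha1 hyV) h1 (isIso_stalkMap_of_le _ ha2 hyV)

end Groth.Agent.Lib.helper11.ProjFormula
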