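import Mathlib
import Groth.Agent.Lib.Helper11.ProjFormulaB
import Groth.Agent.Lib.Helper21.ModOpenBC2

set_option autoImplicit false
universe u
open CategoryTheory CategoryTheory.Limits AlgebraicGeometry TopologicalSpace Opposite
open Scheme.Modules
open Groth.Agent.Lib.Lead.ModTensor
open Groth.Agent.Lib.helper12.PullTensor Groth.Agent.Lib.helper12.TensorRestrict
open Groth.Agent.Lib.helper12.TensorSec
open Groth.Agent.Lib.helper11.IsoLocus
open Groth.Agent.Lib.helper21 Groth.Agent.Lib.helper27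

namespace Groth.Agent.Lib.helper11.ProjFormula

attribute [local instance] Abelian.hasFiniteBiproducts

section ExtProp

variable {C : Type u} [SmallCategory C] {J : GrothendieckTopology C}

/-- an abelian sheaf `B` with `∑ pᵢ ≫ sᵢ = 𝟙 B` through objects with the extension property has the
extension property -/
theorem extProp_of_sum {B : Sheaf J AddCommGrpCat.{u}} {n : ℕ} (W : Fin n → Sheaf J AddCommGrpCat.{u})
    (p : ∀ i, B ⟶ W i) (s : ∀ i, W i ⟶ B) (h : ∑ i, p i ≫ s i = 𝟙 B)
    (hW : ∀ i, InjAcyc.ExtProp (W i)) : InjAcyc.ExtProp B := by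
  intro S hS hTF φ
  choose ψ hψ using fun i => hW i S hS hTF (φ ≫ p i)
  refine ⟨∑ i, ψ i ≫ s i, ?_⟩
  rw [Preadditive.comp_sum]
  simp_rw [← Category.assoc, hψ, Category.assoc]
  rw [← Preadditive.comp_sum, h, Category.comp_id]

end ExtProp

variable {X : Scheme.{u}}

/-- `𝟙 (I ⊗ P)` factors as a sum through copies of `I` when `P` is free of finite rank -/
theorem exists_sum_decomp_tensor (I P : X.Modules) (n : ℕ) (ε : P ≅ FlatMod.freeMod X n) :
    ∃ (p : Fin n → (CohB1.tensorMod I P ⟶ I)) (s : Fin n → (I ⟶ CohB1.tensorMod I P)),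
      ∑ i, p i ≫ s i = 𝟙 _ := by
  let g : Fin n → X.Modules := fun _ => Coh.structureModule X
  let ε' : P ≅ ⨁ g := ε ≪≫ (biproduct.isoCoproduct g).symm
  refine ⟨fun i => tensorMap (𝟙 I) (ε'.hom ≫ biproduct.π g i) ≫ (SecTwist.unitorR I).hom,
    fun i => (SecTwist.unitorR I).inv ≫ tensorMap (𝟙 I) (biproduct.ι g i ≫ ε'.inv), ?_⟩
  have h1 : ∀ i : Fin n, (tensorMap (𝟙 I) (ε'.hom ≫ biproduct.π g i) ≫ (SecTwist.unitorR I).hom) ≫
      (SecTwist.unitorR I).inv ≫ tensorMap (𝟙 I) (biproduct.ι g i ≫ ε'.inv) =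
      tensorMap (𝟙 I) (ε'.hom ≫ (biproduct.π g i ≫ biproduct.ι g i) ≫ ε'.inv) := by
    intro i
    rw [Category.assoc, Iso.hom_inv_id_assoc, tensorMap_comp', Category.comp_id]
    simp only [Category.assoc]
  simp_rw [h1]
  rw [← tensorMap_sum_right]
  simp_rw [← Preadditive.comp_sum, ← Preadditive.sum_comp]
  rw [biproduct.total, Category.id_comp, Iso.hom_inv_id, tensorMap_id]


theorem extProp_tensor_free (I P : X.Modules) (n : ℕ) (ε : P ≅ FlatMod.freeMod X n)
    (hI : InjAcyc.ExtProp ((SheafOfModules.toSheaf.{u} X.ringCatSheaf).obj I)) :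
    InjAcyc.ExtProp ((SheafOfModules.toSheaf.{u} X.ringCatSheaf).obj (CohB1.tensorMod I P)) := by
  obtain ⟨p, s, h⟩ := exists_sum_decomp_tensor I P n ε
  refine extProp_of_sum (fun _ => (SheafOfModules.toSheaf.{u} X.ringCatSheaf).obj I)
    (fun i => (SheafOfModules.toSheaf.{u} X.ringCatSheaf).map (p i))
    (fun i => (SheafOfModules.toSheaf.{u} X.ringCatSheaf).map (s i)) ?_ (fun _ => hI)
  simp_rw [← Functor.map_comp]
  rw [← Functor.map_sum]
  exact (congrArg _ h).trans (CategoryTheory.Functor.map_id _ _)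

theorem extProp_of_iso {C : Type u} [SmallCategory C] {J : GrothendieckTopology C}
    {A B : Sheaf J AddCommGrpCat.{u}} (e : A ≅ B) (hA : InjAcyc.ExtProp A) : InjAcyc.ExtProp B := by
  intro S hS hTF φ
  obtain ⟨ψ, hψ⟩ := hA S hS hTF (φ ≫ e.inv)
  exact ⟨ψ ≫ e.hom, by rw [← Category.assoc, hψ, Category.assoc, Iso.inv_hom_id, Category.comp_id]⟩

/-- a module vanishing on an open cover vanishes -/
theorem isZero_of_forall_restrict (Z : X.Modules)
    (h : ∀ x : X, ∃ U : X.Opens, x ∈ U ∧ IsZero ((restrictFunctor U.ι).obj Z)) : IsZero Z := by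
  have hiso : IsIso (0 : Z ⟶ Z) := by
    apply isIso_of_forall_restrict
    intro x
    obtain ⟨U, hxU, hU⟩ := h x
    exact ⟨U, hxU, ⟨⟨0, hU.eq_of_src _ _, hU.eq_of_src _ _⟩⟩⟩
  rw [IsZero.iff_id_eq_zero]
  have := IsIso.hom_inv_id (0 : Z ⟶ Z)
  rw [zero_comp] at this
  exact this.symm

variable {Y : Scheme.{u}} (f : X ⟶ Y)

open Groth.Agent.Lib.helper16.FLF Groth.Agent.Lib.helper11.InvMod in
/-- `R^{i+1} f_*(I ⊗ f^*E) = 0` for `I` injective and `E` finite locally free. -/
theorem isZero_rpush_tensor_injective [HasInjectiveResolutions X.Modules] (I : X.Modules)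
    (hI : Injective I) {E : Y.Modules} (hE : FlatMod.IsFinLocFree E) (i : ℕ) :
    IsZero ((Coh.Rpush f (i + 1)).obj
      (CohB1.tensorMod I ((Scheme.Modules.pullback f).obj E))) := by
  apply isZero_of_forall_restrict
  intro y
  obtain ⟨V, n, hyV, ⟨e⟩⟩ := hE y
  refine ⟨V, hyV, ?_⟩
  obtain ⟨φ⟩ := ModOpenBC.nonempty_restrict_rpush_iso f V
    (CohB1.tensorMod I ((Scheme.Modules.pullback f).obj E)) (i + 1)
  refine IsZero.of_iso ?_ φ
  apply ModOpenBC.isZero_rpush_of_extProp
  let ε : ((Scheme.Modules.pullback f).obj E).restrict (f ⁻¹ᵁ V).ι ≅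
      FlatMod.freeMod (↑(f ⁻¹ᵁ V)) n :=
    pullbackRestrictIso f E V ≪≫ (Scheme.Modules.pullback (f ∣_ V)).mapIso e ≪≫
      pullbackFreeModIso (f ∣_ V) n
  have h1 := extProp_tensor_free (I.restrict (f ⁻¹ᵁ V).ι) _ n ε
    (ModOpenBC.extProp_toAb_restrict I hI (f ⁻¹ᵁ V))
  exact extProp_of_iso ((SheafOfModules.toSheaf.{u} _).mapIso
    (restrictTensorIso (f ⁻¹ᵁ V).ι I ((Scheme.Modules.pullback f).obj E)).symm) h1


open Groth.Agent.Lib.Helper20.TensorEquiv in
/-- the degree-0 projection isomorphism as a natural isomorphism in `M` -/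
noncomputable def projIso {E : Y.Modules} (hE : FlatMod.IsFinLocFree E) :
    Scheme.Modules.pushforward f ⋙ tensorRight E ≅
      tensorRight ((Scheme.Modules.pullback f).obj E) ⋙ Scheme.Modules.pushforward f :=
  NatIso.ofComponents
    (fun M => @asIso _ _ _ _ (proj f M E) (isIso_proj f M hE))
    (fun φ => proj_naturality_left f φ E)

open Groth.Agent.Lib.Helper20.TensorEquiv in
/-- **projection formula for higher direct images** (tensor on the right) -/
theorem nonempty_rpush_tensor_iso [HasInjectiveResolutions X.Modules] (F : X.Modules)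
    {E : Y.Modules} (hE : FlatMod.IsFinLocFree E) (q : ℕ) :
    Nonempty (CohB1.tensorMod ((Coh.Rpush f q).obj F) E ≅
      (Coh.Rpush f q).obj (CohB1.tensorMod F ((Scheme.Modules.pullback f).obj E))) := by
  have : EnoughInjectives X.Modules :=
    SSGroth.enoughInjectives_of_hasInjectiveResolutions _
  have hE' : FlatMod.IsFinLocFree ((Scheme.Modules.pullback f).obj E) :=
    Groth.Agent.Lib.helper16.FLF.isFinLocFree_pullback f hE
  have : PreservesFiniteLimits (tensorRight E) := preservesFiniteLimits_tensorRight hE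
  have : PreservesFiniteLimits (tensorRight ((Scheme.Modules.pullback f).obj E)) :=
    preservesFiniteLimits_tensorRight hE'
  have hT : DeltaSeq.IsExSeq (fun n => Coh.Rpush f n ⋙ tensorRight E) :=
    (DeltaSeq.isExSeq_rightDerived (Scheme.Modules.pushforward f)).comp (tensorRight E)
  have hT' : DeltaSeq.IsExSeq
      (fun n => tensorRight ((Scheme.Modules.pullback f).obj E) ⋙ Coh.Rpush f n) :=
    (DeltaSeq.isExSeq_rightDerived (Scheme.Modules.pushforward f)).precomp
      (tensorRight ((Scheme.Modules.pullback f).obj E))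
      (fun I hI i => isZero_rpush_tensor_injective f I hI hE i)
  have e₀ : Coh.Rpush f 0 ⋙ tensorRight E ≅
      tensorRight ((Scheme.Modules.pullback f).obj E) ⋙ Coh.Rpush f 0 :=
    Functor.isoWhiskerRight (Scheme.Modules.pushforward f).rightDerivedZeroIsoSelf (tensorRight E) ≪≫
      projIso f hE ≪≫
      (Functor.isoWhiskerLeft (tensorRight ((Scheme.Modules.pullback f).obj E))
        (Scheme.Modules.pushforward f).rightDerivedZeroIsoSelf).symm
  exact DeltaSeq.iso hT hT' e₀ q F

end Groth.Agent.Lib.helper11.ProjFormula
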