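import Mathlib
import Groth.Agent.Lib.Helper11.Bidual2
import Groth.Agent.Lib.Helper11.ProjFormulaC

/-!
# Relative Ext `Ext_f^p(M, −) = R^p(f_* ℋom(M, −))` and finite locally free twists (helper11)
-/

set_option autoImplicit false
universe u

open CategoryTheory CategoryTheory.Limits Opposite AlgebraicGeometry TopologicalSpace MonoidalCategory

namespace Groth.Agent.Lib.helper11.Bidual

open Groth.Agent.Lib.Helper21.TensorW Groth.Agent.Lib.Helper21.TensorAdj
  Groth.Agent.Lib.Helper21.TensorMon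
open Groth.Agent.Lib.helper12.InvDual
open Groth.Agent.Lib.Lead.ModTensor (tensorMap tensorMap_id tensorMap_comp braid)
open Groth.Agent.Lib.helper21.ExtShDelta Groth.Agent.Lib.helper21.FLFDual
open Groth.Agent.Lib.Helper21.DerivedComm
open Groth.Agent.Lib.Helper20.TensorEquiv (tensorRight)
open Scheme.Modules

variable {X Y : Scheme.{u}}

theorem tens_map (E : X.Modules) {N N' : X.Modules} (φ : N ⟶ N') :
    (tens X.sheaf E).map φ = tensorMap φ (𝟙 E) := by
  rw [Groth.Agent.Lib.Helper20.TensorEquiv.tensorMap_eq_whiskerRight]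
  rfl

/-- `tens X.sheaf E ≅ tensorRight E` (both are `− ⊗ E`) -/
noncomputable def tensRightIso (E : X.Modules) : tens X.sheaf E ≅ tensorRight E :=
  NatIso.ofComponents (fun M => Iso.refl _) (by
    intro M M' φ
    rw [tens_map]
    exact (Category.comp_id _).trans (Category.id_comp _).symm)

theorem preservesFiniteLimits_tens {E : X.Modules} (hE : FlatMod.IsFinLocFree E) :
    PreservesFiniteLimits (tens X.sheaf E) := by
  have h := Groth.Agent.Lib.helper11.ProjFormula.preservesFiniteLimits_tensorRight hE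
  exact @preservesFiniteLimits_of_natIso _ _ _ _ _ _ (tensRightIso E).symm h

/-- `ℋom(M, −) ≅ ℋom(M', −)` for `M ≅ M'` -/
noncomputable def sheafHomIsoOfIso {M M' : X.Modules} (e : M ≅ M') :
    ModSite.sheafHom (O := X.sheaf) M ≅ ModSite.sheafHom (O := X.sheaf) M' :=
  conjugateIsoEquiv (ModSite.sheafHomAdj (O := X.sheaf) M) (ModSite.sheafHomAdj (O := X.sheaf) M')
    ((ModSite.tensorBi X.sheaf).flip.mapIso e).symm

/-- `ℋom(F ⊗ L, −) ≅ ℋom(L, −) ⋙ ℋom(F, −)`, i.e. `ℋom(F ⊗ L, G) ≅ ℋom(F, ℋom(L, G))` -/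
noncomputable def sheafHomTensIso' (F L : X.Modules) :
    ModSite.sheafHom (O := X.sheaf) (CohB1.tensorMod F L) ≅
      ModSite.sheafHom (O := X.sheaf) L ⋙ ModSite.sheafHom (O := X.sheaf) F :=
  sheafHomIsoOfIso (braid F L) ≪≫ sheafHomTensIso (O := X.sheaf) L F

/-- `ℋom(F, − ⊗ E) ≅ ℋom(F, −) ⊗ E` for `E` finite locally free -/
noncomputable def tensSheafHomCommIso {E : X.Modules} (hE : FlatMod.IsFinLocFree E)
    (F : X.Modules) :
    tens X.sheaf E ⋙ ModSite.sheafHom (O := X.sheaf) F ≅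
      ModSite.sheafHom (O := X.sheaf) F ⋙ tens X.sheaf E :=
  Functor.isoWhiskerRight (tensSheafHomDualIso hE) (ModSite.sheafHom (O := X.sheaf) F) ≪≫
    (sheafHomTensIso (O := X.sheaf) (dualMod E) F).symm ≪≫
    sheafHomTensIso' (dualMod E) F ≪≫
    Functor.isoWhiskerLeft (ModSite.sheafHom (O := X.sheaf) F) (tensSheafHomDualIso hE).symm

/-- `G ↦ f_* ℋom(M, G)` -/
noncomputable abbrev extfFun (f : X ⟶ Y) (M : X.Modules) : ModSite.Mod X.sheaf ⥤ Y.Modules :=
  ModSite.sheafHom (O := X.sheaf) M ⋙ Scheme.Modules.pushforward f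

/-- `− ⊗ N` as an endofunctor of `Y.Modules` -/
noncomputable abbrev tensM (N : Y.Modules) : Y.Modules ⥤ Y.Modules := tens Y.sheaf N

/-- `(− ⊗ f^*N) ⋙ f_* ≅ f_* ⋙ (− ⊗ N)` for `N` finite locally free, in terms of `tens` -/
noncomputable def tensPushIso (f : X ⟶ Y) {N : Y.Modules} (hN : FlatMod.IsFinLocFree N) :
    tens X.sheaf ((Scheme.Modules.pullback f).obj N) ⋙ Scheme.Modules.pushforward f ≅
      Scheme.Modules.pushforward f ⋙ tensM N :=
  Functor.isoWhiskerRight (tensRightIso _) _ ≪≫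
    (Groth.Agent.Lib.helper11.ProjFormula.projIso f hN).symm ≪≫
    Functor.isoWhiskerLeft _ (tensRightIso N).symm

/-- `(G ⊗ A) ⊗ B ≅ (G ⊗ B) ⊗ A` -/
noncomputable def swapIso (G A B : X.Modules) :
    CohB1.tensorMod (CohB1.tensorMod G A) B ≅ CohB1.tensorMod (CohB1.tensorMod G B) A :=
  Groth.Agent.Lib.helper12.TensorPowAdd.assocMod G A B ≪≫
    Groth.Agent.Lib.Lead.ModTensor.tensorIso (Iso.refl G) (braid A B) ≪≫
    (Groth.Agent.Lib.helper12.TensorPowAdd.assocMod G B A).symm

/-- **`Ext_f^p(F ⊗ L, G ⊗ f^*N) ≅ Ext_f^p(F, G ⊗ L^∨) ⊗ N`** for `L`, `N` finite locally free -/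
theorem nonempty_extf_iso [HasInjectiveResolutions (ModSite.Mod X.sheaf)] (f : X ⟶ Y)
    (F G L : X.Modules) (N : Y.Modules)
    (hL : FlatMod.IsFinLocFree L) (hN : FlatMod.IsFinLocFree N) (p : ℕ)
    [(extfFun f F).Additive] [(extfFun f (CohB1.tensorMod F L)).Additive] :
    Nonempty (((extfFun f (CohB1.tensorMod F L)).rightDerived p).obj
        (CohB1.tensorMod G ((Scheme.Modules.pullback f).obj N)) ≅
      CohB1.tensorMod (((extfFun f F).rightDerived p).obj (CohB1.tensorMod G (dualMod L))) N) := by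
  have hE : FlatMod.IsFinLocFree ((Scheme.Modules.pullback f).obj N) :=
    Groth.Agent.Lib.helper16.FLF.isFinLocFree_pullback f hN
  have hDL : FlatMod.IsFinLocFree (dualMod L) := isFinLocFree_dualMod hL
  have : PreservesFiniteLimits (tens X.sheaf (dualMod L)) := preservesFiniteLimits_tens hDL
  have : PreservesFiniteColimits (tens X.sheaf (dualMod L)) := preservesFiniteColimits_tens _
  have : (tens X.sheaf (dualMod L)).PreservesInjectiveObjects :=
    preservesInjectiveObjects_tens hDL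
  have : PreservesFiniteLimits (tens X.sheaf ((Scheme.Modules.pullback f).obj N)) :=
    preservesFiniteLimits_tens hE
  have : PreservesFiniteColimits (tens X.sheaf ((Scheme.Modules.pullback f).obj N)) :=
    preservesFiniteColimits_tens _
  have : (tens X.sheaf ((Scheme.Modules.pullback f).obj N)).PreservesInjectiveObjects :=
    preservesInjectiveObjects_tens hE
  have : PreservesFiniteLimits (tensM N) := preservesFiniteLimits_tens hN
  have : PreservesFiniteColimits (tensM N) := preservesFiniteColimits_tens _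
  have : (tensM N).Additive := (inferInstance : (tens Y.sheaf N).Additive)
  -- step 1: `ℋom(F ⊗ L, −) ≅ (− ⊗ L^∨) ⋙ ℋom(F, −)`
  let i1 : extfFun f (CohB1.tensorMod F L) ≅ tens X.sheaf (dualMod L) ⋙ extfFun f F :=
    Functor.isoWhiskerRight (sheafHomTensIso' F L ≪≫
      Functor.isoWhiskerRight (tensDualIso hL).symm (ModSite.sheafHom (O := X.sheaf) F))
      (Scheme.Modules.pushforward f) ≪≫ Functor.associator _ _ _
  let j1 := (rightDerivedIso i1 p).app (CohB1.tensorMod G ((Scheme.Modules.pullback f).obj N))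
  let j2 := (rightDerivedPreIso (tens X.sheaf (dualMod L)) (extfFun f F) p).app
    (CohB1.tensorMod G ((Scheme.Modules.pullback f).obj N))
  let j3 := ((extfFun f F).rightDerived p).mapIso
    (swapIso G ((Scheme.Modules.pullback f).obj N) (dualMod L))
  let j4 := ((rightDerivedPreIso (tens X.sheaf ((Scheme.Modules.pullback f).obj N))
    (extfFun f F) p).app (CohB1.tensorMod G (dualMod L))).symm
  let i5 : tens X.sheaf ((Scheme.Modules.pullback f).obj N) ⋙ extfFun f F ≅
      extfFun f F ⋙ tensM N :=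
    (Functor.associator _ _ _).symm ≪≫
      Functor.isoWhiskerRight (tensSheafHomCommIso hE F) (Scheme.Modules.pushforward f) ≪≫
      Functor.associator _ _ _ ≪≫
      Functor.isoWhiskerLeft (ModSite.sheafHom (O := X.sheaf) F) (tensPushIso f hN) ≪≫
      (Functor.associator _ _ _).symm
  let j5 := (rightDerivedIso i5 p).app (CohB1.tensorMod G (dualMod L))
  let j6 := (rightDerivedPostIso (tensM N) (extfFun f F) p).app
    (CohB1.tensorMod G (dualMod L))
  exact ⟨j1 ≪≫ j2 ≪≫ j3 ≪≫ j4 ≪≫ j5 ≪≫ j6⟩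

end Groth.Agent.Lib.helper11.Bidual
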