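import Mathlib
import Groth.Agent.Lib.Helper11.ProjFormulaB
import Groth.Agent.Lib.Helper11.Bidual1

/-!
# `h^*(M ⊗ N) ≅ h^*M ⊗ h^*N` for `N` finite locally free (helper11)

The oplax comparison `pullTensorHom h M N` of helper12 is an isomorphism as soon as `N` is finite
locally free (zigzag through `O^n`, the free case by additivity).
-/

set_option autoImplicit false
universe u
open CategoryTheory CategoryTheory.Limits AlgebraicGeometry TopologicalSpace Opposite
open Scheme.Modules
open Groth.Agent.Lib.Lead.ModTensor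
open Groth.Agent.Lib.helper12.PullTensor Groth.Agent.Lib.helper12.TensorRestrict
open Groth.Agent.Lib.helper12.TensorSec
open Groth.Agent.Lib.helper11.IsoLocus Groth.Agent.Lib.helper11.ProjFormula

namespace Groth.Agent.Lib.helper11.PullTensFLF

variable {X Y : Scheme.{u}} (h : Y ⟶ X)

attribute [local instance] Abelian.hasFiniteBiproducts

/-- `pullTensorHom h M −` as a natural transformation -/
noncomputable def pullTensorNat (M : X.Modules) :
    tensL M ⋙ Scheme.Modules.pullback h ⟶
      Scheme.Modules.pullback h ⋙ tensL ((Scheme.Modules.pullback h).obj M) where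
  app N := pullTensorHom h M N
  naturality _ _ b := by
    have h1 := pullTensorHom_naturality h (𝟙 M) b
    rw [CategoryTheory.Functor.map_id] at h1
    exact h1

theorem isIso_pullTensorHom_biproduct (M : X.Modules) (n : ℕ) :
    IsIso (pullTensorHom h M (⨁ fun _ : Fin n => Coh.structureModule X)) :=
  isIso_app_biproduct _ _ (pullTensorNat h M) (fun _ : Fin n => Coh.structureModule X)
    (fun _ => isIso_pullTensorHom_unit h M)

theorem isIso_pullTensorHom_of_iso (M : X.Modules) {E E' : X.Modules} (e : E ≅ E')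
    (hE : IsIso (pullTensorHom h M E)) : IsIso (pullTensorHom h M E') := by
  have h1 := pullTensorHom_naturality h (𝟙 M) e.hom
  have h2 : IsIso ((Scheme.Modules.pullback h).map (tensorMap (𝟙 M) e.hom)) :=
    ((Scheme.Modules.pullback h).mapIso (tensorIso (Iso.refl M) e)).isIso_hom
  have h3 : IsIso (tensorMap ((Scheme.Modules.pullback h).map (𝟙 M))
      ((Scheme.Modules.pullback h).map e.hom)) :=
    (tensorIso ((Scheme.Modules.pullback h).mapIso (Iso.refl M))
      ((Scheme.Modules.pullback h).mapIso e)).isIso_hom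
  have h4 : pullTensorHom h M E' =
      inv ((Scheme.Modules.pullback h).map (tensorMap (𝟙 M) e.hom)) ≫
      pullTensorHom h M E ≫ tensorMap ((Scheme.Modules.pullback h).map (𝟙 M))
      ((Scheme.Modules.pullback h).map e.hom) := by
    rw [← h1, IsIso.inv_hom_id_assoc]
  rw [h4]
  infer_instance

theorem isIso_pullTensorHom_freeMod (M : X.Modules) (n : ℕ) :
    IsIso (pullTensorHom h M (FlatMod.freeMod X n)) :=
  isIso_pullTensorHom_of_iso h M (biproduct.isoCoproduct _) (isIso_pullTensorHom_biproduct h M n)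

/-- **`h^*(M ⊗ N) ⟶ h^*M ⊗ h^*N` is an isomorphism for `N` finite locally free** -/
theorem isIso_pullTensorHom_flf (M : X.Modules) {N : X.Modules} (hN : FlatMod.IsFinLocFree N) :
    IsIso (pullTensorHom h M N) := by
  rw [isIso_iff_stalk]
  intro y
  obtain ⟨V, n, Nt, a, b, hyV, ha, hb⟩ :=
    Groth.Agent.Lib.helper11.Bidual.exists_zigzag hN (h y)
  have hyV' : y ∈ h ⁻¹ᵁ V := hyV
  have key : ∀ {E₁ E₂ : X.Modules} (t : E₁ ⟶ E₂), V ≤ isoLocus t →
      h ⁻¹ᵁ V ≤ isoLocus ((Scheme.Modules.pullback h).map (tensorMap (𝟙 M) t)) ∧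
      h ⁻¹ᵁ V ≤ isoLocus (tensorMap ((Scheme.Modules.pullback h).map (𝟙 M))
        ((Scheme.Modules.pullback h).map t)) := by
    intro E₁ E₂ t ht
    have h1 : V ≤ isoLocus (tensorMap (𝟙 M) t) :=
      le_trans (by rw [isoLocus_id, top_inf_eq]; exact ht) (isoLocus_inf_le_tensorMap (𝟙 M) t)
    refine ⟨le_trans (fun z hz => h1 hz) (preimage_isoLocus_le h _), ?_⟩
    refine le_trans ?_ (isoLocus_inf_le_tensorMap _ _)
    rw [CategoryTheory.Functor.map_id, isoLocus_id, top_inf_eq]
    exact le_trans (fun z hz => ht hz) (preimage_isoLocus_le h t)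
  obtain ⟨ha1, ha2⟩ := key a ha
  obtain ⟨hb1, hb2⟩ := key b hb
  have hB : IsIso (pullTensorHom h M (FlatMod.freeMod X n)) := isIso_pullTensorHom_freeMod h M n
  have h1 : IsIso (stalkMap (pullTensorHom h M Nt) y) :=
    isIso_stalkMap_of_square' _ _ _ _ (pullTensorHom_naturality h (𝟙 M) b) y
      (isIso_stalkMap_of_le _ hb1 hyV') inferInstance (isIso_stalkMap_of_le _ hb2 hyV')
  exact isIso_stalkMap_of_square _ _ _ _ (pullTensorHom_naturality h (𝟙 M) a) y
    (isIso_stalkMap_of_le _ ha1 hyV') h1 (isIso_stalkMap_of_le _ ha2 hyV')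

/-- `h^*(M ⊗ N) ≅ h^*M ⊗ h^*N` for `N` finite locally free -/
noncomputable def pullTensorIsoFLF (M : X.Modules) {N : X.Modules} (hN : FlatMod.IsFinLocFree N) :
    (Scheme.Modules.pullback h).obj (CohB1.tensorMod M N) ≅
      CohB1.tensorMod ((Scheme.Modules.pullback h).obj M) ((Scheme.Modules.pullback h).obj N) :=
  @asIso _ _ _ _ (pullTensorHom h M N) (isIso_pullTensorHom_flf h M hN)

end Groth.Agent.Lib.helper11.PullTensFLF
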