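import Mathlib
import Groth.Agent.Lib.Helper23.TA1

/-!
# helper11: algebra half of the Grothendieck complex, part 1 (module level)

* `lTensor_exact_of_flat_quotient`: `X₁ → X₂ → X₃` exact with `X₃ / im` flat stays exact after `N ⊗ -`.
* `flat_quotient_range_of_exact`: descending step for flatness of `X / im`.
* `lTensor_exact_of_retract`: exactness of `N' ⊗ -` passes to retracts `N` of `N'`.
* `lTensor_exact_of_exact_of_eventually`: an exact complex of flat modules which is universally exact
  in high degrees is universally exact (no boundedness assumption).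
-/

set_option autoImplicit false
universe u
open TensorProduct

namespace Groth.Agent.Lib.helper11.GCAlg

open Groth.Agent.Lib.helper23.TA

variable {A : Type u} [CommRing A]

section ThreeTerm

variable {X₁ X₂ X₃ : Type u} [AddCommGroup X₁] [Module A X₁] [AddCommGroup X₂] [Module A X₂]
  [AddCommGroup X₃] [Module A X₃]

/-- `X₁ → X₂ → X₃` exact with `X₃ / im` flat stays exact after `N ⊗ -`. -/
theorem lTensor_exact_of_flat_quotient (f : X₁ →ₗ[A] X₂) (g : X₂ →ₗ[A] X₃)
    (hex : Function.Exact f g) (hfl : Module.Flat A (X₃ ⧸ LinearMap.range g))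
    (N : Type u) [AddCommGroup N] [Module A N] :
    Function.Exact (f.lTensor N) (g.lTensor N) := by
  have hp : Function.Surjective g.rangeRestrict := LinearMap.surjective_rangeRestrict g
  have hex' : Function.Exact f g.rangeRestrict := by
    intro x
    rw [← hex x]
    constructor
    · intro h
      exact congrArg Subtype.val h
    · intro h
      exact Subtype.ext h
  have h1 := lTensor_exact N hex' hp
  have hinj : Function.Injective ((LinearMap.range g).subtype.lTensor N) :=
    LinearMap.lTensor_injective_of_exact_of_flat (LinearMap.range g).mkQ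
      (Submodule.mkQ_surjective _) _ (Submodule.subtype_injective _)
      (LinearMap.exact_subtype_mkQ _) N
  have h2 : g.lTensor N =
      ((LinearMap.range g).subtype.lTensor N) ∘ₗ (g.rangeRestrict.lTensor N) := by
    rw [← LinearMap.lTensor_comp]
    rfl
  rw [h2, Function.Injective.comp_exact_iff_exact hinj]
  exact h1

/-- descending step: `X₁ → X₂ → X₃` exact, `X₃` and `X₃ / im` flat ⇒ `X₂ / im` flat. -/
theorem flat_quotient_range_of_exact (f : X₁ →ₗ[A] X₂) (g : X₂ →ₗ[A] X₃)
    (hex : Function.Exact f g) [Module.Flat A X₃]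
    (hfl : Module.Flat A (X₃ ⧸ LinearMap.range g)) :
    Module.Flat A (X₂ ⧸ LinearMap.range f) := by
  have hle : LinearMap.range f ≤ LinearMap.ker g := by
    rintro _ ⟨x, rfl⟩
    exact hex.apply_apply_eq_zero x
  let gbar : (X₂ ⧸ LinearMap.range f) →ₗ[A] X₃ := (LinearMap.range f).liftQ g hle
  have hinj : Function.Injective gbar := by
    rw [← LinearMap.ker_eq_bot, Submodule.ker_liftQ, eq_bot_iff]
    rintro _ ⟨x, hx, rfl⟩
    have hx' : x ∈ LinearMap.range f := (hex x).1 hx
    simpa using hx'
  have hexq : Function.Exact gbar (LinearMap.range g).mkQ := by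
    intro y
    rw [← LinearMap.mem_ker, Submodule.ker_mkQ]
    constructor
    · rintro ⟨x, rfl⟩
      exact ⟨Submodule.Quotient.mk x, by simp [gbar]⟩
    · rintro ⟨z, rfl⟩
      obtain ⟨x, rfl⟩ := Submodule.Quotient.mk_surjective _ z
      exact ⟨x, by simp [gbar]⟩
  exact flat_of_exact gbar (LinearMap.range g).mkQ hinj (Submodule.mkQ_surjective _) hexq

/-- exactness of `N' ⊗ -` passes to retracts `N` of `N'`. -/
theorem lTensor_exact_of_retract {N N' : Type u} [AddCommGroup N] [Module A N] [AddCommGroup N']
    [Module A N'] (ι : N →ₗ[A] N') (π : N' →ₗ[A] N) (h : π ∘ₗ ι = LinearMap.id)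
    (f : X₁ →ₗ[A] X₂) (g : X₂ →ₗ[A] X₃) (hgf : g ∘ₗ f = 0)
    (hex : Function.Exact (f.lTensor N') (g.lTensor N')) :
    Function.Exact (f.lTensor N) (g.lTensor N) := by
  intro y
  constructor
  · intro hy
    have h0 : (g.lTensor N') ((ι.rTensor X₂) y) = 0 := by
      rw [← LinearMap.comp_apply, LinearMap.lTensor_comp_rTensor, ← LinearMap.rTensor_comp_lTensor,
        LinearMap.comp_apply, hy, map_zero]
    obtain ⟨z, hz⟩ := (hex _).1 h0
    refine ⟨(π.rTensor X₁) z, ?_⟩
    rw [← LinearMap.comp_apply, LinearMap.lTensor_comp_rTensor, ← LinearMap.rTensor_comp_lTensor,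
      LinearMap.comp_apply, hz, ← LinearMap.comp_apply, ← LinearMap.rTensor_comp, h,
      LinearMap.rTensor_id, LinearMap.id_apply]
  · rintro ⟨z, rfl⟩
    rw [← LinearMap.comp_apply, ← LinearMap.lTensor_comp, hgf, LinearMap.lTensor_zero,
      LinearMap.zero_apply]

end ThreeTerm

section Seq

variable (X : ℤ → Type u) [∀ i, AddCommGroup (X i)] [∀ i, Module A (X i)]
  (d : ∀ i, X i →ₗ[A] X (i + 1))

/-- An exact complex of flat modules which is universally exact in high degrees has flat
`X / im` everywhere. -/
theorem flat_quotient_range_of_eventually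
    (hflat : ∀ i, Module.Flat A (X i))
    (hex : ∀ i, Function.Exact (d i) (d (i + 1)))
    (N₀ : ℤ)
    (huniv : ∀ (N : Type u) [AddCommGroup N] [Module A N] (i : ℤ), N₀ ≤ i →
      Function.Exact ((d i).lTensor N) ((d (i + 1)).lTensor N)) (j : ℤ) :
    Module.Flat A (X (j + 1 + 1) ⧸ LinearMap.range (d (j + 1))) := by
  suffices H : ∀ (n : ℕ) (j : ℤ), N₀ ≤ j + n →
      Module.Flat A (X (j + 1 + 1) ⧸ LinearMap.range (d (j + 1))) from
    H (N₀ - j).toNat j (by have := Int.self_le_toNat (N₀ - j); omega)
  intro n
  induction n with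
  | zero =>
    intro j hj
    have := hflat (j + 1 + 1)
    refine flat_quotient_range (d j) (d (j + 1)) ?_ (fun N _ _ => huniv N j (by simpa using hj))
    exact (hex j).linearMap_comp_eq_zero
  | succ n ih =>
    intro j hj
    have := hflat (j + 1 + 1 + 1)
    exact flat_quotient_range_of_exact (d (j + 1)) (d (j + 1 + 1)) (hex (j + 1))
      (ih (j + 1) (by push_cast at hj; omega))

/-- An exact complex of flat modules which is universally exact in high degrees is universally
exact. -/
theorem lTensor_exact_of_exact_of_eventually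
    (hflat : ∀ i, Module.Flat A (X i))
    (hex : ∀ i, Function.Exact (d i) (d (i + 1)))
    (N₀ : ℤ)
    (huniv : ∀ (N : Type u) [AddCommGroup N] [Module A N] (i : ℤ), N₀ ≤ i →
      Function.Exact ((d i).lTensor N) ((d (i + 1)).lTensor N))
    (N : Type u) [AddCommGroup N] [Module A N] (i : ℤ) :
    Function.Exact ((d i).lTensor N) ((d (i + 1)).lTensor N) :=
  lTensor_exact_of_flat_quotient (d i) (d (i + 1)) (hex i)
    (flat_quotient_range_of_eventually X d hflat hex N₀ huniv i) N

end Seq

end Groth.Agent.Lib.helper11.GCAlg
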