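import Mathlib
import Groth.Prelude.Def_ega3
import Groth.Prelude.Def_DRing2
import Groth.Agent.Lib.Helper23.DRingPC8
import Groth.Agent.Lib.Helper23.PCohInf3

/-!
# helper11: algebra half of the Grothendieck complex, part 2 (finite free approximation)

`exists_finite_free_quasiIso`: over a Noetherian ring, a complex `K` with finite cohomology, zero in
degrees `≥ N`, admits a quasi-isomorphism `L ⟶ K` from a complex of finite free modules with
`L^i = 0` for `i ≥ N` (Mumford's lemma / EGA 0_III 11.9.1), deduced from helper23's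
`exists_strictPCAll_factorisation`.
-/

set_option autoImplicit false
universe u
open CategoryTheory CategoryTheory.Limits HomologicalComplex ZeroObject

attribute [local instance] HasDerivedCategory.standard

namespace Groth.Agent.Lib.helper11.GCAlg

open Groth.Agent.Lib.helper23.PCohCore Groth.Agent.Lib.helper23.DRingPC

theorem exists_finite_free_quasiIso (A : Type u) [CommRing A] [IsNoetherianRing A]
    (K : CochainComplex (ModuleCat.{u} A) ℤ)
    (hfin : ∀ i, Module.Finite A (K.homology i))
    (N : ℤ) (hN : ∀ i : ℤ, N ≤ i → IsZero (K.homology i)) :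
    ∃ (L : CochainComplex (ModuleCat.{u} A) ℤ) (φ : L ⟶ K),
      (∀ i, Module.Finite A (L.X i) ∧ Module.Free A (L.X i)) ∧
      (∀ i : ℤ, N ≤ i → IsZero (L.X i)) ∧ QuasiIso φ := by
  have eH : ∀ i : ℤ, (DerivedCategory.homologyFunctor (ModuleCat.{u} A) i).obj
      (DerivedCategory.Q.obj K) ≅ K.homology i :=
    fun i => (DerivedCategory.homologyFunctorFactors (ModuleCat.{u} A) i).app K
  have hF : ∀ m : ℤ, NPC (FF A) m (DerivedCategory.Q.obj K) := by
    intro m
    refine (npc_iff_of_noetherian A m _).2 ⟨⟨N - 1, fun i hi => ?_⟩, fun i _ => ?_⟩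
    · exact ModuleCat.subsingleton_of_isZero ((hN i (by omega)).of_iso (eH i))
    · have := hfin i
      exact Module.Finite.equiv (eH i).symm.toLinearEquiv
  have hz : ∀ i : ℤ, IsZero ((0 : CochainComplex (ModuleCat.{u} A) ℤ).homology i) := fun i =>
    (homologyFunctor (ModuleCat.{u} A) (ComplexShape.up ℤ) i).map_isZero (isZero_zero _)
  let s₀ : GStage (FF A) K N (N - 1) 0 :=
    { G := 0
      w := 0
      hP := fun i => (FF A).prop_of_isZero
        ((HomologicalComplex.eval _ _ i).map_isZero (isZero_zero _))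
      hb := fun i _ => (HomologicalComplex.eval _ _ i).map_isZero (isZero_zero _)
      hiso := fun i hi =>
        ⟨0, (hz i).eq_of_src _ _, (hN i (by simp at hi; omega)).eq_of_src _ _⟩
      hepi := ⟨fun g h _ => (hN _ (by simp)).eq_of_src _ _⟩ }
  obtain ⟨E', v, u', -, h2, h3, h4, -, -⟩ :=
    exists_strictPCAll_factorisation (FF_sum A) (FF_hqs A) (FF_hql A) (le_refl (N - 1)) hF s₀
  exact ⟨E', u', h2, fun i hi => h3 i (by omega), h4⟩

end Groth.Agent.Lib.helper11.GCAlg
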