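import Mathlib
import Groth.Prelude.Def_ega3
import Groth.Prelude.Def_DRing2
import Groth.Agent.Lib.Helper23.TA3
import Groth.Agent.Lib.Helper11.GCAlg1

/-!
# helper11: algebra half of the Grothendieck complex, part 3 (categorical glue)

* `Bmod φ`: `B` as an `A`-module through `φ : A →+* B`; `extendScalars_map_apply`.
* `bc_exactAt_succ_iff`: exactness of `bcCx φ E` in module terms.
* `lTensor_exact_of_tsze`: exactness of `bcCx` for the trivial square zero extension `A ⊕ N` gives
  exactness of `N ⊗ -`.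
* `isIso_inr_f`: `K ⟶ cone(L ⟶ K)` is an isomorphism in degrees `p` with `L^{p+1} = 0`.
-/

set_option autoImplicit false
universe u
open CategoryTheory CategoryTheory.Limits TensorProduct

namespace Groth.Agent.Lib.helper11.GCAlg

open Groth.Agent.Lib.helper23.TA

variable {A B : Type u} [CommRing A] [CommRing B]

/-- `B` as an `A`-module through `φ`. -/
noncomputable abbrev Bmod (φ : A →+* B) : ModuleCat.{u} A :=
  (ModuleCat.restrictScalars.{u} φ).obj (ModuleCat.of B B)

set_option backward.isDefEq.respectTransparency false in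
lemma extendScalars_map_apply (φ : A →+* B) {X Y : ModuleCat.{u} A} (f : X ⟶ Y)
    (x : (ModuleCat.extendScalars.{u, u, u} φ).obj X) :
    (AddEquiv.refl (Bmod φ ⊗[A] Y)) (((ModuleCat.extendScalars.{u, u, u} φ).map f).hom x) =
      (f.hom.lTensor (Bmod φ)) ((AddEquiv.refl (Bmod φ ⊗[A] X)) x) := by
  induction x using TensorProduct.induction_on with
  | zero => simp
  | tmul a n => rfl
  | add a b ha hb =>
    rw [map_add, map_add, ha, hb, map_add, map_add]

/-- exactness of `bcCx φ E` at `k + 1` in module terms. -/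
theorem bc_exactAt_succ_iff (φ : A →+* B) (E : CochainComplex (ModuleCat.{u} A) ℤ) (k : ℤ) :
    (CohIII.bcCx φ E).ExactAt (k + 1) ↔
      Function.Exact ((E.d k (k + 1)).hom.lTensor (Bmod φ))
        ((E.d (k + 1) (k + 1 + 1)).hom.lTensor (Bmod φ)) := by
  rw [exactAt_succ_iff]
  constructor
  · intro h
    exact exact_of_addEquiv _ _ _ _ (AddEquiv.refl _) (AddEquiv.refl _) (AddEquiv.refl _)
      (fun x => (extendScalars_map_apply φ (E.d k (k + 1)) x).symm)
      (fun x => (extendScalars_map_apply φ (E.d (k + 1) (k + 1 + 1)) x).symm) h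
  · intro h
    exact exact_of_addEquiv _ _ _ _ (AddEquiv.refl _) (AddEquiv.refl _) (AddEquiv.refl _)
      (fun x => extendScalars_map_apply φ (E.d k (k + 1)) x)
      (fun x => extendScalars_map_apply φ (E.d (k + 1) (k + 1 + 1)) x) h

section Tsze

variable (N : Type u) [AddCommGroup N] [Module A N]

/-- the opposite action on a module over a commutative ring. -/
@[reducible] def opModule : Module Aᵐᵒᵖ N :=
  Module.compHom N ((RingEquiv.toOpposite A).symm : Aᵐᵒᵖ →+* A)

attribute [local instance] opModule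

lemma isCentralScalar_op : IsCentralScalar A N := ⟨fun _ _ => rfl⟩

attribute [local instance] isCentralScalar_op

/-- `N → A ⊕ N`, linear. -/
def tszeInr : N →ₗ[A] Bmod (algebraMap A (TrivSqZeroExt A N)) where
  toFun n := (TrivSqZeroExt.inr n : TrivSqZeroExt A N)
  map_add' := TrivSqZeroExt.inr_add _
  map_smul' a n := by
    show (TrivSqZeroExt.inr (a • n) : TrivSqZeroExt A N) =
      algebraMap A (TrivSqZeroExt A N) a * TrivSqZeroExt.inr n
    rw [TrivSqZeroExt.algebraMap_eq_inl, TrivSqZeroExt.inl_mul_inr]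

/-- `A ⊕ N → N`, linear. -/
def tszeSnd : Bmod (algebraMap A (TrivSqZeroExt A N)) →ₗ[A] N where
  toFun b := TrivSqZeroExt.snd (show TrivSqZeroExt A N from b)
  map_add' := TrivSqZeroExt.snd_add
  map_smul' a b := by
    show TrivSqZeroExt.snd (algebraMap A (TrivSqZeroExt A N) a * (show TrivSqZeroExt A N from b)) =
      a • TrivSqZeroExt.snd (show TrivSqZeroExt A N from b)
    rw [TrivSqZeroExt.algebraMap_eq_inl, TrivSqZeroExt.snd_mul]
    simp

lemma tszeSnd_comp_tszeInr : tszeSnd (A := A) N ∘ₗ tszeInr N = LinearMap.id := by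
  ext n
  exact TrivSqZeroExt.snd_inr A n

/-- vanishing of the homology of `bcCx` for all `A`-algebras (in particular `A ⊕ N`) gives exactness
of `N ⊗ -`. -/
theorem lTensor_exact_of_bc (K : CochainComplex (ModuleCat.{u} A) ℤ) (k : ℤ)
    (h : ∀ (B : Type u) [CommRing B] [Algebra A B],
      IsZero ((CohIII.bcCx (algebraMap A B) K).homology (k + 1))) :
    Function.Exact ((K.d k (k + 1)).hom.lTensor N) ((K.d (k + 1) (k + 1 + 1)).hom.lTensor N) := by
  have h1 := h (TrivSqZeroExt A N)
  rw [← HomologicalComplex.exactAt_iff_isZero_homology, bc_exactAt_succ_iff] at h1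
  refine lTensor_exact_of_retract (tszeInr N) (tszeSnd N) (tszeSnd_comp_tszeInr N) _ _ ?_ h1
  rw [← ModuleCat.hom_comp, HomologicalComplex.d_comp_d]
  rfl

end Tsze

section Cone

open CochainComplex

variable {L K : CochainComplex (ModuleCat.{u} A) ℤ} (φ : L ⟶ K)

/-- `K ⟶ cone(L ⟶ K)` is an isomorphism in degrees `p` with `L^{p+1} = 0`. -/
lemma isIso_inr_f (p : ℤ) (hp : IsZero (L.X (p + 1))) : IsIso ((mappingCone.inr φ).f p) := by
  refine ⟨(mappingCone.snd φ).v p p (add_zero p), mappingCone.inr_f_snd_v φ p, ?_⟩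
  have h := mappingCone.id_X φ p (p + 1) rfl
  have h0 : (mappingCone.fst φ).1.v p (p + 1) rfl = 0 := hp.eq_of_tgt _ _
  rw [h0, zero_comp, zero_add] at h
  exact h

/-- transfer of universal exactness from `K` to the cone, in the range where `L` vanishes. -/
theorem lTensor_exact_cone_of (N : Type u) [AddCommGroup N] [Module A N] (k : ℤ)
    (h0 : IsZero (L.X (k + 1))) (h1 : IsZero (L.X (k + 1 + 1))) (h2 : IsZero (L.X (k + 1 + 1 + 1)))
    (h : Function.Exact ((K.d k (k + 1)).hom.lTensor N) ((K.d (k + 1) (k + 1 + 1)).hom.lTensor N)) :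
    Function.Exact (((mappingCone φ).d k (k + 1)).hom.lTensor N)
      (((mappingCone φ).d (k + 1) (k + 1 + 1)).hom.lTensor N) := by
  have := isIso_inr_f φ k h0
  have := isIso_inr_f φ (k + 1) h1
  have := isIso_inr_f φ (k + 1 + 1) h2
  let e₀ := (asIso ((mappingCone.inr φ).f k)).toLinearEquiv
  let e₁ := (asIso ((mappingCone.inr φ).f (k + 1))).toLinearEquiv
  let e₂ := (asIso ((mappingCone.inr φ).f (k + 1 + 1))).toLinearEquiv
  refine (Function.Exact.iff_of_ladder_linearEquiv (e₁ := e₀.lTensor N) (e₂ := e₁.lTensor N)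
    (e₃ := e₂.lTensor N) ?_ ?_).2 h
  · have hc := (mappingCone.inr φ).comm k (k + 1)
    have hc' : ((mappingCone φ).d k (k + 1)).hom ∘ₗ e₀.toLinearMap =
        e₁.toLinearMap ∘ₗ (K.d k (k + 1)).hom := by
      ext x
      exact (ConcreteCategory.congr_hom hc x)
    show _ ∘ₗ (e₀.toLinearMap.lTensor N) = (e₁.toLinearMap.lTensor N) ∘ₗ _
    rw [← LinearMap.lTensor_comp, ← LinearMap.lTensor_comp, hc']
  · have hc := (mappingCone.inr φ).comm (k + 1) (k + 1 + 1)
    have hc' : ((mappingCone φ).d (k + 1) (k + 1 + 1)).hom ∘ₗ e₁.toLinearMap =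
        e₂.toLinearMap ∘ₗ (K.d (k + 1) (k + 1 + 1)).hom := by
      ext x
      exact (ConcreteCategory.congr_hom hc x)
    show _ ∘ₗ (e₁.toLinearMap.lTensor N) = (e₂.toLinearMap.lTensor N) ∘ₗ _
    rw [← LinearMap.lTensor_comp, ← LinearMap.lTensor_comp, hc']

end Cone

end Groth.Agent.Lib.helper11.GCAlg
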