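import Mathlib
import Groth.Prelude.Def_ega3
import Groth.Prelude.Def_DRing2
import Groth.Agent.Lib.Helper23.TA3
import Groth.Agent.Lib.Helper11.GCAlg1
import Groth.Agent.Lib.Helper11.GCAlg2
import Groth.Agent.Lib.Helper11.GCAlg3

/-!
# helper11: algebra half of the Grothendieck complex (ALG-GC), main theorems

`K` a complex of flat modules over a Noetherian ring `A` with finite cohomology, such that
`H^i(K ⊗_A B) = 0` for all `A`-algebras `B` and all `i ≥ N` (no boundedness of `K` itself).

* `exists_finite_free_quasiIso_univ`: there are a complex `L` of finite free modules with `L^i = 0`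
  for `i ≥ N` and a quasi-isomorphism `φ : L ⟶ K` which stays a quasi-isomorphism after
  `extendScalars ψ` for every ring map `ψ : A →+* B`, and after `N ⊗ -`-like functors.
* `exists_finite_free_complex`: the interface statement of `tools/GC_ALG_interface.lean.txt`.
-/

set_option autoImplicit false
universe u
open CategoryTheory CategoryTheory.Limits TensorProduct

attribute [local instance] HasDerivedCategory.standard

namespace Groth.Agent.Lib.helper11.GCAlg

open Groth.Agent.Lib.helper23.TA Groth.Agent.Lib.helper23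

variable {A : Type u} [CommRing A]

/-- `A ⊗ -` is exact iff the original sequence is. -/
lemma exact_of_lTensor_self {X₁ X₂ X₃ : Type u} [AddCommGroup X₁] [Module A X₁] [AddCommGroup X₂]
    [Module A X₂] [AddCommGroup X₃] [Module A X₃] (f : X₁ →ₗ[A] X₂) (g : X₂ →ₗ[A] X₃)
    (h : Function.Exact (f.lTensor A) (g.lTensor A)) : Function.Exact f g := by
  refine (Function.Exact.iff_of_ladder_linearEquiv (e₁ := TensorProduct.lid A X₁)
    (e₂ := TensorProduct.lid A X₂) (e₃ := TensorProduct.lid A X₃) ?_ ?_).2 h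
  · apply TensorProduct.ext'
    intro a x
    simp
  · apply TensorProduct.ext'
    intro a x
    simp

/-- a termwise flat acyclic complex which is universally exact in high degrees stays acyclic after
applying a tensor-like functor. -/
theorem map_exactAt_of_eventually {B : Type u} [CommRing B]
    (G : ModuleCat.{u} A ⥤ ModuleCat.{u} B) [G.Additive] (hG : TensorLike G)
    (C : CochainComplex (ModuleCat.{u} A) ℤ) (hflat : ∀ i, Module.Flat A (C.X i))
    (hex : ∀ i, C.ExactAt i) (N₀ : ℤ)
    (huniv : ∀ (N : Type u) [AddCommGroup N] [Module A N] (i : ℤ), N₀ ≤ i →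
      Function.Exact ((C.d i (i + 1)).hom.lTensor N) ((C.d (i + 1) (i + 1 + 1)).hom.lTensor N))
    (i : ℤ) : ((G.mapHomologicalComplex (ComplexShape.up ℤ)).obj C).ExactAt i := by
  obtain ⟨N, _, _, e, he⟩ := hG
  obtain ⟨k, rfl⟩ : ∃ k, i = k + 1 := ⟨i - 1, by omega⟩
  rw [exactAt_succ_iff]
  have key := lTensor_exact_of_exact_of_eventually (fun j => C.X j)
    (fun j => (C.d j (j + 1)).hom) hflat
    (fun j => (exactAt_succ_iff C j).1 (hex (j + 1))) N₀ huniv N k
  exact exact_of_addEquiv _ _ _ _ (e _) (e _) (e _) (fun x => he _ x) (fun x => he _ x) key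

/-- **Finite free approximation, universal form.** -/
theorem exists_finite_free_quasiIso_univ (A : Type u) [CommRing A] [IsNoetherianRing A]
    (K : CochainComplex (ModuleCat.{u} A) ℤ)
    (hflat : ∀ i, Module.Flat A (K.X i))
    (hfin : ∀ i, Module.Finite A (K.homology i))
    (N : ℤ)
    (hN : ∀ (B : Type u) [CommRing B] [Algebra A B] (i : ℤ), N ≤ i →
      IsZero ((CohIII.bcCx (algebraMap A B) K).homology i)) :
    ∃ (L : CochainComplex (ModuleCat.{u} A) ℤ) (φ : L ⟶ K),
      (∀ i, Module.Finite A (L.X i) ∧ Module.Free A (L.X i)) ∧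
      (∀ i : ℤ, N ≤ i → IsZero (L.X i)) ∧ QuasiIso φ ∧
      ∀ (B : Type u) [CommRing B] (G : ModuleCat.{u} A ⥤ ModuleCat.{u} B) [G.Additive],
        TensorLike G → QuasiIso ((G.mapHomologicalComplex (ComplexShape.up ℤ)).map φ) := by
  -- universal exactness of `K` in degrees `≥ N`, module form
  have hKuniv : ∀ (N' : Type u) [AddCommGroup N'] [Module A N'] (k : ℤ), N ≤ k + 1 →
      Function.Exact ((K.d k (k + 1)).hom.lTensor N')
        ((K.d (k + 1) (k + 1 + 1)).hom.lTensor N') :=
    fun N' _ _ k hk => lTensor_exact_of_bc N' K k (fun B _ _ => hN B (k + 1) hk)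
  have hK0 : ∀ i : ℤ, N ≤ i → IsZero (K.homology i) := by
    intro i hi
    obtain ⟨k, rfl⟩ : ∃ k, i = k + 1 := ⟨i - 1, by omega⟩
    rw [← HomologicalComplex.exactAt_iff_isZero_homology, exactAt_succ_iff]
    exact exact_of_lTensor_self _ _ (hKuniv A k hi)
  obtain ⟨L, φ, hff, hLz, hq⟩ := exists_finite_free_quasiIso A K hfin N hK0
  refine ⟨L, φ, hff, hLz, hq, ?_⟩
  have hLflat : DRing.TermwiseFlat L := fun i => by
    have := (hff i).1
    have := (hff i).2
    infer_instance
  have hCflat := termwiseFlat_mappingCone φ hLflat hflat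
  have hQ : IsIso (DerivedCategory.Q.map φ) := (DerivedCategory.isIso_Q_map_iff_quasiIso _ φ).2 hq
  have hCex : ∀ i, (CochainComplex.mappingCone φ).ExactAt i :=
    fun i => PCohLib.exactAt_mappingCone φ hQ i
  have hCuniv : ∀ (N' : Type u) [AddCommGroup N'] [Module A N'] (i : ℤ), N - 1 ≤ i →
      Function.Exact (((CochainComplex.mappingCone φ).d i (i + 1)).hom.lTensor N')
        (((CochainComplex.mappingCone φ).d (i + 1) (i + 1 + 1)).hom.lTensor N') :=
    fun N' _ _ i hi => lTensor_exact_cone_of φ N' i (hLz _ (by omega)) (hLz _ (by omega))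
      (hLz _ (by omega)) (hKuniv N' i (by omega))
  intro B _ G _ hG
  have hB : ∀ i, ((G.mapHomologicalComplex (ComplexShape.up ℤ)).obj
      (CochainComplex.mappingCone φ)).ExactAt i :=
    map_exactAt_of_eventually G hG _ hCflat hCex (N - 1) hCuniv
  have hI : IsIso (DerivedCategory.Q.map
      ((G.mapHomologicalComplex (ComplexShape.up ℤ)).map φ)) := by
    apply isIso_Q_map_of_exactAt_mappingCone
    intro i
    have h1 := hB i
    rw [HomologicalComplex.exactAt_iff_isZero_homology] at h1 ⊢
    exact h1.of_iso ((HomologicalComplex.homologyFunctor _ _ i).mapIso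
      (CochainComplex.mappingCone.mapHomologicalComplexIso φ G).symm)
  exact (DerivedCategory.isIso_Q_map_iff_quasiIso _ _).1 hI

/-- **Finite free approximation**, base change and module forms: one complex `L` and one map
`φ : L ⟶ K` such that `bcCx ψ L ⟶ bcCx ψ K` (all ring maps `ψ : A →+* B`) and
`tensorObj L M ⟶ tensorObj K M` (all modules `M`) are quasi-isomorphisms. -/
theorem exists_finite_free_quasiIso_bc_tensor (A : Type u) [CommRing A] [IsNoetherianRing A]
    (K : CochainComplex (ModuleCat.{u} A) ℤ)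
    (hflat : ∀ i, Module.Flat A (K.X i))
    (hfin : ∀ i, Module.Finite A (K.homology i))
    (N : ℤ)
    (hN : ∀ (B : Type u) [CommRing B] [Algebra A B] (i : ℤ), N ≤ i →
      IsZero ((CohIII.bcCx (algebraMap A B) K).homology i)) :
    ∃ (L : CochainComplex (ModuleCat.{u} A) ℤ) (φ : L ⟶ K),
      (∀ i, Module.Finite A (L.X i) ∧ Module.Free A (L.X i)) ∧
      (∀ i : ℤ, N ≤ i → IsZero (L.X i)) ∧ QuasiIso φ ∧
      (∀ (B : Type u) [CommRing B] (ψ : A →+* B),
        QuasiIso (((ModuleCat.extendScalars.{u, u, u} ψ).mapHomologicalComplex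
          (ComplexShape.up ℤ)).map φ)) ∧
      ∀ M : ModuleCat.{u} A,
        QuasiIso (((MonoidalCategory.tensorRight M).mapHomologicalComplex
          (ComplexShape.up ℤ)).map φ) := by
  obtain ⟨L, φ, hff, hLz, hq, hu⟩ := exists_finite_free_quasiIso_univ A K hflat hfin N hN
  exact ⟨L, φ, hff, hLz, hq, fun B _ ψ => hu B _ (tensorLike_extendScalars ψ),
    fun M => hu A _ (tensorLike_tensorRight M)⟩

/-- **ALG-GC** (algebra half of the Grothendieck complex), interface form. -/
theorem exists_finite_free_complex (A : Type u) [CommRing A] [IsNoetherianRing A]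
    (K : CochainComplex (ModuleCat.{u} A) ℤ)
    (hflat : ∀ i, Module.Flat A (K.X i))
    (_hneg : ∀ i : ℤ, i < 0 → IsZero (K.X i))
    (hfin : ∀ i, Module.Finite A (K.homology i))
    (N : ℤ)
    (hN : ∀ (B : Type u) [CommRing B] [Algebra A B] (i : ℤ), N ≤ i →
      IsZero ((CohIII.bcCx (algebraMap A B) K).homology i)) :
    ∃ L : CochainComplex (ModuleCat.{u} A) ℤ,
      (∀ i, Module.Finite A (L.X i) ∧ Module.Free A (L.X i)) ∧
      (∀ i : ℤ, N ≤ i → IsZero (L.X i)) ∧
      ∀ (B : Type u) [CommRing B] [Algebra A B] (i : ℤ),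
        Nonempty ((CohIII.bcCx (algebraMap A B) K).homology i ≅
          (CohIII.bcCx (algebraMap A B) L).homology i) := by
  obtain ⟨L, φ, hff, hLz, -, hu, -⟩ := exists_finite_free_quasiIso_bc_tensor A K hflat hfin N hN
  refine ⟨L, hff, hLz, fun B _ _ i => ?_⟩
  have := hu B (algebraMap A B)
  exact ⟨(asIso (HomologicalComplex.homologyMap
    (((ModuleCat.extendScalars.{u, u, u} (algebraMap A B)).mapHomologicalComplex
      (ComplexShape.up ℤ)).map φ) i)).symm⟩

end Groth.Agent.Lib.helper11.GCAlg
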