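import Mathlib
import Groth.Agent.Lib.Helper18.HHPush
import Groth.Agent.Lib.Helper20.TwistEquivPn
import Groth.Agent.Lib.Helper27.SerreVan3
import Groth.Agent.S2416

/-!
# Cohomology on an open of an open, and localisation on preimages (helper11)

* `isIso_restrictAdjunction_unit_of_isIso`: for an isomorphism `ψ`, the unit `G ⟶ ψ_* ψ^* G` is an isomorphism.
* `subsingleton_HU_image`: for `U ⊆ X` open and `B ⊆ U` open, vanishing of `H^p(B, (K|_U)|_B)` (cohomology
  of the scheme `B`) gives vanishing of `H^p(U.ι '' B, K)` (cohomology on the open `U.ι '' B` of `X`).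
* `subsingleton_HU_of_HHon`, `subsingleton_HHon_of_HU`.
* `subsingleton_HU_basicOpen`: `U ⊆ X` open, quasi-compact and separated as a scheme, `a ∈ Γ(X, U)`, `K` qcoh:
  `H^p(U, K) = 0 ⇒ H^p(X_a, K) = 0` (from lead's `S2416`).
-/

set_option autoImplicit false
universe u

open CategoryTheory CategoryTheory.Limits AlgebraicGeometry Opposite TopologicalSpace
open Scheme.Modules

namespace Groth.Agent.Lib.helper11.HUOpen

variable {X : Scheme.{u}}

theorem isIso_restrictAdjunction_unit_of_isIso {X' Y' : Scheme.{u}} (ψ : X' ⟶ Y') [IsIso ψ]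
    (G : Y'.Modules) : IsIso ((restrictAdjunction ψ).unit.app G) := by
  rw [Hom.isIso_iff_isIso_app]
  intro W
  rw [restrictAdjunction_unit_app_app]
  have hW : ψ ''ᵁ (ψ ⁻¹ᵁ W) = W := by
    rw [Scheme.Hom.image_preimage_eq_opensRange_inf]
    have : ψ.opensRange = ⊤ := by
      ext y
      simp only [Scheme.Hom.coe_opensRange, Opens.coe_top, Set.mem_univ, iff_true]
      exact ⟨(inv ψ) y, by rw [← Scheme.Hom.comp_apply, IsIso.inv_hom_id]; rfl⟩
    rw [this, top_inf_eq]
  have : homOfLE (ψ.image_preimage_le W) = (eqToIso hW).hom := Subsingleton.elim _ _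
  rw [this]
  exact (G.presheaf.mapIso (eqToIso hW).op).isIso_hom

/-- HU on an open `V` of `X` is the cohomology of the scheme `V` -/
theorem subsingleton_HU_of_HHon (K : X.Modules) (V : X.Opens) (p : ℕ)
    (h : Subsingleton (Coh.HHon X K V p)) : Subsingleton (CohTop.HU (Coh.toAb K) p V) := by
  obtain ⟨e⟩ := Groth.Agent.Lib.helper27.OpenRestr.HU_equiv_H_restr V (Coh.toAb K) p
  exact @Equiv.subsingleton _ _ e.toEquiv h

theorem subsingleton_HHon_of_HU (K : X.Modules) (V : X.Opens) (p : ℕ)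
    (h : Subsingleton (CohTop.HU (Coh.toAb K) p V)) : Subsingleton (Coh.HHon X K V p) := by
  obtain ⟨e⟩ := Groth.Agent.Lib.helper27.OpenRestr.HU_equiv_H_restr V (Coh.toAb K) p
  exact @Equiv.subsingleton _ _ e.symm.toEquiv h

/-- **open of an open**: vanishing of the cohomology of the scheme `B ⊆ U` with coefficients in
`(K|_U)|_B` gives vanishing of the cohomology of `K` on the open `U.ι '' B` of `X`. -/
theorem subsingleton_HU_image (U : X.Opens) (K : X.Modules) [K.IsQuasicoherent]
    (B : (↑U : Scheme.{u}).Opens) (p : ℕ)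
    (h : Subsingleton (Coh.HHon (↑U : Scheme.{u}) (K.restrict U.ι) B p)) :
    Subsingleton (CohTop.HU (Coh.toAb K) p (U.ι ''ᵁ B)) := by
  apply subsingleton_HU_of_HHon
  let V : X.Opens := U.ι ''ᵁ B
  let ψ : (↑B : Scheme.{u}) ≅ (↑V : Scheme.{u}) := U.ι.isoImage B
  have hψ : ψ.hom ≫ V.ι = B.ι ≫ U.ι := U.ι.isoImage_hom_ι B
  let G : (↑V : Scheme.{u}).Modules := K.restrict V.ι
  let N' : (↑B : Scheme.{u}).Modules := (K.restrict U.ι).restrict B.ι
  -- `N' ≅ ψ^* G`
  let e1 : (restrictFunctor ψ.hom).obj G ≅ N' :=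
    ((restrictFunctorComp ψ.hom V.ι).symm.app K) ≪≫ (restrictFunctorCongr hψ).app K ≪≫
      (restrictFunctorComp B.ι U.ι).app K
  -- `G ≅ ψ_* ψ^* G`
  have hu : IsIso ((restrictAdjunction ψ.hom).unit.app G) :=
    isIso_restrictAdjunction_unit_of_isIso ψ.hom G
  let e2 : G ≅ (pushforward ψ.hom).obj ((restrictFunctor ψ.hom).obj G) :=
    @asIso _ _ _ _ ((restrictAdjunction ψ.hom).unit.app G) hu
  let e3 : (pushforward ψ.hom).obj N' ≅ G := ((pushforward ψ.hom).mapIso e1).symm ≪≫ e2.symm
  have hN' : N'.IsQuasicoherent := inferInstance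
  have h1 : Subsingleton (Coh.HH (↑V : Scheme.{u}) ((Coh.push ψ.hom).obj N') p) :=
    (Groth.Agent.Lib.Helper18.HH.subsingleton_iff_push ψ.hom N' p).mp h
  exact Groth.Agent.Lib.Helper20.TwistEquivPn.subsingleton_of_iso e3 p h1

/-- **localisation on an open**: for `U ⊆ X` open, quasi-compact and separated as a scheme, `a ∈ Γ(X, U)` and `K`
quasi-coherent, `H^p(U, K) = 0` implies `H^p(X_a, K) = 0`. -/
theorem subsingleton_HU_basicOpen (U : X.Opens) [CompactSpace (↑U : Scheme.{u})]
    [(↑U : Scheme.{u}).IsSeparated] (a : Γ(X, U)) (K : X.Modules) [K.IsQuasicoherent] (p : ℕ)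
    (h : Subsingleton (CohTop.HU (Coh.toAb K) p U)) :
    Subsingleton (CohTop.HU (Coh.toAb K) p (X.basicOpen a)) := by
  have h1 : Subsingleton (Coh.HH (↑U : Scheme.{u}) (K.restrict U.ι) p) :=
    subsingleton_HHon_of_HU K U p h
  have hq : (K.restrict U.ι).IsQuasicoherent := inferInstance
  obtain ⟨e⟩ := Groth.Agent.S2416.result (↑U : Scheme.{u}) (U.topIso.inv a) (K.restrict U.ι) p
  have h2 : Subsingleton (LocalizedModule (Submonoid.powers (U.topIso.inv a))
      (Coh.HH (↑U : Scheme.{u}) (K.restrict U.ι) p)) := by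
    refine ⟨fun x y => ?_⟩
    induction x using LocalizedModule.induction_on with
    | h m s =>
      induction y using LocalizedModule.induction_on with
      | h m' s' =>
        rw [Subsingleton.elim m 0, Subsingleton.elim m' 0, LocalizedModule.zero_mk,
          LocalizedModule.zero_mk]
  have h3 : Subsingleton (Coh.HHon (↑U : Scheme.{u}) (K.restrict U.ι)
      ((↑U : Scheme.{u}).basicOpen (U.topIso.inv a)) p) := e.toEquiv.subsingleton
  have h4 := subsingleton_HU_image U K ((↑U : Scheme.{u}).basicOpen (U.topIso.inv a)) p h3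
  rwa [Scheme.Opens.ι_image_basicOpen_topIso_inv] at h4

end Groth.Agent.Lib.helper11.HUOpen
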