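import Mathlib
import Groth.Agent.Lib.Helper11.HUOpen
import Groth.Agent.Lib.Helper27.RpushVanish

/-!
# S0002 plan, piece T3 (helper11): relative vanishing from vanishing over an affine cover

`p : Y ⟶ Z` quasi-compact separated, `F` quasi-coherent on `Y`.  If `Z` is covered by affine opens `V` with
`H^q(p⁻¹V, F) = 0`, then `R^q p_* F = 0`  (no `0 < q` needed).
-/

set_option autoImplicit false
universe u

open CategoryTheory CategoryTheory.Limits AlgebraicGeometry Opposite TopologicalSpace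
open Scheme.Modules

namespace Groth.Agent.Lib.helper11.S0002T3

/-- `HU` form. -/
theorem isZero_RpushAb_of_affine_cover_HU {Y Z : Scheme.{u}} (p : Y ⟶ Z) [QuasiCompact p]
    [IsSeparated p] (F : Y.Modules) [F.IsQuasicoherent] (q : ℕ)
    (h : ∀ z : Z, ∃ V : Z.Opens, IsAffineOpen V ∧ z ∈ V ∧
      Subsingleton (CohTop.HU (Coh.toAb F) q (p ⁻¹ᵁ V))) :
    IsZero ((Coh.RpushAb p q).obj (Coh.toAb F)) := by
  obtain ⟨e⟩ := Groth.Agent.Lib.helper27.RpushSheafify.rpush_iso_top p.base (Coh.toAb F) q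
  refine IsZero.of_iso ?_ e
  apply Groth.Agent.Lib.helper27.RpushVanish.isZero_sheafify_of_locally_subsingleton
  intro W' y hy
  obtain ⟨W, hW, hyW, h0⟩ := h y
  obtain ⟨a, haW, hya⟩ := hW.exists_basicOpen_le (V := W') ⟨y, hy⟩ hyW
  refine ⟨Z.basicOpen a, haW, hya, ?_⟩
  have hc : CompactSpace (↑(p ⁻¹ᵁ W) : Scheme.{u}) :=
    isCompact_iff_compactSpace.mp
      (QuasiCompact.isCompact_preimage (f := p) _ W.isOpen hW.isCompact)
  have hsep : (↑(p ⁻¹ᵁ W) : Scheme.{u}).IsSeparated := by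
    have : IsAffine (↑W : Scheme.{u}) := hW
    refine ⟨?_⟩
    rw [← terminal.comp_from (p ∣_ W)]
    infer_instance
  have h1 := Groth.Agent.Lib.helper11.HUOpen.subsingleton_HU_basicOpen (p ⁻¹ᵁ W)
    ((p.app W).hom a) F q h0
  have h2 : p ⁻¹ᵁ Z.basicOpen a = Y.basicOpen ((p.app W).hom a) := Scheme.preimage_basicOpen p a
  change Subsingleton (CohTop.HU (Coh.toAb F) q (p ⁻¹ᵁ Z.basicOpen a))
  rw [h2]
  exact h1

/-- T3 (statement of `tools/S0002_PLAN.lean.txt`). -/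
theorem isZero_RpushAb_of_affine_cover {Y Z : Scheme.{u}} (p : Y ⟶ Z) [QuasiCompact p] [IsSeparated p]
    (F : Y.Modules) [F.IsQuasicoherent] (q : ℕ) (_hq : 0 < q)
    (h : ∀ z : Z, ∃ V : Z.Opens, IsAffineOpen V ∧ z ∈ V ∧ Subsingleton (Coh.HHon Y F (p ⁻¹ᵁ V) q)) :
    IsZero ((Coh.RpushAb p q).obj (Coh.toAb F)) := by
  refine isZero_RpushAb_of_affine_cover_HU p F q fun z => ?_
  obtain ⟨V, hV, hz, h0⟩ := h z
  exact ⟨V, hV, hz, Groth.Agent.Lib.helper11.HUOpen.subsingleton_HU_of_HHon F _ q h0⟩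

end Groth.Agent.Lib.helper11.S0002T3
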