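import Groth.Agent.Lib.Helper11.TensorEpi
import Groth.Agent.Lib.Helper12.ProjUP6
import Groth.Agent.Lib.Helper12.GlobGen
import Groth.Agent.Lib.Helper28.TwistPn
import Groth.Agent.Lib.Helper12.PullTensor
import Groth.Prelude.Def_PerfAux

/-!
# Inverses of large powers of an ample invertible module; the resolution property (helper11)

* `exists_sections_cover`: for `L` ample and `n ≫ 0`, finitely many sections of `L^{⊗ n}` whose
  non-vanishing loci cover `X`.
* `exists_inverse_tensorPow`: for `L` ample and `n ≫ 0`, `L^{⊗ n}` has an (invertible) inverse.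
* `hasResolutionProperty_of_isAmple`.
-/

set_option autoImplicit false
universe u
open CategoryTheory CategoryTheory.Limits AlgebraicGeometry TopologicalSpace Opposite
open Scheme.Modules
open Groth.Agent.Lib.helper11.IsoLocus Groth.Agent.Lib.helper11.InvMod
open Groth.Agent.Lib.helper11.GenLocus Groth.Agent.Lib.helper11.SerreGG
open Groth.Agent.Lib.helper12.TensorInv Groth.Agent.Lib.Lead.ModTensor

namespace Groth.Agent.Lib.helper11.AmpleInv

variable {X : Scheme.{u}}

theorem isCoh_structureModule (X : Scheme.{u}) : Coh.IsCoh (Coh.structureModule X) :=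
  Groth.Agent.Lib.helper16.CohFinite.isCoh_of_finite_sections (Coh.structureModule X)
    (fun U : X.affineOpens => U.1) (fun U => U.2) (iSup_affineOpens_eq_top X)
    (fun U => inferInstanceAs (Module.Finite Γ(X, U.1) Γ(X, U.1)))

/-- for `L` ample and `n ≫ 0`, finitely many sections of `L^{⊗ n}` whose non-vanishing loci
cover `X` -/
theorem exists_sections_cover [QuasiSeparatedSpace X] {L : X.Modules} (hL : CohB1.IsAmple L) :
    ∃ n₁ : ℕ, ∀ n, n₁ ≤ n → ∃ (k : ℕ) (σ : Fin (k + 1) → (Coh.structureModule X ⟶ CohB1.tensorPow L n)),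
      ⨆ i, CohB1.genLocus (CohB1.tensorPow L n) (σ i) = ⊤ := by
  classical
  obtain ⟨n₀, h⟩ := exists_finite_genAtBy_twist hL (Coh.structureModule X) (isCoh_structureModule X)
  refine ⟨n₀, fun n hn => ?_⟩
  obtain ⟨ι, hι, T, hT⟩ := h n hn
  let M := CohB1.tensorMod (Coh.structureModule X) (CohB1.tensorPow L n)
  have hMinv : PicF.IsInvertible M :=
    isInvertible_tensorMod (isInvertible_structureModule X) (isInvertible_tensorPow hL.1 n)
  have hepi : Epi (canonBy M T) := epi_of_genAtBy M T hT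
  obtain ⟨k, ⟨eq⟩⟩ := Finite.exists_equiv_fin ι
  let σ' : ι → (Coh.structureModule X ⟶ CohB1.tensorPow L n) := fun i =>
    (SheafOfModules.ιFree i ≫ canonBy M T) ≫ (leftUnitor (CohB1.tensorPow L n)).hom
  let σ : Fin (k + 1) → (Coh.structureModule X ⟶ CohB1.tensorPow L n) := fun j =>
    if hj : (j : ℕ) < k then σ' (eq.symm ⟨j, hj⟩) else 0
  refine ⟨k, σ, ?_⟩
  rw [eq_top_iff]
  intro x _
  obtain ⟨i, hi⟩ := Groth.Agent.Lib.helper12.GlobGen.exists_mem_genLocus_of_epi hMinv (canonBy M T) x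
  have hi' : x ∈ CohB1.genLocus (CohB1.tensorPow L n) (σ' i) := by
    have := genLocus_comp_iso (SheafOfModules.ιFree i ≫ canonBy M T)
      (leftUnitor (CohB1.tensorPow L n))
    rw [this]
    exact hi
  refine Opens.mem_iSup.mpr ⟨Fin.castSucc (eq i), ?_⟩
  have hσ : σ (Fin.castSucc (eq i)) = σ' i := by
    have hlt : ((Fin.castSucc (eq i) : Fin (k + 1)) : ℕ) < k := (eq i).2
    simp only [σ, hlt, dif_pos]
    congr 1
    exact eq.symm_apply_apply i
  rw [hσ]
  exact hi'

/-- an invertible module generated by finitely many global sections has an (invertible) inverse: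
the pullback of `O(-1)` along the induced morphism to projective space -/
theorem exists_inverse_of_cover {M : X.Modules} {k : ℕ}
    (σ : Fin (k + 1) → (Coh.structureModule X ⟶ M))
    (hcov : ⨆ i, CohB1.genLocus M (σ i) = ⊤) :
    ∃ N : X.Modules, PicF.IsInvertible N ∧ ClSub.IsInverseOf M N := by
  let q : X ⟶ Spec (CommRingCat.of Γ(X, ⊤)) := X.toSpecΓ
  obtain ⟨r, hr⟩ := Groth.Agent.Lib.helper12.ProjUP3.exists_toProj q σ hcov
  obtain ⟨τ, -⟩ := Groth.Agent.Lib.helper12.ProjUP6.exists_iso_nu q σ r hr hcov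
  let r' : X ⟶ CohB1.ProjSpace k Γ(X, ⊤) := r
  have hinv := Groth.Agent.Lib.helper28.TwistPn.isInvertible k Γ(X, ⊤) (-1)
  let N := (Scheme.Modules.pullback r').obj (Twist.twistProjSpace k Γ(X, ⊤) (-1))
  have hN : PicF.IsInvertible N := isInvertible_pullback r' hinv
  let τ' : (Scheme.Modules.pullback r').obj (Twist.twistProjSpace k Γ(X, ⊤) 1) ≅ M := τ
  let e0 : Twist.twistProjSpace k Γ(X, ⊤) (1 + -1) ≅ Twist.twistProjSpace k Γ(X, ⊤) 0 :=
    eqToIso (by norm_num)
  let e : CohB1.tensorMod M N ≅ Coh.structureModule X :=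
    PicGrp.tensorModIso τ'.symm (Iso.refl N) ≪≫
      (Groth.Agent.Lib.helper12.PullTensor.pullTensorIso r' (Twist.twistProjSpace k Γ(X, ⊤) 1)
        (Twist.twistProjSpace k Γ(X, ⊤) (-1)) hinv).symm ≪≫
      (Scheme.Modules.pullback r').mapIso
        (Groth.Agent.Lib.helper28.TwistPn.tensorIso k Γ(X, ⊤) 1 (-1) ≪≫ e0 ≪≫
          (Groth.Agent.Lib.helper28.TwistPn.zeroIso k Γ(X, ⊤)).symm) ≪≫
      pullbackUnitIso r'
  exact ⟨N, hN, ⟨e⟩⟩

/-- for `L` ample and `n ≫ 0`, `L^{⊗ n}` has an invertible inverse -/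
theorem exists_inverse_tensorPow [QuasiSeparatedSpace X] {L : X.Modules} (hL : CohB1.IsAmple L) :
    ∃ n₁ : ℕ, ∀ n, n₁ ≤ n → ∃ N : X.Modules, PicF.IsInvertible N ∧
      ClSub.IsInverseOf (CohB1.tensorPow L n) N := by
  obtain ⟨n₁, h⟩ := exists_sections_cover hL
  refine ⟨n₁, fun n hn => ?_⟩
  obtain ⟨k, σ, hcov⟩ := h n hn
  exact exists_inverse_of_cover σ hcov

/-- a finite direct sum of copies of an invertible module is finite locally free -/
theorem isFinLocFree_sigma_of_isInvertible {N : X.Modules} (hN : PicF.IsInvertible N) (m : ℕ) :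
    FlatMod.IsFinLocFree (∐ fun _ : Fin m => N) := by
  intro x
  obtain ⟨U, hxU, ⟨e⟩⟩ := hN x
  have : PreservesColimitsOfSize.{0, 0} (restrictFunctor U.ι) :=
    (restrictAdjunction U.ι).leftAdjoint_preservesColimits
  exact ⟨U, m, hxU, ⟨PreservesCoproduct.iso (restrictFunctor U.ι) _ ≪≫
    Sigma.mapIso (fun _ => e)⟩⟩

/-- **a scheme with an ample invertible module has the resolution property** -/
theorem hasResolutionProperty_of_isAmple {L : X.Modules} (hL : CohB1.IsAmple L) :
    PerfAux.HasResolutionProperty X := by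
  have hc : CompactSpace X := hL.2.1
  have hqs : QuasiSeparatedSpace X :=
    Groth.Agent.Lib.helper12.AmpleBasis.quasiSeparatedSpace_of_hasAffineCover hL.1 hL.2.2
  intro F hq hft
  obtain ⟨n₀, h0⟩ := Groth.Agent.Lib.helper11.TensorEpi.exists_epi_sigma_of_isAmple hL F ⟨hq, hft⟩
  obtain ⟨n₁, h1⟩ := exists_inverse_tensorPow hL
  obtain ⟨N, hN, hinv⟩ := h1 (max n₀ n₁) (le_max_right _ _)
  obtain ⟨m, π, hπ⟩ := h0 (max n₀ n₁) (le_max_left _ _) N hinv
  exact ⟨_, π, isFinLocFree_sigma_of_isInvertible hN m, hπ⟩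

end Groth.Agent.Lib.helper11.AmpleInv
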