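import Mathlib
import Groth.Agent.Lib.Helper12.VAmple4
import Groth.Agent.Lib.Helper19.ProjSpaceProper

/-!
# Immersions into `P^N_R = Proj R[T₀..T_N]` from an ample module (helper11)

helper12's `VAmple1–4` produce immersions into `CohB1.ProjSpaceOver N S = P^N_ℤ ×_ℤ S`.  Here the same
arguments are run over a base *ring* `R` (with `S = Spec R`), producing immersions into the prelude's
`CohB1.ProjSpace N R = Proj R[T₀, …, T_N]`, which is what the Serre finiteness / vanishing libraries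
(`Lib/Lead/ProjectiveCoh`, `ProjectiveVan`) are written for.

* `IsVeryAmpleProj q L`: `∃ N (r : X ⟶ P^N_R)`, `r` an immersion over `Spec R` with `L ≅ r^*O(1)`.
* `isVeryAmpleProj_of_sections`, `isVeryAmpleProj_of_sections'`: the sections criterion.
* `isVeryAmpleProj_eventually`: `q : X ⟶ Spec R` locally of finite type, `L` ample, `L'` invertible ⇒
  `L^{⊗ n} ⊗ L'` is very ample in this sense for all large `n`.
* `isVeryAmpleProj_tensorPow_eventually`.
* `IsVeryAmpleProj.exists_closedImmersion`: for `q` proper the immersion is a closed immersion.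
-/

set_option autoImplicit false
universe u

open CategoryTheory CategoryTheory.Limits AlgebraicGeometry Opposite TopologicalSpace

namespace Groth.Agent.Lib.helper11.PnImm

open Groth.Agent.Lib.helper11.IsoLocus Groth.Agent.Lib.helper11.InvHom
open Groth.Agent.Lib.helper11.GenLocus Groth.Agent.Lib.helper11.InvMod
open Groth.Agent.Lib.helper12.ProjUP1 Groth.Agent.Lib.helper12.ProjUP3
open Groth.Agent.Lib.helper12.ProjUP4 Groth.Agent.Lib.helper12.ProjUP5
open Groth.Agent.Lib.helper12.ProjUP6 Groth.Agent.Lib.helper12.VAmple1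
open Groth.Agent.Lib.helper12.TensorInv
open Groth.Agent.Lib.helper12.VAmple3 Groth.Agent.Lib.helper12.AmpleBasis
open Groth.Agent.Lib.helper12.AmpleBasis2 Groth.Agent.Lib.helper12.VAmple4
open Scheme.Modules

variable {R : Type u} [CommRing R] {X : Scheme.{u}}

/-- `L` is the pullback of `O(1)` along an immersion `X ⟶ P^N_R = Proj R[T]` over `Spec R` -/
def IsVeryAmpleProj (q : X ⟶ Spec (CommRingCat.of R)) (L : X.Modules) : Prop :=
  ∃ (N : ℕ) (r : X ⟶ CohB1.ProjSpace N R), IsImmersion r ∧ r ≫ CohB1.ProjSpace.toSpec N R = q ∧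
    Nonempty (L ≅ (Scheme.Modules.pullback r).obj (Twist.twistProjSpace N R 1))

theorem isVeryAmpleProj_of_sections (q : X ⟶ Spec (CommRingCat.of R)) {L : X.Modules} {n : ℕ}
    (σ : Fin (n + 1) → (Coh.structureModule X ⟶ L))
    (good : Fin (n + 1) → Prop) (V : Fin (n + 1) → (Spec (CommRingCat.of R)).Opens)
    (hV : ∀ j, good j → IsAffineOpen (V j))
    (hZ : ∀ j, good j → IsAffineOpen (CohB1.genLocus L (σ j)))
    (hle : ∀ j, good j → CohB1.genLocus L (σ j) ≤ q ⁻¹ᵁ V j)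
    (hgen : ∀ j (hj : good j), Subring.closure
      (Set.range (q.appLE (V j) (CohB1.genLocus L (σ j)) (hle j hj)).hom ∪
        Set.range (fun l => ratio (σ j) (σ l) (CohB1.genLocus L (σ j)) le_rfl)) = ⊤)
    (hcov : ∀ x : X, ∃ j, good j ∧ x ∈ CohB1.genLocus L (σ j)) :
    IsVeryAmpleProj q L := by
  have hcov' : ⨆ i, gU σ i = ⊤ := by
    rw [eq_top_iff]
    intro x _
    obtain ⟨j, -, hx⟩ := hcov x
    exact Opens.mem_iSup.mpr ⟨j, hx⟩
  obtain ⟨r, hr⟩ := exists_toProj q σ hcov'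
  obtain ⟨τ, hτ⟩ := exists_iso_nu q σ r hr hcov'
  have hrq : (show X ⟶ CohB1.ProjSpace n R from r) ≫ CohB1.ProjSpace.toSpec n R = q :=
    toProj_toSpec q σ hcov' r hr
  have hrf : (show X ⟶ CohB1.ProjSpace n R from r) ≫
      CohB1.ProjSpace.toSpec n R = q ≫ 𝟙 _ := by rw [Category.comp_id, hrq]
  have himm : IsImmersion (pullback.lift (show X ⟶ CohB1.ProjSpace n R from r) q hrf) :=
    isImmersion_lift r σ τ hτ (𝟙 _) q (CohB1.ProjSpace.toSpec n R) hrf good V hV hZ hle hgen hcov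
  have hfac : pullback.lift (show X ⟶ CohB1.ProjSpace n R from r) q hrf ≫
      pullback.fst (CohB1.ProjSpace.toSpec n R) (𝟙 _) = r := pullback.lift_fst _ _ _
  refine ⟨n, r, ?_, hrq, ⟨τ.symm⟩⟩
  rw [← hfac]
  infer_instance

theorem isVeryAmpleProj_of_sections' (q : X ⟶ Spec (CommRingCat.of R)) {L : X.Modules}
    {T : Type*} [Fintype T]
    [Nonempty T] (σ : T → (Coh.structureModule X ⟶ L))
    (good : T → Prop) (V : T → (Spec (CommRingCat.of R)).Opens) (Z : T → X.Opens)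
    (hZeq : ∀ j, good j → CohB1.genLocus L (σ j) = Z j)
    (hV : ∀ j, good j → IsAffineOpen (V j))
    (hZ : ∀ j, good j → IsAffineOpen (Z j))
    (hle : ∀ j, good j → Z j ≤ q ⁻¹ᵁ V j)
    (hgen : ∀ j (hj : good j), Subring.closure
      (Set.range (q.appLE (V j) (Z j) (hle j hj)).hom ∪
        Set.range (fun l => ratio (σ j) (σ l) (Z j) (hZeq j hj).ge)) = ⊤)
    (hcov : ∀ x : X, ∃ j, good j ∧ x ∈ Z j) :
    IsVeryAmpleProj q L := by
  classical
  obtain ⟨n, hn⟩ : ∃ n, Fintype.card T = n + 1 :=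
    ⟨Fintype.card T - 1, by have := Fintype.card_pos (α := T); omega⟩
  let e : Fin (n + 1) ≃ T := (Fintype.equivFinOfCardEq hn).symm
  have key : ∀ (j : T) (Z' : X.Opens) (h : CohB1.genLocus L (σ j) = Z') (hle' : Z' ≤ q ⁻¹ᵁ V j),
      Subring.closure (Set.range (q.appLE (V j) Z' hle').hom ∪
        Set.range (fun l => ratio (σ j) (σ l) Z' h.ge)) = ⊤ →
      ∀ (hle'' : CohB1.genLocus L (σ j) ≤ q ⁻¹ᵁ V j),
      Subring.closure (Set.range (q.appLE (V j) (CohB1.genLocus L (σ j)) hle'').hom ∪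
        Set.range (fun l' : Fin (n + 1) =>
          ratio (σ j) (σ (e l')) (CohB1.genLocus L (σ j)) le_rfl)) = ⊤ := by
    rintro j Z' rfl hle' h hle''
    rw [← h]
    congr 2
    exact e.surjective.range_comp (fun l => ratio (σ j) (σ l) (CohB1.genLocus L (σ j)) le_rfl)
  refine isVeryAmpleProj_of_sections q (fun a => σ (e a)) (fun a => good (e a))
    (fun a => V (e a)) (fun a ha => hV _ ha) (fun a ha => (hZeq _ ha) ▸ hZ _ ha)
    (fun a ha => (hZeq _ ha) ▸ hle _ ha) (fun a ha => ?_) (fun x => ?_)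
  · exact key (e a) (Z (e a)) (hZeq _ ha) (hle _ ha) (hgen _ ha) _
  · obtain ⟨j, hj, hx⟩ := hcov x
    refine ⟨e.symm j, by simpa using hj, ?_⟩
    simp only [Equiv.apply_symm_apply]
    rw [hZeq j hj]
    exact hx

/-- For `q : X ⟶ Spec R` locally of finite type, `L` ample on `X` and `L'` invertible,
`L^{⊗ n} ⊗ L'` is the pullback of `O(1)` along an immersion into some `P^N_R` for all large `n`. -/
theorem isVeryAmpleProj_eventually (q : X ⟶ Spec (CommRingCat.of R)) [LocallyOfFiniteType q]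
    {L L' : X.Modules} (hL : CohB1.IsAmple L) (hL' : PicF.IsInvertible L') :
    ∃ n₀ : ℕ, ∀ n, n₀ ≤ n →
      IsVeryAmpleProj q (CohB1.tensorMod (CohB1.tensorPow L n) L') := by
  classical
  have hB := isBasis_of_isAmple hL
  obtain ⟨hLi, hc, hcovL⟩ := hL
  have := hc
  have : QuasiSeparatedSpace X := quasiSeparatedSpace_of_hasAffineCover hLi hcovL
  rw [Opens.isBasis_iff_nbhd] at hB
  have hloc : ∀ x : X, ∃ (V : (Spec (CommRingCat.of R)).Opens) (d : ℕ)
      (s : Coh.structureModule X ⟶ CohB1.tensorPow L (d + 1)),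
      IsAffineOpen V ∧ x ∈ CohB1.genLocus _ s ∧ IsAffineOpen (CohB1.genLocus _ s) ∧
        CohB1.genLocus _ s ≤ q ⁻¹ᵁ V ∧ IsTrivOn L (CohB1.genLocus _ s) ∧
        IsTrivOn L' (CohB1.genLocus _ s) := by
    intro x
    obtain ⟨V, hV, hxV, -⟩ := exists_isAffineOpen_mem_and_subset
      (show q x ∈ (⊤ : (Spec (CommRingCat.of R)).Opens) from trivial)
    obtain ⟨A, hA, hxA, hAV, hT⟩ := exists_affine_isTrivOn hLi x (q ⁻¹ᵁ V) hxV
    obtain ⟨A', hA', hxA', hA'A, hT'⟩ := exists_affine_isTrivOn hL' x A hxA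
    obtain ⟨U, ⟨d, s, rfl⟩, hxU, hUA'⟩ := hB hxA'
    refine ⟨V, d, s, hV, hxU, ?_, (hUA'.trans hA'A).trans hAV, hT.of_le (hUA'.trans hA'A),
      hT'.of_le hUA'⟩
    exact isAffineOpen_genLocus_of_le s hA' (isTrivOn_tensorPow (hT.of_le hA'A) (d + 1)) hUA'
  choose V d s hV hxs hZaff hZle hTL hTL' using hloc
  have hgens : ∀ x, ∃ (g : ℕ) (b : Fin g → Γ(X, CohB1.genLocus _ (s x))),
      Subring.closure (Set.range (q.appLE (V x) (CohB1.genLocus _ (s x)) (hZle x)).hom ∪
        Set.range b) = ⊤ := fun x =>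
    exists_generators_of_finiteType _ (q.finiteType_appLE (hV x) (hZaff x) (hZle x))
  choose g b hb using hgens
  have hch := fun x => exists_sections_chart hLi hL' (Nat.succ_pos (d x)) (s x) (hTL x) (hTL' x)
    (b x)
  choose n₀ hn₀ using hch
  obtain ⟨F, hF⟩ := isCompact_univ.elim_finite_subcover
    (fun x => ((CohB1.genLocus _ (s x) : X.Opens) : Set X))
    (fun x => (CohB1.genLocus _ (s x)).isOpen) (fun x _ => Set.mem_iUnion.mpr ⟨x, hxs x⟩)
  refine ⟨F.sup n₀, fun n hn => ?_⟩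
  have hxn : ∀ x ∈ F, n₀ x ≤ n := fun x hx => (Finset.le_sup hx).trans hn
  have hsec := fun x : F => hn₀ x.1 n (hxn x.1 x.2)
  choose w₀ w hw₀ hw using hsec
  let T := Option (Σ x : F, Option (Fin (g x.1)))
  let σ : T → (Coh.structureModule X ⟶ CohB1.tensorMod (CohB1.tensorPow L n) L') := fun t =>
    match t with
    | none => 0
    | some ⟨x, none⟩ => w₀ x
    | some ⟨x, some i⟩ => w x i
  refine isVeryAmpleProj_of_sections' q σ (fun t => ∃ x : F, t = some ⟨x, none⟩)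
    (fun t => match t with
      | some ⟨x, _⟩ => V x.1
      | none => ⊤)
    (fun t => match t with
      | some ⟨x, _⟩ => CohB1.genLocus _ (s x.1)
      | none => ⊤) ?_ ?_ ?_ ?_ ?_ ?_
  · rintro _ ⟨x, rfl⟩; exact hw₀ x
  · rintro _ ⟨x, rfl⟩; exact hV x.1
  · rintro _ ⟨x, rfl⟩; exact hZaff x.1
  · rintro _ ⟨x, rfl⟩; exact hZle x.1
  · rintro _ ⟨x, rfl⟩
    rw [eq_top_iff, ← hb x.1]
    apply Subring.closure_mono
    rintro y (hy | ⟨i, rfl⟩)
    · exact Or.inl hy
    · exact Or.inr ⟨some ⟨x, some i⟩, hw x i⟩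
  · intro y
    obtain ⟨x, hx⟩ := Set.mem_iUnion.mp (hF (Set.mem_univ y))
    obtain ⟨hxF, hy⟩ := Set.mem_iUnion.mp hx
    exact ⟨some ⟨⟨x, hxF⟩, none⟩, ⟨_, rfl⟩, hy⟩

theorem isVeryAmpleProj_of_iso (q : X ⟶ Spec (CommRingCat.of R)) {L L' : X.Modules} (e : L ≅ L')
    (h : IsVeryAmpleProj q L) : IsVeryAmpleProj q L' := by
  obtain ⟨n, i, hi, hif, ⟨τ⟩⟩ := h
  exact ⟨n, i, hi, hif, ⟨e.symm ≪≫ τ⟩⟩

/-- The case `L' = O`: `L^{⊗ n}` is very ample (into `P^N_R`) for all large `n`. -/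
theorem isVeryAmpleProj_tensorPow_eventually (q : X ⟶ Spec (CommRingCat.of R))
    [LocallyOfFiniteType q] {L : X.Modules} (hL : CohB1.IsAmple L) :
    ∃ n₀ : ℕ, ∀ n, n₀ ≤ n → IsVeryAmpleProj q (CohB1.tensorPow L n) := by
  obtain ⟨n₀, h⟩ := isVeryAmpleProj_eventually q hL (isInvertible_structureModule X)
  exact ⟨n₀, fun n hn => isVeryAmpleProj_of_iso q
    (Groth.Agent.Lib.Lead.ModTensor.rightUnitor _) (h n hn)⟩

/-- for `q` proper, the immersion is a closed immersion -/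
theorem IsVeryAmpleProj.exists_closedImmersion {q : X ⟶ Spec (CommRingCat.of R)} [IsProper q]
    {L : X.Modules} (h : IsVeryAmpleProj q L) :
    ∃ (N : ℕ) (r : X ⟶ CohB1.ProjSpace N R), IsClosedImmersion r ∧
      r ≫ CohB1.ProjSpace.toSpec N R = q ∧
      Nonempty (L ≅ (Scheme.Modules.pullback r).obj (Twist.twistProjSpace N R 1)) := by
  obtain ⟨N, r, hr, hrq, hτ⟩ := h
  refine ⟨N, r, ?_, hrq, hτ⟩
  have hprop : IsProper (CohB1.ProjSpace.toSpec N R) :=
    Groth.Agent.Lib.helper19.ProjSpaceProper.proper_toSpec N R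
  have hp : IsProper (r ≫ CohB1.ProjSpace.toSpec N R) := by rw [hrq]; infer_instance
  have hrp : IsProper r := IsProper.of_comp r (CohB1.ProjSpace.toSpec N R)
  exact IsClosedImmersion.of_isPreimmersion r r.isClosedMap.isClosed_range

end Groth.Agent.Lib.helper11.PnImm
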