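import Mathlib
import Groth.Agent.Lib.Helper11.PnImm
import Groth.Agent.Lib.Helper12.VAmple5
import Groth.Agent.Lib.Helper12.AmpleRestrict

/-!
# From `P^n_ℤ ×_ℤ Spec R` to `Proj R[T₀..T_N]` (helper11)

The prelude has two projective spaces over a ring `R`: `CohB1.ProjSpaceOver n (Spec R) = P^n_ℤ ×_ℤ Spec R`
(used by `RelAmple.IsRelVeryAmplePn`, Chow's lemma `S0025`, …) and `CohB1.ProjSpace N R = Proj R[T]` (used by the
cohomology libraries `Lib/Lead/ProjectiveCoh`, `ProjectiveVan`, `SerreVan`).  Instead of comparing the two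
schemes, we transport *immersions*: a quasi-compact `X` immersed in the first is immersed in the second (for some
other `N`), compatibly with the structure maps, and closed immersions of proper `X` go to closed immersions.

* `isAmple_of_isRelVeryAmplePn`: very ample relative to an affine base ⇒ ample.
* `exists_immersion_projSpace`: `q : X ⟶ Spec R` quasi-compact, `L` very ample rel. `P^n_{Spec R}` ⇒ for all large
  `d` there are `N`, an immersion `r : X ⟶ Proj R[T₀..T_N]` over `Spec R` and `L^{⊗ d} ≅ r^*O(1)`.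
* `exists_immersion_projSpace_of_immersion`: the same starting from an immersion `j : X ⟶ P^n_{Spec R}`.
* `exists_closedImmersion_projSpace_of_immersion`: `X` proper over `R` ⇒ closed immersion.
-/

set_option autoImplicit false
universe u

open CategoryTheory CategoryTheory.Limits AlgebraicGeometry Opposite TopologicalSpace

namespace Groth.Agent.Lib.helper11.PnBridge

open Groth.Agent.Lib.helper11.PnImm

variable {R : Type u} [CommRing R] {X : Scheme.{u}}

theorem isAmple_of_isRelVeryAmplePn (q : X ⟶ Spec (CommRingCat.of R)) [QuasiCompact q]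
    {L : X.Modules} (h : RelAmple.IsRelVeryAmplePn q L) : CohB1.IsAmple L :=
  (Groth.Agent.Lib.helper12.AmpleRestrict.isRelAmple_iff_isAmple_of_isAffine q L).mp
    (Groth.Agent.Lib.helper12.VAmple5.isRelAmple_of_isRelVeryAmplePn q h)

theorem locallyOfFiniteType_of_isRelVeryAmplePn (q : X ⟶ Spec (CommRingCat.of R))
    {L : X.Modules} (h : RelAmple.IsRelVeryAmplePn q L) : LocallyOfFiniteType q := by
  obtain ⟨n, i, hi, rfl, -⟩ := h
  have h1 : IsProper (CohB1.ProjSpaceOver.toBase n (Spec (CommRingCat.of R))) :=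
    Groth.Agent.Lib.helper19.ProjSpaceProper.proper_toBase n _
  have h2 : LocallyOfFiniteType (CohB1.ProjSpaceOver.toBase n (Spec (CommRingCat.of R))) :=
    inferInstance
  exact @MorphismProperty.comp_mem _ _ @LocallyOfFiniteType _ _ _ _ i _ inferInstance h2

/-- a module very ample relative to `P^n_ℤ ×_ℤ Spec R` has all large tensor powers very ample
relative to some `Proj R[T₀..T_N]` -/
theorem exists_immersion_projSpace (q : X ⟶ Spec (CommRingCat.of R)) [QuasiCompact q]
    {L : X.Modules} (h : RelAmple.IsRelVeryAmplePn q L) :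
    ∃ d₀ : ℕ, ∀ d, d₀ ≤ d → IsVeryAmpleProj q (CohB1.tensorPow L d) := by
  have := locallyOfFiniteType_of_isRelVeryAmplePn q h
  exact isVeryAmpleProj_tensorPow_eventually q (isAmple_of_isRelVeryAmplePn q h)

/-- an immersion into `P^n_ℤ ×_ℤ Spec R` gives an immersion into some `Proj R[T₀..T_N]` over `Spec R` -/
theorem exists_immersion_projSpace_of_immersion {n : ℕ}
    (j : X ⟶ CohB1.ProjSpaceOver n (Spec (CommRingCat.of R))) [IsImmersion j]
    [QuasiCompact (j ≫ CohB1.ProjSpaceOver.toBase n (Spec (CommRingCat.of R)))] :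
    ∃ (N : ℕ) (r : X ⟶ CohB1.ProjSpace N R), IsImmersion r ∧
      r ≫ CohB1.ProjSpace.toSpec N R = j ≫ CohB1.ProjSpaceOver.toBase n (Spec (CommRingCat.of R)) := by
  have h : RelAmple.IsRelVeryAmplePn (j ≫ CohB1.ProjSpaceOver.toBase n (Spec (CommRingCat.of R)))
      ((Scheme.Modules.pullback j).obj (Twist.twistOver n (Spec (CommRingCat.of R)) 1)) :=
    ⟨n, j, inferInstance, rfl, ⟨Iso.refl _⟩⟩
  obtain ⟨d₀, hd₀⟩ := exists_immersion_projSpace _ h
  obtain ⟨N, r, hr, hrq, -⟩ := hd₀ d₀ le_rfl
  exact ⟨N, r, hr, hrq⟩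

/-- for `X` proper over `R`, an immersion into `P^n_ℤ ×_ℤ Spec R` gives a closed immersion into some
`Proj R[T₀..T_N]` over `Spec R` -/
theorem exists_closedImmersion_projSpace_of_immersion {n : ℕ}
    (j : X ⟶ CohB1.ProjSpaceOver n (Spec (CommRingCat.of R))) [IsImmersion j]
    [IsProper (j ≫ CohB1.ProjSpaceOver.toBase n (Spec (CommRingCat.of R)))] :
    ∃ (N : ℕ) (r : X ⟶ CohB1.ProjSpace N R), IsClosedImmersion r ∧
      r ≫ CohB1.ProjSpace.toSpec N R = j ≫ CohB1.ProjSpaceOver.toBase n (Spec (CommRingCat.of R)) := by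
  have h : RelAmple.IsRelVeryAmplePn (j ≫ CohB1.ProjSpaceOver.toBase n (Spec (CommRingCat.of R)))
      ((Scheme.Modules.pullback j).obj (Twist.twistOver n (Spec (CommRingCat.of R)) 1)) :=
    ⟨n, j, inferInstance, rfl, ⟨Iso.refl _⟩⟩
  obtain ⟨d₀, hd₀⟩ := exists_immersion_projSpace _ h
  obtain ⟨N, r, hr, hrq, -⟩ := (hd₀ d₀ le_rfl).exists_closedImmersion
  exact ⟨N, r, hr, hrq⟩

end Groth.Agent.Lib.helper11.PnBridge
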