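import Mathlib
import Groth.Prelude.Def_Curv2
import Groth.Agent.Lib.Helper12.TwistExtend
import Groth.Agent.Lib.Helper12.TensorAssoc
import Groth.Agent.Lib.Helper12.AmpleBasis2
import Groth.Agent.Lib.Helper12.PullTensor
import Groth.Agent.Lib.Helper28.SecEpi
import Groth.Agent.Lib.Helper2.TensorQCoh
import Groth.Agent.Lib.Helper16.FLF7
import Groth.Agent.Lib.Helper7.QCohAffine

/-!
# Serre's theorem: `F ⊗ L^{⊗ n}` is globally generated for `L` ample, `F` coherent, `n ≫ 0` (helper11)

* `gsubBy M τ W`: the submodule of `M(W)` spanned by the restrictions of the global sections `τ i`.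
* `GenAtBy M τ y`: near `y`, every section of `M` is a combination of the global sections `τ i`.
  `GenAt M y`: the same for the family of all global sections.
* `epi_of_genAtBy`, `isGloballyGenerated_of_genAt`, `genAtBy_of_mem_isoLocus`, `genAtBy_of_iso`.
* `twistHom s n G : G ⟶ G ⊗ L^{⊗ n}` (multiplication by `s^{⊗ n}`), `twistHom_apply`,
  `genLocus_le_isoLocus_twistHom`.
* `genAtBy_twist_of_span` (local step), `exists_extend_twist_ge` (EGA I 9.3.1 with all large
  exponents), `exists_genAtBy_twist`, `exists_genAtBy_tensorPow`.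
* `exists_finite_genAtBy_twist`: **Serre's theorem** with finitely many generating sections;
  `exists_isGloballyGenerated_twist` (= S2325).
-/

set_option autoImplicit false
universe u

open CategoryTheory CategoryTheory.Limits AlgebraicGeometry Opposite TopologicalSpace MonoidalCategory

namespace Groth.Agent.Lib.helper11.SerreGG

open Groth.Agent.Lib.helper12.TwistExtend Groth.Agent.Lib.helper11.IsoLocus

variable {X : Scheme.{u}}

/-- The submodule of `M(W)` spanned by the restrictions of the global sections `τ i`. -/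
noncomputable def gsubBy (M : X.Modules) {ι : Type*} (τ : ι → M.val.obj (op ⊤)) (W : X.Opens) :
    Submodule (X.ringCatSheaf.obj.obj (op W)) (M.val.obj (op W)) :=
  Submodule.span _ (Set.range fun i : ι => res M (le_top : W ≤ ⊤) (τ i))

theorem res_top_mem_gsubBy (M : X.Modules) {ι : Type*} (τ : ι → M.val.obj (op ⊤)) (W : X.Opens)
    (i : ι) : res M (le_top : W ≤ ⊤) (τ i) ∈ gsubBy M τ W :=
  Submodule.subset_span ⟨i, rfl⟩

theorem res_smul (M : X.Modules) {U V : X.Opens} (h : V ≤ U) (r : X.ringCatSheaf.obj.obj (op U))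
    (x : M.val.obj (op U)) :
    res M h (r • x) = (X.ringCatSheaf.obj.map (homOfLE h).op r) • res M h x :=
  PresheafOfModules.map_smul M.val (homOfLE h).op r x

theorem res_add (M : X.Modules) {U V : X.Opens} (h : V ≤ U) (x y : M.val.obj (op U)) :
    res M h (x + y) = res M h x + res M h y :=
  map_add (M.val.map (homOfLE h).op).hom x y

theorem res_zero (M : X.Modules) {U V : X.Opens} (h : V ≤ U) :
    res M h (0 : M.val.obj (op U)) = 0 :=
  map_zero (M.val.map (homOfLE h).op).hom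

/-- Restriction maps `gsubBy` into `gsubBy`. -/
theorem res_mem_gsubBy (M : X.Modules) {ι : Type*} (τ : ι → M.val.obj (op ⊤)) {U V : X.Opens}
    (h : V ≤ U) {x : M.val.obj (op U)} (hx : x ∈ gsubBy M τ U) : res M h x ∈ gsubBy M τ V := by
  induction hx using Submodule.span_induction with
  | mem x hx =>
    obtain ⟨i, rfl⟩ := hx
    rw [res_res]
    exact res_top_mem_gsubBy M τ V i
  | zero => rw [res_zero]; exact Submodule.zero_mem _
  | add x y _ _ hx hy => rw [res_add]; exact Submodule.add_mem _ hx hy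
  | smul r x _ hx => rw [res_smul]; exact Submodule.smul_mem _ _ hx

/-- Morphisms of modules map `gsubBy` into `gsubBy`. -/
theorem app_mem_gsubBy {N M : X.Modules} (φ : N ⟶ M) {ι : Type*} (τ : ι → N.val.obj (op ⊤))
    (W : X.Opens) {x : N.val.obj (op W)} (hx : x ∈ gsubBy N τ W) :
    (φ.val.app (op W)).hom x ∈ gsubBy M (fun i => (φ.val.app (op ⊤)).hom (τ i)) W := by
  induction hx using Submodule.span_induction with
  | mem x hx =>
    obtain ⟨i, rfl⟩ := hx
    rw [← res_app]
    exact res_top_mem_gsubBy M _ W i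
  | zero => rw [map_zero]; exact Submodule.zero_mem _
  | add x y _ _ hx hy => rw [map_add]; exact Submodule.add_mem _ hx hy
  | smul r x _ hx => rw [map_smul]; exact Submodule.smul_mem _ _ hx

theorem gsubBy_mono (M : X.Modules) {ι κ : Type*} (τ : ι → M.val.obj (op ⊤))
    (τ' : κ → M.val.obj (op ⊤)) (h : ∀ i, ∃ k, τ' k = τ i) (W : X.Opens) :
    gsubBy M τ W ≤ gsubBy M τ' W := by
  refine Submodule.span_mono ?_
  rintro _ ⟨i, rfl⟩
  obtain ⟨k, hk⟩ := h i
  exact ⟨k, congrArg (fun z => res M (le_top : W ≤ ⊤) z) hk⟩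

/-- Near `y`, `M` is generated by the global sections `τ i`. -/
def GenAtBy (M : X.Modules) {ι : Type*} (τ : ι → M.val.obj (op ⊤)) (y : X) : Prop :=
  ∀ (V : X.Opens) (σ : M.val.obj (op V)), y ∈ V →
    ∃ (W : X.Opens) (hW : W ≤ V), y ∈ W ∧ res M hW σ ∈ gsubBy M τ W

/-- `M` is generated by its global sections near `y`. -/
def GenAt (M : X.Modules) (y : X) : Prop := GenAtBy M (fun τ : M.val.obj (op ⊤) => τ) y

theorem GenAtBy.mono {M : X.Modules} {ι κ : Type*} {τ : ι → M.val.obj (op ⊤)}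
    {τ' : κ → M.val.obj (op ⊤)} (h : ∀ i, ∃ k, τ' k = τ i) {y : X} (hy : GenAtBy M τ y) :
    GenAtBy M τ' y := by
  intro V σ hyV
  obtain ⟨W, hW, hyW, hmem⟩ := hy V σ hyV
  exact ⟨W, hW, hyW, gsubBy_mono M τ τ' h W hmem⟩

theorem GenAtBy.genAt {M : X.Modules} {ι : Type*} {τ : ι → M.val.obj (op ⊤)} {y : X}
    (hy : GenAtBy M τ y) : GenAt M y :=
  GenAtBy.mono (τ' := fun z : M.val.obj (op ⊤) => z) (fun i => ⟨τ i, rfl⟩) hy

open Groth.Agent.Lib.helper12.AmpleBasis in
/-- The morphism from the free module determined by a family of global sections. -/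
noncomputable def canonBy (M : X.Modules) {ι : Type u} (τ : ι → M.val.obj (op ⊤)) :
    (SheafOfModules.free ι : X.Modules) ⟶ M :=
  M.freeHomEquiv.symm (fun i => secFamily M (τ i))

open Groth.Agent.Lib.helper12.AmpleBasis in
theorem ιFree_canonBy (M : X.Modules) {ι : Type u} (τ : ι → M.val.obj (op ⊤)) (i : ι) :
    SheafOfModules.ιFree i ≫ canonBy M τ = homOfSec M (τ i) := by
  have h := SheafOfModules.unitHomEquiv_symm_freeHomEquiv_apply (canonBy M τ) i
  rw [← h]
  unfold canonBy homOfSec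
  rw [Equiv.apply_symm_apply]

open Groth.Agent.Lib.helper12.AmpleBasis in
theorem gsubBy_le_range_canonBy (M : X.Modules) {ι : Type u} (τ : ι → M.val.obj (op ⊤))
    (W : X.Opens) : gsubBy M τ W ≤ LinearMap.range ((canonBy M τ).val.app (op W)).hom := by
  unfold gsubBy
  rw [Submodule.span_le]
  rintro _ ⟨i, rfl⟩
  refine ⟨((SheafOfModules.ιFree (R := X.ringCatSheaf) i).val.app (op W)).hom
    (1 : X.ringCatSheaf.obj.obj (op W)), ?_⟩
  have h1 := val_homOfSec M (τ i) W
  rw [← ιFree_canonBy] at h1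
  exact h1

/-- If the `τ i` generate `M` near every point, the induced map from the free module is epi. -/
theorem epi_of_genAtBy (M : X.Modules) {ι : Type u} (τ : ι → M.val.obj (op ⊤))
    (h : ∀ y : X, GenAtBy M τ y) : Epi (canonBy M τ) := by
  refine Groth.Agent.Lib.helper28.SecEpi.epi_of_locally_surjective _ fun V s y hy => ?_
  obtain ⟨W, hW, hyW, hmem⟩ := h y V s hy
  obtain ⟨t, ht⟩ := gsubBy_le_range_canonBy M τ W hmem
  exact ⟨W, hW, hyW, t, ht⟩

/-- If `M` is generated by global sections near every point, it is globally generated. -/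
theorem isGloballyGenerated_of_genAt (M : X.Modules) (h : ∀ y : X, GenAt M y) :
    Curv2.IsGloballyGenerated M :=
  ⟨M.val.obj (op ⊤), canonBy M _, epi_of_genAtBy M _ h⟩

/-- Sections over opens inside the iso locus lift. -/
theorem exists_app_eq_of_le_isoLocus {N M : X.Modules} (φ : N ⟶ M) {A : X.Opens}
    (hA : A ≤ isoLocus φ) (σ : M.val.obj (op A)) :
    ∃ σ' : N.val.obj (op A), (φ.val.app (op A)).hom σ' = σ := by
  have h1 : IsIso (φ.app A) := isIso_app_of_le_isoLocus φ hA
  have h2 : Function.Bijective (φ.app A).hom :=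
    (ConcreteCategory.isIso_iff_bijective (φ.app A)).mp h1
  exact h2.2 σ

/-- Generation by global sections near `y` transports along a morphism which is an isomorphism
near `y`. -/
theorem genAtBy_of_mem_isoLocus {N M : X.Modules} (φ : N ⟶ M) {y : X} (hy : y ∈ isoLocus φ)
    {ι : Type*} {τ : ι → N.val.obj (op ⊤)} (h : GenAtBy N τ y) :
    GenAtBy M (fun i => (φ.val.app (op ⊤)).hom (τ i)) y := by
  intro V σ hyV
  have hA : V ⊓ isoLocus φ ≤ isoLocus φ := inf_le_right
  obtain ⟨σ', hσ'⟩ := exists_app_eq_of_le_isoLocus φ hA (res M (inf_le_left : V ⊓ isoLocus φ ≤ V) σ)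
  obtain ⟨W, hW, hyW, hmem⟩ := h (V ⊓ isoLocus φ) σ' ⟨hyV, hy⟩
  refine ⟨W, hW.trans inf_le_left, hyW, ?_⟩
  rw [← res_res M (inf_le_left : V ⊓ isoLocus φ ≤ V) hW, ← hσ', res_app]
  exact app_mem_gsubBy φ τ W hmem

theorem genAtBy_of_iso {N M : X.Modules} (e : N ≅ M) {y : X} {ι : Type*}
    {τ : ι → N.val.obj (op ⊤)} (h : GenAtBy N τ y) :
    GenAtBy M (fun i => (e.hom.val.app (op ⊤)).hom (τ i)) y := by
  refine genAtBy_of_mem_isoLocus e.hom ?_ h
  rw [(isoLocus_eq_top_iff e.hom).mpr inferInstance]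
  trivial

/-! ### Multiplication by `s^{⊗ n}` as a morphism -/

open Groth.Agent.Lib.helper12.PullTensor Groth.Agent.Lib.helper12.AmpleBasis in
/-- Multiplication by `s^{⊗ n}`: `G ⟶ G ⊗ L^{⊗ n}`. -/
noncomputable def twistHom {L : X.Modules} (s : Coh.structureModule X ⟶ L) (n : ℕ) (G : X.Modules) :
    G ⟶ CohB1.tensorMod G (CohB1.tensorPow L n) :=
  (SecTwist.unitorR G).inv ≫
    Groth.Agent.Lib.Lead.ModTensor.tensorMap (𝟙 G) (SecTwist.powHom s n)

open Groth.Agent.Lib.helper12.PullTensor in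
theorem twistHom_apply {L : X.Modules} (s : Coh.structureModule X ⟶ L) (n : ℕ) (G : X.Modules)
    (W : X.Opens) (t : G.val.obj (op W)) :
    ((twistHom s n G).val.app (op W)).hom t = SecTwist.twist s n G W t := by
  change ((Groth.Agent.Lib.Lead.ModTensor.tensorMap (𝟙 G) (SecTwist.powHom s n)).val.app (op W)).hom
    (((SecTwist.unitorR G).inv.val.app (op W)).hom t) = _
  rw [unitorR_inv_apply, tensorMap_tmul]
  have h1 : ((SecTwist.powHom s n).val.app (op W)).hom
      ((1 : X.ringCatSheaf.obj.obj (op W)) : (Coh.structureModule X).val.obj (op W)) =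
      SecTwist.pow s n W := SecTwist.val_powHom s n W
  rw [h1]
  rfl

open Groth.Agent.Lib.helper12.PullTensor Groth.Agent.Lib.helper12.AmpleBasis in
theorem genLocus_le_isoLocus_twistHom {L : X.Modules} (hL : PicF.IsInvertible L)
    (s : Coh.structureModule X ⟶ L) (n : ℕ) (G : X.Modules) :
    CohB1.genLocus L s ≤ isoLocus (twistHom s n G) := by
  unfold twistHom
  rw [isoLocus_comp_of_isIso_left]
  refine le_trans ?_ (isoLocus_inf_le_tensorMap (𝟙 G) (SecTwist.powHom s n))
  rw [isoLocus_id, top_inf_eq]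
  cases n with
  | zero =>
    have : isoLocus (SecTwist.powHom s 0) = ⊤ := by
      change isoLocus (𝟙 _) = ⊤
      exact isoLocus_id _
    rw [this]
    exact le_top
  | succ j =>
    rw [← genLocus_eq_isoLocus, genLocus_powHom hL s j]

/-! ### The local step -/

/-- `res`-form of helper7's localisation lemma. -/
theorem exists_pow_smul_eq_res {U : X.Opens} (hU : IsAffineOpen U) (F : X.Modules)
    [F.IsQuasicoherent] (f : Γ(X, U)) (t : F.val.obj (op (X.basicOpen f))) :
    ∃ (n : ℕ) (τ : F.val.obj (op U)), res F (X.basicOpen_le f) τ =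
      (show X.ringCatSheaf.obj.obj (op (X.basicOpen f)) from
        X.presheaf.map (homOfLE (X.basicOpen_le f)).op f) ^ n • t := by
  obtain ⟨n, τ, h⟩ := Groth.Agent.Lib.helper7.exists_pow_smul_eq_map_of_isAffineOpen hU F f t
  exact ⟨n, τ, h⟩

/-- If `c ^ n • x` lies in a submodule and `c` is a unit, so does `x`. -/
theorem mem_of_pow_smul_mem {R M : Type*} [Ring R] [AddCommGroup M] [Module R M]
    (S : Submodule R M) {c : R} (hc : IsUnit c) (n : ℕ) {x : M} (h : c ^ n • x ∈ S) : x ∈ S := by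
  obtain ⟨v, hv⟩ := hc.pow n
  rw [← hv] at h
  have h2 : ((v⁻¹ : Rˣ) : R) • ((v : R) • x) ∈ S := S.smul_mem _ h
  rwa [smul_smul, Units.inv_mul, one_smul] at h2

/-- **Local step.** Let `U ≤ X_s` be affine and `G` quasi-coherent.  If a spanning family `t i` of
`G(U)` is such that each `t i ⊗ s^{⊗ m}` extends to a global section `T i` of `G ⊗ L^{⊗ m}`, then
`G ⊗ L^{⊗ m}` is generated by the `T i` near every point of `U`. -/
theorem genAtBy_twist_of_span {L : X.Modules} (hL : PicF.IsInvertible L)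
    (s : Coh.structureModule X ⟶ L) {U : X.Opens} (hU : IsAffineOpen U)
    (hUs : U ≤ CohB1.genLocus L s)
    (G : X.Modules) [G.IsQuasicoherent] (m : ℕ) {ι : Type*}
    (t : ι → G.val.obj (op U))
    (hS : Submodule.span (X.ringCatSheaf.obj.obj (op U)) (Set.range t) = ⊤)
    (T : ι → (CohB1.tensorMod G (CohB1.tensorPow L m)).val.obj (op ⊤))
    (hT : ∀ i, res _ (le_top : U ≤ ⊤) (T i) = SecTwist.twist s m G U (t i))
    {y : X} (hy : y ∈ U) :
    GenAtBy (CohB1.tensorMod G (CohB1.tensorPow L m)) T y := by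
  let ψ := twistHom s m G
  have hψ : U ≤ isoLocus ψ := hUs.trans (genLocus_le_isoLocus_twistHom hL s m G)
  -- Step 1: `ψ` maps all of `G(U)` into `gsubBy M T U`
  have step1 : ∀ τ : G.val.obj (op U), (ψ.val.app (op U)).hom τ ∈
      gsubBy (CohB1.tensorMod G (CohB1.tensorPow L m)) T U := by
    have hle : Submodule.span (X.ringCatSheaf.obj.obj (op U)) (Set.range t) ≤
        (gsubBy (CohB1.tensorMod G (CohB1.tensorPow L m)) T U).comap (ψ.val.app (op U)).hom := by
      rw [Submodule.span_le]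
      rintro _ ⟨i, rfl⟩
      change (ψ.val.app (op U)).hom (t i) ∈ gsubBy _ T U
      rw [twistHom_apply, ← hT]
      exact res_top_mem_gsubBy _ T U i
    intro τ
    have : τ ∈ Submodule.span (X.ringCatSheaf.obj.obj (op U)) (Set.range t) := by
      rw [hS]; trivial
    exact hle this
  -- Step 2
  intro V σ hyV
  obtain ⟨f, hfV, hyf⟩ := hU.exists_basicOpen_le (V := V ⊓ U) ⟨y, hyV, hy⟩ hy
  have hAU : X.basicOpen f ≤ U := X.basicOpen_le f
  have hAV : X.basicOpen f ≤ V := hfV.trans inf_le_left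
  obtain ⟨σ', hσ'⟩ := exists_app_eq_of_le_isoLocus ψ (hAU.trans hψ) (res _ hAV σ)
  obtain ⟨n, τ, hτ⟩ := exists_pow_smul_eq_res hU G f σ'
  refine ⟨X.basicOpen f, hAV, hyf, ?_⟩
  have h1 : res _ hAU ((ψ.val.app (op U)).hom τ) ∈ gsubBy _ T (X.basicOpen f) :=
    res_mem_gsubBy _ T hAU (step1 τ)
  rw [res_app, hτ, map_smul, hσ'] at h1
  refine mem_of_pow_smul_mem (gsubBy _ T (X.basicOpen f)) ?_ n h1
  exact X.toRingedSpace.isUnit_res_basicOpen f

/-! ### Uniform exponents -/

open Groth.Agent.Lib.helper12.TensorAssoc in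
/-- EGA I 9.3.1 (ii) with all large exponents. -/
theorem exists_extend_twist_ge [CompactSpace X] [QuasiSeparatedSpace X] (G : X.Modules)
    [G.IsQuasicoherent] {L : X.Modules} (hL : PicF.IsInvertible L)
    (s : Coh.structureModule X ⟶ L) (t : G.val.obj (op (CohB1.genLocus L s))) :
    ∃ n₀ : ℕ, ∀ m, n₀ ≤ m →
      ∃ T : (CohB1.tensorMod G (CohB1.tensorPow L m)).val.obj (op ⊤),
        res _ (le_top : CohB1.genLocus L s ≤ ⊤) T =
          SecTwist.twist s m G (CohB1.genLocus L s) t := by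
  obtain ⟨n, -, t', ht'⟩ := extend_top G hL s t
  refine ⟨n, fun m hm => ?_⟩
  obtain ⟨k, rfl⟩ := Nat.exists_eq_add_of_le hm
  refine ⟨((twistAddIso G L n k).hom.val.app (op ⊤)).hom
    (SecTwist.twist s k (CohB1.tensorMod G (CohB1.tensorPow L n)) ⊤ t'), ?_⟩
  rw [res_app, res_twist, ht', twistAddIso_hom_twist]

open Groth.Agent.Lib.helper16.CohFinite in
/-- **Serre's theorem, one chart**: if `X_s` is affine and `G` is coherent, then for all large `m`
finitely many global sections of `G ⊗ L^{⊗ m}` generate it over `X_s`. -/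
theorem exists_genAtBy_twist [CompactSpace X] [QuasiSeparatedSpace X] {L : X.Modules}
    (hL : PicF.IsInvertible L) (s : Coh.structureModule X ⟶ L)
    (hU : IsAffineOpen (CohB1.genLocus L s)) (G : X.Modules) (hG : Coh.IsCoh G) :
    ∃ m₀ : ℕ, ∀ m, m₀ ≤ m → ∃ (ι : Type u) (_ : Finite ι)
      (T : ι → (CohB1.tensorMod G (CohB1.tensorPow L m)).val.obj (op ⊤)),
      ∀ y ∈ CohB1.genLocus L s, GenAtBy (CohB1.tensorMod G (CohB1.tensorPow L m)) T y := by
  classical
  have hq : G.IsQuasicoherent := hG.1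
  have hfin : Module.Finite (X.ringCatSheaf.obj.obj (op (CohB1.genLocus L s)))
      (G.val.obj (op (CohB1.genLocus L s))) :=
    finite_sections_of_isCoh G hG hU
  obtain ⟨S, hS⟩ := hfin.fg_top
  have hex := fun t : G.val.obj (op (CohB1.genLocus L s)) => exists_extend_twist_ge G hL s t
  choose n₀ hn₀ using hex
  refine ⟨S.sup n₀, fun m hm => ?_⟩
  have hTex : ∀ t : (S : Set (G.val.obj (op (CohB1.genLocus L s)))),
      ∃ T : (CohB1.tensorMod G (CohB1.tensorPow L m)).val.obj (op ⊤),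
        res _ (le_top : CohB1.genLocus L s ≤ ⊤) T =
          SecTwist.twist s m G (CohB1.genLocus L s) t.1 :=
    fun t => hn₀ t.1 m ((Finset.le_sup (f := n₀) t.2).trans hm)
  choose T hT using hTex
  refine ⟨(S : Set (G.val.obj (op (CohB1.genLocus L s)))), inferInstance, T, fun y hy => ?_⟩
  refine genAtBy_twist_of_span hL s hU le_rfl G m (fun t => t.1) ?_ T hT hy
  rw [Subtype.range_coe_subtype]
  exact hS

/-! ### All large exponents; the main theorem -/

open Groth.Agent.Lib.helper12.TensorInv Groth.Agent.Lib.helper12.AmpleBasis in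
/-- `F ⊗ L^{⊗ r}` is coherent for `F` coherent and `L` invertible. -/
theorem isCoh_twist {L : X.Modules} (hL : PicF.IsInvertible L) {F : X.Modules} (hF : Coh.IsCoh F)
    (r : ℕ) : Coh.IsCoh (CohB1.tensorMod F (CohB1.tensorPow L r)) := by
  have hq : F.IsQuasicoherent := hF.1
  have hLr : PicF.IsInvertible (CohB1.tensorPow L r) := isInvertible_tensorPow hL r
  have hq' : (CohB1.tensorPow L r).IsQuasicoherent := isQuasicoherent_of_isInvertible hLr
  have hft : CohB1.IsFT (CohB1.tensorPow L r) :=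
    Groth.Agent.Lib.helper16.FLF.isFiniteType_of_isFinLocFree _
      (Groth.Agent.Lib.helper16.FLF.isFinLocFree_of_isInvertible hLr)
  exact ⟨Groth.Agent.Lib.helper2.TensorQCoh.isQuasicoherent_tensorMod _ _,
    Groth.Agent.Lib.helper2.TensorQCoh.isFiniteType_tensorMod _ _ hF.2 hft⟩

open Groth.Agent.Lib.helper12.TensorAssoc Groth.Agent.Lib.helper12.TensorPowAdd in
/-- `(F ⊗ L^{⊗ r}) ⊗ (L^{⊗ d})^{⊗ m} ≅ F ⊗ L^{⊗ (r + d m)}`. -/
noncomputable def twistMulIso (F L : X.Modules) (r d m : ℕ) :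
    CohB1.tensorMod (CohB1.tensorMod F (CohB1.tensorPow L r))
        (CohB1.tensorPow (CohB1.tensorPow L d) m) ≅
      CohB1.tensorMod F (CohB1.tensorPow L (r + d * m)) :=
  PicGrp.tensorModIso (Iso.refl _) (tensorPowMul L d m) ≪≫ twistAddIso F L r (d * m)

open Groth.Agent.Lib.helper12.TensorInv in
/-- **Serre's theorem, one chart, all large exponents**: `s` a section of `L^{⊗ d}`, `d > 0`, with
`X_s` affine; `F` coherent.  Then for all large `n`, `F ⊗ L^{⊗ n}` is generated over `X_s` by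
finitely many global sections. -/
theorem exists_genAtBy_tensorPow [CompactSpace X] [QuasiSeparatedSpace X] {L : X.Modules}
    (hL : PicF.IsInvertible L) {d : ℕ} (hd : 0 < d)
    (s : Coh.structureModule X ⟶ CohB1.tensorPow L d)
    (hU : IsAffineOpen (CohB1.genLocus _ s)) (F : X.Modules) (hF : Coh.IsCoh F) :
    ∃ n₀ : ℕ, ∀ n, n₀ ≤ n → ∃ (ι : Type u) (_ : Finite ι)
      (T : ι → (CohB1.tensorMod F (CohB1.tensorPow L n)).val.obj (op ⊤)),
      ∀ y ∈ CohB1.genLocus _ s, GenAtBy (CohB1.tensorMod F (CohB1.tensorPow L n)) T y := by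
  have hLd : PicF.IsInvertible (CohB1.tensorPow L d) := isInvertible_tensorPow hL d
  have hex := fun r : ℕ => exists_genAtBy_twist hLd s hU _ (isCoh_twist hL hF r)
  choose m₀ hm₀ using hex
  refine ⟨d * (Finset.range d).sup m₀, fun n hn => ?_⟩
  have hr : n % d ∈ Finset.range d := Finset.mem_range.mpr (Nat.mod_lt n hd)
  have hm : m₀ (n % d) ≤ n / d := by
    refine (Finset.le_sup (f := m₀) hr).trans ?_
    exact (Nat.le_div_iff_mul_le hd).mpr (by rw [Nat.mul_comm]; exact hn)
  obtain ⟨ι, hι, T, hT⟩ := hm₀ (n % d) (n / d) hm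
  have key : ∃ (ι : Type u) (_ : Finite ι)
      (T : ι → (CohB1.tensorMod F (CohB1.tensorPow L (n % d + d * (n / d)))).val.obj (op ⊤)),
      ∀ y ∈ CohB1.genLocus _ s,
        GenAtBy (CohB1.tensorMod F (CohB1.tensorPow L (n % d + d * (n / d)))) T y :=
    ⟨ι, hι, _, fun y hy => genAtBy_of_iso (twistMulIso F L (n % d) d (n / d)) (hT y hy)⟩
  rw [Nat.mod_add_div] at key
  exact key

/-- **Serre's theorem** (EGA II 4.5.5), finite form: on a quasi-compact quasi-separated scheme with
an ample invertible module `L`, for every coherent `F` and all large `n`, finitely many global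
sections generate `F ⊗ L^{⊗ n}`. -/
theorem exists_finite_genAtBy_twist [QuasiSeparatedSpace X] {L : X.Modules}
    (hL : CohB1.IsAmple L) (F : X.Modules) (hF : Coh.IsCoh F) :
    ∃ n₀ : ℕ, ∀ n, n₀ ≤ n → ∃ (ι : Type u) (_ : Finite ι)
      (T : ι → (CohB1.tensorMod F (CohB1.tensorPow L n)).val.obj (op ⊤)),
      ∀ y : X, GenAtBy (CohB1.tensorMod F (CohB1.tensorPow L n)) T y := by
  classical
  obtain ⟨hinv, hc, hcov⟩ := hL
  choose d s hxs haff using hcov
  obtain ⟨T, hT⟩ := isCompact_univ.elim_finite_subcover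
    (fun x : X => ((CohB1.genLocus _ (s x) : X.Opens) : Set X))
    (fun x => (CohB1.genLocus _ (s x)).isOpen)
    (fun x _ => Set.mem_iUnion.mpr ⟨x, hxs x⟩)
  have hex := fun x : X => exists_genAtBy_tensorPow hinv (Nat.succ_pos (d x)) (s x) (haff x) F hF
  choose n₀ hn₀ using hex
  refine ⟨T.sup n₀, fun n hn => ?_⟩
  have hx : ∀ x : (T : Set X), ∃ (ι : Type u) (_ : Finite ι)
      (τ : ι → (CohB1.tensorMod F (CohB1.tensorPow L n)).val.obj (op ⊤)),
      ∀ y ∈ CohB1.genLocus _ (s x.1), GenAtBy (CohB1.tensorMod F (CohB1.tensorPow L n)) τ y :=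
    fun x => hn₀ x.1 n ((Finset.le_sup (f := n₀) x.2).trans hn)
  choose ι hι τ hτ using hx
  refine ⟨Σ x : (T : Set X), ι x, inferInstance, fun p => τ p.1 p.2, fun y => ?_⟩
  obtain ⟨x, hxT, hyx⟩ : ∃ x ∈ T, y ∈ CohB1.genLocus _ (s x) := by
    have := hT (Set.mem_univ y)
    simpa using this
  exact GenAtBy.mono (τ := τ ⟨x, hxT⟩)
    (τ' := fun p : (Σ x : (T : Set X), ι x) => τ p.1 p.2)
    (fun i => ⟨⟨⟨x, hxT⟩, i⟩, rfl⟩) (hτ ⟨x, hxT⟩ y hyx)

/-- **Serre's theorem** (EGA II 4.5.5): `F ⊗ L^{⊗ n}` is globally generated for all large `n`. -/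
theorem exists_isGloballyGenerated_twist [QuasiSeparatedSpace X] {L : X.Modules}
    (hL : CohB1.IsAmple L) (F : X.Modules) (hF : Coh.IsCoh F) :
    ∃ n₀ : ℕ, ∀ n, n₀ ≤ n →
      Curv2.IsGloballyGenerated (CohB1.tensorMod F (CohB1.tensorPow L n)) := by
  obtain ⟨n₀, h⟩ := exists_finite_genAtBy_twist hL F hF
  refine ⟨n₀, fun n hn => ?_⟩
  obtain ⟨ι, -, T, hT⟩ := h n hn
  exact ⟨ι, canonBy _ T, epi_of_genAtBy _ T hT⟩

end Groth.Agent.Lib.helper11.SerreGG
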