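import Groth.Agent.Lib.Helper11.TensorEpi
import Groth.Agent.Lib.Helper28.TwistPn

/-!
# Serre's theorem on `Proj` and on `P^n_R`: coherent modules are quotients of `⊕ O(-N)` (helper11)

* `SerreProj.exists_epi_twist_neg`: `Proj 𝒜` quasi-compact and covered by the `D₊(f)`, `deg f = 1`;
  `F` coherent.  Then for all large `N`, `F` is a quotient of `O(-N)^m`.
* `SerrePn.exists_epi_twist_le`, `SerrePn.exists_epi_twist`: the case of `P^n_R` (= LT21, piece P1).
-/

set_option autoImplicit false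
universe u

open CategoryTheory CategoryTheory.Limits AlgebraicGeometry Opposite TopologicalSpace MonoidalCategory

namespace Groth.Agent.Lib.helper11.SerreProj

open Groth.Agent.Lib.helper11.SerreGG Groth.Agent.Lib.helper11.TensorEpi

variable {R A : Type u} [CommRing R] [CommRing A] [Algebra R A] (𝒜 : ℕ → Submodule R A)
  [GradedAlgebra 𝒜]

/-- `O(1)^{⊗ N} ⊗ O(-N) ≅ O` on `Proj 𝒜`. -/
theorem isInverseOf_pow
    (hcov : ∀ x : ProjectiveSpectrum 𝒜, ∃ f ∈ 𝒜 1, f ∉ x.asHomogeneousIdeal) (N : ℕ) :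
    ClSub.IsInverseOf (CohB1.tensorPow (Twist.twist 𝒜 1) N) (Twist.twist 𝒜 (-(N : ℤ))) :=
  ⟨PicGrp.tensorModIso (Groth.Agent.Lib.helper28.TwistAll.twistPowIso 𝒜 hcov N).symm (Iso.refl _) ≪≫
    Groth.Agent.Lib.helper28.TwistTensor.twistTensorIso 𝒜 hcov (N : ℤ) (-(N : ℤ)) ≪≫
    eqToIso (by rw [add_neg_cancel]) ≪≫
    (Groth.Agent.Lib.helper28.TwistZero.twistZeroIso 𝒜).symm⟩

/-- **Serre** on `Proj 𝒜` (quasi-compact, covered by the `D₊(f)` with `deg f = 1`): every coherent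
module is, for all large `N`, a quotient of a finite direct sum of copies of `O(-N)`. -/
theorem exists_epi_twist_neg
    (hcov : ∀ x : ProjectiveSpectrum 𝒜, ∃ f ∈ 𝒜 1, f ∉ x.asHomogeneousIdeal)
    [CompactSpace (Proj 𝒜)] (F : (Proj 𝒜).Modules) (hF : Coh.IsCoh F) :
    ∃ N₀ : ℕ, ∀ N : ℕ, N₀ ≤ N →
      ∃ (m : ℕ) (π : (∐ fun _ : Fin m => Twist.twist 𝒜 (-(N : ℤ))) ⟶ F), Epi π := by
  have hqs : QuasiSeparatedSpace (Proj 𝒜) := inferInstance
  have hamp : CohB1.IsAmple (Twist.twist 𝒜 1) := by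
    have := Groth.Agent.Lib.helper28.TwistAmple.isAmple_twist 𝒜 hcov 1 Nat.one_pos
    simpa using this
  obtain ⟨N₀, h⟩ := exists_epi_sigma_of_isAmple hamp F hF
  exact ⟨N₀, fun N hN => h N hN _ (isInverseOf_pow 𝒜 hcov N)⟩

end Groth.Agent.Lib.helper11.SerreProj

namespace Groth.Agent.Lib.helper11.SerrePn

open Groth.Agent.Lib.helper28.TwistPn

variable (n : ℕ) (R : Type u) [CommRing R]

instance isSeparated : (CohB1.ProjSpace n R).IsSeparated :=
  inferInstanceAs (Proj (CohB1.polyGrading n R)).IsSeparated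

/-- **Serre**: every coherent module on `P^n_R` is, for all large `N`, a quotient of a finite direct
sum of copies of `O(-N)`. -/
theorem exists_epi_twist_le (F : (CohB1.ProjSpace n R).Modules) (hF : Coh.IsCoh F) :
    ∃ N₀ : ℕ, ∀ N : ℕ, N₀ ≤ N →
      ∃ (m : ℕ) (π : (∐ fun _ : Fin m => Twist.twistProjSpace n R (-(N : ℤ))) ⟶ F), Epi π :=
  Groth.Agent.Lib.helper11.SerreProj.exists_epi_twist_neg (CohB1.polyGrading n R) (hcov n R) F hF

/-- **Serre**: every coherent module on `P^n_R` is a quotient of some `O(d)^m`. -/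
theorem exists_epi_twist (F : (CohB1.ProjSpace n R).Modules) (hF : Coh.IsCoh F) :
    ∃ (m : ℕ) (d : ℤ) (π : (∐ fun _ : Fin m => Twist.twistProjSpace n R d) ⟶ F), Epi π := by
  obtain ⟨N₀, h⟩ := exists_epi_twist_le n R F hF
  obtain ⟨m, π, hπ⟩ := h N₀ le_rfl
  exact ⟨m, _, π, hπ⟩

end Groth.Agent.Lib.helper11.SerrePn
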