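import Mathlib
import Groth.Agent.Lib.Helper11.PnImm
import Groth.Agent.Lib.Helper11.SerreGG
import Groth.Agent.Lib.Lead.ProjectiveVan
import Groth.Agent.Lib.Helper12.PullAmple

/-!
# Serre vanishing for an ample module on a scheme proper over a Noetherian ring (helper11)

* `twistIso`: `M ⊗ L^{⊗ (j + m d)} ≅ (M ⊗ L^{⊗ j}) ⊗ r^*O(d)` when `L^{⊗ m} ≅ r^*O(1)`.
* `serre_vanishing_of_isAmple`: `q : X ⟶ Spec R` proper, `R` Noetherian, `L` ample, `M` coherent ⇒
  `∃ n₀, ∀ n ≥ n₀, ∀ p > 0, H^p(X, M ⊗ L^{⊗ n}) = 0`  (EGA III 2.2.1 / Hartshorne III 5.2 for ample `L`).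
-/

set_option autoImplicit false
universe u

open CategoryTheory CategoryTheory.Limits AlgebraicGeometry Opposite TopologicalSpace

namespace Groth.Agent.Lib.helper11.AmpleVan

open Groth.Agent.Lib.helper11.PnImm Groth.Agent.Lib.Lead.ModTensor
open Groth.Agent.Lib.helper28 Groth.Agent.Lib.helper12.PullAmple
open Scheme.Modules

variable {R : Type u} [CommRing R] {X : Scheme.{u}}

/-- `M ⊗ L^{⊗ (j + m d)} ≅ (M ⊗ L^{⊗ j}) ⊗ r^*O(d)` when `L^{⊗ m} ≅ r^*O(1)` -/
theorem nonempty_twistIso {N : ℕ} (r : X ⟶ CohB1.ProjSpace N R) {L : X.Modules} (m : ℕ)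
    (τ : CohB1.tensorPow L m ≅ (Scheme.Modules.pullback r).obj (Twist.twistProjSpace N R 1))
    (M : X.Modules) (j d : ℕ) :
    Nonempty (CohB1.tensorMod (CohB1.tensorMod M (CohB1.tensorPow L j))
        ((Scheme.Modules.pullback r).obj (Twist.twistProjSpace N R (d : ℤ))) ≅
      CohB1.tensorMod M (CohB1.tensorPow L (j + m * d))) := by
  have hO1 : PicF.IsInvertible (Twist.twistProjSpace N R 1) := TwistPn.isInvertible N R 1
  -- `r^*O(d) ≅ L^{⊗ m d}`
  let e1 : (Scheme.Modules.pullback r).obj (Twist.twistProjSpace N R (d : ℤ)) ≅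
      CohB1.tensorPow L (m * d) :=
    (Scheme.Modules.pullback r).mapIso (TwistPn.powIso N R d) ≪≫ pullTensorPowIso r hO1 d ≪≫
      (tensorPowIso τ d).symm ≪≫ tensorPowMul L m d
  exact ⟨tensorIso (Iso.refl _) e1 ≪≫ assoc M _ _ ≪≫
    tensorIso (Iso.refl M) (tensorPowAdd L j (m * d))⟩

/-- **Serre vanishing for an ample module** on a scheme proper over a Noetherian ring. -/
theorem serre_vanishing_of_isAmple [IsNoetherianRing R] (q : X ⟶ Spec (CommRingCat.of R))
    [IsProper q] {L : X.Modules} (hL : CohB1.IsAmple L) (M : X.Modules) (hM : Coh.IsCoh M) :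
    ∃ n₀ : ℕ, ∀ n : ℕ, n₀ ≤ n → ∀ p : ℕ, 0 < p →
      Subsingleton (Coh.HH X (CohB1.tensorMod M (CohB1.tensorPow L n)) p) := by
  classical
  have hLi : PicF.IsInvertible L := hL.1
  obtain ⟨m₀, hm₀⟩ := isVeryAmpleProj_tensorPow_eventually q hL
  -- a positive exponent `m` with `L^{⊗ m}` very ample
  let m := m₀ + 1
  have hm : 0 < m := Nat.succ_pos _
  obtain ⟨N, r, hr, -, ⟨τ⟩⟩ := (hm₀ m (Nat.le_succ _)).exists_closedImmersion
  -- vanishing for the finitely many `M ⊗ L^{⊗ j}`, `j < m`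
  have hvan := fun j : ℕ => Groth.Agent.Lib.Lead.ProjectiveVan.serre_vanishing r
    (CohB1.tensorMod M (CohB1.tensorPow L j))
    (Groth.Agent.Lib.helper11.SerreGG.isCoh_twist hLi hM j)
  choose d₀ hd₀ using hvan
  let D : ℕ := (Finset.range m).sup (fun j => (d₀ j).toNat)
  refine ⟨m * D, fun n hn p hp => ?_⟩
  let d := n / m
  let j := n % m
  have hjm : j < m := Nat.mod_lt _ hm
  have hn' : j + m * d = n := Nat.mod_add_div n m
  have hDd : D ≤ d := by
    rw [Nat.le_div_iff_mul_le hm, mul_comm]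
    exact hn
  have hdj : d₀ j ≤ (d : ℤ) := by
    have h1 : (d₀ j).toNat ≤ D :=
      Finset.le_sup (f := fun j => (d₀ j).toNat) (Finset.mem_range.mpr hjm)
    have h2 : (d₀ j) ≤ ((d₀ j).toNat : ℤ) := Int.self_le_toNat _
    exact h2.trans (by exact_mod_cast h1.trans hDd)
  have h0 := hd₀ j (d : ℤ) hdj p hp
  obtain ⟨e⟩ := nonempty_twistIso r m τ M j d
  rw [← hn']
  exact Groth.Agent.Lib.Helper20.TwistEquivPn.subsingleton_of_iso e p h0

end Groth.Agent.Lib.helper11.AmpleVan
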