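import Groth.Agent.Lib.Helper11.PullUnit2
import Groth.Agent.Lib.Helper11.SerreGG
import Groth.Prelude.Def_Curv2
import Groth.Agent.Lib.Helper28.SecEpi
import Groth.Agent.Lib.Helper7.QCohPushQC
import Groth.Agent.Lib.Helper16.QCohPullback2
import Groth.Agent.Lib.Helper12.AmplePow
import Groth.Agent.Lib.Helper12.AmpleBasis
import Groth.Prelude.Def_LCI2

/-!
# The counit `f^* f_* F ⟶ F` and global generation (helper11)

* `epi_iff_of_comm`, `epi_map_counit_iff_of_conjugate` (abstract base change of counits, epi form).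
* `epi_restrict_counit_iff`: the counit of `f` restricted to `f⁻¹ V` is epi iff the counit of `f|_V` is.
* `epi_of_forall_restrict`: being an epimorphism is local.
* `pullbackFreeIso`, `epi_counit_of_isGloballyGenerated`.
-/

set_option autoImplicit false
universe u
open CategoryTheory CategoryTheory.Limits AlgebraicGeometry TopologicalSpace Opposite
open Scheme.Modules
open Groth.Agent.Lib.helper11.IsoLocus Groth.Agent.Lib.helper11.InvMod
open Groth.Agent.Lib.helper11.InvPullback Groth.Agent.Lib.helper11.PullUnit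

namespace Groth.Agent.Lib.helper11.CounitEpi

section abstract

universe v₁ v₂ v₃ v₄ u₁ u₂ u₃ u₄

theorem epi_iff_of_comm {C : Type u₁} [Category.{v₁} C] {A B A' B' : C} {f : A ⟶ B} {g : A' ⟶ B'}
    (a : A ⟶ A') (b : B ⟶ B') [IsIso a] [IsIso b] (h : f ≫ b = a ≫ g) : Epi f ↔ Epi g := by
  constructor
  · intro hf
    have e : g = inv a ≫ f ≫ b := by rw [h, IsIso.inv_hom_id_assoc]
    rw [e]
    infer_instance
  · intro hg
    have e : f = a ≫ g ≫ inv b := by rw [← Category.assoc, ← h, Category.assoc, IsIso.hom_inv_id, Category.comp_id]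
    rw [e]
    infer_instance

variable {𝒮 : Type u₁} {𝒳 : Type u₂} {𝒱 : Type u₃} {𝒰 : Type u₄}
  [Category.{v₁} 𝒮] [Category.{v₂} 𝒳] [Category.{v₃} 𝒱] [Category.{v₄} 𝒰]

/-- base change of counits, epimorphism form -/
theorem epi_map_counit_iff_of_conjugate {F : 𝒮 ⥤ 𝒳} {G : 𝒳 ⥤ 𝒮} (adjF : F ⊣ G)
    {F' : 𝒱 ⥤ 𝒰} {G' : 𝒰 ⥤ 𝒱} (adjF' : F' ⊣ G')
    {J : 𝒮 ⥤ 𝒱} {Js : 𝒱 ⥤ 𝒮} (adjJ : J ⊣ Js)
    {J' : 𝒳 ⥤ 𝒰} {Js' : 𝒰 ⥤ 𝒳} (adjJ' : J' ⊣ Js')
    (ρ : Js' ⋙ G ≅ G' ⋙ Js) [IsIso adjJ.counit] [IsIso adjJ'.counit] (L : 𝒳)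
    (h1 : IsIso (J.map (G.map (adjJ'.unit.app L)))) :
    Epi (J'.map (adjF.counit.app L)) ↔ Epi (adjF'.counit.app (J'.obj L)) := by
  let adj₁ := adjF.comp adjJ'
  let adj₂ := adjJ.comp adjF'
  let α := (conjugateEquiv adj₁ adj₂).symm ρ.hom
  have hα : IsIso α := inferInstance
  have key := conjugateEquiv_counit_symm adj₁ adj₂ ρ.hom (J'.obj L)
  have e1 : adj₁.counit.app (J'.obj L) =
      J'.map (adjF.counit.app (Js'.obj (J'.obj L))) ≫ adjJ'.counit.app (J'.obj L) :=
    Adjunction.comp_counit_app _ _ _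
  have e2 : adj₂.counit.app (J'.obj L) =
      F'.map (adjJ.counit.app (G'.obj (J'.obj L))) ≫ adjF'.counit.app (J'.obj L) :=
    Adjunction.comp_counit_app _ _ _
  have hu : IsIso (J'.map (adjJ'.unit.app L)) := by
    have h6 := adjJ'.left_triangle_components L
    have h7 : J'.map (adjJ'.unit.app L) = inv (adjJ'.counit.app (J'.obj L)) := by
      rw [← cancel_mono (adjJ'.counit.app (J'.obj L)), IsIso.inv_hom_id]
      exact h6
    rw [h7]; infer_instance
  have hFG : IsIso ((F ⋙ J').map (G.map (adjJ'.unit.app L))) := by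
    have h8 : IsIso ((J ⋙ F').map (G.map (adjJ'.unit.app L))) := by
      show IsIso (F'.map (J.map (G.map (adjJ'.unit.app L))))
      infer_instance
    exact (NatIso.isIso_map_iff (asIso α) _).mp h8
  have hFG' : IsIso (J'.map (F.map (G.map (adjJ'.unit.app L)))) := hFG
  have hnat := adjF.counit.naturality (adjJ'.unit.app L)
  have hnat' := congrArg (fun φ => J'.map φ) hnat
  simp only [Functor.map_comp, Functor.comp_map, Functor.id_map] at hnat'
  -- step 1
  have s1 : Epi (J'.map (adjF.counit.app L)) ↔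
      Epi (J'.map (adjF.counit.app (Js'.obj (J'.obj L)))) :=
    epi_iff_of_comm (J'.map (F.map (G.map (adjJ'.unit.app L)))) (J'.map (adjJ'.unit.app L))
      hnat'.symm
  -- step 2
  have s2 : Epi (J'.map (adjF.counit.app (Js'.obj (J'.obj L)))) ↔
      Epi (adj₁.counit.app (J'.obj L)) :=
    epi_iff_of_comm (𝟙 _) (adjJ'.counit.app (J'.obj L)) (by rw [e1, Category.id_comp])
  -- step 3
  have s3 : Epi (adj₁.counit.app (J'.obj L)) ↔ Epi (adj₂.counit.app (J'.obj L)) := by
    have hb : IsIso ((J ⋙ F').map (ρ.hom.app (J'.obj L))) := inferInstance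
    have k2 : adj₂.counit.app (J'.obj L) ≫ 𝟙 _ =
        inv ((J ⋙ F').map (ρ.hom.app (J'.obj L))) ≫
          (α.app ((Js' ⋙ G).obj (J'.obj L)) ≫ adj₁.counit.app (J'.obj L)) := by
      rw [Category.comp_id, ← key, IsIso.inv_hom_id_assoc]
    have k3 : Epi (adj₂.counit.app (J'.obj L)) ↔
        Epi (α.app ((Js' ⋙ G).obj (J'.obj L)) ≫ adj₁.counit.app (J'.obj L)) :=
      epi_iff_of_comm _ (𝟙 _) k2
    have k4 : Epi (α.app ((Js' ⋙ G).obj (J'.obj L)) ≫ adj₁.counit.app (J'.obj L)) ↔
        Epi (adj₁.counit.app (J'.obj L)) :=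
      epi_iff_of_comm (α.app ((Js' ⋙ G).obj (J'.obj L))) (𝟙 _)
        (by rw [Category.comp_id])
    exact (k3.trans k4).symm
  -- step 4
  have s4 : Epi (adj₂.counit.app (J'.obj L)) ↔ Epi (adjF'.counit.app (J'.obj L)) :=
    epi_iff_of_comm (F'.map (adjJ.counit.app (G'.obj (J'.obj L)))) (𝟙 _)
      (by rw [Category.comp_id, e2])
  exact s1.trans (s2.trans (s3.trans s4))

end abstract

variable {X S : Scheme.{u}}

/-- the counit of `f` restricted to `f⁻¹ V` is epi iff the counit of `f|_V` is -/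
theorem epi_restrict_counit_iff (f : X ⟶ S) (V : S.Opens) (L : X.Modules) :
    Epi ((restrictFunctor (f ⁻¹ᵁ V).ι).map ((pullbackPushforwardAdjunction f).counit.app L)) ↔
      Epi ((pullbackPushforwardAdjunction (f ∣_ V)).counit.app (L.restrict (f ⁻¹ᵁ V).ι)) :=
  epi_map_counit_iff_of_conjugate (pullbackPushforwardAdjunction f)
    (pullbackPushforwardAdjunction (f ∣_ V)) (restrictAdjunction V.ι)
    (restrictAdjunction (f ⁻¹ᵁ V).ι) (pushRho f V) L (isIso_restrict_push_unit f V L)

/-- being an epimorphism is local on the scheme -/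
theorem epi_of_forall_restrict {M N : X.Modules} (φ : M ⟶ N)
    (h : ∀ x : X, ∃ U : X.Opens, x ∈ U ∧ Epi ((restrictFunctor U.ι).map φ)) : Epi φ := by
  refine Groth.Agent.Lib.helper28.SecEpi.epi_of_locally_surjective φ ?_
  intro V s y hy
  obtain ⟨U, hyU, hU⟩ := h y
  have hle : U.ι ''ᵁ (U.ι ⁻¹ᵁ V) ≤ V := by
    rw [Scheme.Hom.image_preimage_eq_opensRange_inf]
    exact inf_le_right
  let s' : Γ(N.restrict U.ι, U.ι ⁻¹ᵁ V) := N.presheaf.map (homOfLE hle).op s
  obtain ⟨W', hW', hyW', t, ht⟩ :=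
    Groth.Agent.Lib.helper7.LocalLift.exists_local_lift ((restrictFunctor U.ι).map φ)
      (U.ι ⁻¹ᵁ V) s' ⟨y, hyU⟩ hy
  have hWV : U.ι ''ᵁ W' ≤ V := le_trans (Scheme.Hom.image_mono _ hW') hle
  refine ⟨U.ι ''ᵁ W', hWV, ⟨⟨y, hyU⟩, hyW', rfl⟩, t, ?_⟩
  refine ht.trans ?_
  change N.presheaf.map _ (N.presheaf.map _ s) = _
  rw [← ConcreteCategory.comp_apply, ← Functor.map_comp]
  rfl

/-- the restriction functor preserves epimorphisms -/
theorem epi_restrict {M N : X.Modules} (φ : M ⟶ N) [Epi φ] (U : X.Opens) :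
    Epi ((restrictFunctor U.ι).map φ) := by
  have : PreservesColimitsOfSize.{0, 0} (restrictFunctor U.ι) :=
    (restrictAdjunction U.ι).leftAdjoint_preservesColimits
  infer_instance

/-- the pullback functor preserves epimorphisms -/
theorem epi_pullback_map (f : X ⟶ S) {M N : S.Modules} (φ : M ⟶ N) [Epi φ] :
    Epi ((Scheme.Modules.pullback f).map φ) := by
  have : PreservesColimitsOfSize.{0, 0} (Scheme.Modules.pullback f) :=
    (pullbackPushforwardAdjunction f).leftAdjoint_preservesColimits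
  infer_instance

/-- the pullback of a free module is free -/
noncomputable def pullbackFreeIso (f : X ⟶ S) (ι : Type u) :
    (Scheme.Modules.pullback f).obj (SheafOfModules.free ι : S.Modules) ≅
      (SheafOfModules.free ι : X.Modules) := by
  have : PreservesColimitsOfSize.{u, u} (Scheme.Modules.pullback f) :=
    (pullbackPushforwardAdjunction f).leftAdjoint_preservesColimits
  exact PreservesCoproduct.iso (Scheme.Modules.pullback f) _ ≪≫
    Sigma.mapIso (fun _ => pullbackUnitIso f)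

/-- if some `f^* G ⟶ F` is epi, then the counit `f^* f_* F ⟶ F` is epi -/
theorem epi_counit_of_epi (f : X ⟶ S) {G : S.Modules} {F : X.Modules}
    (φ : (Scheme.Modules.pullback f).obj G ⟶ F) [Epi φ] :
    Epi ((pullbackPushforwardAdjunction f).counit.app F) := by
  have h := (pullbackPushforwardAdjunction f).homEquiv_counit
    (g := (pullbackPushforwardAdjunction f).homEquiv G F φ)
  rw [Equiv.symm_apply_apply] at h
  have h2 : Epi ((Scheme.Modules.pullback f).map
      ((pullbackPushforwardAdjunction f).homEquiv G F φ) ≫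
        (pullbackPushforwardAdjunction f).counit.app F) := by
    rw [← h]; infer_instance
  exact epi_of_epi ((Scheme.Modules.pullback f).map
      ((pullbackPushforwardAdjunction f).homEquiv G F φ)) _

/-- if `F` is globally generated, the counit `f^* f_* F ⟶ F` is epi -/
theorem epi_counit_of_isGloballyGenerated (f : X ⟶ S) {F : X.Modules}
    (h : Curv2.IsGloballyGenerated F) :
    Epi ((pullbackPushforwardAdjunction f).counit.app F) := by
  obtain ⟨ι, p, hp⟩ := h
  have : Epi ((pullbackFreeIso f ι).hom ≫ p) :=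
    @epi_comp _ _ _ _ _ (pullbackFreeIso f ι).hom inferInstance p hp
  exact epi_counit_of_epi f ((pullbackFreeIso f ι).hom ≫ p)

open Groth.Agent.Lib.helper11.SerreGG Groth.Agent.Lib.helper12.TwistExtend in
/-- on an affine scheme quasi-coherent modules are generated by global sections near every point -/
theorem genAt_of_isAffine [IsAffine X] (M : X.Modules) [M.IsQuasicoherent] (y : X) :
    GenAt M y := by
  intro V σ hyV
  have hU : IsAffineOpen (⊤ : X.Opens) := isAffineOpen_top X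
  obtain ⟨f, hfV, hyf⟩ := hU.exists_basicOpen_le (V := V ⊓ ⊤) ⟨y, hyV, trivial⟩ trivial
  have hAV : X.basicOpen f ≤ V := hfV.trans inf_le_left
  obtain ⟨n, τ, hτ⟩ := exists_pow_smul_eq_res hU M f (res _ hAV σ)
  refine ⟨X.basicOpen f, hAV, hyf, ?_⟩
  have h1 : res M (X.basicOpen_le f) τ ∈
      gsubBy M (fun τ : M.val.obj (op ⊤) => τ) (X.basicOpen f) :=
    res_top_mem_gsubBy M (fun τ : M.val.obj (op ⊤) => τ) (X.basicOpen f) τ
  rw [hτ] at h1
  exact mem_of_pow_smul_mem (gsubBy M (fun τ : M.val.obj (op ⊤) => τ) (X.basicOpen f))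
    (X.toRingedSpace.isUnit_res_basicOpen f) n h1

/-- on an affine scheme quasi-coherent modules are globally generated -/
theorem isGloballyGenerated_of_isAffine [IsAffine X] (M : X.Modules) [M.IsQuasicoherent] :
    Curv2.IsGloballyGenerated M :=
  Groth.Agent.Lib.helper11.SerreGG.isGloballyGenerated_of_genAt M (genAt_of_isAffine M)

/-- if the base is affine, `f` qcqs and the counit is epi, then `F` is globally generated -/
theorem isGloballyGenerated_of_epi_counit (f : X ⟶ S) [IsAffine S] [QuasiCompact f]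
    [QuasiSeparated f] (F : X.Modules) [F.IsQuasicoherent]
    (h : Epi ((pullbackPushforwardAdjunction f).counit.app F)) :
    Curv2.IsGloballyGenerated F := by
  have hq : ((Scheme.Modules.pushforward f).obj F).IsQuasicoherent :=
    Groth.Agent.Lib.helper7.QCohPushQC.isQuasicoherent_pushforward f F
  obtain ⟨ι, p, hp⟩ := isGloballyGenerated_of_isAffine ((Scheme.Modules.pushforward f).obj F)
  have h1 : Epi ((Scheme.Modules.pullback f).map p) := @epi_pullback_map _ _ f _ _ p hp
  have h2 : Epi ((Scheme.Modules.pullback f).map p ≫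
    (pullbackPushforwardAdjunction f).counit.app F) :=
    @epi_comp _ _ _ _ _ _ h1 _ h
  exact ⟨ι, (pullbackFreeIso f ι).inv ≫ (Scheme.Modules.pullback f).map p ≫
    (pullbackPushforwardAdjunction f).counit.app F,
    @epi_comp _ _ _ _ _ (pullbackFreeIso f ι).inv inferInstance _ h2⟩

/-- the restriction of a coherent module to an open is coherent -/
theorem isCoh_restrict {F : X.Modules} (hF : Coh.IsCoh F) (U : X.Opens) :
    Coh.IsCoh (F.restrict U.ι) := by
  have hq : F.IsQuasicoherent := hF.1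
  refine ⟨inferInstance, ?_⟩
  have h1 := Groth.Agent.Lib.helper16.QCohPullback2.isFiniteType_pullback U.ι F hF.2
  exact Groth.Agent.Lib.helper7.CohKer.isFiniteType_of_epi
    ((restrictFunctorIsoPullback U.ι).inv.app F) h1

/-- global generation is invariant under isomorphism -/
theorem isGloballyGenerated_of_iso {M N : X.Modules} (e : M ≅ N)
    (h : Curv2.IsGloballyGenerated M) : Curv2.IsGloballyGenerated N := by
  obtain ⟨ι, p, hp⟩ := h
  exact ⟨ι, p ≫ e.hom, @epi_comp _ _ _ _ _ p hp e.hom inferInstance⟩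

/-- **local step**: if `L` restricted to `f⁻¹ V` is ample, then for all large `n` the counit of `f`
at `F ⊗ L^{⊗ n}` is an epimorphism over `f⁻¹ V`. -/
theorem exists_epi_restrict_counit_twist (f : X ⟶ S) (L : X.Modules) (V : S.Opens)
    (hamp : CohB1.IsAmple (L.restrict (f ⁻¹ᵁ V).ι)) (F : X.Modules) (hF : Coh.IsCoh F) :
    ∃ N : ℕ, ∀ n : ℕ, N ≤ n →
      Epi ((restrictFunctor (f ⁻¹ᵁ V).ι).map ((pullbackPushforwardAdjunction f).counit.app
        (CohB1.tensorMod F (CohB1.tensorPow L n)))) := by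
  have hqs : QuasiSeparatedSpace ((f ⁻¹ᵁ V : X.Opens) : Scheme.{u}) :=
    Groth.Agent.Lib.helper12.AmpleBasis.quasiSeparatedSpace_of_hasAffineCover hamp.1 hamp.2.2
  obtain ⟨N, hN⟩ := Groth.Agent.Lib.helper11.SerreGG.exists_isGloballyGenerated_twist hamp
    (F.restrict (f ⁻¹ᵁ V).ι) (isCoh_restrict hF _)
  refine ⟨N, fun n hn => ?_⟩
  rw [epi_restrict_counit_iff]
  refine epi_counit_of_isGloballyGenerated _ ?_
  let e : (CohB1.tensorMod F (CohB1.tensorPow L n)).restrict (f ⁻¹ᵁ V).ι ≅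
      CohB1.tensorMod (F.restrict (f ⁻¹ᵁ V).ι)
        (CohB1.tensorPow (L.restrict (f ⁻¹ᵁ V).ι) n) :=
    Groth.Agent.Lib.helper12.TensorRestrict.restrictTensorIso (f ⁻¹ᵁ V).ι F (CohB1.tensorPow L n) ≪≫
      PicGrp.tensorModIso (Iso.refl _)
        (Groth.Agent.Lib.helper12.AmplePow.restrictTensorPowIso (f ⁻¹ᵁ V).ι L n)
  exact isGloballyGenerated_of_iso e.symm (hN n hn)

/-- **EGA II 4.6.8-type statement**: if `S` is quasi-compact, `L` is `f`-ample and `F` is coherent,
then for all large `n` the counit `f^* f_* (F ⊗ L^{⊗ n}) ⟶ F ⊗ L^{⊗ n}` is an epimorphism. -/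
theorem exists_epi_counit_twist [CompactSpace S] (f : X ⟶ S) (L : X.Modules)
    (hamp : RelAmple.IsRelAmple f L) (F : X.Modules) (hF : Coh.IsCoh F) :
    ∃ N : ℕ, ∀ n : ℕ, N ≤ n →
      Epi ((pullbackPushforwardAdjunction f).counit.app
        (CohB1.tensorMod F (CohB1.tensorPow L n))) := by
  classical
  have hloc := fun V : S.affineOpens =>
    exists_epi_restrict_counit_twist f L V.1 (hamp.2 V) F hF
  choose N hN using hloc
  have hcov : (Set.univ : Set S) ⊆ ⋃ V : S.affineOpens, (V.1 : Set S) := by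
    intro y _
    obtain ⟨_, ⟨U, hU : IsAffineOpen U, rfl⟩, hy, -⟩ :=
      (AlgebraicGeometry.Scheme.isBasis_affineOpens S).exists_subset_of_mem_open
        (Set.mem_univ y) isOpen_univ
    exact Set.mem_iUnion.mpr ⟨⟨U, hU⟩, hy⟩
  obtain ⟨t, ht⟩ := isCompact_univ.elim_finite_subcover (fun V : S.affineOpens => (V.1 : Set S))
    (fun V => V.1.2) hcov
  refine ⟨t.sup N, fun n hn => ?_⟩
  refine epi_of_forall_restrict _ fun x => ?_
  have hx := ht (Set.mem_univ (f x))
  simp only [Set.mem_iUnion] at hx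
  obtain ⟨V, hVt, hxV⟩ := hx
  exact ⟨f ⁻¹ᵁ V.1, hxV, hN V n (le_trans (Finset.le_sup hVt) hn)⟩

end Groth.Agent.Lib.helper11.CounitEpi
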