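import Mathlib
import Groth.Agent.Lib.Helper11.HUOpen
import Groth.Agent.Lib.Helper11.AmpleVan
import Groth.Agent.Lib.Helper11.CounitEpi
import Groth.Agent.Lib.Helper27.RpushVanish

/-!
# A relatively ample module kills higher direct images (helper11)

* `exists_vanishing_on_preimage`: `f : X ⟶ S` proper, `W ⊆ S` affine open with `Γ(S, W)` Noetherian, `L|f⁻¹W` ample,
  `M` coherent ⇒ `∃ n₀, ∀ n ≥ n₀, ∀ p > 0, H^p(f⁻¹W, M ⊗ L^n) = 0`.
* `isZero_RpushAb_twist`: `S` Noetherian, `f` proper, `L` ample on `f⁻¹W` for all affine `W`, `M` coherent ⇒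
  `∃ n₀, ∀ n ≥ n₀, ∀ p > 0, R^p f_*(M ⊗ L^n) = 0` (EGA III 2.2.1 relative form; = S0055).
-/

set_option autoImplicit false
universe u

open CategoryTheory CategoryTheory.Limits AlgebraicGeometry Opposite TopologicalSpace
open Scheme.Modules

namespace Groth.Agent.Lib.helper11.RelAmpleVan

variable {X S : Scheme.{u}}

theorem exists_vanishing_on_preimage (f : X ⟶ S) [IsProper f] (L : X.Modules)
    (W : S.Opens) (hW : IsAffineOpen W) [IsNoetherianRing Γ(S, W)]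
    (ha : CohB1.IsAmple (L.restrict (f ⁻¹ᵁ W).ι)) (M : X.Modules) (hM : Coh.IsCoh M) :
    ∃ n₀ : ℕ, ∀ n : ℕ, n₀ ≤ n → ∀ p : ℕ, 0 < p →
      Subsingleton (CohTop.HU (Coh.toAb (CohB1.tensorMod M (CohB1.tensorPow L n))) p (f ⁻¹ᵁ W)) := by
  let q : (↑(f ⁻¹ᵁ W) : Scheme.{u}) ⟶ Spec (CommRingCat.of Γ(S, W)) := (f ∣_ W) ≫ hW.isoSpec.hom
  have hq : IsProper q := inferInstance
  obtain ⟨n₀, hn₀⟩ := Groth.Agent.Lib.helper11.AmpleVan.serre_vanishing_of_isAmple q ha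
    (M.restrict (f ⁻¹ᵁ W).ι) (Groth.Agent.Lib.helper11.CounitEpi.isCoh_restrict hM _)
  refine ⟨n₀, fun n hn p hp => ?_⟩
  apply Groth.Agent.Lib.helper11.HUOpen.subsingleton_HU_of_HHon
  let e : (CohB1.tensorMod M (CohB1.tensorPow L n)).restrict (f ⁻¹ᵁ W).ι ≅
      CohB1.tensorMod (M.restrict (f ⁻¹ᵁ W).ι)
        (CohB1.tensorPow (L.restrict (f ⁻¹ᵁ W).ι) n) :=
    Groth.Agent.Lib.helper12.TensorRestrict.restrictTensorIso (f ⁻¹ᵁ W).ι M (CohB1.tensorPow L n) ≪≫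
      PicGrp.tensorModIso (Iso.refl _)
        (Groth.Agent.Lib.helper12.AmplePow.restrictTensorPowIso (f ⁻¹ᵁ W).ι L n)
  exact Groth.Agent.Lib.Helper20.TwistEquivPn.subsingleton_of_iso e.symm p (hn₀ n hn p hp)

/-- **A relatively ample module kills higher direct images** (S0055). -/
theorem isZero_RpushAb_twist (f : X ⟶ S) [IsProper f] [IsNoetherian S] (L : X.Modules)
    (hL : PicF.IsInvertible L)
    (ha : ∀ W : S.Opens, IsAffineOpen W → CohB1.IsAmple (L.restrict (f ⁻¹ᵁ W).ι))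
    (M : X.Modules) (hM : Coh.IsCoh M) :
    ∃ n₀ : ℕ, ∀ n : ℕ, n₀ ≤ n → ∀ p : ℕ, 0 < p →
      IsZero ((Coh.RpushAb f p).obj (Coh.toAb (CohB1.tensorMod M (CohB1.tensorPow L n)))) := by
  classical
  obtain ⟨s, hs, hs'⟩ := isCompact_iff_finite_and_eq_biUnion_affineOpens.mp
    (show IsCompact ((⊤ : S.Opens) : Set S) from isCompact_univ)
  have hex : ∀ W : S.affineOpens, ∃ n₀ : ℕ, ∀ n : ℕ, n₀ ≤ n → ∀ p : ℕ, 0 < p →
      Subsingleton (CohTop.HU (Coh.toAb (CohB1.tensorMod M (CohB1.tensorPow L n))) p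
        (f ⁻¹ᵁ W.1)) := fun W => by
    have : IsNoetherianRing Γ(S, W.1) := IsLocallyNoetherian.component_noetherian W
    exact exists_vanishing_on_preimage f L W.1 W.2 (ha W.1 W.2) M hM
  choose N hN using hex
  refine ⟨hs.toFinset.sup N, fun n hn p hp => ?_⟩
  have hK : (CohB1.tensorMod M (CohB1.tensorPow L n)).IsQuasicoherent :=
    (Groth.Agent.Lib.helper11.SerreGG.isCoh_twist hL hM n).1
  obtain ⟨e⟩ := Groth.Agent.Lib.helper27.RpushSheafify.rpush_iso_top f.base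
    (Coh.toAb (CohB1.tensorMod M (CohB1.tensorPow L n))) p
  refine IsZero.of_iso ?_ e
  apply Groth.Agent.Lib.helper27.RpushVanish.isZero_sheafify_of_locally_subsingleton
  intro W' y hy
  -- a member of the cover containing `y`
  have hy' : y ∈ (⊤ : S.Opens) := trivial
  rw [hs'] at hy'
  obtain ⟨W, hyW'⟩ := Opens.mem_iSup.mp hy'
  obtain ⟨hWs, hyW⟩ := Opens.mem_iSup.mp hyW'
  obtain ⟨a, haW, hya⟩ := W.2.exists_basicOpen_le (V := W') ⟨y, hy⟩ hyW
  refine ⟨S.basicOpen a, haW, hya, ?_⟩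
  have hNW : N W ≤ n := (Finset.le_sup (f := N) (hs.mem_toFinset.mpr hWs)).trans hn
  have h0 := hN W n hNW p hp
  -- `f⁻¹W` is quasi-compact and separated
  have hc : CompactSpace (↑(f ⁻¹ᵁ W.1) : Scheme.{u}) :=
    isCompact_iff_compactSpace.mp
      (QuasiCompact.isCompact_preimage (f := f) _ W.1.isOpen W.2.isCompact)
  have hsep : (↑(f ⁻¹ᵁ W.1) : Scheme.{u}).IsSeparated := by
    have : IsAffine (↑W.1 : Scheme.{u}) := W.2
    refine ⟨?_⟩
    rw [← terminal.comp_from (f ∣_ W.1)]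
    infer_instance
  have h1 := Groth.Agent.Lib.helper11.HUOpen.subsingleton_HU_basicOpen (f ⁻¹ᵁ W.1)
    ((f.app W.1).hom a) (CohB1.tensorMod M (CohB1.tensorPow L n)) p h0
  have h2 : f ⁻¹ᵁ S.basicOpen a = X.basicOpen ((f.app W.1).hom a) := Scheme.preimage_basicOpen f a
  change Subsingleton (CohTop.HU (Coh.toAb (CohB1.tensorMod M (CohB1.tensorPow L n))) p
    (f ⁻¹ᵁ S.basicOpen a))
  rw [h2]
  exact h1

end Groth.Agent.Lib.helper11.RelAmpleVan
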