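import Mathlib
import Groth.Agent.Lib.Helper11.PnBridge
import Groth.Agent.Lib.Helper11.RelAmpleVan
import Groth.Agent.Lib.Helper11.AmpleInv
import Groth.Agent.Lib.Lead.ProjectiveCoh
import Groth.Agent.Lib.Helper18.HHZero
import Groth.Agent.Lib.Helper12.AmpleRestrict
import Groth.Agent.Lib.Helper12.TensorInv
import Groth.Agent.Lib.Helper16.FLF5

/-!
# S0002 plan, piece T5 (helper11): the projective pieces

General statements (`f : X ⟶ S` proper, `W ⊆ S` affine open with Noetherian sections, `L|f⁻¹W` ample, `M` coherent):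

* `toGlobal_morphismRestrict`: the `Γ(S, W)`-action through `(f ∣_ W) ≫ isoSpec` is the action through `f.app W`.
* `finite_sections_preimage`: `Γ(f⁻¹W, M)` is a finite `Γ(S, W)`-module.
* `vanishing_preimage`: `H^p(f⁻¹W, M ⊗ L^n) = 0` for `p > 0`, `n ≫ 0` (in `Coh.HHon` form).

The T5 package: `A` Noetherian, `Z` locally Noetherian, `π : Z' ⟶ Z` proper, `j : Z' ⟶ P^n_A` a closed immersion
over `f : Z ⟶ Spec A`; `L1 = j^*O(1)`, `GG m = O ⊗ L1^{⊗ m}`:

* `T5a`, `T5b`, `T5c`, `T5d` and the packaged `T5_main` / `T5_main_set`.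
-/

set_option autoImplicit false
universe u

open CategoryTheory CategoryTheory.Limits AlgebraicGeometry Opposite TopologicalSpace
open Scheme.Modules

namespace Groth.Agent.Lib.helper11.S0002T5

section General

variable {X S : Scheme.{u}}

/-- the scalar action of `Γ(S, W)` on `Γ(↑(f⁻¹W), ⊤)`-modules through `(f ∣_ W) ≫ isoSpec` is the action
through `f.app W` -/
theorem toGlobal_morphismRestrict (f : X ⟶ S) (W : S.Opens) (hW : IsAffineOpen W) (b : Γ(S, W)) :
    (X.presheaf.map (eqToHom (f ⁻¹ᵁ W).ι_image_top.symm).op).hom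
      ((((f ⁻¹ᵁ W).ι.appIso ⊤).inv).hom (Coh.toGlobal ((f ∣_ W) ≫ hW.isoSpec.hom) b)) =
        (f.app W).hom b := by
  have h1 : Coh.toGlobal ((f ∣_ W) ≫ hW.isoSpec.hom) b =
      ((f ∣_ W).appTop).hom ((W.topIso.inv).hom b) := by
    unfold Coh.toGlobal
    rw [Scheme.Hom.comp_appTop, IsAffineOpen.isoSpec_hom_appTop]
    change (f ∣_ W).appTop.hom (W.topIso.inv.hom ((Scheme.ΓSpecIso Γ(S, W)).hom.hom
      ((Scheme.ΓSpecIso Γ(S, W)).inv.hom b))) = _
    congr 2
    exact congrArg (fun φ : Γ(S, W) ⟶ Γ(S, W) => φ.hom b)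
      (Iso.inv_hom_id (Scheme.ΓSpecIso Γ(S, W)))
  rw [h1, morphismRestrict_appTop]
  have h2 : S.presheaf.map (eqToHom W.ι_image_top).op ≫ f.app (W.ι ''ᵁ ⊤) =
      f.app W ≫ X.presheaf.map ((Opens.map f.base).map (eqToHom W.ι_image_top)).op :=
    f.naturality _
  have h3 : W.topIso.inv = S.presheaf.map (eqToHom W.ι_image_top).op := rfl
  rw [h3, Scheme.Opens.ι_appIso]
  change (S.presheaf.map (eqToHom W.ι_image_top).op ≫ f.app (W.ι ''ᵁ ⊤) ≫ X.presheaf.map _ ≫
    X.presheaf.map _).hom b = _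
  rw [reassoc_of% h2, ← Functor.map_comp, ← Functor.map_comp]
  have : ∀ (i : op (f ⁻¹ᵁ W) ⟶ op (f ⁻¹ᵁ W)), X.presheaf.map i = 𝟙 _ := fun i => by
    rw [Subsingleton.elim i (𝟙 _), X.presheaf.map_id]
  rw [this, Category.comp_id]

open Groth.Agent.Lib.helper11.PnImm in
/-- **finiteness of sections of a direct image**: `f` proper, `W` affine open with Noetherian sections,
`L|f⁻¹W` ample for some `L`, `M` coherent ⇒ `Γ(W, f_* M)` is a finite `Γ(S, W)`-module. -/
theorem finite_sections_preimage (f : X ⟶ S) [IsProper f] (L : X.Modules)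
    (W : S.Opens) (hW : IsAffineOpen W) [IsNoetherianRing Γ(S, W)]
    (ha : CohB1.IsAmple (L.restrict (f ⁻¹ᵁ W).ι)) (M : X.Modules) (hM : Coh.IsCoh M) :
    Module.Finite Γ(S, W) Γ((Scheme.Modules.pushforward f).obj M, W) := by
  let U := f ⁻¹ᵁ W
  let q : (↑U : Scheme.{u}) ⟶ Spec (CommRingCat.of Γ(S, W)) := (f ∣_ W) ≫ hW.isoSpec.hom
  have hq : IsProper q := inferInstance
  obtain ⟨d₀, hd₀⟩ := isVeryAmpleProj_tensorPow_eventually q ha
  obtain ⟨N, r, hr, hrq, -⟩ := (hd₀ d₀ le_rfl).exists_closedImmersion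
  let _ : (↑U : Scheme.{u}).Over (Spec (CommRingCat.of Γ(S, W))) := ⟨q⟩
  have hfin : Module.Finite Γ(S, W) (Coh.HH (↑U : Scheme.{u}) (M.restrict U.ι) 0) :=
    Groth.Agent.Lib.Lead.ProjectiveCoh.finite_HH r hrq
      (Groth.Agent.Lib.helper11.CounitEpi.isCoh_restrict hM _) 0
  let _ := Groth.Agent.Lib.Helper18.HH.sectionsModuleOver Γ(S, W) (M.restrict U.ι)
  have hfin2 : Module.Finite Γ(S, W) ((M.restrict U.ι).val.obj (op ⊤)) :=
    Module.Finite.equiv (Groth.Agent.Lib.Helper18.HH.equiv₀Over Γ(S, W) (M.restrict U.ι))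
  let g : U ⟶ U.ι ''ᵁ ⊤ := eqToHom U.ι_image_top.symm
  let l : (M.restrict U.ι).val.obj (op ⊤) →ₗ[Γ(S, W)]
      Γ((Scheme.Modules.pushforward f).obj M, W) :=
    { toFun := fun x => (M.presheaf.map g.op).hom x
      map_add' := fun x y => map_add _ x y
      map_smul' := fun b x => by
        change (M.presheaf.map g.op).hom
          (@HSMul.hSMul Γ(X, U.ι ''ᵁ ⊤) Γ(M, U.ι ''ᵁ ⊤) Γ(M, U.ι ''ᵁ ⊤) _
            (((U.ι.appIso ⊤).inv).hom (Coh.toGlobal q b)) x) =
          @HSMul.hSMul Γ(X, U) Γ(M, U) Γ(M, U) _ ((f.app W).hom b) ((M.presheaf.map g.op).hom x)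
        rw [Scheme.Modules.map_smul]
        congr 1
        exact toGlobal_morphismRestrict f W hW b }
  refine Module.Finite.of_surjective l ?_
  intro y
  refine ⟨(M.presheaf.map (eqToHom U.ι_image_top).op).hom y, ?_⟩
  change (M.presheaf.map (eqToHom U.ι_image_top).op ≫ M.presheaf.map g.op).hom y = y
  rw [← Functor.map_comp]
  have : (eqToHom U.ι_image_top).op ≫ g.op = 𝟙 (op U) := Subsingleton.elim _ _
  rw [this, M.presheaf.map_id]
  rfl

/-- Serre vanishing on the preimage of an affine open, in `Coh.HHon` form. -/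
theorem vanishing_preimage (f : X ⟶ S) [IsProper f] (L : X.Modules)
    (W : S.Opens) (hW : IsAffineOpen W) [IsNoetherianRing Γ(S, W)]
    (ha : CohB1.IsAmple (L.restrict (f ⁻¹ᵁ W).ι)) (M : X.Modules) (hM : Coh.IsCoh M) :
    ∃ n₀ : ℕ, ∀ n : ℕ, n₀ ≤ n → ∀ p : ℕ, 0 < p →
      Subsingleton (Coh.HHon X (CohB1.tensorMod M (CohB1.tensorPow L n)) (f ⁻¹ᵁ W) p) := by
  obtain ⟨n₀, h⟩ := Groth.Agent.Lib.helper11.RelAmpleVan.exists_vanishing_on_preimage f L W hW ha M hM
  exact ⟨n₀, fun n hn p hp =>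
    Groth.Agent.Lib.helper11.HUOpen.subsingleton_HHon_of_HU _ _ p (h n hn p hp)⟩

end General

section T5

variable (A : Type u) [CommRing A] {Z Z' : Scheme.{u}}
  (f : Z ⟶ Spec (CommRingCat.of A)) (π : Z' ⟶ Z) (n : ℕ)
  (j : Z' ⟶ CohB1.ProjSpaceOver n (Spec (CommRingCat.of A)))

/-- `O_{Z'}(1) = j^* O(1)` -/
noncomputable abbrev L1 : Z'.Modules :=
  (Scheme.Modules.pullback j).obj (Twist.twistOver n (Spec (CommRingCat.of A)) 1)

/-- `G_m = O_{Z'} ⊗ O_{Z'}(1)^{⊗ m}` -/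
noncomputable abbrev GG (m : ℕ) : Z'.Modules :=
  CohB1.tensorMod (Coh.structureModule Z') (CohB1.tensorPow (L1 A n j) m)

variable [IsClosedImmersion j]

theorem isProper_comp_toBase :
    IsProper (j ≫ CohB1.ProjSpaceOver.toBase n (Spec (CommRingCat.of A))) := by
  have h1 : IsProper (CohB1.ProjSpaceOver.toBase n (Spec (CommRingCat.of A))) :=
    Groth.Agent.Lib.helper19.ProjSpaceProper.proper_toBase n _
  infer_instance

theorem isAmple_L1 : CohB1.IsAmple (L1 A n j) := by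
  have := isProper_comp_toBase A n j
  exact Groth.Agent.Lib.helper11.PnBridge.isAmple_of_isRelVeryAmplePn
    (j ≫ CohB1.ProjSpaceOver.toBase n (Spec (CommRingCat.of A)))
    ⟨n, j, inferInstance, rfl, ⟨Iso.refl _⟩⟩

theorem isInvertible_GG (m : ℕ) : PicF.IsInvertible (GG A n j m) :=
  Groth.Agent.Lib.helper12.TensorInv.isInvertible_tensorMod
    (Groth.Agent.Lib.helper11.InvMod.isInvertible_structureModule Z')
    (Groth.Agent.Lib.helper12.TensorInv.isInvertible_tensorPow (isAmple_L1 A n j).1 m)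

theorem isCoh_GG (m : ℕ) : Coh.IsCoh (GG A n j m) :=
  Groth.Agent.Lib.helper11.SerreGG.isCoh_twist (isAmple_L1 A n j).1
    (Groth.Agent.Lib.helper11.AmpleInv.isCoh_structureModule Z') m

theorem isAmple_L1_restrict [QuasiCompact π] (V : Z.Opens) (hV : IsAffineOpen V) :
    CohB1.IsAmple ((L1 A n j).restrict (π ⁻¹ᵁ V).ι) :=
  Groth.Agent.Lib.helper12.AmpleRestrict.isAmple_restrict_opens (isAmple_L1 A n j) _
    (QuasiCompact.isCompact_preimage (f := π) _ V.2 hV.isCompact)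

/-- T5a: Serre vanishing over an affine open of the base. -/
theorem T5a [IsLocallyNoetherian Z] [IsProper π] (V : Z.Opens) (hV : IsAffineOpen V) :
    ∃ m₀ : ℕ, ∀ m : ℕ, m₀ ≤ m → ∀ q : ℕ, 0 < q →
      Subsingleton (Coh.HHon Z' (GG A n j m) (π ⁻¹ᵁ V) q) := by
  have : IsNoetherianRing Γ(Z, V) := IsLocallyNoetherian.component_noetherian ⟨V, hV⟩
  exact vanishing_preimage π (L1 A n j) V hV (isAmple_L1_restrict A π n j V hV) _
    (Groth.Agent.Lib.helper11.AmpleInv.isCoh_structureModule Z')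

/-- T5b: finiteness of sections over an affine open of the base. -/
theorem T5b [IsLocallyNoetherian Z] [IsProper π] (V : Z.Opens) (hV : IsAffineOpen V) (m : ℕ) :
    Module.Finite Γ(Z, V) Γ((Scheme.Modules.pushforward π).obj (GG A n j m), V) := by
  have : IsNoetherianRing Γ(Z, V) := IsLocallyNoetherian.component_noetherian ⟨V, hV⟩
  exact finite_sections_preimage π (L1 A n j) V hV (isAmple_L1_restrict A π n j V hV) _
    (isCoh_GG A n j m)

/-- T5c: finiteness of cohomology of `Z'` over `A`. -/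
theorem T5c [IsNoetherianRing A] (hj : j ≫ CohB1.ProjSpaceOver.toBase n _ = π ≫ f) (m : ℕ) (p : ℕ) :
    letI : Z'.Over (Spec (CommRingCat.of A)) := ⟨π ≫ f⟩
    Module.Finite A (Coh.HH Z' (GG A n j m) p) := by
  have := isProper_comp_toBase A n j
  obtain ⟨N, r, hr, hrq⟩ :=
    Groth.Agent.Lib.helper11.PnBridge.exists_closedImmersion_projSpace_of_immersion j
  let _ : Z'.Over (Spec (CommRingCat.of A)) := ⟨π ≫ f⟩
  exact Groth.Agent.Lib.Lead.ProjectiveCoh.finite_HH r (hrq.trans hj) (isCoh_GG A n j m) p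

/-- T5d: the stalks of `G_m` are nontrivial. -/
theorem T5d (m : ℕ) (z : Z') : Nontrivial ((GG A n j m).presheaf.stalk z) := by
  have h := Groth.Agent.Lib.helper16.FLF.finrank_stalk_of_isFinLocFreeOfRank (GG A n j m)
    ((Groth.Agent.Lib.helper16.FLF.isInvertible_iff_isFinLocFreeOfRank_one _).mp
      (isInvertible_GG A n j m)) z
  exact Module.nontrivial_of_finrank_pos (R := Z'.presheaf.stalk z) (by rw [h]; exact one_pos)

/-- **T5, packaged**: for a finite family of affine opens `V i` of `Z` there is a coherent invertible module `G`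
on `Z'` with `H^q(π⁻¹(V i), G) = 0` for `q > 0`, `Γ(V i, π_* G)` finite over `Γ(V i, O_Z)`, `H^p(Z', G)` finite
over `A`, and nontrivial stalks. -/
theorem T5_main [IsNoetherianRing A] [IsLocallyNoetherian Z] [IsProper π]
    (hj : j ≫ CohB1.ProjSpaceOver.toBase n _ = π ≫ f)
    {ι : Type*} [Finite ι] (V : ι → Z.Opens) (hV : ∀ i, IsAffineOpen (V i)) :
    ∃ G : Z'.Modules, Coh.IsCoh G ∧ PicF.IsInvertible G ∧
      (∀ i, ∀ q : ℕ, 0 < q → Subsingleton (Coh.HHon Z' G (π ⁻¹ᵁ V i) q)) ∧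
      (∀ i, Module.Finite Γ(Z, V i) Γ((Scheme.Modules.pushforward π).obj G, V i)) ∧
      (letI : Z'.Over (Spec (CommRingCat.of A)) := ⟨π ≫ f⟩
        ∀ p : ℕ, Module.Finite A (Coh.HH Z' G p)) ∧
      ∀ z : Z', Nontrivial (G.presheaf.stalk z) := by
  classical
  choose m₀ hm₀ using fun i => T5a A π n j (V i) (hV i)
  have := Fintype.ofFinite ι
  let m := Finset.univ.sup m₀
  refine ⟨GG A n j m, isCoh_GG A n j m, isInvertible_GG A n j m, fun i q hq => ?_, fun i => ?_,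
    fun p => T5c A f π n j hj m p, fun z => T5d A n j m z⟩
  · exact hm₀ i m (Finset.le_sup (f := m₀) (Finset.mem_univ i)) q hq
  · exact T5b A π n j (V i) (hV i) m

/-- `T5_main` for a finite set of affine opens. -/
theorem T5_main_set [IsNoetherianRing A] [IsLocallyNoetherian Z] [IsProper π]
    (hj : j ≫ CohB1.ProjSpaceOver.toBase n _ = π ≫ f)
    (s : Set Z.Opens) (hs : s.Finite) (hV : ∀ V ∈ s, IsAffineOpen V) :
    ∃ G : Z'.Modules, Coh.IsCoh G ∧ PicF.IsInvertible G ∧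
      (∀ V ∈ s, ∀ q : ℕ, 0 < q → Subsingleton (Coh.HHon Z' G (π ⁻¹ᵁ V) q)) ∧
      (∀ V ∈ s, Module.Finite Γ(Z, V) Γ((Scheme.Modules.pushforward π).obj G, V)) ∧
      (letI : Z'.Over (Spec (CommRingCat.of A)) := ⟨π ≫ f⟩
        ∀ p : ℕ, Module.Finite A (Coh.HH Z' G p)) ∧
      ∀ z : Z', Nontrivial (G.presheaf.stalk z) := by
  have : Finite s := hs
  obtain ⟨G, h1, h2, h3, h4, h5, h6⟩ := T5_main A f π n j hj (fun V : s => V.1) (fun V => hV V.1 V.2)
  exact ⟨G, h1, h2, fun V hVs => h3 ⟨V, hVs⟩, fun V hVs => h4 ⟨V, hVs⟩, h5, h6⟩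

end T5

end Groth.Agent.Lib.helper11.S0002T5
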