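import Groth.Agent.Lib.Helper11.NegCx
import Groth.Agent.S2380
import Groth.Agent.S2408
import Groth.Agent.S2409
import Groth.Agent.S2410
import Groth.Agent.S2411
import Groth.Agent.S2418
import Groth.Agent.S2419
import Groth.Agent.S2440

/-!
# helper11: cochain-complex versions of helper2's FlatCx rows (S2380, S2408–S2411, S2418, S2419, S2440)
obtained through the reindexing `NegCx.neg`.
-/

set_option autoImplicit false
universe u
open CategoryTheory CategoryTheory.Limits

namespace Groth.Agent.Lib.helper11.NegCx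

open Groth

variable {A : Type u} [CommRing A]

/-- `TFun (neg L) (-p) ≅ TFun L p`. -/
noncomputable def TFunIso' (L : CochainComplex (ModuleCat.{u} A) ℤ) (p : ℤ) :
    CohIII.TFun (neg L) (-p) ≅ CohIII.TFun L p :=
  TFunIso L (-p) ≪≫ eqToIso (by rw [neg_neg])

lemma dRank_neg' (L : CochainComplex (ModuleCat.{u} A) ℤ) (p : ℤ) :
    CohIII.dRank (neg L) (-p) = CohIII.dRank L p := by
  funext x
  rw [dRank_neg, neg_neg]

lemma surjective_map_iff_of_iso {F G : ModuleCat.{u} A ⥤ ModuleCat.{u} A} (e : F ≅ G)
    {M N : ModuleCat.{u} A} (g : M ⟶ N) :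
    Function.Surjective (F.map g).hom ↔ Function.Surjective (G.map g).hom := by
  rw [← ModuleCat.epi_iff_surjective, ← ModuleCat.epi_iff_surjective]
  have h : F.map g ≫ e.hom.app N = e.hom.app M ≫ G.map g := e.hom.naturality g
  constructor
  · intro hF
    have h1 : Epi (e.hom.app M ≫ G.map g) := by rw [← h]; infer_instance
    have h2 : G.map g = e.inv.app M ≫ (e.hom.app M ≫ G.map g) := by simp
    rw [h2]; infer_instance
  · intro hG
    have h2 : F.map g = (e.hom.app M ≫ G.map g) ≫ e.inv.app N := by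
      rw [← h]; simp
    rw [h2]; infer_instance

section Rows

variable (L : CochainComplex (ModuleCat.{u} A) ℤ)

lemma neg_fin_flat (hL : ∀ i, Module.Finite A (L.X i) ∧ Module.Flat A (L.X i)) :
    ∀ i, Module.Finite A ((neg L).X i) ∧ Module.Flat A ((neg L).X i) := fun i => hL (-i)

/-- S2380 for cochain complexes. -/
theorem upperSemicontinuous_dRank [IsNoetherianRing A]
    (hL : ∀ i, Module.Finite A (L.X i) ∧ Module.Flat A (L.X i)) (p : ℤ) :
    UpperSemicontinuous (CohIII.dRank L p) := by
  rw [← dRank_neg']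
  exact Groth.Agent.S2380.result (neg L) (neg_fin_flat L hL) (-p)

/-- S2419 for cochain complexes. -/
theorem constructible_dRank [IsNoetherianRing A]
    (hL : ∀ i, Module.Finite A (L.X i) ∧ Module.Flat A (L.X i)) (p : ℤ) :
    (Set.range (CohIII.dRank L p)).Finite ∧
      ∀ n : ℕ, Topology.IsConstructible {x : PrimeSpectrum A | CohIII.dRank L p x = n} := by
  rw [← dRank_neg']
  exact Groth.Agent.S2419.result (neg L) (neg_fin_flat L hL) (-p)

/-- S2440 for cochain complexes. -/
theorem dRank_bcCx {A' : Type u} [CommRing A'] [Algebra A A']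
    (hL : ∀ i, Module.Flat A (L.X i)) (p : ℤ) (x' : PrimeSpectrum A') :
    CohIII.dRank (CohIII.bcCx (algebraMap A A') L) p x' =
      CohIII.dRank L p (PrimeSpectrum.comap (algebraMap A A') x') := by
  rw [← dRank_neg', ← dRank_neg', ← bcCx_neg]
  exact Groth.Agent.S2440.result (neg L) (fun i => hL (-i)) (-p) x'

/-- S2408 for cochain complexes. -/
theorem isZero_TFun_of_residue [IsNoetherianRing A] [IsLocalRing A]
    (hL : ∀ i, Module.Finite A (L.X i) ∧ Module.Flat A (L.X i)) (p : ℤ)
    (hk : IsZero ((CohIII.TFun L p).obj (ModuleCat.of A (IsLocalRing.ResidueField A))))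
    (M : ModuleCat.{u} A) : IsZero ((CohIII.TFun L p).obj M) := by
  have hk' : IsZero ((CohIII.TFun (neg L) (-p)).obj (ModuleCat.of A (IsLocalRing.ResidueField A))) :=
    hk.of_iso ((TFunIso' L p).app _)
  exact (Groth.Agent.S2408.result (neg L) (neg_fin_flat L hL) (-p) hk' M).of_iso
    ((TFunIso' L p).symm.app _)

/-- S2409 for cochain complexes: with `q + 1 = p`. -/
theorem exact_iff_surjective [IsNoetherianRing A] [IsLocalRing A]
    (hL : ∀ i, Module.Finite A (L.X i) ∧ Module.Flat A (L.X i)) (p q : ℤ) (hqp : q + 1 = p) :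
    ((CohIII.TFun L p).PreservesMonomorphisms ∧ (CohIII.TFun L p).PreservesEpimorphisms) ↔
      Function.Surjective ((CohIII.TFun L q).map
        (ModuleCat.ofHom (Algebra.linearMap A (IsLocalRing.ResidueField A)))).hom ∧
      Function.Surjective ((CohIII.TFun L p).map
        (ModuleCat.ofHom (Algebra.linearMap A (IsLocalRing.ResidueField A)))).hom := by
  rw [← Functor.PreservesMonomorphisms.iso_iff (TFunIso' L p),
    ← Functor.PreservesEpimorphisms.iso_iff (TFunIso' L p),
    ← surjective_map_iff_of_iso (TFunIso' L q), ← surjective_map_iff_of_iso (TFunIso' L p)]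
  exact Groth.Agent.S2409.result (neg L) (neg_fin_flat L hL) (-p) (-q) (by omega)

/-- S2410 for cochain complexes. -/
theorem exact_iff_epi_free [IsNoetherianRing A] [IsLocalRing A]
    (hL : ∀ i, Module.Finite A (L.X i) ∧ Module.Flat A (L.X i)) (p : ℤ) :
    ((CohIII.TFun L p).PreservesMonomorphisms ∧ (CohIII.TFun L p).PreservesEpimorphisms) ↔
      ((CohIII.TFun L p).PreservesEpimorphisms ∧
        Module.Free A ((CohIII.TFun L p).obj (ModuleCat.of A A))) := by
  have e := ((TFunIso' L p).app (ModuleCat.of A A)).toLinearEquiv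
  have hfree : Module.Free A ((CohIII.TFun (neg L) (-p)).obj (ModuleCat.of A A)) ↔
      Module.Free A ((CohIII.TFun L p).obj (ModuleCat.of A A)) :=
    ⟨fun _ => Module.Free.of_equiv e, fun _ => Module.Free.of_equiv e.symm⟩
  rw [← Functor.PreservesMonomorphisms.iso_iff (TFunIso' L p),
    ← Functor.PreservesEpimorphisms.iso_iff (TFunIso' L p), ← hfree]
  exact Groth.Agent.S2410.result (neg L) (neg_fin_flat L hL) (-p)

/-- S2411 for cochain complexes. -/
theorem exact_free_of_neighbours_zero [IsNoetherianRing A] [IsLocalRing A]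
    (hL : ∀ i, Module.Finite A (L.X i) ∧ Module.Flat A (L.X i)) (p q r : ℤ)
    (hqp : q + 1 = p) (hpr : p + 1 = r)
    (hq : IsZero ((CohIII.TFun L q).obj (ModuleCat.of A (IsLocalRing.ResidueField A))))
    (hr : IsZero ((CohIII.TFun L r).obj (ModuleCat.of A (IsLocalRing.ResidueField A)))) :
    ((CohIII.TFun L p).PreservesMonomorphisms ∧ (CohIII.TFun L p).PreservesEpimorphisms) ∧
      Module.Free A ((CohIII.TFun L p).obj (ModuleCat.of A A)) := by
  have e := ((TFunIso' L p).app (ModuleCat.of A A)).toLinearEquiv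
  have hfree : Module.Free A ((CohIII.TFun (neg L) (-p)).obj (ModuleCat.of A A)) ↔
      Module.Free A ((CohIII.TFun L p).obj (ModuleCat.of A A)) :=
    ⟨fun _ => Module.Free.of_equiv e, fun _ => Module.Free.of_equiv e.symm⟩
  rw [← Functor.PreservesMonomorphisms.iso_iff (TFunIso' L p),
    ← Functor.PreservesEpimorphisms.iso_iff (TFunIso' L p), ← hfree]
  exact Groth.Agent.S2411.result (neg L) (neg_fin_flat L hL) (-p) (-r) (-q) (by omega) (by omega)
    (hr.of_iso ((TFunIso' L r).app _)) (hq.of_iso ((TFunIso' L q).app _))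

/-- S2418 for cochain complexes. -/
theorem isOpen_preservesEpi_locus [IsNoetherianRing A]
    (hL : ∀ i, Module.Finite A (L.X i) ∧ Module.Flat A (L.X i)) (p : ℤ) :
    IsOpen {y : PrimeSpectrum A |
      (CohIII.TFun (CohIII.bcCx (algebraMap A (Localization.AtPrime y.asIdeal)) L)
        p).PreservesEpimorphisms} := by
  have h := Groth.Agent.S2418.result (neg L) (neg_fin_flat L hL) (-p)
  convert h using 2
  funext y
  rw [bcCx_neg]
  exact propext (Functor.PreservesEpimorphisms.iso_iff (TFunIso' _ p)).symm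

end Rows

end Groth.Agent.Lib.helper11.NegCx
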