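import Mathlib
import Groth.Prelude.Def_ega3
import Groth.Agent.Lib.Helper2.TpGlobal
import Groth.Agent.Lib.Helper2.TpUpTo
import Groth.Agent.Lib.Helper2.TpLocus
import Groth.Agent.Lib.Helper2.TpGeneric
import Groth.Agent.Lib.Helper2.TpResExt
import Groth.Agent.Lib.Helper11.NegCxRows

/-!
# Pointwise criteria for the functors `T_q` of a complex of finite flat modules (helper11)

Chain-complex form (helper2's conventions), `A` Noetherian, `P` a complex of finite flat modules:

* `isZero_T_localization_of_dRank_eq_zero`: `dRank P q x = 0` ⇒ `T_q` of the localized complex vanishes identically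
* `mem_freeLocus_W_of_dRank_eq_zero`, `mem_freeLocus_W_pred_of_dRank_eq_zero`
* `not_mem_support_homology_of_dRank_eq_zero`
-/

set_option autoImplicit false
universe u
open CategoryTheory CategoryTheory.Limits MonoidalCategory TensorProduct

namespace Groth.Agent.Lib.helper11.GCLoc

open Groth.Agent.Lib.helper2.TpLib

noncomputable section

section Retract

variable {A : Type u} [CommRing A] (P : ChainComplex (ModuleCat.{u} A) ℤ)

lemma isZero_T_of_retract (q : ℤ) {M N : ModuleCat.{u} A} (i : M ⟶ N) (r : N ⟶ M)
    (h : i ≫ r = 𝟙 M) (hN : IsZero ((CohIII.TFun P q).obj N)) :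
    IsZero ((CohIII.TFun P q).obj M) := by
  rw [IsZero.iff_id_eq_zero]
  have h1 : (CohIII.TFun P q).map i ≫ (CohIII.TFun P q).map r = 𝟙 _ := by
    rw [← CategoryTheory.Functor.map_comp, h, CategoryTheory.Functor.map_id]
  rw [← h1, hN.eq_of_tgt ((CohIII.TFun P q).map i) 0, zero_comp]

/-- over a local ring: if `T_q` kills an extension field of the residue field, it kills the
residue field -/
lemma isZero_T_residue_of_ext [IsLocalRing A] (κ' : Type u) [Field κ'] [Algebra A κ']
    [Algebra (IsLocalRing.ResidueField A) κ'] [IsScalarTower A (IsLocalRing.ResidueField A) κ']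
    (q : ℤ) (h : IsZero ((CohIII.TFun P q).obj (ModuleCat.of A κ'))) :
    IsZero ((CohIII.TFun P q).obj (ModuleCat.of A (IsLocalRing.ResidueField A))) := by
  let f : IsLocalRing.ResidueField A →ₗ[IsLocalRing.ResidueField A] κ' :=
    Algebra.linearMap (IsLocalRing.ResidueField A) κ'
  have hf : LinearMap.ker f = ⊥ :=
    LinearMap.ker_eq_bot.mpr (algebraMap (IsLocalRing.ResidueField A) κ').injective
  obtain ⟨g, hg⟩ := LinearMap.exists_leftInverse_of_injective f hf
  refine isZero_T_of_retract P q (ModuleCat.ofHom (f.restrictScalars A))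
    (ModuleCat.ofHom (g.restrictScalars A)) ?_ h
  ext x
  exact LinearMap.congr_fun hg x

end Retract

section Local

variable {A : Type u} [CommRing A] [IsLocalRing A] (P : ChainComplex (ModuleCat.{u} A) ℤ)

omit [IsLocalRing A] in
lemma subsingleton_homology_of_finrank_eq_zero (hP : ∀ i, Module.Finite A (P.X i))
    (κ : Type u) [Field κ] [Algebra A κ] (q : ℤ)
    (h : Module.finrank κ ((CohIII.bcCx (algebraMap A κ) P).homology q) = 0) :
    Subsingleton ((CohIII.bcCx (algebraMap A κ) P).homology q) := by
  have := hP q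
  have : Module.Finite A (W P q) := inferInstance
  have : Module.Finite κ (κ ⊗[A] W P q) := inferInstance
  have : Module.Finite κ (LinearMap.ker ((fromW P q).baseChange κ)) := inferInstance
  have : Module.Finite κ ((CohIII.bcCx (algebraMap A κ) P).homology q) :=
    Module.Finite.equiv (homologyBcCxEquivKer κ P q).symm
  exact Module.finrank_zero_iff.mp h

lemma isZero_T_residue_of_dRank_closedPoint (hP : ∀ i, Module.Finite A (P.X i)) (q : ℤ)
    (h : CohIII.dRank P q (IsLocalRing.closedPoint A) = 0) :
    IsZero ((CohIII.TFun P q).obj (ModuleCat.of A (IsLocalRing.ResidueField A))) := by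
  let : Algebra (IsLocalRing.ResidueField A) (IsLocalRing.maximalIdeal A).ResidueField :=
    inferInstanceAs (Algebra (A ⧸ IsLocalRing.maximalIdeal A) (IsLocalRing.maximalIdeal A).ResidueField)
  have : IsScalarTower A (IsLocalRing.ResidueField A) (IsLocalRing.maximalIdeal A).ResidueField :=
    inferInstanceAs (IsScalarTower A (A ⧸ IsLocalRing.maximalIdeal A)
      (IsLocalRing.maximalIdeal A).ResidueField)
  apply isZero_T_residue_of_ext P (IsLocalRing.maximalIdeal A).ResidueField q
  have hs := subsingleton_homology_of_finrank_eq_zero P hP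
    (IsLocalRing.maximalIdeal A).ResidueField q h
  have e := resHomologyIso (IsLocalRing.maximalIdeal A).ResidueField P q
  refine IsZero.of_iso ?_ e.symm
  have : Subsingleton ((ModuleCat.restrictScalars
      (algebraMap A (IsLocalRing.maximalIdeal A).ResidueField)).obj
      ((CohIII.bcCx (algebraMap A (IsLocalRing.maximalIdeal A).ResidueField) P).homology q)) := hs
  exact ModuleCat.isZero_of_subsingleton _

end Local

section Core

variable {A : Type u} [CommRing A] (P : ChainComplex (ModuleCat.{u} A) ℤ)
  (hP : ∀ i, Module.Finite A (P.X i) ∧ Module.Flat A (P.X i)) (x : PrimeSpectrum A)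

lemma comap_closedPoint_localization :
    PrimeSpectrum.comap (algebraMap A (Localization.AtPrime x.asIdeal))
      (IsLocalRing.closedPoint (Localization.AtPrime x.asIdeal)) = x := by
  apply PrimeSpectrum.ext
  exact IsLocalization.AtPrime.under_maximalIdeal (Localization.AtPrime x.asIdeal) x.asIdeal

include hP in
lemma fin_flat_bcCx {B : Type u} [CommRing B] [Algebra A B] (i : ℤ) :
    Module.Finite B ((CohIII.bcCx (algebraMap A B) P).X i) ∧
      Module.Flat B ((CohIII.bcCx (algebraMap A B) P).X i) :=
  ⟨finite_bcCx P (fun i => (hP i).1) i, flat_bcCx P (fun i => (hP i).2) i⟩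

include hP in
/-- **Core**: if `T_q(κ(x)) = 0` then `T_q` of the localized complex vanishes identically. -/
lemma isZero_T_localization_of_dRank_eq_zero (q : ℤ) (h : CohIII.dRank P q x = 0)
    (M : ModuleCat.{u} (Localization.AtPrime x.asIdeal)) :
    IsZero ((CohIII.TFun (CohIII.bcCx (algebraMap A (Localization.AtPrime x.asIdeal)) P) q).obj M) := by
  apply isZero_T_of_isZero_residue _ (fun i => fin_flat_bcCx P hP i) q
  apply isZero_T_residue_of_dRank_closedPoint _ (fun i => (fin_flat_bcCx P hP i).1) q
  rw [Groth.Agent.S2440.main P q, comap_closedPoint_localization]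
  exact h

include hP in
lemma mem_freeLocus_W_of_dRank_eq_zero (q : ℤ) (h : CohIII.dRank P q x = 0) :
    x ∈ Module.freeLocus A (W P q) := by
  rw [← mono_locus_eq P hP q]
  show (CohIII.TFun (CohIII.bcCx (algebraMap A (Localization.AtPrime x.asIdeal)) P)
    q).PreservesMonomorphisms
  refine ⟨fun {M N} g hg => ?_⟩
  have := isZero_T_localization_of_dRank_eq_zero P hP x q h M
  exact ⟨fun a b _ => this.eq_of_tgt _ _⟩

include hP in
lemma mem_freeLocus_W_pred_of_dRank_eq_zero (q : ℤ) (h : CohIII.dRank P q x = 0) :
    x ∈ Module.freeLocus A (W P (q - 1)) := by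
  rw [← epi_locus_eq P hP q]
  show (CohIII.TFun (CohIII.bcCx (algebraMap A (Localization.AtPrime x.asIdeal)) P)
    q).PreservesEpimorphisms
  refine ⟨fun {M N} g hg => ?_⟩
  have := isZero_T_localization_of_dRank_eq_zero P hP x q h N
  exact ⟨fun a b _ => this.eq_of_src _ _⟩

include hP in
lemma not_mem_support_homology_of_dRank_eq_zero (q : ℤ) (h : CohIII.dRank P q x = 0) :
    x ∉ Module.support A (P.homology q) := by
  rw [Module.notMem_support_iff]
  have h1 := isZero_T_localization_of_dRank_eq_zero P hP x q h
    (ModuleCat.of (Localization.AtPrime x.asIdeal) (Localization.AtPrime x.asIdeal))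
  have h2 : Subsingleton ((CohIII.TFun (CohIII.bcCx (algebraMap A
      (Localization.AtPrime x.asIdeal)) P) q).obj
      (ModuleCat.of (Localization.AtPrime x.asIdeal) (Localization.AtPrime x.asIdeal))) :=
    ModuleCat.subsingleton_of_isZero h1
  have h3 : Subsingleton ((CohIII.bcCx (algebraMap A (Localization.AtPrime x.asIdeal)) P).homology q) :=
    (TAEquiv (CohIII.bcCx (algebraMap A (Localization.AtPrime x.asIdeal)) P) q).symm.toEquiv.subsingleton
  have h4 : Subsingleton ((Localization.AtPrime x.asIdeal) ⊗[A] P.homology q) :=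
    (homologyBcCxFlatEquiv (Localization.AtPrime x.asIdeal) P q).symm.toEquiv.subsingleton
  exact (LocalizedModule.equivTensorProduct x.asIdeal.primeCompl (P.homology q)).toEquiv.subsingleton

end Core

section Global

variable {A : Type u} [CommRing A] [IsNoetherianRing A] (P : ChainComplex (ModuleCat.{u} A) ℤ)
  (hP : ∀ i, Module.Finite A (P.X i) ∧ Module.Flat A (P.X i))

include hP in
lemma finite_homology (q : ℤ) : Module.Finite A (P.homology q) := by
  have := (hP q).1
  have : Module.Finite A (W P q) := inferInstance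
  have : Module.Finite A (LinearMap.ker (fromW P q)) := inferInstance
  exact Module.Finite.equiv (homologyEquivKer P q).symm

include hP in
/-- if `T_{q+1}` and `T_{q-1}` vanish at all residue fields, then `T_q` is exact, `H_q(P)` is
finite projective, and its fibre ranks are the `dRank`s. -/
lemma exact_of_neighbours_zero (q : ℤ) (h1 : ∀ x, CohIII.dRank P (q + 1) x = 0)
    (h2 : ∀ x, CohIII.dRank P (q - 1) x = 0) :
    ((CohIII.TFun P q).PreservesMonomorphisms ∧ (CohIII.TFun P q).PreservesEpimorphisms) ∧
      Module.Projective A (P.homology q) ∧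
      ∀ x : PrimeSpectrum A, CohIII.dRank P q x =
        Module.finrank x.asIdeal.ResidueField (x.asIdeal.ResidueField ⊗[A] P.homology q) := by
  have hfl : ∀ i, Module.Flat A (P.X i) := fun i => (hP i).2
  have := (hP q).1
  have := (hP (q - 1)).1
  have hfp1 : Module.FinitePresentation A (W P q) := Module.finitePresentation_of_finite A _
  have hfp2 : Module.FinitePresentation A (W P (q - 1)) := Module.finitePresentation_of_finite A _
  have hW1 : Module.Projective A (W P q) := by
    rw [← Module.freeLocus_eq_univ_iff]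
    ext x
    simp only [Set.mem_univ, iff_true]
    have := mem_freeLocus_W_pred_of_dRank_eq_zero P hP x (q + 1) (h1 x)
    rwa [add_sub_cancel_right] at this
  have hW2 : Module.Projective A (W P (q - 1)) := by
    rw [← Module.freeLocus_eq_univ_iff]
    ext x
    simp only [Set.mem_univ, iff_true]
    exact mem_freeLocus_W_of_dRank_eq_zero P hP x (q - 1) (h2 x)
  have hF1 : Module.Flat A (W P q) := inferInstance
  have hF2 : Module.Flat A (W P (q - 1)) := inferInstance
  have hm : (CohIII.TFun P q).PreservesMonomorphisms := (preservesMono_iff_flat_W P hfl q).mpr hF1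
  have hm' : (CohIII.TFun P (q - 1)).PreservesMonomorphisms :=
    (preservesMono_iff_flat_W P hfl (q - 1)).mpr hF2
  have he : (CohIII.TFun P q).PreservesEpimorphisms :=
    (preservesMono_iff_preservesEpi P hfl q (q - 1) (by ring)).mp hm'
  have hTA : Module.Flat A ((CohIII.TFun P q).obj (ModuleCat.of A A)) :=
    (flat_W_iff_flat_TA P hfl q hF2).mp hF1
  have hHfl : Module.Flat A (P.homology q) := Module.Flat.of_linearEquiv (TAEquiv P q).symm
  have hHfin : Module.Finite A (P.homology q) := finite_homology P hP q
  have hHfp : Module.FinitePresentation A (P.homology q) := Module.finitePresentation_of_finite A _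
  refine ⟨⟨hm, he⟩, Module.Flat.projective_of_finitePresentation, fun x => ?_⟩
  rw [dRank_eq_finrank_TA P hfl q hF2 x]
  exact (LinearEquiv.baseChange A x.asIdeal.ResidueField _ _ (TAEquiv P q)).finrank_eq

omit [IsNoetherianRing A] in
include hP in
/-- if `P` vanishes in low degrees and `H_q(P) = 0` for `q ≤ p`, then `T_q` is exact and
`T_q(κ(x)) = 0` for all `q ≤ p`. -/
lemma dRank_eq_zero_of_homology_zero (i₀ : ℤ) (hb : ∀ i < i₀, IsZero (P.X i)) (p : ℤ)
    (hz : ∀ q ≤ p, IsZero (P.homology q)) :
    (∀ q ≤ p, (CohIII.TFun P q).PreservesMonomorphisms ∧ (CohIII.TFun P q).PreservesEpimorphisms) ∧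
      ∀ q ≤ p, ∀ x, CohIII.dRank P q x = 0 := by
  have hfl : ∀ i, Module.Flat A (P.X i) := fun i => (hP i).2
  have hsub : ∀ q ≤ p, Subsingleton ((CohIII.TFun P q).obj (ModuleCat.of A A)) := by
    intro q hq
    have : Subsingleton (P.homology q) := ModuleCat.subsingleton_of_isZero (hz q hq)
    exact (TAEquiv P q).toEquiv.subsingleton
  have hex := (upTo_main P hfl i₀ hb p).mpr (fun q hq => by
    have := hsub q hq
    infer_instance)
  refine ⟨hex, fun q hq x => ?_⟩
  have hF2 : Module.Flat A (W P (q - 1)) :=
    (preservesMono_iff_flat_W P hfl (q - 1)).mp (hex (q - 1) (by omega)).1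
  rw [dRank_eq_finrank_TA P hfl q hF2 x]
  have := hsub q hq
  exact Module.finrank_zero_of_subsingleton

include hP in
/-- if `P` vanishes in low degrees and all `H_q(P)`, `q ≤ p`, are flat, then `dRank P p` is locally constant. -/
lemma locConst_dRank_of_flat_homology (i₀ : ℤ) (hb : ∀ i < i₀, IsZero (P.X i)) (p : ℤ)
    (hflat : ∀ q ≤ p, Module.Flat A (P.homology q)) :
    IsLocallyConstant (CohIII.dRank P p) := by
  have hfl : ∀ i, Module.Flat A (P.X i) := fun i => (hP i).2
  have hex := (upTo_main P hfl i₀ hb p).mpr (fun q hq => by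
    have := hflat q hq
    exact Module.Flat.of_linearEquiv (TAEquiv P q))
  exact locConst_dRank_of_exact P hP p (hex p le_rfl).1 (hex p le_rfl).2

end Global

section Cochain

open Groth.Agent.Lib.helper11.NegCx

variable {A : Type u} [CommRing A] [IsNoetherianRing A] (L : CochainComplex (ModuleCat.{u} A) ℤ)
  (hL : ∀ i, Module.Finite A (L.X i) ∧ Module.Flat A (L.X i))

omit [IsNoetherianRing A] in
lemma dRank_neg_apply (p : ℤ) (x : PrimeSpectrum A) :
    CohIII.dRank (neg L) (-p) x = CohIII.dRank L p x := congrFun (dRank_neg' L p) x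

omit [IsNoetherianRing A] in
/-- `(neg L).homology (-p) ≃ L.homology p` -/
def negHomologyEquiv (p : ℤ) : (neg L).homology (-p) ≃ₗ[A] L.homology p :=
  (negHomologyIso L (-p) ≪≫ eqToIso (by rw [neg_neg])).toLinearEquiv

omit [IsNoetherianRing A] in
include hL in
/-- cochain form: `T^p(κ(x)) = 0` ⇒ `x ∉ Supp H^p(L)` -/
lemma not_mem_support_of_dRank_eq_zero (p : ℤ) (x : PrimeSpectrum A)
    (h : CohIII.dRank L p x = 0) : x ∉ Module.support A (L.homology p) := by
  have h' : CohIII.dRank (neg L) (-p) x = 0 := by rw [dRank_neg_apply]; exact h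
  have := not_mem_support_homology_of_dRank_eq_zero (neg L) (neg_fin_flat L hL) x (-p) h'
  rwa [(negHomologyEquiv L p).support_eq] at this

include hL in
lemma finite_homology_cochain (p : ℤ) : Module.Finite A (L.homology p) := by
  have := finite_homology (neg L) (neg_fin_flat L hL) (-p)
  exact Module.Finite.equiv (negHomologyEquiv L p)

include hL in
/-- cochain form: if `T^{p+1}` and `T^{p-1}` vanish at all residue fields, then `H^p(L)` is finite
projective with fibre ranks `dRank L p`. -/
lemma projective_of_neighbours_zero (p : ℤ) (h1 : ∀ x, CohIII.dRank L (p + 1) x = 0)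
    (h2 : ∀ x, CohIII.dRank L (p - 1) x = 0) :
    Module.Projective A (L.homology p) ∧
      ∀ x : PrimeSpectrum A, CohIII.dRank L p x =
        Module.finrank x.asIdeal.ResidueField (x.asIdeal.ResidueField ⊗[A] L.homology p) := by
  have e1 : (-p + 1 : ℤ) = -(p - 1) := by ring
  have e2 : (-p - 1 : ℤ) = -(p + 1) := by ring
  obtain ⟨-, hproj, hr⟩ := exact_of_neighbours_zero (neg L) (neg_fin_flat L hL) (-p)
    (fun x => by rw [e1, dRank_neg_apply]; exact h2 x)
    (fun x => by rw [e2, dRank_neg_apply]; exact h1 x)
  refine ⟨Module.Projective.of_equiv (negHomologyEquiv L p), fun x => ?_⟩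
  rw [← dRank_neg_apply, hr x]
  exact (LinearEquiv.baseChange A x.asIdeal.ResidueField _ _ (negHomologyEquiv L p)).finrank_eq

omit [IsNoetherianRing A] in
include hL in
/-- cochain form: `L` bounded above with `H^i(L) = 0` for `i > 0` ⇒ `T^i(κ(x)) = 0` for `i > 0`. -/
lemma dRank_eq_zero_of_homology_zero_cochain (N : ℤ) (hN : ∀ i, N ≤ i → IsZero (L.X i))
    (hz : ∀ i : ℤ, 0 < i → IsZero (L.homology i)) (i : ℤ) (hi : 0 < i) (x : PrimeSpectrum A) :
    CohIII.dRank L i x = 0 := by
  have hb : ∀ j < -N + 1, IsZero ((neg L).X j) := fun j hj => hN (-j) (by omega)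
  have hz' : ∀ q ≤ (-1 : ℤ), IsZero ((neg L).homology q) := fun q hq =>
    IsZero.of_iso (hz (-q) (by omega)) (negHomologyIso L q)
  have := (dRank_eq_zero_of_homology_zero (neg L) (neg_fin_flat L hL) (-N + 1) hb (-1) hz').2
    (-i) (by omega) x
  rwa [dRank_neg_apply] at this

include hL in
/-- cochain form: `L` bounded above with all `H^i(L)` flat ⇒ all `dRank L p` locally constant. -/
lemma locConst_dRank_of_flat_homology_cochain (N : ℤ) (hN : ∀ i, N ≤ i → IsZero (L.X i))
    (hflat : ∀ i : ℤ, Module.Flat A (L.homology i)) (p : ℤ) :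
    IsLocallyConstant (CohIII.dRank L p) := by
  have hb : ∀ j < -N + 1, IsZero ((neg L).X j) := fun j hj => hN (-j) (by omega)
  have := locConst_dRank_of_flat_homology (neg L) (neg_fin_flat L hL) (-N + 1) hb (-p)
    (fun q _ => by
      have := hflat (-q)
      exact Module.Flat.of_linearEquiv (negHomologyIso L q).toLinearEquiv)
  rwa [dRank_neg'] at this

omit [IsNoetherianRing A] in
/-- cochain form: `dRank L p x = 0` ⇒ `H^p(L ⊗ κ(x)) = 0` (for `L` of finite modules). -/
lemma isZero_homology_of_dRank_eq_zero_cochain (hfin : ∀ i, Module.Finite A (L.X i)) (p : ℤ)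
    (x : PrimeSpectrum A) (h : CohIII.dRank L p x = 0) :
    IsZero ((CohIII.bcCx (algebraMap A x.asIdeal.ResidueField) L).homology p) := by
  have h' : CohIII.dRank (neg L) (-p) x = 0 := by rw [dRank_neg_apply]; exact h
  have hs := subsingleton_homology_of_finrank_eq_zero (neg L) (fun i => hfin (-i))
    x.asIdeal.ResidueField (-p) h'
  have e : (neg (CohIII.bcCx (algebraMap A x.asIdeal.ResidueField) L)).homology (-p) ≅
      (CohIII.bcCx (algebraMap A x.asIdeal.ResidueField) L).homology p :=
    negHomologyIso (CohIII.bcCx (algebraMap A x.asIdeal.ResidueField) L) (-p) ≪≫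
      eqToIso (by rw [neg_neg])
  have hs' : Subsingleton ((neg (CohIII.bcCx (algebraMap A x.asIdeal.ResidueField) L)).homology
      (-p)) := hs
  exact IsZero.of_iso (ModuleCat.isZero_of_subsingleton _) e.symm

omit [IsNoetherianRing A] in
lemma dRank_eq_zero_of_isZero_homology (p : ℤ) (x : PrimeSpectrum A)
    (h : IsZero ((CohIII.bcCx (algebraMap A x.asIdeal.ResidueField) L).homology p)) :
    CohIII.dRank L p x = 0 := by
  unfold CohIII.dRank
  have := ModuleCat.subsingleton_of_isZero h
  exact Module.finrank_zero_of_subsingleton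

end Cochain

end

end Groth.Agent.Lib.helper11.GCLoc
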