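import Mathlib
import Groth.Agent.Lib.Helper11.PullTensFLF
import Groth.Agent.Lib.Helper11.Bidual3
import Groth.Agent.Lib.Helper21.InvFibre
import Groth.Prelude.Def_KLin

/-!
# Morphisms `F ⟶ G` as sections of `G ⊗ F^∨`, and their pullbacks (helper11)

`F` finite locally free on `W`, `g : X' ⟶ W`.
* `secEquiv hF G : (F ⟶ G) ≃ (O ⟶ G ⊗ F^∨)`.
* `Xi g hF G : (g^*F ⟶ g^*G) ≃ (O' ⟶ g^*(G ⊗ F^∨))` with `Xi (g^*u) = pullSec (secEquiv u)`
  and compatibility with multiplication by (pulled back) global functions.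
-/

set_option autoImplicit false
universe u
open CategoryTheory CategoryTheory.Limits AlgebraicGeometry TopologicalSpace Opposite
open Scheme.Modules
open Groth.Agent.Lib.Lead.ModTensor
open Groth.Agent.Lib.helper12.PullTensor Groth.Agent.Lib.helper12.TensorRestrict
open Groth.Agent.Lib.helper12.TensorSec
open Groth.Agent.Lib.helper11.IsoLocus Groth.Agent.Lib.helper11.ProjFormula
open Groth.Agent.Lib.helper11.PullTensFLF Groth.Agent.Lib.helper11.Bidual
open Groth.Agent.Lib.helper21.FLFDual Groth.Agent.Lib.helper12.InvDual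
open Groth.Agent.Lib.Helper21.TensorAdj
open Groth.Agent.Lib.helper11.InvMod Groth.Agent.Lib.helper11.InvPullback
open Groth.Agent.Lib.helper21.InvFibre

namespace Groth.Agent.Lib.helper11.FibLift

variable {W X' : Scheme.{u}}

/-- an isomorphism `O ⊗ F ≅ F` -/
noncomputable def lunit (F : W.Modules) :
    (tens W.sheaf F).obj (Coh.structureModule W) ≅ F :=
  (Iso.refl _ : (tens W.sheaf F).obj (Coh.structureModule W) ≅
    CohB1.tensorMod (Coh.structureModule W) F) ≪≫ braid _ _ ≪≫ SecTwist.unitorR F

section sec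

variable {F : W.Modules} (hF : FlatMod.IsFinLocFree F)

/-- `Hom(F, G) ≃ Hom(O, G ⊗ F^∨)` for `F` finite locally free -/
noncomputable def secEquiv (G : W.Modules) :
    (F ⟶ G) ≃ (Coh.structureModule W ⟶ CohB1.tensorMod G (dualMod F)) :=
  ((lunit F).symm.homFromEquiv :
    (F ⟶ G) ≃ ((tens W.sheaf F).obj (Coh.structureModule W) ⟶ G)).trans
  (((tensDualAdj hF).homEquiv (Coh.structureModule W) G) :
    ((tens W.sheaf F).obj (Coh.structureModule W) ⟶ G) ≃
      (Coh.structureModule W ⟶ (tens W.sheaf (dualMod F)).obj G))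

theorem secEquiv_apply (G : W.Modules) (u : F ⟶ G) :
    secEquiv hF G u =
      (tensDualAdj hF).homEquiv (Coh.structureModule W) G ((lunit F).hom ≫ u) := rfl

theorem secEquiv_comp {G G₂ : W.Modules} (u : F ⟶ G) (m : G ⟶ G₂) :
    secEquiv hF G₂ (u ≫ m) = secEquiv hF G u ≫ tensorMap m (𝟙 (dualMod F)) := by
  have h1 := (tensDualAdj hF).homEquiv_naturality_right ((lunit F).hom ≫ u) m
  rw [tens_map, Category.assoc] at h1
  exact h1

end sec

section pull

variable (g : X' ⟶ W) {F : W.Modules} (hF : FlatMod.IsFinLocFree F)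

/-- `g_*g^*G ⊗ F^∨ ≅ g_*g^*(G ⊗ F^∨)` -/
noncomputable def kap (G : W.Modules) :
    CohB1.tensorMod ((Scheme.Modules.pushforward g).obj ((Scheme.Modules.pullback g).obj G))
        (dualMod F) ≅
      (Scheme.Modules.pushforward g).obj
        ((Scheme.Modules.pullback g).obj (CohB1.tensorMod G (dualMod F))) :=
  @asIso _ _ _ _ (proj g ((Scheme.Modules.pullback g).obj G) (dualMod F))
      (isIso_proj g _ (isFinLocFree_dualMod hF)) ≪≫
    (Scheme.Modules.pushforward g).mapIso
      (pullTensorIsoFLF g G (isFinLocFree_dualMod hF)).symm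

theorem unit_kap (G : W.Modules) :
    tensorMap ((pbAdj g).unit.app G) (𝟙 (dualMod F)) ≫ (kap g hF G).hom =
      (pbAdj g).unit.app (CohB1.tensorMod G (dualMod F)) := by
  have h1 : tensorMap ((pbAdj g).unit.app G) (𝟙 (dualMod F)) ≫
      proj g ((Scheme.Modules.pullback g).obj G) (dualMod F) =
      pullTensorPush g G (dualMod F) := by
    unfold proj pullTensorPush
    rw [← Category.assoc, tensorMap_comp']
    erw [Category.comp_id, Category.id_comp]
  have h2 := unit_pullTensorHom g G (dualMod F)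
  have h3 : (kap g hF G).hom = proj g ((Scheme.Modules.pullback g).obj G) (dualMod F) ≫
      (Scheme.Modules.pushforward g).map (pullTensorIsoFLF g G (isFinLocFree_dualMod hF)).inv :=
    rfl
  rw [h3, ← Category.assoc, h1, ← h2, Category.assoc, ← Functor.map_comp]
  have h4 : pullTensorHom g G (dualMod F) ≫
      (pullTensorIsoFLF g G (isFinLocFree_dualMod hF)).inv = 𝟙 _ :=
    (pullTensorIsoFLF g G (isFinLocFree_dualMod hF)).hom_inv_id
  rw [h4, CategoryTheory.Functor.map_id]
  exact Category.comp_id _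

/-- `Hom(g^*F, g^*G) ≃ Hom(O', g^*(G ⊗ F^∨))` -/
noncomputable def Xi (G : W.Modules) :
    ((Scheme.Modules.pullback g).obj F ⟶ (Scheme.Modules.pullback g).obj G) ≃
      (Coh.structureModule X' ⟶
        (Scheme.Modules.pullback g).obj (CohB1.tensorMod G (dualMod F))) :=
  ((pbAdj g).homEquiv F ((Scheme.Modules.pullback g).obj G)).trans <|
    (secEquiv hF _).trans <|
    ((kap g hF G).homToEquiv).trans <|
    ((pbAdj g).homEquiv (Coh.structureModule W)
      ((Scheme.Modules.pullback g).obj (CohB1.tensorMod G (dualMod F)))).symm.trans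
    (pullbackUnitIso g).homFromEquiv

theorem Xi_apply (G : W.Modules)
    (v : (Scheme.Modules.pullback g).obj F ⟶ (Scheme.Modules.pullback g).obj G) :
    Xi g hF G v = (pullbackUnitIso g).inv ≫
      ((pbAdj g).homEquiv (Coh.structureModule W) _).symm
        (secEquiv hF _ ((pbAdj g).homEquiv F _ v) ≫ (kap g hF G).hom) := rfl

/-- compatibility of `Xi` with pullback of morphisms -/
theorem Xi_pullback_map (G : W.Modules) (u : F ⟶ G) :
    Xi g hF G ((Scheme.Modules.pullback g).map u) =
      pullSec g (CohB1.tensorMod G (dualMod F)) (secEquiv hF G u) := by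
  rw [Xi_apply]
  unfold pullSec
  congr 1
  have h1 : (pbAdj g).homEquiv F _ ((Scheme.Modules.pullback g).map u) =
      u ≫ (pbAdj g).unit.app G := by
    rw [Adjunction.homEquiv_unit]
    exact ((pbAdj g).unit.naturality u).symm
  rw [h1, secEquiv_comp, Category.assoc, unit_kap]
  rw [Adjunction.homEquiv_counit, Functor.map_comp, Category.assoc]
  have h2 := (pbAdj g).left_triangle_components (CohB1.tensorMod G (dualMod F))
  rw [h2, Category.comp_id]

end pull

section smul

open Groth.Agent.Lib.Helper18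

variable (g : X' ⟶ W)

/-- pushforward of multiplication by a pulled back global function -/
theorem pushforward_map_smulModΓ (M : X'.Modules) (r : Coh.Γtop W) :
    (Scheme.Modules.pushforward g).map (Formal.smulModΓ M (HH.appTopΓ g r)) =
      Formal.smulModΓ ((Scheme.Modules.pushforward g).obj M) r := by
  refine Scheme.Modules.hom_ext _ _ fun U => ?_
  ext m
  change (Formal.smulModΓ M (HH.appTopΓ g r)).app (g ⁻¹ᵁ U) m =
    (Formal.smulModΓ ((Scheme.Modules.pushforward g).obj M) r).app U m
  rw [KLin.smulModΓ_app_apply, KLin.smulModΓ_app_apply]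
  have key : (g.app U).hom (W.presheaf.map (homOfLE (le_top : U ≤ ⊤)).op r) =
      X'.presheaf.map (homOfLE (le_top : g ⁻¹ᵁ U ≤ ⊤)).op (HH.appTopΓ g r) := by
    have h := g.naturality (homOfLE (le_top (a := U))).op
    exact congrArg (fun φ => φ.hom r) h
  rw [← key]
  rfl

/-- `(r • −) ⊗ E = r • −` on `N ⊗ E` -/
theorem tensorMap_smulModΓ_left (N E : W.Modules) (r : Coh.Γtop W) :
    tensorMap (Formal.smulModΓ N r) (𝟙 E) = Formal.smulModΓ (CohB1.tensorMod N E) r := by
  apply tensorMod_hom_ext
  intro U n e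
  rw [tensorMap_tmul]
  have h1 : ((Formal.smulModΓ N r).val.app (op U)).hom n =
      (W.presheaf.map (homOfLE (le_top : U ≤ ⊤)).op r : W.ringCatSheaf.obj.obj (op U)) • n := rfl
  have h2 : ((Formal.smulModΓ (CohB1.tensorMod N E) r).val.app (op U)).hom
      (SecTwist.tmul N E U n e) =
      (W.presheaf.map (homOfLE (le_top : U ≤ ⊤)).op r : W.ringCatSheaf.obj.obj (op U)) •
        SecTwist.tmul N E U n e := rfl
  rw [h1, h2]
  exact Groth.Agent.Lib.helper12.AmpleBasis.tmul_smul_left N E U _ n e

variable {F : W.Modules} (hF : FlatMod.IsFinLocFree F)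

/-- `Xi` is compatible with multiplication by pulled back global functions -/
theorem Xi_smul (G : W.Modules)
    (v : (Scheme.Modules.pullback g).obj F ⟶ (Scheme.Modules.pullback g).obj G)
    (r : Coh.Γtop W) :
    Xi g hF G (v ≫ Formal.smulModΓ _ (HH.appTopΓ g r)) =
      Xi g hF G v ≫ Formal.smulModΓ _ (HH.appTopΓ g r) := by
  rw [Xi_apply, Xi_apply, Category.assoc]
  congr 1
  rw [(pbAdj g).homEquiv_naturality_right, pushforward_map_smulModΓ, secEquiv_comp,
    tensorMap_smulModΓ_left, Category.assoc, ← KLin.comp_smulModΓ, ← Category.assoc,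
    ← pushforward_map_smulModΓ, (pbAdj g).homEquiv_naturality_right_symm]

end smul

end Groth.Agent.Lib.helper11.FibLift
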