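import Mathlib
import Groth.Agent.Lib.Helper11.FibLift1
import Groth.Agent.Lib.Helper20.SheafHomExt

/-!
# `g^*(N ⊗ F^∨) ≅ g^*N ⊗ (g^*F)^∨` and transfer of the `ℋom` hypothesis (helper11)
-/

set_option autoImplicit false
universe u
open CategoryTheory CategoryTheory.Limits AlgebraicGeometry TopologicalSpace Opposite
open Scheme.Modules
open Groth.Agent.Lib.Lead.ModTensor
open Groth.Agent.Lib.helper12.PullTensor
open Groth.Agent.Lib.helper11.Bidual
open Groth.Agent.Lib.helper21.FLFDual Groth.Agent.Lib.helper12.InvDual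
open Groth.Agent.Lib.Helper21.TensorAdj

namespace Groth.Agent.Lib.helper11.FibLift

variable {W X' : Scheme.{u}}

section dual

variable (g : X' ⟶ W) {F : W.Modules} (hF : FlatMod.IsFinLocFree F)

/-- `(− ⊗ F^∨) ⋙ g^* ≅ g^* ⋙ (− ⊗ (g^*F)^∨)`: both are left adjoint to `g_*(− ⊗ g^*F) ≅ g_*(−) ⊗ F` -/
noncomputable def pullTensDualIso :
    tensM (dualMod F) ⋙ Scheme.Modules.pullback g ≅
      Scheme.Modules.pullback g ⋙ tensM (dualMod ((Scheme.Modules.pullback g).obj F)) :=
  let hF' : FlatMod.IsFinLocFree ((Scheme.Modules.pullback g).obj F) :=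
    Groth.Agent.Lib.helper16.FLF.isFinLocFree_pullback g hF
  let a1 : tensM (dualMod F) ⊣ tensM F := tensDualAdj' hF
  let a2 : tensM (dualMod ((Scheme.Modules.pullback g).obj F)) ⊣
      tensM ((Scheme.Modules.pullback g).obj F) := tensDualAdj' hF'
  let adj1 : tensM (dualMod F) ⋙ Scheme.Modules.pullback g ⊣
      Scheme.Modules.pushforward g ⋙ tensM F := a1.comp (pbAdj g)
  let adj2 : Scheme.Modules.pullback g ⋙ tensM (dualMod ((Scheme.Modules.pullback g).obj F)) ⊣
      tensM ((Scheme.Modules.pullback g).obj F) ⋙ Scheme.Modules.pushforward g :=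
    (pbAdj g).comp a2
  adj1.leftAdjointUniq (adj2.ofNatIsoRight (tensPushIso g hF))

end dual

section transfer

/-- `ℋom(M, N) ≅ N' ⊗ M'^∨` for `M ≅ M'` finite locally free and `N ≅ N'` -/
theorem nonempty_sheafHom_iso {Z : Scheme.{u}} (M M' N N' : Z.Modules) [DCoh.HasSheafHom M]
    (hM' : FlatMod.IsFinLocFree M') (eM : M ≅ M') (eN : N ≅ N') :
    Nonempty ((DCoh.sheafHom M).obj N ≅ CohB1.tensorMod N' (dualMod M')) := by
  let A' : ModSite.Mod Z.sheaf := M
  have h2 : ModSite.HasSheafHom A' := Groth.Agent.Lib.helper21.ExtShDelta.hasSheafHom Z.sheaf A'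
  let e : DCoh.sheafHom M ≅ ModSite.sheafHom A' :=
    conjugateIsoEquiv (DCoh.sheafHomAdj M) (ModSite.sheafHomAdj A')
      (Groth.Agent.Lib.Helper21.TensorMon.braidIso Z.sheaf A').symm
  exact ⟨e.app N ≪≫ (sheafHomIsoOfIso eM).app N ≪≫
    (ModSite.sheafHom (O := Z.sheaf) M').mapIso eN ≪≫ (tensDualIso hM').symm.app N'⟩

variable (g : X' ⟶ W) {F : W.Modules} (hF : FlatMod.IsFinLocFree F)

include hF in
/-- transfer of the vanishing hypothesis on `H^n(X', ℋom(M, N))` to `H^n(X', g^*(G ⊗ F^∨))` -/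
theorem subsingleton_HH_pullback (G : W.Modules) (M N : X'.Modules) [DCoh.HasSheafHom M]
    (eM : M ≅ (Scheme.Modules.pullback g).obj F) (eN : N ≅ (Scheme.Modules.pullback g).obj G)
    (n : ℕ) (h : Subsingleton (Coh.HH X' ((DCoh.sheafHom M).obj N) n)) :
    Subsingleton (Coh.HH X'
      ((Scheme.Modules.pullback g).obj (CohB1.tensorMod G (dualMod F))) n) := by
  have hF' : FlatMod.IsFinLocFree ((Scheme.Modules.pullback g).obj F) :=
    Groth.Agent.Lib.helper16.FLF.isFinLocFree_pullback g hF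
  obtain ⟨e1⟩ := nonempty_sheafHom_iso M _ N _ hF' eM eN
  exact Groth.Agent.Lib.helper21.InvFibre.subsingleton_HH_of_iso
    (e1 ≪≫ ((pullTensDualIso g hF).symm.app G)) n h

end transfer

end Groth.Agent.Lib.helper11.FibLift
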