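import Mathlib
import Groth.Agent.Lib.Helper11.FibLift2
import Groth.Agent.Lib.Helper16.FLFTensor

/-!
# Lifting morphisms of finite locally free modules from a fibre (helper11)

`A` Noetherian, `X` proper flat over `Spec A`, `F`, `G` finite locally free, `x ∈ Spec A`,
`X' = X ×_A Spec κ(x)` with `H^1(X', g'^*(G ⊗ F^∨)) = 0`: every `u₀ : g'^*F ⟶ g'^*G` is, up to a unit
`a ∈ A ∖ x`, the pullback of some `u : F ⟶ G` (`exists_lift_hom`).
-/

set_option autoImplicit false
universe u
open CategoryTheory CategoryTheory.Limits AlgebraicGeometry TopologicalSpace Opposite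
open Scheme.Modules
open Groth.Agent.Lib.Lead.ModTensor
open Groth.Agent.Lib.helper12.PullTensor
open Groth.Agent.Lib.helper11.Bidual
open Groth.Agent.Lib.helper21.FLFDual Groth.Agent.Lib.helper12.InvDual
open Groth.Agent.Lib.Helper21.TensorAdj
open Groth.Agent.Lib.helper21.InvFibre Groth.Agent.Lib.helper16.FLF
open Groth.Agent.Lib.helper8.FlatCohBC Groth.Agent.Lib.helper21.GCCech
open Groth.Agent.Lib.Helper18

namespace Groth.Agent.Lib.helper11.FibLift

section main

variable (A : Type u) [CommRing A] [IsNoetherianRing A] (X : Scheme.{u})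
  [X.Over (Spec (CommRingCat.of A))] [IsProper (X ↘ Spec (CommRingCat.of A))]
  [Flat (X ↘ Spec (CommRingCat.of A))]
  (F G : X.Modules) (hF : FlatMod.IsFinLocFree F) (hG : FlatMod.IsFinLocFree G)
  (x : PrimeSpectrum A) (X' : Scheme.{u})
  [X'.Over (Spec (CommRingCat.of x.asIdeal.ResidueField))] (g' : X' ⟶ X)
  (h : IsPullback g' (X' ↘ Spec (CommRingCat.of x.asIdeal.ResidueField))
    (X ↘ Spec (CommRingCat.of A))
    (Spec.map (CommRingCat.ofHom (algebraMap A x.asIdeal.ResidueField))))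

include hF hG h in
/-- **lifting morphisms from the fibre, up to a unit** -/
theorem exists_lift_hom
    (h1 : Subsingleton (Coh.HH X'
      ((Scheme.Modules.pullback g').obj (CohB1.tensorMod G (dualMod F))) 1))
    (u₀ : (Scheme.Modules.pullback g').obj F ⟶ (Scheme.Modules.pullback g').obj G) :
    ∃ a : A, a ∉ x.asIdeal ∧ ∃ u : F ⟶ G,
      (Scheme.Modules.pullback g').map u = u₀ ≫ Formal.smulModΓ _
        (HH.appTopΓ g' (Coh.toGlobal (X ↘ Spec (CommRingCat.of A)) a)) := by
  have hFd := isFinLocFree_dualMod hF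
  have hE : FlatMod.IsFinLocFree (CohB1.tensorMod G (dualMod F)) :=
    Groth.Agent.Lib.helper16.FLFTensor.isFinLocFree_tensor hG hFd
  have hEc : Coh.IsCoh (CohB1.tensorMod G (dualMod F)) :=
    ⟨isQuasicoherent_of_isFinLocFree _ hE, isFiniteType_of_isFinLocFree _ hE⟩
  have hfl : FlatMod.IsFlatOver (X ↘ Spec (CommRingCat.of A)) (CohB1.tensorMod G (dualMod F)) :=
    isFlatOver_of_isFinLocFree _ _ hE
  let τ₀ := Xi g' hF G u₀
  let t : (Coh.toAb ((Coh.push g').obj
      ((Scheme.Modules.pullback g').obj (CohB1.tensorMod G (dualMod F))))).obj.obj (op ⊤) :=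
    (τ₀.val.app (op (g' ⁻¹ᵁ ⊤))).hom (1 : X'.ringCatSheaf.obj.obj (op (g' ⁻¹ᵁ ⊤)))
  obtain ⟨a, ha, s, hs⟩ := Groth.Agent.Lib.helper21.GCCech.exists_lift_section A X (CohB1.tensorMod G (dualMod F))
    hEc hfl x X' g' h h1 t
  let σ := homOfSec (CohB1.tensorMod G (dualMod F)) s
  refine ⟨a, ha, (secEquiv hF G).symm σ, ?_⟩
  apply (Xi g' hF G).injective
  rw [Xi_pullback_map, Equiv.apply_symm_apply, Xi_smul]
  apply Groth.Agent.Lib.Helper21.TermSec.ev_injective (X := (⊤ : X'.Opens)) Limits.isTerminalTop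
  have e1 := pullSec_app_top g' (CohB1.tensorMod G (dualMod F)) σ
  rw [homOfSec_app] at e1
  letI := modSec' (X' ↘ Spec (CommRingCat.of x.asIdeal.ResidueField)) g'
    (CohB1.tensorMod G (dualMod F)) (⊤ : X.Opens)
  have e2 : ((ηM g' (CohB1.tensorMod G (dualMod F))).hom.app (op ⊤)).hom s =
      (((Scheme.Modules.pullbackPushforwardAdjunction g').unit.app
        (CohB1.tensorMod G (dualMod F))).val.app (op ⊤)).hom s := rfl
  have e3 := toGlobal_algebraMap (X ↘ Spec (CommRingCat.of A))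
    (X' ↘ Spec (CommRingCat.of x.asIdeal.ResidueField)) g' h a
  refine e1.trans ?_
  rw [← e2, hs]
  rw [← e3]
  rfl

end main

end Groth.Agent.Lib.helper11.FibLift
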