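import Mathlib
import Groth.Agent.Lib.Helper11.FibLift3
import Groth.Agent.Lib.Helper25.StalkExact
import Groth.Agent.Lib.Helper7.CohKer
import Groth.Agent.Lib.Helper2.TensorSupp
import Groth.Agent.Lib.Helper8.DevMaster
import Groth.Agent.Lib.Helper16.CohStalk

/-!
# Endomorphisms of coherent modules which are isomorphisms on a fibre (helper11)
-/

set_option autoImplicit false
universe u
open CategoryTheory CategoryTheory.Limits AlgebraicGeometry TopologicalSpace Opposite
open Scheme.Modules
open Groth.Agent.Lib.helper11.IsoLocus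

namespace Groth.Agent.Lib.helper11.FibLift

variable {W X' : Scheme.{u}}

theorem isZero_stalk_of_not_mem_support (M : W.Modules) (p : W) (hp : p ∉ CohB1.support M) :
    IsZero ((DerSch.stalkFunctor W p).obj M) := by
  have h1 : Subsingleton ((DerSch.stalkFunctor W p).obj M) :=
    (not_not.mp hp : Subsingleton (M.presheaf.stalk p))
  exact ModuleCat.isZero_of_subsingleton _

/-- surjective endomorphisms of coherent modules are bijective on stalks -/
theorem isIso_stalkMap_of_not_mem_support_cokernel {F : W.Modules} (hF : Coh.IsCoh F)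
    (w : F ⟶ F) (p : W) (hp : p ∉ CohB1.support (cokernel w)) : IsIso (stalkMap w p) := by
  let S := DerSch.stalkFunctor W p
  have h1 : IsZero (cokernel (S.map w)) :=
    (isZero_stalk_of_not_mem_support _ p hp).of_iso (PreservesCokernel.iso S w).symm
  have h2 : Epi (S.map w) := Preadditive.epi_of_isZero_cokernel _ h1
  have h3 : Function.Surjective (S.map w).hom := (ModuleCat.epi_iff_surjective _).1 h2
  have : Module.Finite (W.presheaf.stalk p) (S.obj F) :=
    Groth.Agent.Lib.helper16.CohStalk.finite_stalk_of_isCoh F hF p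
  have h4 : Function.Injective (S.map w).hom :=
    OrzechProperty.injective_of_surjective_endomorphism (S.map w).hom h3
  have h5 : Function.Bijective (stalkMap w p) := ⟨h4, h3⟩
  exact (ConcreteCategory.isIso_iff_bijective _).2 h5

theorem le_isoLocus_of_disjoint_support_cokernel {F : W.Modules} (hF : Coh.IsCoh F)
    (w : F ⟶ F) (U : W.Opens) (hU : ∀ p ∈ U, p ∉ CohB1.support (cokernel w)) :
    U ≤ isoLocus w := by
  rw [le_isoLocus_iff, isIso_restrict_iff_stalk]
  intro p hp
  exact isIso_stalkMap_of_not_mem_support_cokernel hF w p (hU p hp)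

theorem support_eq_empty_of_isZero (M : W.Modules) (hM : IsZero M) : CohB1.support M = ∅ := by
  ext p
  simp only [Set.mem_empty_iff_false, iff_false]
  intro hp
  apply hp
  have h1 : IsZero ((DerSch.stalkFunctor W p).obj M) := (DerSch.stalkFunctor W p).map_isZero hM
  exact (ModuleCat.subsingleton_of_isZero h1 : Subsingleton ((DerSch.stalkFunctor W p).obj M))

/-- an endomorphism of a coherent module whose pullback along `g` is an epimorphism is an
isomorphism on an open neighbourhood of the image of `g` -/
theorem exists_open_le_isoLocus_of_epi_pullback (g : X' ⟶ W) {F : W.Modules} (hF : Coh.IsCoh F)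
    (w : F ⟶ F) (hw : Epi ((Scheme.Modules.pullback g).map w)) :
    ∃ U : W.Opens, Set.range g ⊆ (U : Set W) ∧ U ≤ isoLocus w := by
  have hQ : Coh.IsCoh (cokernel w) := Groth.Agent.Lib.helper7.CohKer.isCoh_cokernel hF hF w
  have hcl := Groth.Agent.Lib.helper8.Dev.isClosed_support_of_isCoh (cokernel w) hQ
  refine ⟨⟨(CohB1.support (cokernel w))ᶜ, hcl.isOpen_compl⟩, ?_,
    le_isoLocus_of_disjoint_support_cokernel hF w _ (fun p hp => hp)⟩
  rintro _ ⟨p', rfl⟩
  haveI : (cokernel w).IsQuasicoherent := hQ.1
  have h1 := Groth.Agent.Lib.helper2.TensorSupp.support_pullback g (cokernel w) hQ.2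
  have h2 : IsZero ((Scheme.Modules.pullback g).obj (cokernel w)) := by
    have h3 : IsZero (cokernel ((Scheme.Modules.pullback g).map w)) :=
      isZero_cokernel_of_epi _
    exact h3.of_iso (PreservesCokernel.iso (Scheme.Modules.pullback g) w)
  rw [support_eq_empty_of_isZero _ h2] at h1
  intro hp
  have : p' ∈ g ⁻¹' CohB1.support (cokernel w) := hp
  rw [← h1] at this
  exact this

end Groth.Agent.Lib.helper11.FibLift
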