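import Mathlib
import Groth.Agent.Lib.Helper11.FibLift4

/-!
# Finite locally free modules isomorphic on a fibre with `H^1(X_y, ℋom(F_y, F_y)) = 0` (helper11)
-/

set_option autoImplicit false
universe u
open CategoryTheory CategoryTheory.Limits AlgebraicGeometry TopologicalSpace Opposite
open Scheme.Modules
open Groth.Agent.Lib.helper11.IsoLocus
open Groth.Agent.Lib.helper21.FLFDual Groth.Agent.Lib.helper12.InvDual
open Groth.Agent.Lib.helper21.InvFibre Groth.Agent.Lib.helper16.FLF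
open Groth.Agent.Lib.helper8.FlatCohBC Groth.Agent.Lib.helper21.GCCech
open Groth.Agent.Lib.Helper18
open Groth.Agent.Lib.helper21.GCBase Groth.Agent.Lib.helper21.GCChart

namespace Groth.Agent.Lib.helper11.FibLift

theorem isIso_smulModΓ_of_isUnit {Z : Scheme.{u}} (M : Z.Modules) (c : Coh.Γtop Z)
    (hc : IsUnit c) : IsIso (Formal.smulModΓ M c) := by
  obtain ⟨u, rfl⟩ := hc
  refine ⟨Formal.smulModΓ M ((u⁻¹ : (Coh.Γtop Z)ˣ) : Coh.Γtop Z), ?_, ?_⟩
  · rw [← KLin.smulModΓ_mul, Units.mul_inv, KLin.smulModΓ_one]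
  · rw [← KLin.smulModΓ_mul, Units.inv_mul, KLin.smulModΓ_one]

theorem isIso_of_comp_isIso {C : Type*} [Category C] {A B : C} (a : A ⟶ B) (b : B ⟶ A)
    [IsIso (a ≫ b)] [IsIso (b ≫ a)] : IsIso a := by
  have hr : a ≫ (b ≫ inv (a ≫ b)) = 𝟙 A := by rw [← Category.assoc, IsIso.hom_inv_id]
  have hl : (inv (b ≫ a) ≫ b) ≫ a = 𝟙 B := by rw [Category.assoc, IsIso.inv_hom_id]
  have h3 : inv (b ≫ a) ≫ b = b ≫ inv (a ≫ b) := by
    calc inv (b ≫ a) ≫ b = (inv (b ≫ a) ≫ b) ≫ (a ≫ (b ≫ inv (a ≫ b))) := by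
          rw [hr, Category.comp_id]
      _ = ((inv (b ≫ a) ≫ b) ≫ a) ≫ (b ≫ inv (a ≫ b)) := by simp only [Category.assoc]
      _ = b ≫ inv (a ≫ b) := by rw [hl, Category.id_comp]
  exact ⟨b ≫ inv (a ≫ b), hr, by rw [← h3]; exact hl⟩

theorem isoLocus_comp_inf_le {Z : Scheme.{u}} {A B : Z.Modules} (u : A ⟶ B) (v : B ⟶ A) :
    isoLocus (u ≫ v) ⊓ isoLocus (v ≫ u) ≤ isoLocus u := by
  rw [le_isoLocus_iff]
  set U := isoLocus (u ≫ v) ⊓ isoLocus (v ≫ u)
  have h1 : IsIso ((restrictFunctor U.ι).map (u ≫ v)) :=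
    isIso_restrict_of_le _ inf_le_left (isIso_restrict_isoLocus _)
  have h2 : IsIso ((restrictFunctor U.ι).map (v ≫ u)) :=
    isIso_restrict_of_le _ inf_le_right (isIso_restrict_isoLocus _)
  rw [Functor.map_comp] at h1 h2
  exact isIso_of_comp_isIso _ ((restrictFunctor U.ι).map v)

section chartlemma

variable (A : Type u) [CommRing A] [IsNoetherianRing A] (X : Scheme.{u})
  [X.Over (Spec (CommRingCat.of A))] [IsProper (X ↘ Spec (CommRingCat.of A))]
  [Flat (X ↘ Spec (CommRingCat.of A))]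
  (F G : X.Modules) (hF : FlatMod.IsFinLocFree F) (hG : FlatMod.IsFinLocFree G)
  (x : PrimeSpectrum A) (X' : Scheme.{u})
  [X'.Over (Spec (CommRingCat.of x.asIdeal.ResidueField))] (g' : X' ⟶ X)
  (h : IsPullback g' (X' ↘ Spec (CommRingCat.of x.asIdeal.ResidueField))
    (X ↘ Spec (CommRingCat.of A))
    (Spec.map (CommRingCat.ofHom (algebraMap A x.asIdeal.ResidueField))))

include h in
theorem isUnit_appTopΓ_toGlobal (a : A) (ha : a ∉ x.asIdeal) :
    IsUnit (HH.appTopΓ g' (Coh.toGlobal (X ↘ Spec (CommRingCat.of A)) a)) := by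
  rw [← toGlobal_algebraMap (X ↘ Spec (CommRingCat.of A))
    (X' ↘ Spec (CommRingCat.of x.asIdeal.ResidueField)) g' h a]
  have hb : algebraMap A x.asIdeal.ResidueField a ≠ 0 := by
    intro h0
    exact ha (Ideal.algebraMap_residueField_eq_zero.mp h0)
  exact (IsUnit.mk0 _ hb).map _

include hF hG h in
/-- a morphism `F ⟶ G` which is an isomorphism near the fibre, from an isomorphism on the fibre -/
theorem exists_hom_range_subset_isoLocus
    (h1 : Subsingleton (Coh.HH X'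
      ((Scheme.Modules.pullback g').obj (CohB1.tensorMod G (dualMod F))) 1))
    (h1' : Subsingleton (Coh.HH X'
      ((Scheme.Modules.pullback g').obj (CohB1.tensorMod F (dualMod G))) 1))
    (e₀ : (Scheme.Modules.pullback g').obj F ≅ (Scheme.Modules.pullback g').obj G) :
    ∃ u : F ⟶ G, Set.range g' ⊆ ((isoLocus u : X.Opens) : Set X) := by
  obtain ⟨a, ha, u, hu⟩ := exists_lift_hom A X F G hF hG x X' g' h h1 e₀.hom
  obtain ⟨b, hb, v, hv⟩ := exists_lift_hom A X G F hG hF x X' g' h h1' e₀.inv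
  set ca := HH.appTopΓ g' (Coh.toGlobal (X ↘ Spec (CommRingCat.of A)) a) with hca
  set cb := HH.appTopΓ g' (Coh.toGlobal (X ↘ Spec (CommRingCat.of A)) b) with hcb
  have ua : IsUnit ca := isUnit_appTopΓ_toGlobal A X x X' g' h a ha
  have ub : IsUnit cb := isUnit_appTopΓ_toGlobal A X x X' g' h b hb
  have hFc : Coh.IsCoh F := ⟨isQuasicoherent_of_isFinLocFree _ hF, isFiniteType_of_isFinLocFree _ hF⟩
  have hGc : Coh.IsCoh G := ⟨isQuasicoherent_of_isFinLocFree _ hG, isFiniteType_of_isFinLocFree _ hG⟩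
  have k1 : (Scheme.Modules.pullback g').map (u ≫ v) =
      Formal.smulModΓ _ ca ≫ Formal.smulModΓ _ cb := by
    rw [Functor.map_comp, hu, hv, Category.assoc, ← Category.assoc (Formal.smulModΓ _ ca),
      ← KLin.comp_smulModΓ, Category.assoc, Iso.hom_inv_id_assoc]
  have k2 : (Scheme.Modules.pullback g').map (v ≫ u) =
      Formal.smulModΓ _ cb ≫ Formal.smulModΓ _ ca := by
    rw [Functor.map_comp, hu, hv, Category.assoc, ← Category.assoc (Formal.smulModΓ _ cb),
      ← KLin.comp_smulModΓ, Category.assoc, Iso.inv_hom_id_assoc]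
  have i1 : IsIso ((Scheme.Modules.pullback g').map (u ≫ v)) := by
    rw [k1]
    have := isIso_smulModΓ_of_isUnit ((Scheme.Modules.pullback g').obj F) ca ua
    have := isIso_smulModΓ_of_isUnit ((Scheme.Modules.pullback g').obj F) cb ub
    infer_instance
  have i2 : IsIso ((Scheme.Modules.pullback g').map (v ≫ u)) := by
    rw [k2]
    have := isIso_smulModΓ_of_isUnit ((Scheme.Modules.pullback g').obj G) ca ua
    have := isIso_smulModΓ_of_isUnit ((Scheme.Modules.pullback g').obj G) cb ub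
    infer_instance
  obtain ⟨U₁, hU₁, hU₁'⟩ := exists_open_le_isoLocus_of_epi_pullback g' hFc (u ≫ v) inferInstance
  obtain ⟨U₂, hU₂, hU₂'⟩ := exists_open_le_isoLocus_of_epi_pullback g' hGc (v ≫ u) inferInstance
  refine ⟨u, fun p hp => ?_⟩
  exact isoLocus_comp_inf_le u v ⟨hU₁' (hU₁ hp), hU₂' (hU₂ hp)⟩

end chartlemma

end Groth.Agent.Lib.helper11.FibLift
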