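import Mathlib
import Groth.Agent.Lib.Helper11.FibLift5

/-!
# `F ≅ G` near a fibre from `F_y ≅ G_y` and `H^1(X_y, ℋom(F_y, F_y)) = 0` (helper11)
-/

set_option autoImplicit false
universe u
open CategoryTheory CategoryTheory.Limits AlgebraicGeometry TopologicalSpace Opposite
open Scheme.Modules
open Groth.Agent.Lib.helper11.IsoLocus
open Groth.Agent.Lib.helper21.FLFDual Groth.Agent.Lib.helper12.InvDual
open Groth.Agent.Lib.helper21.InvFibre Groth.Agent.Lib.helper16.FLF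
open Groth.Agent.Lib.helper8.FlatCohBC Groth.Agent.Lib.helper21.GCCech
open Groth.Agent.Lib.Helper18
open Groth.Agent.Lib.helper21.GCBase Groth.Agent.Lib.helper21.GCChart

namespace Groth.Agent.Lib.helper11.FibLift

variable {X Y : Scheme.{u}} (f : X ⟶ Y) [IsProper f] [Flat f] [IsLocallyNoetherian Y]

instance flat_fA {V : Y.Opens} (hV : IsAffineOpen V) : Flat (fA f hV) := by
  unfold fA
  haveI : Flat (f ∣_ V) := MorphismProperty.of_isPullback (isPullback_morphismRestrict f V).flip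
    inferInstance
  infer_instance

/-- **finite locally free modules isomorphic on a fibre with `H^1(X_y, ℋom(F_y, F_y)) = 0` are
isomorphic over a neighbourhood** -/
theorem exists_iso_near_fibre (y : Y) (F G : X.Modules)
    (hF : FlatMod.IsFinLocFree F) (hG : FlatMod.IsFinLocFree G)
    [DCoh.HasSheafHom (CohIII.fiberMod f F y)]
    (h1 : Subsingleton (Coh.HH (f.fiber y)
      ((DCoh.sheafHom (CohIII.fiberMod f F y)).obj (CohIII.fiberMod f F y)) 1))
    (hy : Nonempty (CohIII.fiberMod f F y ≅ CohIII.fiberMod f G y)) :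
    ∃ U : Y.Opens, y ∈ U ∧ Nonempty (F.restrict (f ⁻¹ᵁ U).ι ≅ G.restrict (f ⁻¹ᵁ U).ι) := by
  obtain ⟨V, hV, hyV⟩ : ∃ V : Y.Opens, IsAffineOpen V ∧ y ∈ V := by
    obtain ⟨_, ⟨V, hV, rfl⟩, hyV, -⟩ :=
      Y.isBasis_affineOpens.exists_subset_of_mem_open (Set.mem_univ y) isOpen_univ
    exact ⟨V, hV, hyV⟩
  obtain ⟨x, rfl⟩ : ∃ x, hV.fromSpec x = y := by
    have : y ∈ Set.range hV.fromSpec := by
      rw [hV.range_fromSpec]
      exact hyV
    exact this
  haveI : IsNoetherianRing Γ(Y, V) := IsLocallyNoetherian.component_noetherian ⟨V, hV⟩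
  letI := Groth.Agent.Lib.helper21.GCBase.overA f hV
  haveI : IsProper ((↑(f ⁻¹ᵁ V) : Scheme.{u}) ↘ Spec (CommRingCat.of Γ(Y, V))) :=
    inferInstanceAs (IsProper (fA f hV))
  haveI : Flat ((↑(f ⁻¹ᵁ V) : Scheme.{u}) ↘ Spec (CommRingCat.of Γ(Y, V))) :=
    inferInstanceAs (Flat (fA f hV))
  have hsq := Groth.Agent.Lib.helper21.GCBase.isPullback_chart f hV
  have hFA : FlatMod.IsFinLocFree (FA f (V := V) F) := isFinLocFree_restrict _ hF
  have hGA : FlatMod.IsFinLocFree (FA f (V := V) G) := isFinLocFree_restrict _ hG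
  letI := Groth.Agent.Lib.helper21.GCChart.fibreOver f Γ(Y, V) hV.fromSpec x
  let g' := Groth.Agent.Lib.helper21.GCChart.lift f Γ(Y, V) hV.fromSpec (f ⁻¹ᵁ V).ι hsq x
  have hpb := Groth.Agent.Lib.helper21.GCChart.isPullback_lift f Γ(Y, V) hV.fromSpec (f ⁻¹ᵁ V).ι hsq x
  let eF1 := Groth.Agent.Lib.helper21.GCChart.fibreModIso f Γ(Y, V) hV.fromSpec (f ⁻¹ᵁ V).ι hsq x F (FA f (V := V) F)
    (Groth.Agent.Lib.helper21.GCBase.eF f (V := V) F)
  let eG1 := Groth.Agent.Lib.helper21.GCChart.fibreModIso f Γ(Y, V) hV.fromSpec (f ⁻¹ᵁ V).ι hsq x G (FA f (V := V) G)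
    (Groth.Agent.Lib.helper21.GCBase.eF f (V := V) G)
  obtain ⟨e2⟩ := hy
  -- the two vanishing statements
  have hFG : Subsingleton (Coh.HH (f.fiber (hV.fromSpec x))
      ((DCoh.sheafHom (CohIII.fiberMod f F (hV.fromSpec x))).obj
        (CohIII.fiberMod f G (hV.fromSpec x))) 1) :=
    subsingleton_HH_of_iso ((DCoh.sheafHom (CohIII.fiberMod f F (hV.fromSpec x))).mapIso e2) 1 h1
  have v1 : Subsingleton (Coh.HH (f.fiber (hV.fromSpec x))
      ((Scheme.Modules.pullback g').obj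
        (CohB1.tensorMod (FA f (V := V) G) (dualMod (FA f (V := V) F)))) 1) :=
    subsingleton_HH_pullback g' hFA (FA f (V := V) G) _ _ eF1.symm eG1.symm 1 hFG
  have v2 : Subsingleton (Coh.HH (f.fiber (hV.fromSpec x))
      ((Scheme.Modules.pullback g').obj
        (CohB1.tensorMod (FA f (V := V) F) (dualMod (FA f (V := V) G)))) 1) :=
    subsingleton_HH_pullback g' hGA (FA f (V := V) F) _ _ (e2 ≪≫ eG1.symm) eF1.symm 1 h1
  obtain ⟨u, hu⟩ := exists_hom_range_subset_isoLocus Γ(Y, V) (↑(f ⁻¹ᵁ V) : Scheme.{u})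
    (FA f (V := V) F) (FA f (V := V) G) hFA hGA x (f.fiber (hV.fromSpec x)) g' hpb v1 v2
    (eF1 ≪≫ e2 ≪≫ eG1.symm)
  -- the closed complement of the iso locus and its closed image
  let Z : Set (↑(f ⁻¹ᵁ V) : Scheme.{u}) := ((isoLocus u : (↑(f ⁻¹ᵁ V) : Scheme.{u}).Opens) : Set _)ᶜ
  have hZ : IsClosed Z := (isoLocus u).2.isClosed_compl
  have hcl : IsClosed ((fA f hV) '' Z) := (fA f hV).isClosedMap _ hZ
  have hw : ∀ p : (↑(f ⁻¹ᵁ V) : Scheme.{u}), hV.fromSpec ((fA f hV) p) = f ((f ⁻¹ᵁ V).ι p) := by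
    intro p
    have := congrArg (fun φ : (↑(f ⁻¹ᵁ V) : Scheme.{u}) ⟶ Y => φ p) hsq.w
    exact this.symm
  have hinj : Function.Injective hV.fromSpec := hV.fromSpec.isOpenEmbedding.injective
  have hx : x ∉ (fA f hV) '' Z := by
    rintro ⟨p, hpZ, hpx⟩
    apply hpZ
    have h4 : (f ⁻¹ᵁ V).ι p ∈ Set.range (f.fiberι (hV.fromSpec x)) := by
      rw [f.range_fiberι]
      show f ((f ⁻¹ᵁ V).ι p) = hV.fromSpec x
      rw [← hw p, hpx]
    obtain ⟨p', hp'⟩ := h4
    have h5 : g' p' = p := by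
      apply (f ⁻¹ᵁ V).ι.isOpenEmbedding.injective
      rw [← hp']
      have := congrArg (fun φ : f.fiber (hV.fromSpec x) ⟶ X => φ p')
        (Groth.Agent.Lib.helper21.GCChart.lift_i f Γ(Y, V) hV.fromSpec (f ⁻¹ᵁ V).ι hsq x)
      exact this
    rw [← h5]
    exact hu ⟨p', rfl⟩
  let U0 : (Spec (CommRingCat.of Γ(Y, V))).Opens := ⟨((fA f hV) '' Z)ᶜ, hcl.isOpen_compl⟩
  have hUV : f ⁻¹ᵁ (hV.fromSpec ''ᵁ U0) ≤ f ⁻¹ᵁ V := by
    rintro p ⟨q, -, hq⟩
    show f p ∈ V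
    have : f p ∈ Set.range hV.fromSpec := ⟨q, hq⟩
    rw [hV.range_fromSpec] at this
    exact this
  refine ⟨hV.fromSpec ''ᵁ U0, ⟨x, hx, rfl⟩, ?_⟩
  let j0 := X.homOfLE hUV
  have hle : j0.opensRange ≤ isoLocus u := by
    rw [Scheme.opensRange_homOfLE]
    intro p hp
    obtain ⟨q, hq, hqp⟩ := hp
    by_contra hcon
    have h7 : q = (fA f hV) p := by
      apply hinj
      rw [hw p]
      exact hqp
    exact hq ⟨p, hcon, h7.symm⟩
  haveI : IsIso ((restrictFunctor j0).map u) :=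
    (isIso_restrictFunctor_iff_opensRange j0 u).mpr ((le_isoLocus_iff u _).mp hle)
  exact ⟨(Groth.Agent.Lib.helper11.InvMod.restrictRestrictIso F hUV).symm ≪≫
    asIso ((restrictFunctor j0).map u) ≪≫
    Groth.Agent.Lib.helper11.InvMod.restrictRestrictIso G hUV⟩

end Groth.Agent.Lib.helper11.FibLift
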