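import Mathlib
import Groth.Agent.Lib.Helper11.FibLift6

/-!
# Local base: exact lifting of morphisms from the closed fibre, and epimorphisms (helper11)
-/

set_option autoImplicit false
universe u
open CategoryTheory CategoryTheory.Limits AlgebraicGeometry TopologicalSpace Opposite
open Scheme.Modules
open Groth.Agent.Lib.helper11.IsoLocus
open Groth.Agent.Lib.helper12.PullTensor
open Groth.Agent.Lib.helper21.FLFDual Groth.Agent.Lib.helper12.InvDual
open Groth.Agent.Lib.helper21.InvFibre Groth.Agent.Lib.helper16.FLF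
open Groth.Agent.Lib.helper8.FlatCohBC Groth.Agent.Lib.helper21.GCCech
open Groth.Agent.Lib.Helper18
open Groth.Agent.Lib.helper21.GCBase Groth.Agent.Lib.helper21.GCChart

namespace Groth.Agent.Lib.helper11.FibLift

/-- pullback of multiplication by a global function -/
theorem pullback_map_smulModΓ {W X' : Scheme.{u}} (g : X' ⟶ W) (M : W.Modules) (r : Coh.Γtop W) :
    (Scheme.Modules.pullback g).map (Formal.smulModΓ M r) =
      Formal.smulModΓ ((Scheme.Modules.pullback g).obj M) (HH.appTopΓ g r) := by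
  apply ((pbAdj g).homEquiv _ _).injective
  rw [Adjunction.homEquiv_unit, Adjunction.homEquiv_unit, pushforward_map_smulModΓ]
  refine Eq.trans ?_ (KLin.comp_smulModΓ ((pbAdj g).unit.app M) r).symm
  exact ((pbAdj g).unit.naturality (Formal.smulModΓ M r)).symm

section localbase

variable (A : Type u) [CommRing A] [IsNoetherianRing A] [IsLocalRing A] (X : Scheme.{u})
  [X.Over (Spec (CommRingCat.of A))] [IsProper (X ↘ Spec (CommRingCat.of A))]
  [Flat (X ↘ Spec (CommRingCat.of A))]
  (F G : X.Modules) (hF : FlatMod.IsFinLocFree F) (hG : FlatMod.IsFinLocFree G)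

include hF hG in
/-- **every morphism on the closed fibre lifts** when `H^1(X_y, ℋom(F_y, G_y)) = 0` -/
theorem exists_lift_hom_closedPoint
    [DCoh.HasSheafHom (CohIII.fiberMod (X ↘ Spec (CommRingCat.of A)) F (IsLocalRing.closedPoint A))]
    (h1 : Subsingleton (Coh.HH ((X ↘ Spec (CommRingCat.of A)).fiber (IsLocalRing.closedPoint A))
      ((DCoh.sheafHom (CohIII.fiberMod (X ↘ Spec (CommRingCat.of A)) F (IsLocalRing.closedPoint A))).obj
        (CohIII.fiberMod (X ↘ Spec (CommRingCat.of A)) G (IsLocalRing.closedPoint A))) 1))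
    (u₀ : CohIII.fiberMod (X ↘ Spec (CommRingCat.of A)) F (IsLocalRing.closedPoint A) ⟶
      CohIII.fiberMod (X ↘ Spec (CommRingCat.of A)) G (IsLocalRing.closedPoint A)) :
    ∃ u : F ⟶ G,
      (Scheme.Modules.pullback ((X ↘ Spec (CommRingCat.of A)).fiberι (IsLocalRing.closedPoint A))).map u
        = u₀ := by
  have hsq : IsPullback (𝟙 X) (X ↘ Spec (CommRingCat.of A)) (X ↘ Spec (CommRingCat.of A)) (𝟙 _) := IsPullback.id_horiz _
  letI : ((X ↘ Spec (CommRingCat.of A)).fiber (IsLocalRing.closedPoint A)).Over (Spec (CommRingCat.of (IsLocalRing.closedPoint A).asIdeal.ResidueField)) :=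
    fibreOver (X ↘ Spec (CommRingCat.of A)) A (𝟙 _) (IsLocalRing.closedPoint A)
  have hg' : lift (X ↘ Spec (CommRingCat.of A)) A (𝟙 _) (𝟙 X) hsq (IsLocalRing.closedPoint A) = (X ↘ Spec (CommRingCat.of A)).fiberι (IsLocalRing.closedPoint A) := by
    have := lift_i (X ↘ Spec (CommRingCat.of A)) A (𝟙 _) (𝟙 X) hsq (IsLocalRing.closedPoint A)
    rw [Category.comp_id] at this
    exact this
  have hpb : IsPullback ((X ↘ Spec (CommRingCat.of A)).fiberι (IsLocalRing.closedPoint A)) (fibreTo (X ↘ Spec (CommRingCat.of A)) A (𝟙 _) (IsLocalRing.closedPoint A)) (X ↘ Spec (CommRingCat.of A))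
      (Spec.map (CommRingCat.ofHom (algebraMap A (IsLocalRing.closedPoint A).asIdeal.ResidueField))) := by
    have := isPullback_lift (X ↘ Spec (CommRingCat.of A)) A (𝟙 _) (𝟙 X) hsq (IsLocalRing.closedPoint A)
    rw [hg'] at this
    exact this
  have v1 : Subsingleton (Coh.HH ((X ↘ Spec (CommRingCat.of A)).fiber (IsLocalRing.closedPoint A))
      ((Scheme.Modules.pullback ((X ↘ Spec (CommRingCat.of A)).fiberι (IsLocalRing.closedPoint A))).obj (CohB1.tensorMod G (dualMod F))) 1) :=
    subsingleton_HH_pullback ((X ↘ Spec (CommRingCat.of A)).fiberι (IsLocalRing.closedPoint A)) hF G _ _ (Iso.refl _) (Iso.refl _) 1 h1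
  obtain ⟨a, ha, u, hu⟩ := exists_lift_hom A X F G hF hG (IsLocalRing.closedPoint A) ((X ↘ Spec (CommRingCat.of A)).fiber (IsLocalRing.closedPoint A)) ((X ↘ Spec (CommRingCat.of A)).fiberι (IsLocalRing.closedPoint A)) hpb v1 u₀
  have hua : IsUnit a := by
    by_contra hcon
    exact ha ((IsLocalRing.mem_maximalIdeal a).mpr hcon)
  obtain ⟨a', rfl⟩ := hua
  refine ⟨u ≫ Formal.smulModΓ G (Coh.toGlobal (X ↘ Spec (CommRingCat.of A)) ((a'⁻¹ : Aˣ) : A)), ?_⟩
  have e1 := (Scheme.Modules.pullback ((X ↘ Spec (CommRingCat.of A)).fiberι (IsLocalRing.closedPoint A))).map_comp u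
    (Formal.smulModΓ G (Coh.toGlobal (X ↘ Spec (CommRingCat.of A)) ((a'⁻¹ : Aˣ) : A)))
  rw [e1, hu, pullback_map_smulModΓ, Category.assoc, ← KLin.smulModΓ_mul,
    ← map_mul, ← map_mul, Units.mul_inv, map_one, map_one, KLin.smulModΓ_one]
  exact Category.comp_id _

end localbase

end Groth.Agent.Lib.helper11.FibLift
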