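import Mathlib
import Groth.Agent.Lib.Helper11.FibLift7

/-!
# Local base: coherent modules vanishing near the closed fibre vanish; epimorphisms (helper11)
-/

set_option autoImplicit false
universe u
open CategoryTheory CategoryTheory.Limits AlgebraicGeometry TopologicalSpace Opposite
open Scheme.Modules

namespace Groth.Agent.Lib.helper11.FibLift

section localbase

variable (A : Type u) [CommRing A] [IsLocalRing A] (X : Scheme.{u})
  [X.Over (Spec (CommRingCat.of A))] [IsProper (X ↘ Spec (CommRingCat.of A))]

/-- a coherent module on a proper scheme over a local ring whose support misses the closed fibre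
is zero -/
theorem isZero_of_support_disjoint_closedFibre (Q : X.Modules) (hQ : Coh.IsCoh Q)
    (h : ∀ p : X, (X ↘ Spec (CommRingCat.of A)) p = IsLocalRing.closedPoint A →
      p ∉ CohB1.support Q) : IsZero Q := by
  have hcl := Groth.Agent.Lib.helper8.Dev.isClosed_support_of_isCoh Q hQ
  have hcl' : IsClosed ((X ↘ Spec (CommRingCat.of A)) '' CohB1.support Q) :=
    (X ↘ Spec (CommRingCat.of A)).isClosedMap _ hcl
  let U : TopologicalSpace.Opens (PrimeSpectrum A) :=
    ⟨((X ↘ Spec (CommRingCat.of A)) '' CohB1.support Q)ᶜ, hcl'.isOpen_compl⟩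
  have hU : IsLocalRing.closedPoint A ∈ U := by
    rintro ⟨p, hp, hpy⟩
    exact h p hpy hp
  have hU' : U = ⊤ := (IsLocalRing.closedPoint_mem_iff U).mp hU
  apply Groth.Agent.Lib.Helper25.StalkExact.isZero_of_forall_stalk
  intro p
  apply isZero_stalk_of_not_mem_support
  intro hp
  have h1 : (X ↘ Spec (CommRingCat.of A)) p ∈ U := by rw [hU']; trivial
  exact h1 ⟨p, hp, rfl⟩

/-- a morphism of coherent modules which is an epimorphism on the closed fibre is an epimorphism -/
theorem epi_of_epi_pullback_closedFibre {F G : X.Modules} (hF : Coh.IsCoh F) (hG : Coh.IsCoh G)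
    (u : F ⟶ G)
    (hu : Epi ((Scheme.Modules.pullback
      ((X ↘ Spec (CommRingCat.of A)).fiberι (IsLocalRing.closedPoint A))).map u)) : Epi u := by
  have hQ : Coh.IsCoh (cokernel u) := Groth.Agent.Lib.helper7.CohKer.isCoh_cokernel hF hG u
  apply Preadditive.epi_of_isZero_cokernel
  apply isZero_of_support_disjoint_closedFibre A X _ hQ
  intro p hp hps
  have h4 : p ∈ Set.range ((X ↘ Spec (CommRingCat.of A)).fiberι (IsLocalRing.closedPoint A)) := by
    rw [Scheme.Hom.range_fiberι]
    exact hp
  obtain ⟨p', rfl⟩ := h4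
  haveI : (cokernel u).IsQuasicoherent := hQ.1
  have h1 := Groth.Agent.Lib.helper2.TensorSupp.support_pullback
    ((X ↘ Spec (CommRingCat.of A)).fiberι (IsLocalRing.closedPoint A)) (cokernel u) hQ.2
  have h2 : IsZero ((Scheme.Modules.pullback
      ((X ↘ Spec (CommRingCat.of A)).fiberι (IsLocalRing.closedPoint A))).obj (cokernel u)) := by
    have h3 : IsZero (cokernel ((Scheme.Modules.pullback
        ((X ↘ Spec (CommRingCat.of A)).fiberι (IsLocalRing.closedPoint A))).map u)) :=
      isZero_cokernel_of_epi _
    exact h3.of_iso (PreservesCokernel.iso (Scheme.Modules.pullback _) u)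
  rw [support_eq_empty_of_isZero _ h2] at h1
  have : p' ∈ ((X ↘ Spec (CommRingCat.of A)).fiberι (IsLocalRing.closedPoint A)) ⁻¹'
      CohB1.support (cokernel u) := hps
  rw [← h1] at this
  exact this

end localbase

end Groth.Agent.Lib.helper11.FibLift
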