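import Mathlib
import Groth.Agent.Lib.Helper11.FibLift8
import Groth.Agent.Lib.Helper16.QCohAss

/-!
# `A`-module structures on sections and stalks of modules on a scheme over `Spec A` (helper11)
-/

set_option autoImplicit false
universe u
open CategoryTheory CategoryTheory.Limits AlgebraicGeometry TopologicalSpace Opposite
open Scheme.Modules
open Groth.Agent.Lib.helper8.FlatCohBC Groth.Agent.Lib.helper21.GCCech

namespace Groth.Agent.Lib.helper11.FibMono

variable {A : Type u} [CommRing A] {X : Scheme.{u}} (fX : X ⟶ Spec (CommRingCat.of A))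

/-- `A → O_{X,p}` -/
noncomputable def stalkAlg (p : X) : A →+* X.presheaf.stalk p :=
  (X.presheaf.germ ⊤ p trivial).hom.comp (Coh.toGlobal fX)

theorem germ_secAlg (W : X.Opens) (p : X) (hp : p ∈ W) (a : A) :
    (X.presheaf.germ W p hp).hom (secAlg fX W a) = stalkAlg fX p a :=
  TopCat.Presheaf.germ_res_apply X.presheaf (homOfLE le_top) p hp _

/-- the `A`-module structure on sections -/
@[reducible] noncomputable def modSecA (M : X.Modules) (W : X.Opens) :
    Module A (M.val.obj (op W)) :=
  Module.compHom (M.val.obj (op W)) (secAlg fX W)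

/-- the `A`-module structure on stalks -/
@[reducible] noncomputable def modStalkA (M : X.Modules) (p : X) :
    Module A (M.presheaf.stalk p) :=
  Module.compHom _ (stalkAlg fX p)

theorem germ_smulA (M : X.Modules) (W : X.Opens) (p : X) (hp : p ∈ W) (a : A)
    (s : M.val.obj (op W)) :
    letI := modSecA fX M W
    letI := modStalkA fX M p
    (M.presheaf.germ W p hp).hom (a • s) = a • (M.presheaf.germ W p hp).hom s := by
  letI := modSecA fX M W
  letI := modStalkA fX M p
  change (M.presheaf.germ W p hp).hom (secAlg fX W a • s) =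
    stalkAlg fX p a • (M.presheaf.germ W p hp).hom s
  rw [← germ_secAlg fX W p hp a]
  exact Groth.Agent.Lib.helper16.QCohAss.germ_smul' M W p hp _ s

/-- restriction of sections -/
noncomputable def resS (M : X.Modules) {W₁ W₂ : X.Opens} (h : W₂ ≤ W₁) (s : M.val.obj (op W₁)) :
    M.val.obj (op W₂) := (M.val.map (homOfLE h).op).hom s

theorem resS_add (M : X.Modules) {W₁ W₂ : X.Opens} (h : W₂ ≤ W₁) (s t : M.val.obj (op W₁)) :
    resS M h (s + t) = resS M h s + resS M h t := map_add _ _ _

theorem germ_resS (M : X.Modules) {W₁ W₂ : X.Opens} (h : W₂ ≤ W₁) (p : X) (hp : p ∈ W₂)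
    (s : M.val.obj (op W₁)) :
    (M.presheaf.germ W₂ p hp).hom (resS M h s) = (M.presheaf.germ W₁ p (h hp)).hom s :=
  TopCat.Presheaf.germ_res_apply M.presheaf (homOfLE h) p hp s

theorem res_smulA (M : X.Modules) {W₁ W₂ : X.Opens} (h : W₂ ≤ W₁) (a : A)
    (s : M.val.obj (op W₁)) :
    letI := modSecA fX M W₁
    letI := modSecA fX M W₂
    resS M h (a • s) = a • resS M h s := by
  letI := modSecA fX M W₁
  letI := modSecA fX M W₂
  change resS M h (secAlg fX W₁ a • s) = secAlg fX W₂ a • resS M h s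
  have h1 := M.val.map_smul (homOfLE h).op (secAlg fX W₁ a) s
  refine h1.trans ?_
  congr 1
  exact Coh.resTop_comp (op W₁) (op W₂) (homOfLE h).op (Coh.toGlobal fX a)

theorem app_smulA {F G : X.Modules} (u : F ⟶ G) (W : X.Opens) (a : A) (s : F.val.obj (op W)) :
    letI := modSecA fX F W
    letI := modSecA fX G W
    (u.val.app (op W)).hom (a • s) = a • (u.val.app (op W)).hom s :=
  (u.val.app (op W)).hom.map_smul (secAlg fX W a) s

/-- the stalk map as a function between stalks -/
noncomputable def stalkFn {F G : X.Modules} (u : F ⟶ G) (p : X) (z : F.presheaf.stalk p) :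
    G.presheaf.stalk p := ((DerSch.stalkFunctor X p).map u).hom z

theorem stalkFn_add {F G : X.Modules} (u : F ⟶ G) (p : X) (z w : F.presheaf.stalk p) :
    stalkFn u p (z + w) = stalkFn u p z + stalkFn u p w :=
  map_add ((DerSch.stalkFunctor X p).map u).hom z w

theorem stalkFn_germ {F G : X.Modules} (u : F ⟶ G) (p : X) (W : X.Opens) (hp : p ∈ W)
    (s : F.val.obj (op W)) :
    stalkFn u p ((F.presheaf.germ W p hp).hom s) =
      (G.presheaf.germ W p hp).hom ((u.val.app (op W)).hom s) :=
  DerSch.stalkFunctor_map_germ p u W hp s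

theorem stalk_smulA {F G : X.Modules} (u : F ⟶ G) (p : X) (a : A) (z : F.presheaf.stalk p) :
    letI := modStalkA fX F p
    letI := modStalkA fX G p
    stalkFn u p (a • z) = a • stalkFn u p z :=
  ((DerSch.stalkFunctor X p).map u).hom.map_smul (stalkAlg fX p a) z

theorem exists_affine_le (p : X) (U : X.Opens) (hp : p ∈ U) :
    ∃ W : X.Opens, IsAffineOpen W ∧ p ∈ W ∧ W ≤ U := by
  obtain ⟨_, ⟨W, hW, rfl⟩, hpW, hWU⟩ :=
    X.isBasis_affineOpens.exists_subset_of_mem_open hp U.2
  exact ⟨W, hW, hpW, hWU⟩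

theorem germ_add (M : X.Modules) (W : X.Opens) (p : X) (hp : p ∈ W) (s t : M.val.obj (op W)) :
    (M.presheaf.germ W p hp).hom (s + t) =
      (M.presheaf.germ W p hp).hom s + (M.presheaf.germ W p hp).hom t :=
  map_add (M.presheaf.germ W p hp).hom s t

theorem res_mem_smul_top (m : Ideal A) (M : X.Modules) {W₁ W₂ : X.Opens} (h : W₂ ≤ W₁)
    (s : M.val.obj (op W₁))
    (hs : letI := modSecA fX M W₁; s ∈ m • (⊤ : Submodule A (M.val.obj (op W₁)))) :
    letI := modSecA fX M W₂
    resS M h s ∈ m • (⊤ : Submodule A (M.val.obj (op W₂))) := by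
  letI := modSecA fX M W₁
  letI := modSecA fX M W₂
  refine Submodule.smul_induction_on hs ?_ ?_
  · intro a ha z _
    rw [res_smulA fX M h a z]
    exact Submodule.smul_mem_smul ha trivial
  · intro x y hx hy
    rw [resS_add]
    exact Submodule.add_mem _ hx hy

theorem germ_mem_smul_top (m : Ideal A) (M : X.Modules) (W : X.Opens) (p : X) (hp : p ∈ W)
    (s : M.val.obj (op W))
    (hs : letI := modSecA fX M W; s ∈ m • (⊤ : Submodule A (M.val.obj (op W)))) :
    letI := modStalkA fX M p
    (M.presheaf.germ W p hp).hom s ∈ m • (⊤ : Submodule A (M.presheaf.stalk p)) := by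
  letI := modSecA fX M W
  letI := modStalkA fX M p
  refine Submodule.smul_induction_on hs ?_ ?_
  · intro a ha z _
    rw [germ_smulA fX M W p hp a z]
    exact Submodule.smul_mem_smul ha trivial
  · intro x y hx hy
    exact (germ_add M W p hp x y) ▸ Submodule.add_mem _ hx hy

/-- an element of `m • M_p` is the germ of a section in `m • M(W)` over an affine neighbourhood -/
theorem exists_section_mem_smul_top (m : Ideal A) (M : X.Modules) (p : X)
    (z : M.presheaf.stalk p)
    (hz : letI := modStalkA fX M p; z ∈ m • (⊤ : Submodule A (M.presheaf.stalk p))) :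
    ∃ (W : X.Opens) (_ : IsAffineOpen W) (hp : p ∈ W) (s : M.val.obj (op W)),
      (letI := modSecA fX M W; s ∈ m • (⊤ : Submodule A (M.val.obj (op W)))) ∧
      (M.presheaf.germ W p hp).hom s = z := by
  letI := modStalkA fX M p
  refine Submodule.smul_induction_on hz ?_ ?_
  · intro a ha z _
    obtain ⟨U, hpU, s, rfl⟩ := M.presheaf.exists_germ_eq (x := p) z
    obtain ⟨W, hW, hpW, hWU⟩ := exists_affine_le p U hpU
    letI := modSecA fX M W
    refine ⟨W, hW, hpW, a • resS M hWU s, Submodule.smul_mem_smul ha trivial, ?_⟩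
    rw [germ_smulA fX M W p hpW a, germ_resS]
  · rintro x y ⟨W₁, hW₁, hp₁, s₁, hs₁, rfl⟩ ⟨W₂, hW₂, hp₂, s₂, hs₂, rfl⟩
    obtain ⟨W, hW, hpW, hWU⟩ := exists_affine_le p (W₁ ⊓ W₂) ⟨hp₁, hp₂⟩
    letI := modSecA fX M W
    refine ⟨W, hW, hpW, resS M (hWU.trans inf_le_left) s₁ + resS M (hWU.trans inf_le_right) s₂,
      Submodule.add_mem _ (res_mem_smul_top fX m M _ s₁ hs₁) (res_mem_smul_top fX m M _ s₂ hs₂),
      ?_⟩
    refine (germ_add M W p hpW _ _).trans ?_
    rw [germ_resS, germ_resS]

end Groth.Agent.Lib.helper11.FibMono
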