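import Mathlib
import Groth.Agent.Lib.Helper11.FibMono1

/-!
# The elementwise criterion `u n ∈ m G ⇒ n ∈ m F` on affine opens and on stalks (helper11)
-/

set_option autoImplicit false
universe u
open CategoryTheory CategoryTheory.Limits AlgebraicGeometry TopologicalSpace Opposite
open Scheme.Modules TensorProduct
open Groth.Agent.Lib.helper8.FlatCohBC Groth.Agent.Lib.helper21.GCCech
open Groth.Agent.Lib.helper8.PullbackUnit

namespace Groth.Agent.Lib.helper11.FibMono

section algebra

variable {A B : Type u} [CommRing A] [CommRing B] [Algebra A B]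

/-- the kernel of a base change map along a surjection `A → B` with kernel `m` is `m N` -/
theorem mem_smul_top_of_isBC (m : Ideal A)
    (hsurj : Function.Surjective (algebraMap A B)) (hker : RingHom.ker (algebraMap A B) = m)
    {N P : Type u} [AddCommGroup N] [Module A N] [AddCommGroup P] [Module B P] (k : N →+ P)
    (hk : IsBC (algebraMap A B) k) (n : N) (hn : k n = 0) : n ∈ m • (⊤ : Submodule A N) := by
  let h : N →+ B ⊗[A] N := (TensorProduct.mk A B N 1).toAddMonoidHom
  have hh : ∀ (r : A) (n : N), h (r • n) = algebraMap A B r • h n := by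
    intro r n
    change (1 : B) ⊗ₜ[A] (r • n) = algebraMap A B r • ((1 : B) ⊗ₜ[A] n)
    rw [TensorProduct.tmul_smul, TensorProduct.smul_tmul', TensorProduct.smul_tmul',
      Algebra.smul_def, smul_eq_mul]
  obtain ⟨h', hh', -⟩ := hk.existsUnique_lift (B ⊗[A] N) h hh
  have h0 : (1 : B) ⊗ₜ[A] n = 0 := by
    have := hh' n
    rw [hn, map_zero] at this
    exact this.symm
  have hsurj' : Function.Surjective (Algebra.ofId A B) := hsurj
  let e := Ideal.quotientKerAlgEquivOfSurjective hsurj'
  have h1 : (TensorProduct.mk A (A ⧸ RingHom.ker (Algebra.ofId A B)) N 1) n = 0 := by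
    have h2 := congrArg (LinearMap.rTensor N e.symm.toLinearMap) h0
    rw [map_zero, LinearMap.rTensor_tmul] at h2
    have h3 : e.symm.toLinearMap (1 : B) = 1 := map_one e.symm
    rw [h3] at h2
    exact h2
  have h4 : n ∈ LinearMap.ker (TensorProduct.mk A (A ⧸ RingHom.ker (Algebra.ofId A B)) N 1) := h1
  rw [LinearMap.ker_tensorProductMk] at h4
  have h5 : RingHom.ker (Algebra.ofId A B) = m := hker
  rw [h5] at h4
  exact h4

/-- a semilinear map to a `B`-module kills `m N` -/
theorem isBC_eq_zero_of_mem_smul_top (m : Ideal A) (hker : RingHom.ker (algebraMap A B) = m)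
    {N P : Type u} [AddCommGroup N] [Module A N] [AddCommGroup P] [Module B P] (k : N →+ P)
    (hk : IsBC (algebraMap A B) k) (n : N) (hn : n ∈ m • (⊤ : Submodule A N)) : k n = 0 := by
  refine Submodule.smul_induction_on hn ?_ ?_
  · intro a ha z _
    rw [hk.map_smul]
    have : algebraMap A B a = 0 := by
      rw [← RingHom.mem_ker, hker]
      exact ha
    rw [this, zero_smul]
  · intro x y hx hy
    rw [map_add, hx, hy, add_zero]

end algebra

section sections

open Groth.Agent.Lib.helper12.PullTensor

variable {A B : Type u} [CommRing A] [CommRing B] [Algebra A B]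
variable {X X' : Scheme.{u}} (fX : X ⟶ Spec (CommRingCat.of A))
  (fX' : X' ⟶ Spec (CommRingCat.of B)) (g' : X' ⟶ X)
  (h : IsPullback g' fX' fX (Spec.map (CommRingCat.ofHom (algebraMap A B))))
  (m : Ideal A) (hsurj : Function.Surjective (algebraMap A B))
  (hker : RingHom.ker (algebraMap A B) = m)
  {F G : X.Modules} [F.IsQuasicoherent] [G.IsQuasicoherent] (u : F ⟶ G)

include h hsurj hker in
/-- if `g'^*u` is a monomorphism then on affine opens `u n ∈ m G(W)` implies `n ∈ m F(W)` -/
theorem mem_smul_top_sections (hu : Mono ((Scheme.Modules.pullback g').map u))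
    (W : X.Opens) (hW : IsAffineOpen W) (n : F.val.obj (op W))
    (hn : letI := modSecA fX G W
      (u.val.app (op W)).hom n ∈ m • (⊤ : Submodule A (G.val.obj (op W)))) :
    letI := modSecA fX F W
    n ∈ m • (⊤ : Submodule A (F.val.obj (op W))) := by
  have bF := isBC_sections fX fX' g' h F W hW
  have bG := isBC_sections fX fX' g' h G W hW
  letI := modSec fX F W
  letI := modSec fX G W
  letI := modSec' fX' g' F W
  letI := modSec' fX' g' G W
  have e1 : ((ηM g' G).hom.app (op W)).hom ((u.val.app (op W)).hom n) = 0 :=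
    isBC_eq_zero_of_mem_smul_top m hker _ bG _ hn
  have e2 : (((Scheme.Modules.pullback g').map u).val.app (op (g' ⁻¹ᵁ W))).hom
      (unitSec g' F W n) = unitSec g' G W ((u.val.app (op W)).hom n) :=
    unitSec_naturality g' u W n
  have e3 : unitSec g' F W n = 0 := by
    apply Groth.Agent.Lib.Helper25.StalkExact.app_injective_of_mono
      ((Scheme.Modules.pullback g').map u) (g' ⁻¹ᵁ W)
    refine e2.trans ?_
    refine Eq.trans ?_ (map_zero _).symm
    exact e1
  exact mem_smul_top_of_isBC m hsurj hker _ bF n e3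

end sections

section stalks

open Groth.Agent.Lib.helper12.PullTensor

variable {A B : Type u} [CommRing A] [CommRing B] [Algebra A B]
variable {X X' : Scheme.{u}} (fX : X ⟶ Spec (CommRingCat.of A))
  (fX' : X' ⟶ Spec (CommRingCat.of B)) (g' : X' ⟶ X)
  (h : IsPullback g' fX' fX (Spec.map (CommRingCat.ofHom (algebraMap A B))))
  (m : Ideal A) (hsurj : Function.Surjective (algebraMap A B))
  (hker : RingHom.ker (algebraMap A B) = m)
  {F G : X.Modules} [F.IsQuasicoherent] [G.IsQuasicoherent] (u : F ⟶ G)

omit [F.IsQuasicoherent] [G.IsQuasicoherent] in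
theorem app_resS {W₁ W₂ : X.Opens} (hW : W₂ ≤ W₁) (s : F.val.obj (op W₁)) :
    (u.val.app (op W₂)).hom (resS F hW s) = resS G hW ((u.val.app (op W₁)).hom s) :=
  PresheafOfModules.naturality_apply u.val (homOfLE hW).op s

include h hsurj hker in
/-- the stalk version: `u_p z ∈ m G_p` implies `z ∈ m F_p` -/
theorem mem_smul_top_stalk (hu : Mono ((Scheme.Modules.pullback g').map u))
    (p : X) (z : F.presheaf.stalk p)
    (hz : letI := modStalkA fX G p
      stalkFn u p z ∈ m • (⊤ : Submodule A (G.presheaf.stalk p))) :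
    letI := modStalkA fX F p
    z ∈ m • (⊤ : Submodule A (F.presheaf.stalk p)) := by
  obtain ⟨U, hpU, n, rfl⟩ := F.presheaf.exists_germ_eq (x := p) z
  rw [stalkFn_germ] at hz
  obtain ⟨W', hW', hpW', s, hs, hgs⟩ := exists_section_mem_smul_top fX m G p _ hz
  obtain ⟨W'', hpW'', i₁, i₂, heq⟩ := TopCat.Presheaf.germ_eq G.presheaf p hpW' hpU s
    ((u.val.app (op U)).hom n) hgs
  obtain ⟨W, hW, hpW, hWW''⟩ := exists_affine_le p W'' hpW''
  have hWU : W ≤ U := hWW''.trans i₂.le
  have hWW' : W ≤ W' := hWW''.trans i₁.le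
  have e1 : (u.val.app (op W)).hom (resS F hWU n) = resS G hWW' s := by
    rw [app_resS]
    have h1 : resS G hWW' s = resS G hWW'' (resS G i₁.le s) := by
      unfold resS
      rw [← PresheafOfModules.map_comp_apply]
      rfl
    have h2 : resS G hWU ((u.val.app (op U)).hom n) =
        resS G hWW'' (resS G i₂.le ((u.val.app (op U)).hom n)) := by
      unfold resS
      rw [← PresheafOfModules.map_comp_apply]
      rfl
    rw [h1, h2]
    congr 1
    exact heq.symm
  have e2 := mem_smul_top_sections fX fX' g' h m hsurj hker u hu W hW (resS F hWU n)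
    (by rw [e1]; exact res_mem_smul_top fX m G hWW' s hs)
  have e3 := germ_mem_smul_top fX m F W p hpW _ e2
  rw [germ_resS] at e3
  exact e3

end stalks

end Groth.Agent.Lib.helper11.FibMono
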