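import Mathlib
import Groth.Agent.Lib.Helper11.FibMono2
import Groth.Agent.Lib.Helper7.KerSections
import Groth.Agent.Lib.Helper7.QCohPushQC
import Groth.Agent.Lib.Helper16.QCohPullback

/-!
# The unit `G ⟶ g_* g^* G` for a base change along a surjection `A → A/I` (helper11)

`X` over `Spec A`, `g' : X' ⟶ X` the base change along `Spec B ⟶ Spec A` with `A → B` surjective with
kernel `I`, `G` quasi-coherent on `X`:
* `unit_app_surjective` : on affine opens the unit is surjective on sections;
* `unit_app_eq_zero_iff` : its kernel on sections over an affine open `W` is `I • G(W)`;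
* `epi_unit` : the unit is an epimorphism; `isQuasicoherent_pushPull`.
-/

set_option autoImplicit false
universe u
open CategoryTheory CategoryTheory.Limits AlgebraicGeometry TopologicalSpace Opposite
open Scheme.Modules TensorProduct
open Groth.Agent.Lib.helper8.FlatCohBC Groth.Agent.Lib.helper21.GCCech
open Groth.Agent.Lib.helper8.PullbackUnit
open Groth.Agent.Lib.helper12.PullTensor
open Groth.Agent.Lib.helper11.FibMono

namespace Groth.Agent.Lib.helper11.Thick

section algebra

variable {A B : Type u} [CommRing A] [CommRing B] [Algebra A B]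

/-- a base change map along a surjective ring map is surjective -/
theorem surjective_of_isBC (hsurj : Function.Surjective (algebraMap A B))
    {N P : Type u} [AddCommGroup N] [Module A N] [AddCommGroup P] [Module B P] (k : N →+ P)
    (hk : IsBC (algebraMap A B) k) : Function.Surjective k := by
  -- the range of `k` is a `B`-submodule
  let R : Submodule B P :=
    { carrier := Set.range k
      add_mem' := by
        rintro _ _ ⟨x, rfl⟩ ⟨y, rfl⟩
        exact ⟨x + y, map_add k x y⟩
      zero_mem' := ⟨0, map_zero k⟩
      smul_mem' := by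
        rintro b _ ⟨x, rfl⟩
        obtain ⟨a, rfl⟩ := hsurj b
        exact ⟨a • x, hk.map_smul a x⟩ }
  obtain ⟨z, -, hz⟩ := hk.existsUnique_lift (P ⧸ R) (0 : N →+ P ⧸ R) (by
    intro r n
    simp)
  have h1 : R.mkQ = z := hz R.mkQ (by
    intro n
    change R.mkQ (k n) = 0
    rw [Submodule.mkQ_apply, Submodule.Quotient.mk_eq_zero]
    exact ⟨n, rfl⟩)
  have h2 : (0 : P →ₗ[B] P ⧸ R) = z := hz 0 (by intro n; rfl)
  intro p
  have h3 : R.mkQ p = 0 := by rw [h1, ← h2]; rfl
  rw [Submodule.mkQ_apply, Submodule.Quotient.mk_eq_zero] at h3
  exact h3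

end algebra

section unit

variable {A B : Type u} [CommRing A] [CommRing B] [Algebra A B]
variable {X X' : Scheme.{u}} (fX : X ⟶ Spec (CommRingCat.of A))
  (fX' : X' ⟶ Spec (CommRingCat.of B)) (g' : X' ⟶ X)
  (h : IsPullback g' fX' fX (Spec.map (CommRingCat.ofHom (algebraMap A B))))
  (I : Ideal A) (hsurj : Function.Surjective (algebraMap A B))
  (hker : RingHom.ker (algebraMap A B) = I)
  (G : X.Modules) [G.IsQuasicoherent]

/-- `g'_* g'^* G` -/
noncomputable abbrev pushPull : X.Modules :=
  (Scheme.Modules.pushforward g').obj ((Scheme.Modules.pullback g').obj G)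

/-- the unit `G ⟶ g'_* g'^* G` -/
noncomputable abbrev unitHom : G ⟶ pushPull g' G := (pbAdj g').unit.app G

include h in
theorem isAffineHom_of_isPullback : IsAffineHom g' :=
  MorphismProperty.of_isPullback h.flip inferInstance

include h in
theorem isQuasicoherent_pushPull : (pushPull g' G).IsQuasicoherent := by
  haveI := isAffineHom_of_isPullback fX fX' g' h
  haveI : ((Scheme.Modules.pullback g').obj G).IsQuasicoherent :=
    Groth.Agent.Lib.helper16.QCohPullback.isQuasicoherent_pullback g' G
  exact Groth.Agent.Lib.helper7.QCohPushQC.isQuasicoherent_pushforward g' _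

include h hsurj in
theorem unit_app_surjective (W : X.Opens) (hW : IsAffineOpen W) :
    Function.Surjective (unitSec g' G W) := by
  have bG := isBC_sections fX fX' g' h G W hW
  letI := modSec fX G W
  letI := modSec' fX' g' G W
  exact surjective_of_isBC hsurj _ bG

include h hsurj hker in
theorem unit_app_eq_zero_iff (W : X.Opens) (hW : IsAffineOpen W) (n : G.val.obj (op W)) :
    unitSec g' G W n = 0 ↔
      (letI := modSecA fX G W; n ∈ I • (⊤ : Submodule A (G.val.obj (op W)))) := by
  have bG := isBC_sections fX fX' g' h G W hW
  letI := modSec fX G W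
  letI := modSec' fX' g' G W
  constructor
  · intro hn
    exact mem_smul_top_of_isBC I hsurj hker _ bG n hn
  · intro hn
    exact isBC_eq_zero_of_mem_smul_top I hker _ bG n hn

include h hsurj in
theorem epi_unit : Epi (unitHom g' G) := by
  haveI := isQuasicoherent_pushPull fX fX' g' h G
  apply Groth.Agent.Lib.helper7.KerSections.epi_of_surjective_affine
  intro W hW
  exact unit_app_surjective fX fX' g' h hsurj G W hW

end unit

end Groth.Agent.Lib.helper11.Thick
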