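import Mathlib
import Groth.Agent.Lib.Helper11.AdicAlpha1
import Groth.Agent.Lib.Helper11.Thick1
import Groth.Agent.Lib.Lead.GE2

/-!
# The comparison `i^*(𝔞 F) ⟶ 𝔞 (i^* F)` modulo `J` (helper11)

`X` over `Spec A`, `i : X' ⟶ X` the base change of `Spec (A/𝔟) ⟶ Spec A`, `F` quasi-coherent on `X`.
If `𝔟 ≤ J * 𝔞`, the kernel of `sbPull i 𝔞 F : i^*(𝔞 F) ⟶ 𝔞 (i^* F)` lies in `J · i^*(𝔞 F)`
(`kernel_ι_sbPull_qπ`); hence its pullback to any `X₀ ⟶ X'` on which `J` acts by zero is an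
isomorphism (`isIso_pullback_map_sbPull`).
-/

set_option autoImplicit false
universe u
open CategoryTheory CategoryTheory.Limits AlgebraicGeometry Opposite TopologicalSpace

namespace Groth.Agent.Lib.helper11.AdicSys

open Formal Groth.Agent.Lib.helper8.FF Groth.Agent.Lib.helper8.FPull Groth.Agent.Lib.helper8.FCompl
  Groth.Agent.Lib.helper8.Rees Groth.Agent.Lib.Lead.GE Groth.Agent.Lib.helper11.Thick
  Groth.Agent.Lib.helper12.PullTensor Groth.Agent.Lib.helper11.FibMono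

variable {A : Type u} [CommRing A] {X X' : Scheme.{u}}
  [X.Over (Spec (CommRingCat.of A))] [X'.Over (Spec (CommRingCat.of A))]
  (i : X' ⟶ X)
  (hi : i ≫ (X ↘ Spec (CommRingCat.of A)) = X' ↘ Spec (CommRingCat.of A))
  (𝔟 : Ideal A) (fX' : X' ⟶ Spec (CommRingCat.of (A ⧸ 𝔟)))
  (h : IsPullback i fX' (X ↘ Spec (CommRingCat.of A))
    (Spec.map (CommRingCat.ofHom (algebraMap A (A ⧸ 𝔟)))))
  (F : X.Modules) [F.IsQuasicoherent]

/-- `Sb 𝔞 F ⟶ i_* (i^*(𝔞 F) / J i^*(𝔞 F))` -/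
noncomputable def nuHom (J 𝔞 : Ideal A) :
    Sb 𝔞 F ⟶ (Scheme.Modules.pushforward i).obj (Q J ((Scheme.Modules.pullback i).obj (Sb 𝔞 F))) :=
  (Scheme.Modules.pullbackPushforwardAdjunction i).unit.app (Sb 𝔞 F) ≫
    (Scheme.Modules.pushforward i).map (qπ J ((Scheme.Modules.pullback i).obj (Sb 𝔞 F)))

omit [F.IsQuasicoherent] in
include hi in
lemma smulMod_nuHom (J 𝔞 : Ideal A) {a : A} (ha : a ∈ J) :
    smulMod A (Sb 𝔞 F) a ≫ nuHom i F J 𝔞 = 0 := by
  rw [smulMod_naturality, ← pushforward_map_smulMod i hi, smulMod_Q _ ha, Functor.map_zero,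
    comp_zero]

omit [F.IsQuasicoherent] in
include hi in
/-- products `(a c) f`, `a ∈ J`, `c ∈ 𝔞`, come from sections of `𝔞 F` killed by `nuHom` -/
lemma mul_smul_mem (J 𝔞 : Ideal A) (U : X.Opens) {b : A} (hb : b ∈ J * 𝔞) (f : Γ(F, U)) :
    resA A U b • f ∈ (LinearMap.ker (appLin (nuHom i F J 𝔞) U)).map (appLin (sbι 𝔞 F) U) := by
  induction hb using Submodule.mul_induction_on' generalizing f with
  | mem_mul_mem a ha c hc =>
    refine ⟨appLin (sbLift F hc ≫ smulMod A (Sb 𝔞 F) a) U f, ?_, ?_⟩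
    · rw [SetLike.mem_coe, LinearMap.mem_ker, ← appLin_comp_apply, Category.assoc,
        smulMod_nuHom i hi F J 𝔞 ha, comp_zero]
      rfl
    · rw [← appLin_comp_apply, Category.assoc, smulMod_naturality, sbLift_ι_assoc,
        appLin_comp_apply, appLin_smulMod, appLin_smulMod, smul_smul, ← map_mul]
  | add x _ y _ hx hy =>
    rw [map_add, add_smul]
    exact Submodule.add_mem _ (hx f) (hy f)

include hi h in
/-- the kernel of `sbPull` lies in `J · i^*(𝔞 F)` -/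
theorem kernel_ι_sbPull_qπ (J 𝔞 : Ideal A) (h𝔟 : 𝔟 ≤ J * 𝔞) :
    kernel.ι (sbPull i hi 𝔞 F) ≫ qπ J ((Scheme.Modules.pullback i).obj (Sb 𝔞 F)) = 0 := by
  haveI : IsAffineHom i := isAffineHom_of_isPullback _ fX' i h
  haveI := isQuasicoherent_Sb 𝔞 F
  haveI : ((Scheme.Modules.pullback i).obj (Sb 𝔞 F)).IsQuasicoherent :=
    Groth.Agent.Lib.helper16.QCohPullback.isQuasicoherent_pullback i _
  haveI : ((Scheme.Modules.pullback i).obj F).IsQuasicoherent :=
    Groth.Agent.Lib.helper16.QCohPullback.isQuasicoherent_pullback i _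
  haveI := isQuasicoherent_Sb 𝔞 ((Scheme.Modules.pullback i).obj F)
  haveI : (kernel (sbPull i hi 𝔞 F)).IsQuasicoherent :=
    Groth.Agent.Lib.helper7.CohKer.isQuasicoherent_kernel _
  have hsurj : Function.Surjective (algebraMap A (A ⧸ 𝔟)) := Ideal.Quotient.mk_surjective
  have hker : RingHom.ker (algebraMap A (A ⧸ 𝔟)) = 𝔟 := by
    rw [Ideal.Quotient.algebraMap_eq, Ideal.mk_ker]
  refine hom_eq_zero_of_cover _ (fun U : X.affineOpens => i ⁻¹ᵁ U.1)
    (fun U => U.2.preimage i) (fun x => ?_) (fun U s => ?_)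
  · obtain ⟨_, ⟨U, hU, rfl⟩, hxU, -⟩ := (X.isBasis_affineOpens).exists_subset_of_mem_open
      (Set.mem_univ (i x)) isOpen_univ
    exact ⟨⟨U, hU⟩, hxU⟩
  · set x := appLin (kernel.ι (sbPull i hi 𝔞 F)) (i ⁻¹ᵁ U.1) s with hx
    obtain ⟨y, hy⟩ := unit_app_surjective _ fX' i h hsurj (Sb 𝔞 F) U.1 U.2 x
    have h2 : unitSec i F U.1 (appLin (sbι 𝔞 F) U.1 y) = 0 := by
      have e1 := unitSec_naturality i (sbι 𝔞 F) U.1 y
      rw [appLin_apply]
      refine e1.symm.trans ?_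
      rw [hy, ← sbPull_ι i hi 𝔞 F]
      change appLin (sbPull i hi 𝔞 F ≫ sbι 𝔞 _) (i ⁻¹ᵁ U.1) x = 0
      rw [hx, ← appLin_comp_apply, ← Category.assoc, kernel.condition, zero_comp]
      rfl
    have h3 := (unit_app_eq_zero_iff _ fX' i h 𝔟 hsurj hker F U.1 U.2 _).mp h2
    have h4 : appLin (sbι 𝔞 F) U.1 y ∈
        (LinearMap.ker (appLin (nuHom i F J 𝔞) U.1)).map (appLin (sbι 𝔞 F) U.1) := by
      letI := modSecA (X ↘ Spec (CommRingCat.of A)) F U.1
      refine Submodule.smul_induction_on h3 (fun b hb f _ => ?_)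
        (fun z₁ z₂ h₁ h₂ => Submodule.add_mem _ h₁ h₂)
      exact mul_smul_mem i hi F J 𝔞 U.1 (h𝔟 hb) f
    obtain ⟨y', hy', hyy'⟩ := h4
    have hinj := appLin_injective_of_mono (sbι 𝔞 F) U.1
    have : y' = y := hinj hyy'
    subst this
    rw [SetLike.mem_coe, LinearMap.mem_ker] at hy'
    rw [appLin_comp_apply, ← hx, ← hy]
    exact hy'

variable {X₀ : Scheme.{u}} [X₀.Over (Spec (CommRingCat.of A))] (c' : X₀ ⟶ X')
  (hc' : c' ≫ (X' ↘ Spec (CommRingCat.of A)) = X₀ ↘ Spec (CommRingCat.of A))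

include h hc' in
/-- **the comparison is an isomorphism modulo `J`** -/
theorem isIso_pullback_map_sbPull (J 𝔞 : Ideal A) (h𝔟 : 𝔟 ≤ J * 𝔞)
    (hJ₀ : ∀ (T : X₀.Modules), ∀ a ∈ J, smulMod A T a = 0) :
    IsIso ((Scheme.Modules.pullback c').map (sbPull i hi 𝔞 F)) := by
  have hk := kernel_ι_sbPull_qπ i hi 𝔟 fX' h F J 𝔞 h𝔟
  have hκ : kernel.ι (sbPull i hi 𝔞 F) =
      kernel.lift _ (kernel.ι (sbPull i hi 𝔞 F)) hk ≫
        sbι J ((Scheme.Modules.pullback i).obj (Sb 𝔞 F)) := (kernel.lift_ι _ _ _).symm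
  have h0 : (Scheme.Modules.pullback c').map (kernel.ι (sbPull i hi 𝔞 F)) = 0 := by
    rw [hκ, Functor.map_comp, pullback_map_sbι_eq_zero c' hc' J hJ₀, comp_zero]
  let S : ShortComplex X'.Modules :=
    ShortComplex.mk (kernel.ι (sbPull i hi 𝔞 F)) (sbPull i hi 𝔞 F) (kernel.condition _)
  have hS : S.Exact := ShortComplex.exact_of_f_is_kernel _ (kernelIsKernel _)
  have hS' : (S.map (Scheme.Modules.pullback c')).Exact :=
    hS.map_of_epi_of_preservesCokernel _ (inferInstanceAs (Epi (sbPull i hi 𝔞 F))) inferInstance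
  haveI : Mono ((Scheme.Modules.pullback c').map (sbPull i hi 𝔞 F)) := hS'.mono_g h0
  haveI : Epi ((Scheme.Modules.pullback c').map (sbPull i hi 𝔞 F)) := inferInstance
  exact isIso_of_mono_of_epi _

end Groth.Agent.Lib.helper11.AdicSys
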