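import Mathlib
import Groth.Agent.Lib.Helper8.ReesSys
import Groth.Agent.Lib.Helper8.DevRankD
import Groth.Agent.Lib.Helper16.QCohPullback
import Groth.Agent.Lib.Helper16.QCohPullback2

/-!
# Diagonal of a tower of graded systems; pullback of graded systems (helper11)

* `SysHom`: morphisms of helper8's graded systems `Rees.Sys`.
* `diag 𝒢 ρ hρ`: for a tower `… → 𝒢 (K+1) → 𝒢 K → …` whose maps are isomorphisms in degrees `≤ K`,
  the diagonal system `k ↦ (𝒢 k).obj k`.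
* `JointEpi 𝓜 k`: the operators `τ i k` are jointly epimorphic; `good_of_jointEpi`.
* `pullSys f 𝓜`: pullback of a graded system along a morphism of schemes.
-/

set_option autoImplicit false
universe u
open CategoryTheory CategoryTheory.Limits AlgebraicGeometry Opposite TopologicalSpace

namespace Groth.Agent.Lib.helper11.AdicSys

open Groth.Agent.Lib.helper8.Rees Scheme.Modules

attribute [local instance] Abelian.hasFiniteBiproducts

variable {X : Scheme.{u}} {σ : Type*}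

/-- a morphism of graded systems -/
structure SysHom (𝓜 𝓝 : Sys X σ) where
  /-- the components -/
  app : ∀ k, 𝓜.obj k ⟶ 𝓝.obj k
  comm : ∀ i k, 𝓜.τ i k ≫ app (k + 1) = app k ≫ 𝓝.τ i k

section Diag

variable (𝒢 : ℕ → Sys X σ) (ρ : ∀ K, SysHom (𝒢 (K + 1)) (𝒢 K))
  (hρ : ∀ K k, k ≤ K → IsIso ((ρ K).app k))

/-- the diagonal system of a tower -/
noncomputable def diag : Sys X σ where
  obj k := (𝒢 k).obj k
  τ i k := haveI := hρ k k le_rfl; inv ((ρ k).app k) ≫ (𝒢 (k + 1)).τ i k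
  comm i j k := by
    haveI := hρ k k le_rfl
    haveI := hρ (k + 1) (k + 1) le_rfl
    haveI := hρ (k + 1) k (Nat.le_succ k)
    have key : ∀ i' : σ, (𝒢 (k + 1)).τ i' k ≫ inv ((ρ (k + 1)).app (k + 1)) =
        inv ((ρ (k + 1)).app k) ≫ (𝒢 (k + 1 + 1)).τ i' k := by
      intro i'
      rw [IsIso.comp_inv_eq, Category.assoc, (ρ (k + 1)).comm, IsIso.inv_hom_id_assoc]
    simp only [Category.assoc]
    rw [← Category.assoc ((𝒢 (k + 1)).τ i k), key i, ← Category.assoc ((𝒢 (k + 1)).τ j k), key j]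
    simp only [Category.assoc]
    rw [(𝒢 (k + 1 + 1)).comm]

lemma diag_obj (k : ℕ) : (diag 𝒢 ρ hρ).obj k = (𝒢 k).obj k := rfl

lemma diag_τ (i : σ) (k : ℕ) :
    (diag 𝒢 ρ hρ).τ i k =
      (haveI := hρ k k le_rfl; inv ((ρ k).app k)) ≫ (𝒢 (k + 1)).τ i k := rfl

include hρ in
/-- below the diagonal all the systems of the tower agree with the diagonal -/
theorem nonempty_iso_diag (k c : ℕ) : Nonempty ((𝒢 (k + c)).obj k ≅ (diag 𝒢 ρ hρ).obj k) := by
  induction c with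
  | zero => exact ⟨Iso.refl _⟩
  | succ c ih =>
    obtain ⟨e⟩ := ih
    haveI := hρ (k + c) k (Nat.le_add_right k c)
    exact ⟨asIso ((ρ (k + c)).app k) ≪≫ e⟩

end Diag

section JointEpi

/-- the operators `τ i k` are jointly epimorphic -/
def JointEpi (𝓜 : Sys X σ) (k : ℕ) : Prop :=
  ∀ ⦃Z : X.Modules⦄ (g h : 𝓜.obj (k + 1) ⟶ Z), (∀ i, 𝓜.τ i k ≫ g = 𝓜.τ i k ≫ h) → g = h

theorem jointEpi_of_epi_desc {r : ℕ} (𝓜 : Sys X (Fin r)) (k : ℕ)
    (h : Epi (biproduct.desc (fun i => 𝓜.τ i k))) : JointEpi 𝓜 k := by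
  intro Z g g' hg
  rw [← cancel_epi (biproduct.desc (fun i => 𝓜.τ i k))]
  apply biproduct.hom_ext'
  intro i
  rw [biproduct.ι_desc_assoc, biproduct.ι_desc_assoc]
  exact hg i

theorem epi_desc_of_jointEpi {r : ℕ} (𝓜 : Sys X (Fin r)) (k : ℕ) (h : JointEpi 𝓜 k) :
    Epi (biproduct.desc (fun i => 𝓜.τ i k)) := by
  refine ⟨fun g g' hg => h g g' (fun i => ?_)⟩
  have := congrArg (fun φ => biproduct.ι (fun _ : Fin r => 𝓜.obj k) i ≫ φ) hg
  simpa using this

/-- sections over affine opens: jointly epimorphic operators are jointly surjective -/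
theorem iSup_range_eq_top_of_jointEpi {r : ℕ} (𝓜 : Sys X (Fin r)) (k : ℕ)
    (hq : ∀ k, (𝓜.obj k).IsQuasicoherent) (h : JointEpi 𝓜 k) {U : X.Opens} (hU : IsAffineOpen U) :
    (⨆ i : (Finset.univ : Finset (Fin r)), LinearMap.range (appLin (𝓜.τ i k) U)) = ⊤ := by
  rw [eq_top_iff]
  intro y _
  haveI := epi_desc_of_jointEpi 𝓜 k h
  haveI : ∀ k, (𝓜.obj k).IsQuasicoherent := hq
  haveI : (⨁ fun _ : Fin r => 𝓜.obj k).IsQuasicoherent :=
    Groth.Agent.Lib.helper8.Dev.isQuasicoherent_biproduct _ (fun _ => inferInstance)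
  obtain ⟨x, rfl⟩ := appLin_surjective_of_epi (biproduct.desc (fun i => 𝓜.τ i k)) hU y
  rw [appLin_apply, Groth.Agent.Lib.helper8.Dev.biproduct_desc_app]
  refine Submodule.sum_mem _ (fun i _ => ?_)
  exact Submodule.mem_iSup_of_mem (⟨i, Finset.mem_univ i⟩ : (Finset.univ : Finset (Fin r)))
    ⟨_, rfl⟩

theorem good_of_jointEpi {r : ℕ} (𝓜 : Sys X (Fin r)) (hc : ∀ k, Coh.IsCoh (𝓜.obj k))
    (h : ∀ k, JointEpi 𝓜 k) : Good 𝓜 Finset.univ :=
  ⟨hc, fun _ hU => ⟨0, fun k _ =>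
    iSup_range_eq_top_of_jointEpi 𝓜 k (fun k => (hc k).1) (h k) hU⟩⟩

variable (𝒢 : ℕ → Sys X σ) (ρ : ∀ K, SysHom (𝒢 (K + 1)) (𝒢 K))
  (hρ : ∀ K k, k ≤ K → IsIso ((ρ K).app k))

theorem jointEpi_diag (k : ℕ) (h : JointEpi (𝒢 (k + 1)) k) : JointEpi (diag 𝒢 ρ hρ) k := by
  intro Z g g' hg
  refine h g g' (fun i => ?_)
  haveI := hρ k k le_rfl
  have h1 : (inv ((ρ k).app k) ≫ (𝒢 (k + 1)).τ i k) ≫ g =
      (inv ((ρ k).app k) ≫ (𝒢 (k + 1)).τ i k) ≫ g' := hg i
  have h2 : inv ((ρ k).app k) ≫ ((𝒢 (k + 1)).τ i k ≫ g) =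
      inv ((ρ k).app k) ≫ ((𝒢 (k + 1)).τ i k ≫ g') := by
    simpa only [Category.assoc] using h1
  exact (cancel_epi (inv ((ρ k).app k))).mp h2

end JointEpi

section Pull

variable {Y : Scheme.{u}} (f : Y ⟶ X)

/-- pullback of a graded system -/
noncomputable def pullSys (𝓜 : Sys X σ) : Sys Y σ where
  obj k := (Scheme.Modules.pullback f).obj (𝓜.obj k)
  τ i k := (Scheme.Modules.pullback f).map (𝓜.τ i k)
  comm i j k := by rw [← Functor.map_comp, ← Functor.map_comp, 𝓜.comm]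

theorem jointEpi_pullSys (𝓜 : Sys X σ) (k : ℕ) (h : JointEpi 𝓜 k) : JointEpi (pullSys f 𝓜) k := by
  intro Z g g' hg
  apply ((pullbackPushforwardAdjunction f).homEquiv _ _).injective
  refine h _ _ (fun i => ?_)
  rw [← Adjunction.homEquiv_naturality_left, ← Adjunction.homEquiv_naturality_left]
  exact congrArg _ (hg i)

theorem isCoh_pullSys (𝓜 : Sys X σ) (hc : ∀ k, Coh.IsCoh (𝓜.obj k)) (k : ℕ) :
    Coh.IsCoh ((pullSys f 𝓜).obj k) := by
  haveI := (hc k).1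
  exact ⟨Groth.Agent.Lib.helper16.QCohPullback.isQuasicoherent_pullback f _,
    Groth.Agent.Lib.helper16.QCohPullback2.isFiniteType_pullback f _ (hc k).2⟩

end Pull

end Groth.Agent.Lib.helper11.AdicSys
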