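import Mathlib
import Groth.Prelude.Def_CohB1
import Groth.Prelude.Def_Formal
import Groth.Agent.Lib.Helper8.FormalBasic

/-!
# Adic systems of schemes (helper11)

`AdicData A J`: schemes `X_k` over `Spec (A / J^(k+1))` with cartesian transition maps.  Each `X_k` is a
scheme over `Spec A`; `cc K : X_0 ⟶ X_K` is the composite of the transition maps; it is the base change
of `Spec (A/J) ⟶ Spec A` along `X_K ⟶ Spec A`.  `J^(K+1)` acts by zero on every `O_{X_K}`-module.
-/

set_option autoImplicit false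
universe u
open CategoryTheory CategoryTheory.Limits AlgebraicGeometry Opposite TopologicalSpace

namespace Groth.Agent.Lib.helper11.AdicSys

open Formal Groth.Agent.Lib.helper8.FF

/-- `toGlobal` of a composite with `Spec.map` -/
lemma toGlobal_comp_specMap {A B : Type u} [CommRing A] [CommRing B] {X : Scheme.{u}}
    (f : X ⟶ Spec (CommRingCat.of B)) (φ : A →+* B) (a : A) :
    Coh.toGlobal (f ≫ Spec.map (CommRingCat.ofHom φ)) a = Coh.toGlobal f (φ a) := by
  unfold Coh.toGlobal
  have h := Scheme.ΓSpecIso_inv_naturality (CommRingCat.ofHom φ)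
  have h2 := congrArg (fun ψ => ψ.hom a) h
  simp only [CommRingCat.hom_comp, RingHom.comp_apply, CommRingCat.hom_ofHom] at h2
  simp only [Scheme.Hom.comp_appTop, CommRingCat.hom_comp]
  exact congrArg _ h2.symm

/-- mono-cancellation for pullback squares -/
lemma isPullback_comp_mono {C : Type*} [Category C] {P X Y S T : C} {fst : P ⟶ X} {snd : P ⟶ Y}
    {f : X ⟶ S} {g : Y ⟶ S} (h : IsPullback fst snd f g) (m : S ⟶ T) [Mono m] :
    IsPullback fst snd (f ≫ m) (g ≫ m) := by
  have hb : IsPullback f (𝟙 X) m (f ≫ m) := IsPullback.of_vert_isIso_mono ⟨by simp⟩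
  have := h.flip.paste_vert hb
  simpa using this.flip

/-- an adic system of schemes -/
structure AdicData (A : Type u) [CommRing A] (J : Ideal A) where
  /-- the levels -/
  Xs : ℕ → Scheme.{u}
  /-- the structure morphisms -/
  p : ∀ k, Xs k ⟶ Spec (CommRingCat.of (A ⧸ J ^ (k + 1)))
  /-- the transition maps -/
  i : ∀ k, Xs k ⟶ Xs (k + 1)
  hcart : ∀ k, IsPullback (i k) (p k) (p (k + 1)) (CohB1.specQuotTrans J k)

namespace AdicData

variable {A : Type u} [CommRing A] {J : Ideal A} (D : AdicData A J)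

noncomputable instance overSpec (k : ℕ) : (D.Xs k).Over (Spec (CommRingCat.of A)) :=
  ⟨D.p k ≫ CohB1.specQuot J k⟩

lemma over_hom (k : ℕ) : (D.Xs k ↘ Spec (CommRingCat.of A)) = D.p k ≫ CohB1.specQuot J k := rfl

lemma hi (k : ℕ) :
    D.i k ≫ (D.Xs (k + 1) ↘ Spec (CommRingCat.of A)) = D.Xs k ↘ Spec (CommRingCat.of A) := by
  rw [over_hom, over_hom, ← Category.assoc, (D.hcart k).w, Category.assoc,
    CohB1.specQuotTrans_specQuot]

/-- the composite `X_0 ⟶ X_K` -/
noncomputable def cc : ∀ K, D.Xs 0 ⟶ D.Xs K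
  | 0 => 𝟙 _
  | K + 1 => cc K ≫ D.i K

lemma cc_succ (K : ℕ) : D.cc (K + 1) = D.cc K ≫ D.i K := rfl

lemma hcc (K : ℕ) :
    D.cc K ≫ (D.Xs K ↘ Spec (CommRingCat.of A)) = D.Xs 0 ↘ Spec (CommRingCat.of A) := by
  induction K with
  | zero => exact Category.id_comp _
  | succ K ih => rw [cc_succ, Category.assoc, D.hi K, ih]

/-- the composite `Spec (A/J) ⟶ Spec (A/J^(K+1))` -/
noncomputable def tt : ∀ K, Spec (CommRingCat.of (A ⧸ J ^ (0 + 1))) ⟶
    Spec (CommRingCat.of (A ⧸ J ^ (K + 1)))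
  | 0 => 𝟙 _
  | K + 1 => tt K ≫ CohB1.specQuotTrans J K

lemma tt_specQuot (K : ℕ) : tt (J := J) K ≫ CohB1.specQuot J K = CohB1.specQuot J 0 := by
  induction K with
  | zero => exact Category.id_comp _
  | succ K ih =>
    change (tt K ≫ CohB1.specQuotTrans J K) ≫ _ = _
    rw [Category.assoc, CohB1.specQuotTrans_specQuot, ih]

lemma isPullback_cc (K : ℕ) : IsPullback (D.cc K) (D.p 0) (D.p K) (tt K) := by
  induction K with
  | zero =>
    haveI : IsIso (D.cc 0) := inferInstanceAs (IsIso (𝟙 _))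
    haveI : IsIso (tt (J := J) 0) := inferInstanceAs (IsIso (𝟙 _))
    exact IsPullback.of_horiz_isIso ⟨by simp [cc, tt]⟩
  | succ K ih => exact ih.paste_horiz (D.hcart K)

instance mono_specQuot (k : ℕ) : Mono (CohB1.specQuot J k) := by
  unfold CohB1.specQuot
  haveI : IsClosedImmersion (Spec.map (CommRingCat.ofHom (Ideal.Quotient.mk (J ^ (k + 1))))) :=
    IsClosedImmersion.spec_of_surjective _ Ideal.Quotient.mk_surjective
  infer_instance

/-- `X_K` is the base change of `X_(K+1)` along `Spec (A/J^(K+1)) ⟶ Spec A` -/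
lemma isPullback_i_over (K : ℕ) :
    IsPullback (D.i K) (D.p K) (D.Xs (K + 1) ↘ Spec (CommRingCat.of A))
      (Spec.map (CommRingCat.ofHom (algebraMap A (A ⧸ J ^ (K + 1))))) := by
  have h := isPullback_comp_mono (D.hcart K) (CohB1.specQuot J (K + 1))
  rw [CohB1.specQuotTrans_specQuot] at h
  exact h

/-- `X_0` is the base change of `X_K` along `Spec (A/J) ⟶ Spec A` -/
lemma isPullback_cc_over (K : ℕ) :
    IsPullback (D.cc K) (D.p 0) (D.Xs K ↘ Spec (CommRingCat.of A))
      (Spec.map (CommRingCat.ofHom (algebraMap A (A ⧸ J ^ (0 + 1))))) := by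
  have h := isPullback_comp_mono (D.isPullback_cc K) (CohB1.specQuot J K)
  rw [tt_specQuot] at h
  exact h

instance isClosedImmersion_i (K : ℕ) : IsClosedImmersion (D.i K) := by
  haveI : IsClosedImmersion (CohB1.specQuotTrans J K) := by
    unfold CohB1.specQuotTrans
    exact IsClosedImmersion.spec_of_surjective _
      (Ideal.Quotient.factor_surjective (Ideal.pow_le_pow_right (Nat.le_succ (K + 1))))
  exact MorphismProperty.of_isPullback (D.hcart K).flip inferInstance

instance isClosedImmersion_cc (K : ℕ) : IsClosedImmersion (D.cc K) := by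
  induction K with
  | zero => exact inferInstanceAs (IsClosedImmersion (𝟙 _))
  | succ K ih => exact inferInstanceAs (IsClosedImmersion (D.cc K ≫ D.i K))

/-- `J^(K+1)` acts by zero on every `O_{X_K}`-module -/
lemma smulMod_eq_zero (K : ℕ) (T : (D.Xs K).Modules) {a : A} (ha : a ∈ J ^ (K + 1)) :
    smulMod A T a = 0 := by
  unfold smulMod
  rw [over_hom]
  unfold CohB1.specQuot
  rw [toGlobal_comp_specMap, (Ideal.Quotient.eq_zero_iff_mem).mpr ha, map_zero, smulModΓ_zero]

lemma smulMod_eq_zero' (T : (D.Xs 0).Modules) {a : A} (ha : a ∈ J) : smulMod A T a = 0 :=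
  D.smulMod_eq_zero 0 T (by simpa using ha)

/-- `J^(K+1)` acts by zero, weak form -/
lemma smulMod_eq_zero_of_le (K : ℕ) (T : (D.Xs K).Modules) {𝔞 : Ideal A} (h𝔞 : 𝔞 ≤ J ^ (K + 1))
    {a : A} (ha : a ∈ 𝔞) : smulMod A T a = 0 := D.smulMod_eq_zero K T (h𝔞 ha)

end AdicData

end Groth.Agent.Lib.helper11.AdicSys
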