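import Mathlib
import Groth.Agent.Lib.Helper11.AdicDiag
import Groth.Agent.Lib.Helper11.AdicAlpha2
import Groth.Agent.Lib.Helper11.AdicTower
import Groth.Agent.Lib.Helper8.FiniteGeneric

/-!
# The graded system `gr_J F` of a compatible system of coherent modules on an adic system (helper11)

For an adic system `X_k` over `Spec (A/J^(k+1))`, coherent modules `F_k` with `i_k^* F_(k+1) ≅ F_k` and
generators `a_1, …, a_r` of `J`: the systems `𝒢 K = c_K^* (J^k F_K)_k` on `X_0`, the comparison maps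
`ρ K : 𝒢 (K+1) ⟶ 𝒢 K` (isomorphisms in degrees `≤ K`) and the diagonal system `grSys`, which is good.
-/

set_option autoImplicit false
universe u
open CategoryTheory CategoryTheory.Limits AlgebraicGeometry Opposite TopologicalSpace

namespace Groth.Agent.Lib.helper11.AdicSys

open Formal Groth.Agent.Lib.helper8.FF Groth.Agent.Lib.helper8.FPull Groth.Agent.Lib.helper8.Rees
  Scheme.Modules

attribute [local instance] Abelian.hasFiniteBiproducts

/-- the pieces `I^k F` of the Rees system are coherent (no Noetherian hypothesis) -/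
theorem isCoh_reesSys' {A : Type u} [CommRing A] {X : Scheme.{u}} [X.Over (Spec (CommRingCat.of A))]
    {r : ℕ} (a : Fin r → A) (F : X.Modules) (hF : Coh.IsCoh F) :
    ∀ k, Coh.IsCoh ((reesSys a F).obj k) := by
  haveI : F.IsQuasicoherent := hF.1
  intro k
  induction k with
  | zero =>
    have h0 : Ideal.span (Set.range a) ^ 0 = ⊤ := by rw [pow_zero, Ideal.one_eq_top]
    have key : ∀ 𝔞 : Ideal A, 𝔞 = ⊤ → Coh.IsCoh (Sb 𝔞 F) := by
      rintro _ rfl
      let e : F ≅ Sb (⊤ : Ideal A) F := (asIso (sbι (⊤ : Ideal A) F)).symm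
      exact ⟨(SheafOfModules.isQuasicoherent X.ringCatSheaf).prop_of_iso e hF.1,
        Groth.Agent.Lib.helper7.CohKer.isFiniteType_of_epi e.hom hF.2⟩
    exact key _ h0
  | succ k ih =>
    haveI := epi_desc_reesSys a F k
    refine ⟨Groth.Agent.Lib.Lead.GE.isQuasicoherent_Sb _ F, ?_⟩
    exact Groth.Agent.Lib.helper7.CohKer.isFiniteType_of_epi
      (biproduct.desc (fun i => (reesSys a F).τ i k))
      (Groth.Agent.Lib.helper8.Dev.isCoh_biproduct _ (fun _ => ih)).2

namespace AdicData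

variable {A : Type u} [CommRing A] {J : Ideal A} (D : AdicData A J)
  {r : ℕ} (a : Fin r → A) (ha : Ideal.span (Set.range a) = J)
  (F : ∀ k, (D.Xs k).Modules) (hF : ∀ k, Coh.IsCoh (F k))
  (ψ : ∀ k, (Scheme.Modules.pullback (D.i k)).obj (F (k + 1)) ≅ F k)

/-- the Rees system of `F_K` pulled back to `X_0` -/
noncomputable def 𝒢 (K : ℕ) : Sys (D.Xs 0) (Fin r) := pullSys (D.cc K) (reesSys a (F K))

/-- the comparison `𝒢 (K+1) ⟶ 𝒢 K` -/
noncomputable def ρ (K : ℕ) : SysHom (D.𝒢 a F (K + 1)) (D.𝒢 a F K) where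
  app k := (pullbackComp (D.cc K) (D.i K)).inv.app (Sb (Ideal.span (Set.range a) ^ k) (F (K + 1))) ≫
    (Scheme.Modules.pullback (D.cc K)).map
      (sbPull (D.i K) (D.hi K) (Ideal.span (Set.range a) ^ k) (F (K + 1)) ≫
        sbMap (Ideal.span (Set.range a) ^ k) (ψ K).hom)
  comm j k := by
    have h1 := (pullbackComp (D.cc K) (D.i K)).inv.naturality
      (sbMul (a j) (mul_mem_pow_succ a j k) (F (K + 1)))
    have h2 : (Scheme.Modules.pullback (D.i K)).map
          (sbMul (a j) (mul_mem_pow_succ a j k) (F (K + 1))) ≫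
        (sbPull (D.i K) (D.hi K) (Ideal.span (Set.range a) ^ (k + 1)) (F (K + 1)) ≫
          sbMap (Ideal.span (Set.range a) ^ (k + 1)) (ψ K).hom) =
        (sbPull (D.i K) (D.hi K) (Ideal.span (Set.range a) ^ k) (F (K + 1)) ≫
          sbMap (Ideal.span (Set.range a) ^ k) (ψ K).hom) ≫
          sbMul (a j) (mul_mem_pow_succ a j k) (F K) := by
      rw [map_sbMul_sbPull_assoc, Category.assoc, sbMul_sbMap]
    have h3 := congrArg (fun φ => (Scheme.Modules.pullback (D.cc K)).map φ) h2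
    simp only [Functor.map_comp] at h3
    change (Scheme.Modules.pullback (D.cc K ≫ D.i K)).map
        (sbMul (a j) (mul_mem_pow_succ a j k) (F (K + 1))) ≫
        ((pullbackComp (D.cc K) (D.i K)).inv.app
          (Sb (Ideal.span (Set.range a) ^ (k + 1)) (F (K + 1))) ≫
        (Scheme.Modules.pullback (D.cc K)).map
          (sbPull (D.i K) (D.hi K) (Ideal.span (Set.range a) ^ (k + 1)) (F (K + 1)) ≫
            sbMap (Ideal.span (Set.range a) ^ (k + 1)) (ψ K).hom)) =
      ((pullbackComp (D.cc K) (D.i K)).inv.app (Sb (Ideal.span (Set.range a) ^ k) (F (K + 1))) ≫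
        (Scheme.Modules.pullback (D.cc K)).map
          (sbPull (D.i K) (D.hi K) (Ideal.span (Set.range a) ^ k) (F (K + 1)) ≫
            sbMap (Ideal.span (Set.range a) ^ k) (ψ K).hom)) ≫
        (Scheme.Modules.pullback (D.cc K)).map (sbMul (a j) (mul_mem_pow_succ a j k) (F K))
    rw [reassoc_of% h1, Category.assoc]
    simp only [Functor.map_comp, Category.assoc]
    exact congrArg _ h3

include ha hF in
theorem isIso_ρ_app (K k : ℕ) (hk : k ≤ K) : IsIso ((D.ρ a F ψ K).app k) := by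
  haveI : (F (K + 1)).IsQuasicoherent := (hF _).1
  have h𝔟 : J ^ (K + 1) ≤ J * Ideal.span (Set.range a) ^ k := by
    rw [ha, ← pow_succ']
    exact Ideal.pow_le_pow_right (by omega)
  haveI := isIso_pullback_map_sbPull (D.i K) (D.hi K) (J ^ (K + 1)) (D.p K) (D.isPullback_i_over K)
    (F (K + 1)) (D.cc K) (D.hcc K) J (Ideal.span (Set.range a) ^ k) h𝔟
    (fun T _ ha' => D.smulMod_eq_zero' T ha')
  have h1 : IsIso ((pullbackComp (D.cc K) (D.i K)).inv.app
      (Sb (Ideal.span (Set.range a) ^ k) (F (K + 1)))) :=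
    inferInstanceAs (IsIso (((pullbackComp (D.cc K) (D.i K)).app _).inv))
  have h2 : IsIso ((Scheme.Modules.pullback (D.cc K)).map
      (sbMap (Ideal.span (Set.range a) ^ k) (ψ K).hom)) := inferInstance
  have h3 : IsIso ((Scheme.Modules.pullback (D.cc K)).map
      (sbPull (D.i K) (D.hi K) (Ideal.span (Set.range a) ^ k) (F (K + 1)) ≫
        sbMap (Ideal.span (Set.range a) ^ k) (ψ K).hom)) := by
    rw [Functor.map_comp]
    infer_instance
  exact IsIso.comp_isIso' h1 h3

/-- the graded system `gr_J F` on `X_0` -/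
noncomputable def grSys : Sys (D.Xs 0) (Fin r) :=
  diag (D.𝒢 a F) (D.ρ a F ψ) (D.isIso_ρ_app a ha F hF ψ)

theorem jointEpi_𝒢 (K k : ℕ) : JointEpi (D.𝒢 a F K) k :=
  jointEpi_pullSys _ _ _ (jointEpi_of_epi_desc _ _ (epi_desc_reesSys a (F K) k))

include hF in
theorem isCoh_𝒢 (K k : ℕ) : Coh.IsCoh ((D.𝒢 a F K).obj k) :=
  isCoh_pullSys _ _ (isCoh_reesSys' a (F K) (hF K)) k

theorem good_grSys : Good (D.grSys a ha F hF ψ) Finset.univ :=
  good_of_jointEpi _ (fun k => D.isCoh_𝒢 a F hF k k)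
    (fun k => jointEpi_diag _ _ _ k (D.jointEpi_𝒢 a F (k + 1) k))

/-- below the diagonal, `c_K^*(J^k F_K)` is the `k`-th piece of `gr_J F` -/
theorem nonempty_iso_grSys (K k : ℕ) (hk : k ≤ K) :
    Nonempty ((Scheme.Modules.pullback (D.cc K)).obj (Sb (Ideal.span (Set.range a) ^ k) (F K)) ≅
      (D.grSys a ha F hF ψ).obj k) := by
  obtain ⟨c, rfl⟩ : ∃ c, K = k + c := ⟨K - k, by omega⟩
  exact nonempty_iso_diag (D.𝒢 a F) (D.ρ a F ψ) (D.isIso_ρ_app a ha F hF ψ) k c

end AdicData

end Groth.Agent.Lib.helper11.AdicSys
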