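import Groth.Agent.Lib.Helper11.CounitEpi
import Groth.Agent.Lib.Helper11.SerreCrit
import Groth.Agent.Lib.Helper12.GlobGen
import Groth.Agent.Lib.Helper12.TwistLocal
import Groth.Agent.Lib.Helper12.PullTensor
import Groth.Agent.Lib.Helper16.Satur5

/-!
# Ampleness / quasi-affineness from global generation of twisted ideals (helper11)

EGA II 4.5.2 (b') ⇒ (a), 4.5.5 (c) ⇒ (a), 5.1.2 (e') ⇒ (a), 4.6.8.
-/

set_option autoImplicit false
universe u
open CategoryTheory CategoryTheory.Limits AlgebraicGeometry TopologicalSpace Opposite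
open Scheme.Modules
open Groth.Agent.Lib.helper11.IsoLocus Groth.Agent.Lib.helper11.InvMod
open Groth.Agent.Lib.helper11.GenLocus
open Groth.Agent.Lib.helper12.TensorRestrict Groth.Agent.Lib.helper12.TensorInv
open Groth.Agent.Lib.helper12.TensorSec Groth.Agent.Lib.helper12.TwistLocal
open Groth.Agent.Lib.helper12.PullTensor
open Groth.Agent.Lib.Lead.ModTensor
open Groth.Agent.Lib.helper12.TwistKill Groth.Agent.Lib.helper12.SecExtend
open Groth.Agent.Lib.helper11.InvHom Groth.Agent.Lib.helper11.InvPullback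
open Groth.Agent.Lib.helper7 Groth.Agent.Lib.helper16.Satur Groth.Agent.Lib.helper11.SerreCrit
open Groth.Agent.Lib.helper11.CounitEpi

namespace Groth.Agent.Lib.helper11.IdealGG

variable {X : Scheme.{u}}

/-- naturality of `tensorTrivIso` in the first variable -/
theorem tensorTrivIso_naturality {F F' : X.Modules} (φ : F ⟶ F') (L' : X.Modules) (U : X.Opens)
    (e : L'.restrict U.ι ≅ Coh.structureModule (↑U : Scheme.{u})) :
    (restrictFunctor U.ι).map (tensorMap φ (𝟙 L')) ≫ (tensorTrivIso F' L' U e).hom =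
      (tensorTrivIso F L' U e).hom ≫ (restrictFunctor U.ι).map φ := by
  rw [← cancel_epi (restrictTensorIso U.ι F L').inv]
  apply tensorMod_hom_ext
  intro V m n
  change ((tensorTrivIso F' L' U e).hom.val.app (op V)).hom
      (((tensorMap φ (𝟙 L')).val.app (op (U.ι ''ᵁ V))).hom
        (((restrictTensorIso U.ι F L').inv.val.app (op V)).hom _)) =
    (φ.val.app (op (U.ι ''ᵁ V))).hom
      (((tensorTrivIso F L' U e).hom.val.app (op V)).hom
        (((restrictTensorIso U.ι F L').inv.val.app (op V)).hom _))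
  rw [restrictTensorIso_inv_tmul, tensorMap_tmul, tensorTrivIso_hom_tmul, tensorTrivIso_hom_tmul]
  exact (map_smul ((((restrictFunctor U.ι).map φ).val.app (op V)).hom)
    (show (↑U : Scheme.{u}).ringCatSheaf.obj.obj (op V) from (e.hom.val.app (op V)).hom n)
    (show ((restrictFunctor U.ι).obj F).val.obj (op V) from m)).symm

/-- all functions in the image of `i : H ⟶ O_X` vanish outside `U` -/
def VanishOff {H : X.Modules} (i : H ⟶ Coh.structureModule X) (U : X.Opens) : Prop :=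
  ∀ (W : X.Opens) (a : Γ(H, W)), X.basicOpen (show Γ(X, W) from (i.app W).hom a) ≤ U

/-- sections of `N` coming from `H ⊗ N`, where the functions in `H` vanish outside `U`, generate
`N` only inside `U` -/
theorem genLocus_tensorMap_le {H N : X.Modules} (hN : PicF.IsInvertible N)
    (i : H ⟶ Coh.structureModule X) {U : X.Opens} (hv : VanishOff i U)
    (t : Coh.structureModule X ⟶ CohB1.tensorMod H N) :
    CohB1.genLocus (CohB1.tensorMod (Coh.structureModule X) N) (t ≫ tensorMap i (𝟙 N)) ≤ U := by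
  intro y hy
  obtain ⟨A, hA, hyA, -, ⟨e⟩⟩ := exists_affine_isTrivOn hN y ⊤ trivial
  let eM := restrictUnitIso A.ι
  let eN := tensorTrivIso (Coh.structureModule X) N A e ≪≫ restrictUnitIso A.ι
  have h1 := isoLocus_inf_eq_basicOpen_localFn (t ≫ tensorMap i (𝟙 N)) eM eN
  have hy' : y ∈ X.basicOpen (localFn (t ≫ tensorMap i (𝟙 N)) eM eN) := by
    rw [← h1]
    refine ⟨?_, hyA⟩
    rw [← genLocus_eq_isoLocus]
    exact hy
  let ψ : Coh.structureModule (↑A : Scheme.{u}) ⟶ H.restrict A.ι :=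
    eM.inv ≫ (restrictFunctor A.ι).map t ≫ (tensorTrivIso H N A e).hom
  have h2 : localEnd (t ≫ tensorMap i (𝟙 N)) eM eN =
      ψ ≫ (restrictFunctor A.ι).map i ≫ (restrictUnitIso A.ι).hom := by
    have hn := tensorTrivIso_naturality i N A e
    simp only [localEnd, ψ, eN, Functor.map_comp, Iso.trans_hom, Category.assoc]
    rw [← Category.assoc ((restrictFunctor A.ι).map (tensorMap i (𝟙 N))), hn]
    simp only [Category.assoc]
  let a' : Γ(H, A.ι ''ᵁ ⊤) := SecTwist.val ψ ⊤
  have h3 : localFn (t ≫ tensorMap i (𝟙 N)) eM eN =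
      X.presheaf.map (eqToHom A.ι_image_top.symm).op
        (show Γ(X, A.ι ''ᵁ ⊤) from (i.app (A.ι ''ᵁ ⊤)).hom a') := by
    unfold localFn
    rw [h2, Scheme.Opens.topIso_hom]
    have h4 : fn (ψ ≫ (restrictFunctor A.ι).map i ≫ (restrictUnitIso A.ι).hom) ⊤ =
        (A.ι.appIso ⊤).hom (show Γ(X, A.ι ''ᵁ ⊤) from (i.app (A.ι ''ᵁ ⊤)).hom a') := rfl
    rw [h4, Scheme.Opens.ι_appIso]
    rfl
  rw [h3, Scheme.basicOpen_res] at hy'
  exact hv _ a' hy'.2

/-- If `p : free κ ⟶ H` is epi and `j : H ⟶ L` is an isomorphism near `x`, with `L` invertible,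
then one of the basis sections generates `L` at `x` (adapted from helper12's `GlobGen`). -/
theorem exists_mem_genLocus_of_epi_comp {H L : X.Modules} (hL : PicF.IsInvertible L) {κ : Type u}
    (p : (SheafOfModules.free κ : X.Modules) ⟶ H) [Epi p] (j : H ⟶ L) (x : X)
    (hx : x ∈ isoLocus j) :
    ∃ k, x ∈ CohB1.genLocus L (SheafOfModules.ιFree k ≫ p ≫ j) := by
  obtain ⟨A, hA, hxA, hAle, ⟨e⟩⟩ := exists_affine_isTrivOn hL x (isoLocus j) hx
  have hjA : IsIso ((restrictFunctor A.ι).map j) := (le_isoLocus_iff j A).mp hAle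
  by_contra hcon
  push Not at hcon
  let x' : (↑A : Scheme.{u}) := ⟨x, hxA⟩
  let g := (↑A : Scheme.{u}).fromSpecResidueField x'
  let c := unitToPush g
  let adj := restrictAdjunction A.ι
  let ψ : L ⟶ (pushforward A.ι).obj ((pushforward g).obj (Coh.structureModule _)) :=
    adj.homEquiv _ _ (e.hom ≫ c)
  have hz : ∀ (M : X.Modules) (N : (↑A : Scheme.{u}).Modules),
      adj.homEquiv M N 0 = 0 := by
    intro M N
    rw [adj.homEquiv_unit, Functor.map_zero, comp_zero]
  have h0 : ∀ k, (SheafOfModules.ιFree k ≫ p ≫ j) ≫ ψ = 0 := by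
    intro k
    have h1 : (SheafOfModules.ιFree k ≫ p ≫ j) ≫ ψ =
        adj.homEquiv _ _ ((restrictFunctor A.ι).map (SheafOfModules.ιFree k ≫ p ≫ j) ≫ e.hom ≫ c) :=
      (adj.homEquiv_naturality_left _ _).symm
    rw [h1]
    have h2 : (restrictFunctor A.ι).map (SheafOfModules.ιFree k ≫ p ≫ j) ≫ e.hom ≫ c = 0 := by
      have h3 : localEnd (SheafOfModules.ιFree k ≫ p ≫ j) (restrictUnitIso A.ι) e ≫ c = 0 := by
        refine (isZeroOn_top_iff _).mp ((isZeroOn_iff_sec _ ⊤).mpr ?_)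
        have e1 : sec (localEnd (SheafOfModules.ιFree k ≫ p ≫ j) (restrictUnitIso A.ι) e ≫ c) ⊤ =
            g.app ⊤ (fn (localEnd (SheafOfModules.ιFree k ≫ p ≫ j) (restrictUnitIso A.ι) e) ⊤) := rfl
        refine e1.trans ?_
        have hb : (Spec ((↑A : Scheme.{u}).residueField x')).basicOpen
            (g.app ⊤ (fn (localEnd (SheafOfModules.ιFree k ≫ p ≫ j)
              (restrictUnitIso A.ι) e) ⊤)) = ⊥ := by
          rw [← Scheme.preimage_basicOpen, basicOpen_fn_localEnd]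
          ext y
          simp only [TopologicalSpace.Opens.coe_bot, Set.mem_empty_iff_false, iff_false]
          intro hy
          have hy' : A.ι (g y) ∈ CohB1.genLocus L (SheafOfModules.ιFree k ≫ p ≫ j) := hy
          rw [Scheme.fromSpecResidueField_apply] at hy'
          exact hcon k hy'
        exact (AlgebraicGeometry.basicOpen_eq_bot_iff _).mp hb
      have h4 : (restrictUnitIso A.ι).inv ≫
          ((restrictFunctor A.ι).map (SheafOfModules.ιFree k ≫ p ≫ j) ≫ e.hom ≫ c) = 0 := by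
        simpa [localEnd, Category.assoc] using h3
      exact (cancel_epi (restrictUnitIso A.ι).inv).mp (h4.trans comp_zero.symm)
    rw [h2]
    exact hz _ _
  have h1 : p ≫ (j ≫ ψ) = 0 := by
    refine Cofan.IsColimit.hom_ext (SheafOfModules.isColimitFreeCofan κ) _ _ (fun k => ?_)
    rw [SheafOfModules.freeCofan_inj]
    have := h0 k
    simp only [Category.assoc] at this
    exact this.trans comp_zero.symm
  have h2 : j ≫ ψ = 0 := (cancel_epi p).mp (h1.trans comp_zero.symm)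
  have h2' : (restrictFunctor A.ι).map j ≫ e.hom ≫ c = 0 := by
    apply (adj.homEquiv _ _).injective
    rw [adj.homEquiv_naturality_left]
    exact h2.trans (hz _ _).symm
  have h3 : e.hom ≫ c = 0 :=
    (cancel_epi ((restrictFunctor A.ι).map j)).mp (h2'.trans comp_zero.symm)
  have h4 : c = 0 := (cancel_epi e.hom).mp (h3.trans comp_zero.symm)
  have h5 : ((c.app ⊤).hom (1 : Γ((↑A : Scheme.{u}), ⊤))) = g.app ⊤ 1 := rfl
  rw [h4] at h5
  have h6 : (1 : Γ(Spec ((↑A : Scheme.{u}).residueField x'), g ⁻¹ᵁ ⊤)) = 0 := by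
    rw [← map_one (g.app ⊤).hom]
    exact h5.symm
  have h7 : g ⁻¹ᵁ (⊤ : (↑A : Scheme.{u}).Opens) = ⊥ := by
    rw [← (Spec ((↑A : Scheme.{u}).residueField x')).basicOpen_of_isUnit
      (isUnit_one : IsUnit (1 : Γ(Spec ((↑A : Scheme.{u}).residueField x'), g ⁻¹ᵁ ⊤))), h6,
      Scheme.basicOpen_zero]
  obtain ⟨y⟩ : Nonempty (Spec ((↑A : Scheme.{u}).residueField x')) := inferInstance
  have hy : y ∈ g ⁻¹ᵁ (⊤ : (↑A : Scheme.{u}).Opens) := trivial
  rw [h7] at hy
  exact hy

/-- the core lemma: a globally generated twist `H ⊗ N` of an "ideal" `H` which is the unit ideal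
near `x` and vanishes off `U` yields a section of `N` with `x ∈ X_s ⊆ U`. -/
theorem exists_section_of_gg {H N : X.Modules} (hN : PicF.IsInvertible N)
    (i : H ⟶ Coh.structureModule X) {U : X.Opens} (hv : VanishOff i U) {x : X}
    (hx : x ∈ isoLocus i) (hgg : Curv2.IsGloballyGenerated (CohB1.tensorMod H N)) :
    ∃ s : Coh.structureModule X ⟶ N, x ∈ CohB1.genLocus N s ∧ CohB1.genLocus N s ≤ U := by
  obtain ⟨κ, p, hp⟩ := hgg
  let j : CohB1.tensorMod H N ⟶ N := tensorMap i (𝟙 N) ≫ (leftUnitor N).hom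
  have hxj : x ∈ isoLocus j := by
    rw [isoLocus_comp_of_isIso_right]
    refine isoLocus_inf_le_tensorMap i (𝟙 N) ⟨hx, ?_⟩
    rw [(isoLocus_eq_top_iff (𝟙 N)).mpr inferInstance]
    trivial
  obtain ⟨k, hk⟩ := @exists_mem_genLocus_of_epi_comp _ _ _ hN κ p hp j x hxj
  refine ⟨SheafOfModules.ιFree k ≫ p ≫ j, hk, ?_⟩
  let t : Coh.structureModule X ⟶ CohB1.tensorMod H N := SheafOfModules.ιFree k ≫ p
  have e1 : SheafOfModules.ιFree k ≫ p ≫ j =
      (t ≫ tensorMap i (𝟙 N)) ≫ (leftUnitor N).hom := by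
    simp only [j, t, Category.assoc]
    rfl
  have e2 : CohB1.genLocus N ((t ≫ tensorMap i (𝟙 N)) ≫ (leftUnitor N).hom) =
      CohB1.genLocus _ (t ≫ tensorMap i (𝟙 N)) := genLocus_comp_iso _ (leftUnitor N)
  have e3 := congrArg (CohB1.genLocus N) e1
  exact (e3.trans e2).le.trans (genLocus_tensorMap_le hN i hv t)

theorem not_mem_basicOpen_of_mem_support' (I : X.IdealSheafData) (W : X.Opens)
    (a : Γ(ClSub.idealMod I, W)) (z : X) (hz : z ∈ I.support) :
    z ∉ X.basicOpen (show Γ(X, W) from ((ClSub.idealModι I).app W).hom a) := by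
  intro hzf
  have hzW : z ∈ W := X.basicOpen_le _ hzf
  obtain ⟨V, hV, hzV, hVW⟩ := (Opens.isBasis_iff_nbhd.mp X.isBasis_affineOpens) hzW
  rw [Scheme.IdealSheafData.mem_support_iff_of_mem (U := ⟨V, hV⟩) hzV,
    Scheme.mem_zeroLocus_iff] at hz
  let r : V ⟶ W := homOfLE hVW
  have hmem := IdealMod.idealModι_app_mem I ⟨V, hV⟩ ((ClSub.idealMod I).presheaf.map r.op a)
  have hnat : ((ClSub.idealModι I).app V).hom ((ClSub.idealMod I).presheaf.map r.op a) =
      X.presheaf.map r.op (show Γ(X, W) from ((ClSub.idealModι I).app W).hom a) :=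
    PresheafOfModules.naturality_apply (ClSub.idealModι I).val r.op a
  rw [hnat] at hmem
  have := hz _ hmem
  rw [Scheme.basicOpen_res] at this
  exact this ⟨hzV, hzf⟩

/-- **the ideal**: on a quasi-compact quasi-separated scheme, for an affine open `U` there is a
finite type quasi-coherent ideal which is the unit ideal on `U` and whose functions vanish off `U`. -/
theorem exists_ft_ideal_of_affine [CompactSpace X] [QuasiSeparatedSpace X] {U : X.Opens}
    (hU : IsAffineOpen U) :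
    ∃ (H : X.Modules) (i : H ⟶ Coh.structureModule X), Mono i ∧ H.IsQuasicoherent ∧
      CohB1.IsFT H ∧ U ≤ isoLocus i ∧ VanishOff i U := by
  let Z : Closeds X := ⟨(U : Set X)ᶜ, U.2.isClosed_compl⟩
  have hO : (Coh.structureModule X).IsQuasicoherent :=
    Groth.Agent.Lib.helper12.AmpleBasis.structureModule_qcoh X
  have hdisj : Disjoint (U : Set X) (Z : Set X) := disjoint_compl_right
  have hiso : IsoOn (ClSub.idealModι (Scheme.IdealSheafData.vanishingIdeal Z)) U :=
    isoOn_of_bijective_affine _ U hU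
      ⟨IdealMod.idealModι_app_injective _ U,
        idealModι_app_surjective_of_disjoint Z ⟨U, hU⟩ hdisj⟩
  have hft : FTOn (ClSub.idealMod (Scheme.IdealSheafData.vanishingIdeal Z)) U :=
    FTOn.of_isoOn hiso (fun W _ _ => inferInstanceAs (Module.Finite Γ(X, W) Γ(X, W)))
  obtain ⟨H, h, hm, hq, hfin, hisoh⟩ :=
    exists_ft_sub (ClSub.idealMod (Scheme.IdealSheafData.vanishingIdeal Z)) U hU.isCompact hft
  refine ⟨H, h ≫ ClSub.idealModι _, mono_comp _ _, hq, hfin, ?_, ?_⟩
  · rw [le_isoLocus_iff, ← isoOn_iff_isIso_restrict]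
    exact hisoh.comp hiso
  · intro W a z hz
    by_contra hzU
    have hzs : z ∈ (Scheme.IdealSheafData.vanishingIdeal Z).support := by
      have : ((Scheme.IdealSheafData.vanishingIdeal Z).support : Set X) = Z :=
        Scheme.IdealSheafData.coe_support_vanishingIdeal Z
      show z ∈ ((Scheme.IdealSheafData.vanishingIdeal Z).support : Set X)
      rw [this]
      exact hzU
    exact not_mem_basicOpen_of_mem_support' _ W ((h.app W).hom a) z hzs hz

/-- `VanishOff` is stable under restriction to an open subscheme -/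
theorem VanishOff.restrict {H : X.Modules} {i : H ⟶ Coh.structureModule X} {U : X.Opens}
    (hv : VanishOff i U) (W : X.Opens) :
    VanishOff ((restrictFunctor W.ι).map i ≫ (restrictUnitIso W.ι).hom) (W.ι ⁻¹ᵁ U) := by
  intro W' a z hz
  have h1 : (((restrictFunctor W.ι).map i ≫ (restrictUnitIso W.ι).hom).app W').hom a =
      (W.ι.appIso W').hom (show Γ(X, W.ι ''ᵁ W') from (i.app (W.ι ''ᵁ W')).hom a) := rfl
  rw [h1, Scheme.Opens.ι_appIso] at hz
  have h2 : (z.1 : X) ∈ X.basicOpen (show Γ(X, W.ι ''ᵁ W') from (i.app (W.ι ''ᵁ W')).hom a) :=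
    Scheme.Opens.mem_basicOpen_toScheme.mp hz
  exact hv _ a h2

/-- the core lemma, affine form -/
theorem exists_affine_genLocus_of_gg {H N : X.Modules} (hN : PicF.IsInvertible N)
    (i : H ⟶ Coh.structureModule X) {U : X.Opens} (hU : IsAffineOpen U) (hT : IsTrivOn N U)
    (hv : VanishOff i U) {x : X} (hx : x ∈ isoLocus i)
    (hgg : Curv2.IsGloballyGenerated (CohB1.tensorMod H N)) :
    ∃ s : Coh.structureModule X ⟶ N, x ∈ CohB1.genLocus N s ∧
      IsAffineOpen (CohB1.genLocus N s) := by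
  obtain ⟨s, hxs, hsU⟩ := exists_section_of_gg hN i hv hx hgg
  exact ⟨s, hxs, Groth.Agent.Lib.helper12.AmpleBasis.isAffineOpen_genLocus_of_le s hU hT hsU⟩

/-- **EGA II 4.6.8 (c) ⇒ (a), local form over an affine open `V` of the base.** -/
theorem isAmple_restrict_of_counit_epi {Y : Scheme.{u}} [CompactSpace X] [QuasiSeparatedSpace X]
    (f : X ⟶ Y) [QuasiCompact f] [QuasiSeparated f] (L : X.Modules) (hL : PicF.IsInvertible L)
    (V : Y.Opens) (hV : IsAffineOpen V)
    (h : ∀ (J : X.Modules) (i : J ⟶ Coh.structureModule X), Mono i → Coh.IsQCoh J →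
      CohB1.IsFT J → ∃ n : ℕ, 0 < n ∧ Epi ((restrictFunctor (f ⁻¹ᵁ V).ι).map
        ((pullbackPushforwardAdjunction f).counit.app
          (CohB1.tensorMod J (CohB1.tensorPow L n))))) :
    CohB1.IsAmple (L.restrict (f ⁻¹ᵁ V).ι) := by
  have hVa : IsAffine (V : Scheme.{u}) := hV
  have hLr := isInvertible_restrict (f ⁻¹ᵁ V).ι hL
  have hc : CompactSpace ((f ⁻¹ᵁ V : X.Opens) : Scheme.{u}) :=
    isCompact_iff_compactSpace.mp (f.isCompact_preimage hV.isCompact)
  refine ⟨hLr, hc, fun x' => ?_⟩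
  obtain ⟨U, hU, hxU, hUle, hTU⟩ := exists_affine_isTrivOn hL x'.1 (f ⁻¹ᵁ V) x'.2
  obtain ⟨H, i, hm, hq, hft, hle, hv⟩ := exists_ft_ideal_of_affine hU
  obtain ⟨n, hn, hepi⟩ := h H i hm hq hft
  obtain ⟨m, rfl⟩ := Nat.exists_eq_succ_of_ne_zero hn.ne'
  have hLq : (CohB1.tensorPow L (m + 1)).IsQuasicoherent :=
    Groth.Agent.Lib.helper12.AmpleBasis.isQuasicoherent_of_isInvertible
      (isInvertible_tensorPow hL _)
  have hTq : (CohB1.tensorMod H (CohB1.tensorPow L (m + 1))).IsQuasicoherent :=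
    Groth.Agent.Lib.helper2.TensorQCoh.isQuasicoherent_tensorMod _ _
  have h2 := (epi_restrict_counit_iff f V _).mp hepi
  have hqc : QuasiCompact (f ∣_ V) := inferInstance
  have hqs : QuasiSeparated (f ∣_ V) := inferInstance
  have hgg := isGloballyGenerated_of_epi_counit (f ∣_ V) _ h2
  let e : (CohB1.tensorMod H (CohB1.tensorPow L (m + 1))).restrict (f ⁻¹ᵁ V).ι ≅
      CohB1.tensorMod (H.restrict (f ⁻¹ᵁ V).ι)
        (CohB1.tensorPow (L.restrict (f ⁻¹ᵁ V).ι) (m + 1)) :=
    restrictTensorIso (f ⁻¹ᵁ V).ι H (CohB1.tensorPow L (m + 1)) ≪≫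
      PicGrp.tensorModIso (Iso.refl _)
        (Groth.Agent.Lib.helper12.AmplePow.restrictTensorPowIso (f ⁻¹ᵁ V).ι L (m + 1))
  have hgg' := isGloballyGenerated_of_iso e hgg
  have hv' := hv.restrict (f ⁻¹ᵁ V)
  have hx' : x' ∈ isoLocus ((restrictFunctor (f ⁻¹ᵁ V).ι).map i ≫
      (restrictUnitIso (f ⁻¹ᵁ V).ι).hom) := by
    rw [isoLocus_comp_of_isIso_right, isoLocus_restrictFunctor]
    exact hle hxU
  have hU' : IsAffineOpen ((f ⁻¹ᵁ V).ι ⁻¹ᵁ U) :=
    hU.preimage_of_isOpenImmersion (f ⁻¹ᵁ V).ι (by rw [Scheme.Opens.opensRange_ι]; exact hUle)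
  have hT' : IsTrivOn (CohB1.tensorPow (L.restrict (f ⁻¹ᵁ V).ι) (m + 1))
      ((f ⁻¹ᵁ V).ι ⁻¹ᵁ U) :=
    isTrivOn_tensorPow (IsTrivOn.restrict (f ⁻¹ᵁ V).ι hTU) _
  obtain ⟨s, h3, h4⟩ := exists_affine_genLocus_of_gg (isInvertible_tensorPow hLr _) _ hU' hT' hv'
    hx' hgg'
  exact ⟨m, s, h3, h4⟩

/-- variant of `CounitEpi.exists_epi_counit_twist` with the source (not the base) quasi-compact -/
theorem exists_epi_counit_twist_of_compact {S : Scheme.{u}} [CompactSpace X] (f : X ⟶ S)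
    (L : X.Modules) (hamp : RelAmple.IsRelAmple f L) (F : X.Modules) (hF : Coh.IsCoh F) :
    ∃ N : ℕ, ∀ n : ℕ, N ≤ n →
      Epi ((pullbackPushforwardAdjunction f).counit.app
        (CohB1.tensorMod F (CohB1.tensorPow L n))) := by
  classical
  have hloc := fun V : S.affineOpens =>
    exists_epi_restrict_counit_twist f L V.1 (hamp.2 V) F hF
  choose N hN using hloc
  have hcov : (Set.univ : Set X) ⊆ ⋃ V : S.affineOpens, ((f ⁻¹ᵁ V.1 : X.Opens) : Set X) := by
    intro x _
    obtain ⟨_, ⟨U, hU : IsAffineOpen U, rfl⟩, hy, -⟩ :=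
      (AlgebraicGeometry.Scheme.isBasis_affineOpens S).exists_subset_of_mem_open
        (Set.mem_univ (f x)) isOpen_univ
    exact Set.mem_iUnion.mpr ⟨⟨U, hU⟩, hy⟩
  obtain ⟨t, ht⟩ := isCompact_univ.elim_finite_subcover
    (fun V : S.affineOpens => ((f ⁻¹ᵁ V.1 : X.Opens) : Set X)) (fun V => (f ⁻¹ᵁ V.1).2) hcov
  refine ⟨t.sup N, fun n hn => ?_⟩
  refine epi_of_forall_restrict _ fun x => ?_
  have hx := ht (Set.mem_univ x)
  simp only [Set.mem_iUnion] at hx
  obtain ⟨V, hVt, hxV⟩ := hx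
  exact ⟨f ⁻¹ᵁ V.1, hxV, hN V n (le_trans (Finset.le_sup hVt) hn)⟩

/-- **EGA II 4.6.8 (c) ⇒ (a)** -/
theorem isRelAmple_of_counit_epi {Y : Scheme.{u}} [CompactSpace X] [QuasiSeparatedSpace X]
    (f : X ⟶ Y) [QuasiCompact f] [QuasiSeparated f] (L : X.Modules) (hL : PicF.IsInvertible L)
    (h : ∀ (J : X.Modules) (i : J ⟶ Coh.structureModule X), Mono i → Coh.IsQCoh J →
      CohB1.IsFT J → ∃ n : ℕ, 0 < n ∧ Epi ((pullbackPushforwardAdjunction f).counit.app
          (CohB1.tensorMod J (CohB1.tensorPow L n)))) :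
    RelAmple.IsRelAmple f L := by
  refine ⟨inferInstance, fun V => ?_⟩
  refine isAmple_restrict_of_counit_epi f L hL V.1 V.2 (fun J i hm hq hft => ?_)
  obtain ⟨n, hn, hepi⟩ := h J i hm hq hft
  exact ⟨n, hn, @epi_restrict _ _ _ _ hepi _⟩

end Groth.Agent.Lib.helper11.IdealGG
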