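import Mathlib
import Groth.Prelude.Def_CohB1
import Groth.Prelude.Def_SecTwist
import Groth.Agent.Lib.Helper2.TildeTensor
import Groth.Agent.Lib.Helper12.TensorSec

/-!
# helper11: sections of a tensor product of quasi-coherent modules over an affine open

* `toSheafify_tildeTensorIso`: the unit `M^~ ⊗_pre N^~ ⟶ (M^~ ⊗ N^~)` followed by helper2's `tildeTensorIso`
  is the pairing `pairHom`.
* `bijective_toSheafify_tilde_top`, `bijective_toSheafify_of_iso`, `bijective_toSheafify_of_resPre`,
  `bijective_toSheafify_tensorPre_of_restrict`: transfer lemmas.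
* `bijective_toSheafify_tensorPre`: for `F`, `P` quasi-coherent and `W` affine the canonical map
  `F(W) ⊗_{O(W)} P(W) → (F ⊗ P)(W)` (`s ⊗ t ↦ SecTwist.tmul s t`) is bijective.
-/

set_option autoImplicit false
universe u
open CategoryTheory CategoryTheory.Limits AlgebraicGeometry Opposite TopologicalSpace TensorProduct

namespace Groth.Agent.Lib.helper11.TensorASec

open Groth.Agent.Lib.helper2.TildeTensor Groth.Agent.Lib.helper12.TensorRestrict
  Groth.Agent.Lib.helper12.TensorSec

noncomputable section

section Tilde

variable {R : CommRingCat.{u}} (M N : ModuleCat.{u} R)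

/-- the unit followed by `tildeTensorIso` is the pairing. -/
theorem toSheafify_tildeTensorIso :
    toSheafify (CohB1.tensorPre (tilde M) (tilde N) : (Spec R).PresheafOfModules) ≫
      (tildeTensorIso M N).hom.val = pairHom M N := by
  have h0 : (tildeTensorIso M N).hom =
      ((adj (Spec R)).homEquiv _ _).symm (pairHom M N) := by
    rw [Adjunction.homEquiv_counit]
    rfl
  have h1 : (adj (Spec R)).homEquiv _ _ (tildeTensorIso M N).hom = pairHom M N := by
    rw [h0]
    exact Equiv.apply_symm_apply _ _
  rw [Adjunction.homEquiv_unit] at h1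
  exact h1

/-- on `Spec R`, the canonical map `M^~(⊤) ⊗ N^~(⊤) → (M^~ ⊗ N^~)(⊤)` is bijective. -/
theorem bijective_toSheafify_tilde_top :
    Function.Bijective ((toSheafify (CohB1.tensorPre (tilde M) (tilde N) :
      (Spec R).PresheafOfModules)).app (op ⊤)).hom := by
  have h1 : ∀ x, (((tildeTensorIso M N).hom.val.app (op ⊤)).hom
      (((toSheafify (CohB1.tensorPre (tilde M) (tilde N) :
        (Spec R).PresheafOfModules)).app (op ⊤)).hom x)) = (pairHomApp M N (op ⊤)).hom x := by
    intro x
    exact congrArg (fun φ => (PresheafOfModules.Hom.app φ (op ⊤)).hom x)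
      (toSheafify_tildeTensorIso M N)
  have hg : Function.Bijective ((tildeTensorIso M N).hom.val.app (op ⊤)).hom := by
    refine Function.bijective_iff_has_inverse.2
      ⟨((tildeTensorIso M N).inv.val.app (op ⊤)).hom, fun x => ?_, fun x => ?_⟩
    · exact iso_inv_hom_apply (tildeTensorIso M N) ⊤ x
    · exact iso_hom_inv_apply (tildeTensorIso M N) ⊤ x
  have hp : Function.Bijective (pairHomApp M N (op ⊤)).hom := by
    have h := pairHomApp_bijective M N (1 : R)
    rwa [PrimeSpectrum.basicOpen_one] at h
  have hc : Function.Bijective (((tildeTensorIso M N).hom.val.app (op ⊤)).hom ∘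
      ((toSheafify (CohB1.tensorPre (tilde M) (tilde N) :
        (Spec R).PresheafOfModules)).app (op ⊤)).hom) := by
    have : (((tildeTensorIso M N).hom.val.app (op ⊤)).hom ∘
      ((toSheafify (CohB1.tensorPre (tilde M) (tilde N) :
        (Spec R).PresheafOfModules)).app (op ⊤)).hom) = (pairHomApp M N (op ⊤)).hom :=
      funext h1
    rw [this]
    exact hp
  exact (Function.Bijective.of_comp_iff' hg _).1 hc

end Tilde

section Transfer

variable {X Y : Scheme.{u}}

/-- bijectivity of the unit on sections is invariant under isomorphisms of presheaves. -/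
theorem bijective_toSheafify_of_iso {P Q : X.PresheafOfModules} (g : P ≅ Q) (U : X.Opens)
    (h : Function.Bijective ((toSheafify Q).app (op U)).hom) :
    Function.Bijective ((toSheafify P).app (op U)).hom := by
  have hγ : Function.Bijective (g.hom.app (op U)).hom := by
    refine Function.bijective_iff_has_inverse.2 ⟨(g.inv.app (op U)).hom, fun x => ?_, fun x => ?_⟩
    · exact congrArg (fun φ : P ⟶ P => (PresheafOfModules.Hom.app φ (op U)).hom x) g.hom_inv_id
    · exact congrArg (fun φ : Q ⟶ Q => (PresheafOfModules.Hom.app φ (op U)).hom x) g.inv_hom_id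
  let θ := (CohB1.sheafifyMod X).mapIso g
  have hθ : Function.Bijective (θ.hom.val.app (op U)).hom := by
    refine Function.bijective_iff_has_inverse.2
      ⟨(θ.inv.val.app (op U)).hom, fun x => ?_, fun x => ?_⟩
    · exact iso_inv_hom_apply θ U x
    · exact iso_hom_inv_apply θ U x
  have hsq : (θ.hom.val.app (op U)).hom ∘ ((toSheafify P).app (op U)).hom =
      ((toSheafify Q).app (op U)).hom ∘ (g.hom.app (op U)).hom :=
    funext fun x => sheafifyMap_toSheafify_apply g.hom U x
  have h1 : Function.Bijective ((θ.hom.val.app (op U)).hom ∘ ((toSheafify P).app (op U)).hom) := by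
    rw [hsq]
    exact h.comp hγ
  exact (Function.Bijective.of_comp_iff' hθ _).1 h1

theorem bijective_toSheafify_of_eq (P : X.PresheafOfModules) {U U' : X.Opens} (e : U = U')
    (h : Function.Bijective ((toSheafify P).app (op U)).hom) :
    Function.Bijective ((toSheafify P).app (op U')).hom := by
  subst e
  exact h

variable (f : X ⟶ Y) [IsOpenImmersion f]

/-- restriction along an open immersion. -/
theorem bijective_toSheafify_of_resPre (P : Y.PresheafOfModules) (V : X.Opens)
    (h : Function.Bijective ((toSheafify ((resPre f).obj P)).app (op V)).hom) :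
    Function.Bijective ((toSheafify P).app (op (f ''ᵁ V))).hom := by
  have hθ : Function.Bijective ((sheafifyResHom f P).val.app (op V)).hom := by
    let θ := asIso (sheafifyResHom f P)
    refine Function.bijective_iff_has_inverse.2
      ⟨(θ.inv.val.app (op V)).hom, fun x => ?_, fun x => ?_⟩
    · exact iso_inv_hom_apply θ V x
    · exact iso_hom_inv_apply θ V x
  have h2 := hθ.comp h
  have key : ∀ x : P.obj (op (f ''ᵁ V)), ((toSheafify P).app (op (f ''ᵁ V))).hom x =
      ((sheafifyResHom f P).val.app (op V)).hom
        (((toSheafify ((resPre f).obj P)).app (op V)).hom x) :=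
    fun x => (sheafifyResHom_apply f P V x).symm
  refine ⟨fun x y hxy => h2.1 ?_, fun y => ?_⟩
  · exact ((key x).symm.trans hxy).trans (key y)
  · obtain ⟨x, hx⟩ := h2.2 y
    exact ⟨x, (key x).trans hx⟩

/-- the tensor product version. -/
theorem bijective_toSheafify_tensorPre_of_restrict (M N : Y.Modules) (V : X.Opens)
    (h : Function.Bijective ((toSheafify (CohB1.tensorPre ((Scheme.Modules.restrictFunctor f).obj M)
      ((Scheme.Modules.restrictFunctor f).obj N) : X.PresheafOfModules)).app (op V)).hom) :
    Function.Bijective ((toSheafify (CohB1.tensorPre M N : Y.PresheafOfModules)).app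
      (op (f ''ᵁ V))).hom := by
  apply bijective_toSheafify_of_resPre f
  refine bijective_toSheafify_of_iso
    (show ((resPre f).obj (CohB1.tensorPre M N : Y.PresheafOfModules)) ≅
      (CohB1.tensorPre ((Scheme.Modules.restrictFunctor f).obj M)
        ((Scheme.Modules.restrictFunctor f).obj N) : X.PresheafOfModules) from
      (resTensorIso f (CohB1.toPMod M) (CohB1.toPMod N)).symm) V h

end Transfer

section Affine

variable {X : Scheme.{u}} (F P : X.Modules)

/-- **Sections of a tensor product over an affine open**: for quasi-coherent `F`, `P` and `W` affine, the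
canonical map `F(W) ⊗_{O(W)} P(W) → (F ⊗ P)(W)` is bijective. -/
theorem bijective_toSheafify_tensorPre [F.IsQuasicoherent] [P.IsQuasicoherent] {W : X.Opens}
    (hW : IsAffineOpen W) :
    Function.Bijective ((toSheafify (CohB1.tensorPre F P : X.PresheafOfModules)).app
      (op W)).hom := by
  have h1 : IsIso (F.restrict hW.fromSpec).fromTildeΓ :=
    Scheme.Modules.isIso_fromTildeΓ_of_isQuasicoherent _
  have h2 : IsIso (P.restrict hW.fromSpec).fromTildeΓ :=
    Scheme.Modules.isIso_fromTildeΓ_of_isQuasicoherent _
  let e₁ := (asIso (F.restrict hW.fromSpec).fromTildeΓ).symm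
  let e₂ := (asIso (P.restrict hW.fromSpec).fromTildeΓ).symm
  have hA := bijective_toSheafify_tilde_top
    ((modulesSpecToSheaf.obj (F.restrict hW.fromSpec)).presheaf.obj (.op ⊤))
    ((modulesSpecToSheaf.obj (P.restrict hW.fromSpec)).presheaf.obj (.op ⊤))
  have hB := bijective_toSheafify_of_iso
    (show (CohB1.tensorPre (F.restrict hW.fromSpec) (P.restrict hW.fromSpec) :
        (Spec Γ(X, W)).PresheafOfModules) ≅ CohB1.tensorPre (tilde _) (tilde _) from
      MonoidalCategory.tensorIso (PicGrp.valIso e₁) (PicGrp.valIso e₂)) ⊤ hA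
  have hC := bijective_toSheafify_tensorPre_of_restrict hW.fromSpec F P ⊤ hB
  refine bijective_toSheafify_of_eq _ ?_ hC
  rw [Scheme.Hom.image_top_eq_opensRange, hW.opensRange_fromSpec]

end Affine

end

end Groth.Agent.Lib.helper11.TensorASec
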