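import Mathlib
import Groth.Prelude.Def_ega3
import Groth.Agent.Lib.Helper11.TensorASec1
import Groth.Agent.Lib.Helper8.FlatCohBC4
import Groth.Agent.Lib.Helper1.ExtPowTilde
import Groth.Agent.Lib.Helper2.TensorQCoh
import Groth.Agent.Lib.Helper16.QCohPullback

/-!
# helper11: sections of `F ⊗_A M` (`CohIII.tensorA`) over affine opens

`X` a scheme with `f : X ⟶ Spec A`, `F` an `O_X`-module, `M` an `A`-module, `Pm f M = f^* M~`.

* `cW F P W : Γ(F, W) ⊗[Γ(X, W)] Γ(P, W) →ₗ Γ(F ⊗ P, W)` (the unit of sheafification on sections),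
  `tm F P W s t = s ⊗ t` (`= SecTwist.tmul`), bilinearity `tm_add_left/right`, `tm_smul_left/right`,
  `tm_res`; `bijective_cW` for `F`, `P` quasi-coherent and `W` affine.
* `tmulRight F P t : F ⟶ F ⊗ P` for a global section `t` of `P` (`s ↦ s ⊗ t|_U`), `tmulRight_app`.
* `secOf f M W : M →+ Γ(f^* M~, W)`, `secOf_res`, `secOf_smul`, `isBC_secOf` (base change along
  `secAlg f W : A → Γ(X, W)` for `W` affine).
* `βHom f F M m : F ⟶ F ⊗ f^* M~` (`s ↦ s ⊗ m`), `βHom_app`, `βHom_add`, `βHom_smul_app`.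
* `bW f F M W hA : Γ(F, W) ⊗[A] M →+ Γ(F ⊗ f^* M~, W)`, `bW_tmul`, **`bijective_bW`** (`F` quasi-coherent,
  `W` affine).
* `tensorA_eq`, `isQuasicoherent_tensorA`.
-/

set_option autoImplicit false
universe u
open CategoryTheory CategoryTheory.Limits AlgebraicGeometry Opposite TopologicalSpace TensorProduct

namespace Groth.Agent.Lib.helper11.TensorASec

open Groth.Agent.Lib.helper2.TildeTensor Groth.Agent.Lib.helper12.TensorRestrict
  Groth.Agent.Lib.helper12.TensorSec Groth.Agent.Lib.helper8.PullbackUnit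

noncomputable section

section Alg

open Groth.Agent.Lib.helper8.FlatBC

/-- abstract form of the computation of `N ⊗_A M` through a base change `k : M → Q` along `A → R` and
a bijection `N ⊗_R Q ≃ G`. -/
theorem bijective_of_isBC {A R : Type u} [CommRing A] [CommRing R] [Algebra A R]
    {N M Q G : Type u} [AddCommGroup N] [Module R N] [Module A N] [IsScalarTower A R N]
    [AddCommGroup M] [Module A M] [AddCommGroup Q] [Module R Q] [AddCommGroup G] [Module R G]
    (k : M →+ Q) (hk : IsBC (algebraMap A R) k) (c : N ⊗[R] Q →ₗ[R] G)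
    (hc : Function.Bijective c) (b : N ⊗[A] M →+ G)
    (hb : ∀ s m, b (s ⊗ₜ m) = c (s ⊗ₜ k m)) : Function.Bijective b := by
  have h1 := (isBC_iff_bijective_tlift k hk.map_smul).1 hk
  let e1 : R ⊗[A] M ≃ₗ[R] Q := LinearEquiv.ofBijective _ h1
  let e2 : N ⊗[R] (R ⊗[A] M) ≃ₗ[R] N ⊗[R] Q := TensorProduct.congr (LinearEquiv.refl R N) e1
  let e3 : N ⊗[R] (R ⊗[A] M) ≃ₗ[R] N ⊗[A] M :=
    TensorProduct.AlgebraTensorModule.cancelBaseChange A R R N M
  have key : ∀ x : N ⊗[A] M, b x = c (e2 (e3.symm x)) := by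
    intro x
    induction x with
    | zero => simp
    | tmul s m =>
      rw [hb, TensorProduct.AlgebraTensorModule.cancelBaseChange_symm_tmul]
      show c (s ⊗ₜ k m) = c (s ⊗ₜ (tlift k hk.map_smul (1 ⊗ₜ m)))
      rw [tlift_tmul, one_smul]
    | add x y hx hy => rw [map_add, hx, hy, map_add, map_add, map_add]
  have h2 : Function.Bijective (fun x => c (e2 (e3.symm x))) :=
    hc.comp (e2.bijective.comp e3.symm.bijective)
  have h3 : (b : N ⊗[A] M → G) = fun x => c (e2 (e3.symm x)) := funext key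
  rw [h3]
  exact h2

end Alg

section TmulRight

variable {X : Scheme.{u}} (F P : X.Modules) (W : X.Opens)

/-- the canonical map as a linear map on Mathlib-style sections. -/
def cW : Γ(F, W) ⊗[Γ(X, W)] Γ(P, W) →ₗ[Γ(X, W)] Γ(CohB1.tensorMod F P, W) :=
  ((toSheafify (CohB1.tensorPre F P : X.PresheafOfModules)).app (op W)).hom

/-- `s ⊗ t` on Mathlib-style sections. -/
def tm (s : Γ(F, W)) (t : Γ(P, W)) : Γ(CohB1.tensorMod F P, W) := cW F P W (s ⊗ₜ t)

lemma tm_eq (s : Γ(F, W)) (t : Γ(P, W)) : tm F P W s t = SecTwist.tmul F P W s t := rfl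

lemma tm_add_left (s s' : Γ(F, W)) (t : Γ(P, W)) :
    tm F P W (s + s') t = tm F P W s t + tm F P W s' t := by
  unfold tm
  rw [TensorProduct.add_tmul, map_add]

lemma tm_add_right (s : Γ(F, W)) (t t' : Γ(P, W)) :
    tm F P W s (t + t') = tm F P W s t + tm F P W s t' := by
  unfold tm
  rw [TensorProduct.tmul_add, map_add]

lemma tm_smul_left (r : Γ(X, W)) (s : Γ(F, W)) (t : Γ(P, W)) :
    tm F P W (r • s) t = r • tm F P W s t := by
  unfold tm
  rw [← TensorProduct.smul_tmul', map_smul]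

lemma tm_smul_right (r : Γ(X, W)) (s : Γ(F, W)) (t : Γ(P, W)) :
    tm F P W s (r • t) = r • tm F P W s t := by
  rw [← tm_smul_left]
  unfold tm
  rw [TensorProduct.smul_tmul]

lemma tm_res {W W' : X.Opens} (i : W' ⟶ W) (s : Γ(F, W)) (t : Γ(P, W)) :
    (CohB1.tensorMod F P).presheaf.map i.op (tm F P W s t) =
      tm F P W' (F.presheaf.map i.op s) (P.presheaf.map i.op t) :=
  SecTwist.map_tmul F P i s t

theorem bijective_cW [F.IsQuasicoherent] [P.IsQuasicoherent] (hW : IsAffineOpen W) :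
    Function.Bijective (cW F P W) :=
  bijective_toSheafify_tensorPre F P hW

/-- restriction of a global section to an open. -/
def resG (t : Γ(P, ⊤)) (U : X.Opens) : Γ(P, U) := P.presheaf.map (homOfLE le_top).op t

lemma resG_res (t : Γ(P, ⊤)) {U V : X.Opens} (i : V ⟶ U) :
    P.presheaf.map i.op (resG P t U) = resG P t V := by
  unfold resG
  rw [← ConcreteCategory.comp_apply, ← Functor.map_comp]
  rfl

lemma resG_add (t t' : Γ(P, ⊤)) (U : X.Opens) : resG P (t + t') U = resG P t U + resG P t' U :=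
  map_add _ _ _

/-- `s ↦ s ⊗ t|_U` on underlying abelian presheaves. -/
def tmulRightPre (t : Γ(P, ⊤)) : F.val.presheaf ⟶ (CohB1.tensorMod F P).val.presheaf where
  app U := AddCommGrpCat.ofHom
    { toFun := fun s => tm F P U.unop s (resG P t U.unop)
      map_zero' := by
        have := tm_add_left F P U.unop 0 0 (resG P t U.unop)
        rw [add_zero] at this
        exact left_eq_add.mp this
      map_add' := fun s s' => tm_add_left F P U.unop s s' _ }
  naturality U V i := by
    ext s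
    change tm F P V.unop (F.presheaf.map i s) (resG P t V.unop) =
      (CohB1.tensorMod F P).presheaf.map i (tm F P U.unop s (resG P t U.unop))
    have := tm_res F P i.unop s (resG P t U.unop)
    rw [resG_res] at this
    exact this.symm

/-- `s ↦ s ⊗ t` as a morphism of `O_X`-modules `F ⟶ F ⊗ P`, for a global section `t` of `P`. -/
def tmulRight (t : Γ(P, ⊤)) : F ⟶ CohB1.tensorMod F P :=
  ⟨PresheafOfModules.homMk (tmulRightPre F P t)
    (fun U r s => tm_smul_left F P U.unop r s (resG P t U.unop))⟩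

lemma tmulRight_app (t : Γ(P, ⊤)) (U : X.Opens) (s : Γ(F, U)) :
    (tmulRight F P t).app U s = tm F P U s (resG P t U) := rfl

end TmulRight

section Pull

open Groth.Agent.H1.ExtPowTilde Groth.Agent.H1.ExtPowSemi Groth.Agent.Lib.helper8.FlatBC
  Groth.Agent.Lib.helper8.FlatCohBC

variable {A : Type u} [CommRing A] {X : Scheme.{u}} (f : X ⟶ Spec (CommRingCat.of A))
  (F : X.Modules) (M : ModuleCat.{u} A)

/-- `M~` on `Spec A`. -/
abbrev Mt : (Spec (CommRingCat.of A)).Modules := tilde (R := CommRingCat.of A) M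

/-- `f^* M~`. -/
abbrev Pm : X.Modules := (Scheme.Modules.pullback f).obj (Mt M)

/-- `M → Γ(M~, ⊤)`. -/
abbrev tOtop : M →+ Γ(Mt M, ⊤) := tO (R := CommRingCat.of A) M ⊤

/-- the section of `f^* M~` over `W` attached to `m ∈ M`. -/
def secOf (W : X.Opens) : M →+ Γ(Pm f M, W) :=
  (ρ f (show W ≤ f ⁻¹ᵁ ⊤ from le_top) (Mt M)).comp (tOtop M)

lemma secOf_res {W W' : X.Opens} (h : W' ≤ W) (m : M) :
    (Pm f M).presheaf.map (homOfLE h).op (secOf f M W m) = secOf f M W' m := by
  have h1 := ρ_res f (show W ≤ f ⁻¹ᵁ ⊤ from le_top) (Mt M)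
    (show W' ≤ f ⁻¹ᵁ ⊤ from le_top) (le_refl ⊤) h (tOtop M m)
  refine h1.trans ?_
  have h2 : (Mt M).presheaf.map (homOfLE (le_refl (⊤ : (Spec (CommRingCat.of A)).Opens))).op
      (tOtop M m) = tOtop M m := by
    have : (homOfLE (le_refl (⊤ : (Spec (CommRingCat.of A)).Opens))).op = 𝟙 _ := rfl
    rw [this, CategoryTheory.Functor.map_id]
    rfl
  rw [h2]
  rfl

lemma secOf_eq_resG (W : X.Opens) (m : M) :
    resG (Pm f M) (secOf f M ⊤ m) W = secOf f M W m :=
  secOf_res f M le_top m

theorem isBC_secOf {W : X.Opens} (hW : IsAffineOpen W) : IsBC (secAlg f W) (secOf f M W) := by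
  have h0 := isBC_ρ f (isAffineOpen_top _) hW (show W ≤ f ⁻¹ᵁ ⊤ from le_top) (Mt M)
  let σ : A ≃+* Γ(Spec (CommRingCat.of A), ⊤) :=
    (Scheme.ΓSpecIso (CommRingCat.of A)).symm.commRingCatIsoToRingEquiv
  have hbij : Function.Bijective (tOtop M) := by
    have := (ConcreteCategory.isIso_iff_bijective
      (tilde.toOpen (R := CommRingCat.of A) M ⊤)).mp
        (tilde.isIso_toOpen_top (R := CommRingCat.of A) (M := M))
    exact this
  let eN : M ≃+ Γ(Mt M, ⊤) := AddEquiv.ofBijective (tOtop M) hbij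
  have hσ : ∀ (r : A) (m : M), eN (r • m) = σ r • eN m := by
    intro r m
    change tOtop M (r • m) = _
    rw [tO_smul]
    rfl
  exact precomp_equiv h0 σ eN hσ

lemma secOf_smul (W : X.Opens) (a : A) (m : M) :
    secOf f M W (a • m) = secAlg f W a • secOf f M W m := by
  unfold secOf
  rw [AddMonoidHom.comp_apply, AddMonoidHom.comp_apply]
  have h1 := tO_smul (R := CommRingCat.of A) M ⊤ a m
  rw [h1, ρ_smul]
  rfl

/-- `m ↦ (s ↦ s ⊗ m)`: the morphisms `F ⟶ F ⊗ f^* M~`. -/
def βHom (m : M) : F ⟶ CohB1.tensorMod F (Pm f M) :=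
  tmulRight F (Pm f M) (secOf f M ⊤ m)

lemma βHom_app (m : M) (W : X.Opens) (s : Γ(F, W)) :
    (βHom f F M m).app W s = tm F (Pm f M) W s (secOf f M W m) := by
  unfold βHom
  rw [tmulRight_app, secOf_eq_resG]

lemma βHom_add (m m' : M) : βHom f F M (m + m') = βHom f F M m + βHom f F M m' := by
  apply Scheme.Modules.hom_ext
  intro U
  ext s
  rw [Scheme.Modules.Hom.add_app]
  change (βHom f F M (m + m')).app U s = (βHom f F M m).app U s + (βHom f F M m').app U s
  rw [βHom_app, βHom_app, βHom_app, map_add, tm_add_right]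

variable (W : X.Opens) [Module A Γ(F, W)]

/-- the comparison map `Γ(W, F) ⊗_A M → Γ(W, F ⊗ f^* M~)`, `s ⊗ m ↦ s ⊗ m`. -/
def bW (hA : ∀ (a : A) (s : Γ(F, W)), a • s = secAlg f W a • s) :
    Γ(F, W) ⊗[A] M →+ Γ(CohB1.tensorMod F (Pm f M), W) :=
  TensorProduct.liftAddHom
    (AddMonoidHom.mk' (fun s => AddMonoidHom.mk' (fun m => tm F (Pm f M) W s (secOf f M W m))
      (fun m m' => by rw [map_add, tm_add_right]))
      (fun s s' => by
        ext m
        exact tm_add_left F (Pm f M) W s s' _))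
    (fun a s m => by
      show tm F (Pm f M) W (a • s) (secOf f M W m) = tm F (Pm f M) W s (secOf f M W (a • m))
      rw [hA, tm_smul_left, secOf_smul, tm_smul_right])

lemma bW_tmul (hA : ∀ (a : A) (s : Γ(F, W)), a • s = secAlg f W a • s) (s : Γ(F, W)) (m : M) :
    bW f F M W hA (s ⊗ₜ m) = (βHom f F M m).app W s := by
  rw [βHom_app]
  rfl

/-- **Sections of `F ⊗_A M` over an affine open.** -/
theorem bijective_bW [F.IsQuasicoherent] (hW : IsAffineOpen W)
    (hA : ∀ (a : A) (s : Γ(F, W)), a • s = secAlg f W a • s) :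
    Function.Bijective (bW f F M W hA) := by
  let _ : Algebra A Γ(X, W) := (secAlg f W).toAlgebra
  have : IsScalarTower A Γ(X, W) Γ(F, W) := IsScalarTower.of_algebraMap_smul (fun a s => (hA a s).symm)
  have : (Pm f M).IsQuasicoherent :=
    Groth.Agent.Lib.helper16.QCohPullback.isQuasicoherent_pullback f (Mt M)
  exact bijective_of_isBC (secOf f M W) (isBC_secOf f M hW) (cW F (Pm f M) W)
    (bijective_cW F (Pm f M) W hW) (bW f F M W hA) (fun s m => rfl)

omit [Module A Γ(F, W)] in
lemma βHom_smul_app (a : A) (m : M) (s : Γ(F, W)) :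
    (βHom f F M (a • m)).app W s = secAlg f W a • (βHom f F M m).app W s := by
  rw [βHom_app, βHom_app, secOf_smul, tm_smul_right]

omit [Module A Γ(F, W)] in
lemma βHom_app_smul (a : A) (m : M) (s : Γ(F, W)) :
    (βHom f F M m).app W (secAlg f W a • s) = secAlg f W a • (βHom f F M m).app W s :=
  Scheme.Modules.Hom.app_smul _ _ _

omit [Module A Γ(F, W)] in
theorem isQuasicoherent_tensorMod_Pm [F.IsQuasicoherent] :
    (CohB1.tensorMod F (Pm f M)).IsQuasicoherent := by
  have : (Pm f M).IsQuasicoherent :=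
    Groth.Agent.Lib.helper16.QCohPullback.isQuasicoherent_pullback f (Mt M)
  exact Groth.Agent.Lib.helper2.TensorQCoh.isQuasicoherent_tensorMod F (Pm f M)

end Pull

section TensorA

variable (A : Type u) [CommRing A] {X : Scheme.{u}} [X.Over (Spec (CommRingCat.of A))]
  (F : X.Modules) (M : Type u) [AddCommGroup M] [Module A M]

/-- the prelude's `F ⊗_A M` in the notation of this file. -/
theorem tensorA_eq : CohIII.tensorA A F M =
    CohB1.tensorMod F (Pm (X ↘ Spec (CommRingCat.of A)) (ModuleCat.of A M)) := rfl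

instance isQuasicoherent_tensorA [F.IsQuasicoherent] : (CohIII.tensorA A F M).IsQuasicoherent :=
  isQuasicoherent_tensorMod_Pm (X ↘ Spec (CommRingCat.of A)) F (ModuleCat.of A M)

end TensorA

end

end Groth.Agent.Lib.helper11.TensorASec
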