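import Mathlib
import Groth.Agent.Lib.Helper8.ReesSys
import Groth.Agent.Lib.Helper8.ReesCoh
import Groth.Agent.Lib.Helper11.AmpleVan
import Groth.Agent.Lib.Helper11.TwistH1
import Groth.Agent.Lib.Helper7.SnapperCartier2
import Groth.Agent.Lib.Helper18.Punctual
import Groth.Agent.Lib.Helper18.HHLES

/-!
# Uniform Serre vanishing for good graded systems (helper11)

`X` proper over a Noetherian ring `R`, `L` ample.  For a graded system `𝓜` of coherent modules with commuting
degree-one operators (helper8's `Rees.Sys`) which is `Good` for a finite set of variables, there is one `n₀`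
with `H^p(X, 𝓜_k ⊗ L^{⊗ n}) = 0` for all `n ≥ n₀`, all `k` and all `p > 0` (EGA III 2.4.? / 5.2.3 core).
-/

set_option autoImplicit false
universe u
open CategoryTheory CategoryTheory.Limits AlgebraicGeometry Opposite TopologicalSpace

namespace Groth.Agent.Lib.helper11.AdicSys

open Groth.Agent.Lib.helper8.Rees Groth.Agent.Lib.Lead.ModTensor Groth.Agent.Lib.Helper18

variable {X : Scheme.{u}}

/-- tensoring with an invertible module preserves short exact sequences -/
theorem shortExact_tensor_invertible (S : ShortComplex X.Modules) (hS : S.ShortExact)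
    {E : X.Modules} (hE : PicF.IsInvertible E) :
    ∃ w, (ShortComplex.mk (tensorMap S.f (𝟙 E)) (tensorMap S.g (𝟙 E)) w).ShortExact := by
  haveI := hS.mono_f
  exact Groth.Agent.Lib.helper7.SnapperCartier2.shortExact_tensor_of_mono S hS E
    (Groth.Agent.Lib.helper11.TwistH1.mono_tensorMap_left S.f hE)

/-- vanishing of the middle term -/
theorem subsingleton_HH_middle (S : ShortComplex X.Modules) (hS : S.ShortExact) (p : ℕ)
    (h₁ : Subsingleton (Coh.HH X S.X₁ p)) (h₃ : Subsingleton (Coh.HH X S.X₃ p)) :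
    Subsingleton (Coh.HH X S.X₂ p) := by
  refine ⟨fun a b => ?_⟩
  have h : ∀ x : Coh.HH X S.X₂ p, x = 0 := by
    intro x
    have hx : HH.map S.g p x = 0 := Subsingleton.elim _ _
    obtain ⟨y, rfl⟩ := (HH.exact₂ hS p x).1 hx
    rw [Subsingleton.elim y 0, map_zero]
  rw [h a, h b]

/-- vanishing of the right term -/
theorem subsingleton_HH_right (S : ShortComplex X.Modules) (hS : S.ShortExact) (p : ℕ)
    (h₂ : Subsingleton (Coh.HH X S.X₂ p)) (h₁ : Subsingleton (Coh.HH X S.X₁ (p + 1))) :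
    Subsingleton (Coh.HH X S.X₃ p) := by
  refine ⟨fun a b => ?_⟩
  have h : ∀ x : Coh.HH X S.X₃ p, x = 0 := by
    intro x
    have hx : HH.δ hS p x = 0 := Subsingleton.elim _ _
    obtain ⟨y, rfl⟩ := (HH.exact₃ hS p x).1 hx
    rw [Subsingleton.elim y 0, map_zero]
  rw [h a, h b]

section Main

variable {R : Type u} [CommRing R] [IsNoetherianRing R] (q : X ⟶ Spec (CommRingCat.of R))
  [IsProper q] {L : X.Modules} (hL : CohB1.IsAmple L) {σ : Type*} [DecidableEq σ]

include q hL in
/-- **Uniform Serre vanishing** for a good graded system. -/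
theorem exists_uniform_vanishing (s : Finset σ) :
    ∀ (𝓜 : Sys X σ), Good 𝓜 s → ∃ n₀ : ℕ, ∀ n : ℕ, n₀ ≤ n → ∀ k : ℕ, ∀ p : ℕ, 0 < p →
      Subsingleton (Coh.HH X (CohB1.tensorMod (𝓜.obj k) (CohB1.tensorPow L n)) p) := by
  haveI : IsLocallyNoetherian X := LocallyOfFiniteType.isLocallyNoetherian q
  haveI : CompactSpace X := by
    haveI : CompactSpace (Spec (CommRingCat.of R)) := inferInstance
    exact QuasiCompact.compactSpace_of_compactSpace q
  have hLi : PicF.IsInvertible L := hL.1
  have hpow : ∀ n, PicF.IsInvertible (CohB1.tensorPow L n) := fun n =>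
    Groth.Agent.Lib.helper12.TensorInv.isInvertible_tensorPow hLi n
  induction s using Finset.induction_on with
  | empty =>
    intro 𝓜 h𝓜
    obtain ⟨k₁, hk₁⟩ := h𝓜.isZero_of_empty
    have hvan := fun k : ℕ =>
      Groth.Agent.Lib.helper11.AmpleVan.serre_vanishing_of_isAmple q hL (𝓜.obj k) (h𝓜.1 k)
    choose n₀ hn₀ using hvan
    refine ⟨(Finset.range (k₁ + 1)).sup n₀, fun n hn k p hp => ?_⟩
    by_cases hk : k ≤ k₁
    · refine hn₀ k n (le_trans ?_ hn) p hp
      exact Finset.le_sup (f := n₀) (Finset.mem_range.mpr (Nat.lt_succ_of_le hk))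
    · obtain ⟨k', rfl⟩ : ∃ k', k = k' + 1 := ⟨k - 1, by omega⟩
      have hz : IsZero (𝓜.obj (k' + 1)) := hk₁ k' (by omega)
      exact subsingleton_HH_of_isZero (Punctual.isZero_tensorMod_left hz _) p
  | insert j s' hj ih =>
    intro 𝓜 h𝓜
    obtain ⟨nQ, hnQ⟩ := ih (𝓜.coker j) h𝓜.coker
    obtain ⟨nT, hnT⟩ := ih (𝓜.ker j) h𝓜.ker
    obtain ⟨n₁, hn₁⟩ :=
      Groth.Agent.Lib.helper11.AmpleVan.serre_vanishing_of_isAmple q hL (𝓜.obj 0) (h𝓜.1 0)
    refine ⟨max (max nQ nT) n₁, fun n hn k => ?_⟩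
    have hnQ' : nQ ≤ n := le_trans (le_trans (le_max_left _ _) (le_max_left _ _)) hn
    have hnT' : nT ≤ n := le_trans (le_trans (le_max_right _ _) (le_max_left _ _)) hn
    have hn₁' : n₁ ≤ n := le_trans (le_max_right _ _) hn
    induction k with
    | zero => exact fun p hp => hn₁ n hn₁' p hp
    | succ k ihk =>
      intro p hp
      obtain ⟨w₁, hw₁⟩ := shortExact_tensor_invertible _ (𝓜.shortExact_ker_im j k) (hpow n)
      obtain ⟨w₂, hw₂⟩ := shortExact_tensor_invertible _ (𝓜.shortExact_im_coker j k) (hpow n)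
      have him : Subsingleton
          (Coh.HH X (CohB1.tensorMod ((𝓜.im j).obj k) (CohB1.tensorPow L n)) p) :=
        subsingleton_HH_right _ hw₁ p (ihk p hp) (hnT n hnT' k (p + 1) (Nat.succ_pos _))
      exact subsingleton_HH_middle _ hw₂ p him (hnQ n hnQ' k p hp)

end Main

end Groth.Agent.Lib.helper11.AdicSys
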