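import Groth.Agent.Lib.Helper11.SerreCrit
import Groth.Agent.Lib.Helper11.InvPullback
import Groth.Agent.Lib.Helper27.RpushVanish
import Groth.Agent.Lib.Helper27.PullConst
import Groth.Agent.Lib.Helper27.Horseshoe7
import Groth.Agent.Lib.Helper27.CechCartan
import Groth.Agent.Lib.Helper27.OpenRestr
import Groth.Agent.Lib.Helper7.QCohPushQC

/-!
# Relative Serre criterion (helper11)

* `pushAb_preservesFiniteLimits`, `subsingleton_HU_preimage`: if `R¹f_* K = 0` for a quasi-coherent `K` and
  `f` is qcqs then `H¹(f⁻¹V, K) = 0` for every affine open `V` of the target.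
* `isIso_restrict_unitToPush`, `exists_extension`: a quasi-coherent ideal on a qcqs open subscheme extends
  to a quasi-coherent ideal of the ambient scheme.
* `subsingleton_HH_of_iso`; `isAffineHom_of_R1` (= S0029).
-/

set_option autoImplicit false
universe v u
open CategoryTheory CategoryTheory.Limits AlgebraicGeometry TopologicalSpace Opposite
open Scheme.Modules Groth.Agent.Lib.helper7 Groth.Agent.Lib.helper27
open Groth.Agent.Lib.helper11.InvPullback Groth.Agent.Lib.helper11.IsoLocus

namespace Groth.Agent.Lib.helper11.RelSerre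

variable {X Y : Scheme.{u}}

instance pushAb_preservesFiniteLimits (f : X ⟶ Y) : PreservesFiniteLimits (Coh.pushAb f) := by
  have : PreservesLimitsOfSize.{u, u} (Coh.pushAb f) :=
    (PullConst.pbAdj f.base).rightAdjoint_preservesLimits
  exact PreservesLimitsOfSize.preservesFiniteLimits _

theorem subsingleton_HU_preimage (f : X ⟶ Y) [QuasiCompact f] [QuasiSeparated f]
    (K : X.Modules) [K.IsQuasicoherent]
    (h : IsZero ((Coh.RpushAb f 1).obj (Coh.toAb K))) (V : Y.Opens) (hV : IsAffineOpen V) :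
    Subsingleton (CohTop.HU (Coh.toAb K) 1 (f ⁻¹ᵁ V)) := by
  let J := Opens.grothendieckTopology X
  let S := CechSite.resS J (Coh.toAb K)
  have hS : S.ShortExact := CechSite.resS_shortExact J (Coh.toAb K)
  have hI : Injective S.X₂ := inferInstance
  have hepi : Epi ((Coh.pushAb f).map S.g) := Horseshoe.epi_of_isZero (Coh.pushAb f) hS h
  have hT : (S.map (Coh.pushAb f)).ShortExact :=
    Horseshoe.map_shortExact_of_epi (Coh.pushAb f) hS hepi
  have hq : ((Scheme.Modules.pushforward f).obj K).IsQuasicoherent :=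
    QCohPushQC.isQuasicoherent_pushforward f K
  have hvan : Subsingleton (CohTop.HU (Coh.toAb ((Scheme.Modules.pushforward f).obj K)) 1 V) :=
    SerreVan.subsingleton_HU_of_isAffineOpen _ V hV 0
  have hsurj := CechLeray.surjective_of_ext_one (Opens.grothendieckTopology Y) _ hT V hvan
  exact CechSite.subsingleton_H_one J S hS hI (f ⁻¹ᵁ V) hsurj

/-- the comparison `(O_X)|_U ⟶ O_U` obtained from `O_X ⟶ j_* O_U` is an isomorphism -/
theorem isIso_restrict_unitToPush (j : Y ⟶ X) [IsOpenImmersion j] :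
    IsIso ((restrictFunctor j).map (unitToPush j) ≫
      (restrictAdjunction j).counit.app (Coh.structureModule Y)) := by
  have h1 : IsIso ((restrictFunctor j).map (unitToPush j)) := by
    rw [Hom.isIso_iff_isIso_app]
    intro W
    rw [restrictFunctor_map_app]
    rw [ConcreteCategory.isIso_iff_bijective]
    have h2 : IsIso (j.app (j ''ᵁ W)) := inferInstance
    have h3 := (ConcreteCategory.isIso_iff_bijective (j.app (j ''ᵁ W))).mp h2
    exact h3
  infer_instance

/-- a quasi-coherent ideal on a (quasi-compact quasi-separated) open subscheme extends to a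
quasi-coherent ideal on the ambient scheme -/
theorem exists_extension (j : Y ⟶ X) [IsOpenImmersion j] [QuasiCompact j] [QuasiSeparated j]
    (K' : Y.Modules) (κ' : K' ⟶ Coh.structureModule Y) [Mono κ'] [K'.IsQuasicoherent] :
    ∃ (K : X.Modules) (κ : K ⟶ Coh.structureModule X), Mono κ ∧ K.IsQuasicoherent ∧
      Nonempty ((restrictFunctor j).obj K ≅ K') := by
  let R := restrictFunctor j
  let π' := cokernel.π κ'
  have hQ' : (cokernel κ').IsQuasicoherent := CohKer.isQuasicoherent_cokernel κ'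
  have hPQ' : ((Scheme.Modules.pushforward j).obj (cokernel κ')).IsQuasicoherent :=
    QCohPushQC.isQuasicoherent_pushforward j _
  let ψ : Coh.structureModule X ⟶ (Scheme.Modules.pushforward j).obj (cokernel κ') :=
    unitToPush j ≫ (Scheme.Modules.pushforward j).map π'
  refine ⟨kernel ψ, kernel.ι ψ, inferInstance, CohKer.isQuasicoherent_kernel ψ, ?_⟩
  let ε := (restrictAdjunction j).counit
  let θ := R.map (unitToPush j) ≫ ε.app (Coh.structureModule Y)
  have hθ : IsIso θ := isIso_restrict_unitToPush j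
  have hnat : R.map ψ ≫ ε.app (cokernel κ') = θ ≫ π' := by
    have := ε.naturality π'
    simp only [Functor.comp_map, Functor.id_map] at this
    simp only [ψ, θ, Functor.map_comp, Category.assoc]
    rw [← this]
  have hε : IsIso (ε.app (cokernel κ')) := inferInstance
  -- K' is the kernel of π'
  have hker : IsLimit (KernelFork.ofι κ' (cokernel.condition κ')) :=
    Abelian.monoIsKernelOfCokernel _ (colimit.isColimit _)
  let e1 : R.obj (kernel ψ) ≅ kernel (R.map ψ) := PreservesKernel.iso R ψ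
  let e2 : kernel (R.map ψ) ≅ kernel (R.map ψ ≫ ε.app (cokernel κ')) :=
    (kernelCompMono (R.map ψ) (ε.app (cokernel κ'))).symm
  let e3 : kernel (R.map ψ ≫ ε.app (cokernel κ')) ≅ kernel (θ ≫ π') :=
    kernelIsoOfEq hnat
  let e4 : kernel (θ ≫ π') ≅ kernel π' := kernelIsIsoComp θ π'
  let e5 : kernel π' ≅ K' :=
    (kernelIsKernel π').conePointUniqueUpToIso hker
  exact ⟨e1 ≪≫ e2 ≪≫ e3 ≪≫ e4 ≪≫ e5⟩

/-- `H^n` of isomorphic modules -/
theorem subsingleton_HH_of_iso {M N : X.Modules} (e : M ≅ N) (n : ℕ)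
    (h : Subsingleton (Coh.HH X M n)) : Subsingleton (Coh.HH X N n) := by
  let e' := (SheafOfModules.toSheaf X.ringCatSheaf).mapIso e
  refine ⟨fun x y => ?_⟩
  suffices H : ∀ z : Coh.HH X N n, z = 0 by rw [H x, H y]
  intro z
  have h1 : (z.comp (Abelian.Ext.mk₀ e'.inv) (add_zero n)).comp (Abelian.Ext.mk₀ e'.hom)
      (add_zero n) = z := by
    rw [Abelian.Ext.comp_assoc_of_third_deg_zero, Abelian.Ext.mk₀_comp_mk₀, e'.inv_hom_id,
      Abelian.Ext.comp_mk₀_id]
  rw [← h1, Subsingleton.elim (z.comp (Abelian.Ext.mk₀ e'.inv) (add_zero n)) 0,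
    Abelian.Ext.zero_comp]

theorem isAffineHom_of_R1 (f : X ⟶ Y) [QuasiCompact f] [QuasiSeparatedSpace X]
    (h : ∀ (I : X.Modules) (i : I ⟶ Coh.structureModule X), Mono i → Coh.IsQCoh I →
      Limits.IsZero ((Coh.RpushAb f 1).obj (Coh.toAb I))) : IsAffineHom f := by
  refine ⟨fun V hV => ?_⟩
  let U₀ := f ⁻¹ᵁ V
  have hc : IsCompact (U₀ : Set X) := QuasiCompact.isCompact_preimage (f := f) _ V.isOpen hV.isCompact
  have : CompactSpace ↑U₀ := isCompact_iff_compactSpace.mp hc
  have hqc : QuasiCompact U₀.ι := by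
    rw [quasiCompact_iff]
    intro W hW hWc
    have h2 : IsCompact (W ∩ (U₀ : Set X)) :=
      QuasiSeparatedSpace.inter_isCompact W (U₀ : Set X) hW hWc U₀.isOpen hc
    have h3 : (U₀.ι : ↑U₀ → X) ⁻¹' W = (U₀.ι : ↑U₀ → X) ⁻¹' (W ∩ (U₀ : Set X)) := by
      ext y
      simp only [Set.mem_preimage, Set.mem_inter_iff, iff_self_and]
      intro _
      exact y.2
    rw [h3]
    refine (U₀.ι.isOpenEmbedding.isInducing.isCompact_preimage_iff ?_).mpr h2
    rw [Scheme.Opens.range_ι]
    exact Set.inter_subset_right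
  show IsAffine ↑U₀
  refine Groth.Agent.Lib.helper11.SerreCrit.isAffine_of_H1Ideals ?_
  intro K' κ' hm hq
  obtain ⟨K, κ, hκ, hK, ⟨e⟩⟩ := exists_extension U₀.ι K' κ'
  have hK0 := h K κ hκ hK
  have hHU := subsingleton_HU_preimage f K hK0 V hV
  obtain ⟨eq⟩ := OpenRestr.HU_equiv_H_restr U₀ (Coh.toAb K) 1
  have h1 : Subsingleton (Coh.HH ↑U₀ (K.restrict U₀.ι) 1) :=
    @Equiv.subsingleton _ _ eq.symm.toEquiv hHU
  exact subsingleton_HH_of_iso e 1 h1

end Groth.Agent.Lib.helper11.RelSerre
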