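import Mathlib
import Groth.Agent.Lib.Helper11.Thick1
import Groth.Agent.Lib.Helper16.QCohEpi
import Groth.Agent.Lib.Helper7.CohKer

/-!
# The short exact sequence of a small extension (helper11)

`X` over `Spec A`, `t ∈ A` with `ann(t) = m`, `g₁ : X₁ ⟶ X` the base change to `A/(t)`,
`g₀ : X₀ ⟶ X` the base change to `A/m`, `G` quasi-coherent on `X` and flat over `A`.  Then there is a
short exact sequence `0 ⟶ g₀_* g₀^* G ⟶ G ⟶ g₁_* g₁^* G ⟶ 0` whose first map `ψ` satisfies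
`unit ≫ ψ = t •`.
-/

set_option autoImplicit false
universe u
open CategoryTheory CategoryTheory.Limits AlgebraicGeometry TopologicalSpace Opposite
open Scheme.Modules TensorProduct
open Groth.Agent.Lib.helper8.FlatCohBC Groth.Agent.Lib.helper21.GCCech
open Groth.Agent.Lib.helper8.PullbackUnit
open Groth.Agent.Lib.helper12.PullTensor
open Groth.Agent.Lib.helper11.FibMono

namespace Groth.Agent.Lib.helper11.Thick

section algebra

/-- for a flat module `N`, the kernel of multiplication by `t` is `ann(t) • N` -/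
theorem mem_smul_top_of_smul_eq_zero {A : Type u} [CommRing A] (t : A) (m : Ideal A)
    (hann : ∀ a : A, a * t = 0 ↔ a ∈ m)
    {N : Type u} [AddCommGroup N] [Module A N] [Module.Flat A N] (n : N) (hn : t • n = 0) :
    n ∈ m • (⊤ : Submodule A N) := by
  let f : m →ₗ[A] A := m.subtype
  let g : A →ₗ[A] A := LinearMap.mulRight A t
  have hfg : Function.Exact f g := by
    intro a
    constructor
    · intro ha
      have : a * t = 0 := ha
      exact ⟨⟨a, (hann a).mp this⟩, rfl⟩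
    · rintro ⟨⟨a, ha⟩, rfl⟩
      exact (hann a).mpr ha
  have hex := Module.Flat.rTensor_exact N hfg
  have h1 : (g.rTensor N) ((1 : A) ⊗ₜ[A] n) = 0 := by
    rw [LinearMap.rTensor_tmul]
    change ((1 : A) * t) ⊗ₜ[A] n = 0
    rw [one_mul]
    have : t ⊗ₜ[A] n = (t • (1 : A)) ⊗ₜ[A] n := by rw [smul_eq_mul, mul_one]
    rw [this, TensorProduct.smul_tmul, hn, tmul_zero]
  obtain ⟨z, hz⟩ := (hex _).mp h1
  have h2 : n = TensorProduct.lid A N ((f.rTensor N) z) := by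
    rw [hz, TensorProduct.lid_tmul, one_smul]
  rw [h2]
  clear h2 hz h1
  induction z using TensorProduct.induction_on with
  | zero => simp
  | tmul a x =>
    rw [LinearMap.rTensor_tmul, TensorProduct.lid_tmul]
    exact Submodule.smul_mem_smul a.2 trivial
  | add x y hx hy =>
    rw [map_add, map_add]
    exact Submodule.add_mem _ hx hy

/-- `t` kills `m • N` when `m t = 0` -/
theorem smul_eq_zero_of_mem_smul_top {A : Type u} [CommRing A] (t : A) (m : Ideal A)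
    (hann : ∀ a : A, a * t = 0 ↔ a ∈ m)
    {N : Type u} [AddCommGroup N] [Module A N] (n : N) (hn : n ∈ m • (⊤ : Submodule A N)) :
    t • n = 0 := by
  refine Submodule.smul_induction_on hn ?_ ?_
  · intro a ha z _
    rw [← mul_smul, mul_comm, (hann a).mpr ha, zero_smul]
  · intro x y hx hy
    rw [smul_add, hx, hy, add_zero]

/-- elements of `(t) • N` are multiples of `t` -/
theorem exists_smul_of_mem_span_smul_top {A : Type u} [CommRing A] (t : A)
    {N : Type u} [AddCommGroup N] [Module A N] (n : N)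
    (hn : n ∈ Ideal.span {t} • (⊤ : Submodule A N)) : ∃ n' : N, n = t • n' := by
  refine Submodule.smul_induction_on hn ?_ ?_
  · intro a ha z _
    obtain ⟨b, rfl⟩ := Ideal.mem_span_singleton'.mp ha
    exact ⟨b • z, by rw [← mul_smul, mul_comm]⟩
  · rintro x y ⟨x', rfl⟩ ⟨y', rfl⟩
    exact ⟨x' + y', (smul_add _ _ _).symm⟩

end algebra

section ses

variable {A B₁ B₀ : Type u} [CommRing A] [CommRing B₁] [CommRing B₀] [Algebra A B₁] [Algebra A B₀]
variable {X X₁ X₀ : Scheme.{u}} (fX : X ⟶ Spec (CommRingCat.of A))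
  (fX₁ : X₁ ⟶ Spec (CommRingCat.of B₁)) (g₁ : X₁ ⟶ X)
  (h₁ : IsPullback g₁ fX₁ fX (Spec.map (CommRingCat.ofHom (algebraMap A B₁))))
  (fX₀ : X₀ ⟶ Spec (CommRingCat.of B₀)) (g₀ : X₀ ⟶ X)
  (h₀ : IsPullback g₀ fX₀ fX (Spec.map (CommRingCat.ofHom (algebraMap A B₀))))
  (t : A) (m : Ideal A) (hann : ∀ a : A, a * t = 0 ↔ a ∈ m)
  (hs₁ : Function.Surjective (algebraMap A B₁))
  (hk₁ : RingHom.ker (algebraMap A B₁) = Ideal.span {t})
  (hs₀ : Function.Surjective (algebraMap A B₀))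
  (hk₀ : RingHom.ker (algebraMap A B₀) = m)
  (G : X.Modules) [G.IsQuasicoherent]

/-- multiplication by `t` on `G` -/
noncomputable abbrev mulT : G ⟶ G := Formal.smulModΓ G (Coh.toGlobal fX t)

omit [G.IsQuasicoherent] in
theorem mulT_app (W : X.Opens) (n : G.val.obj (op W)) :
    ((mulT fX t G).val.app (op W)).hom n = (letI := modSecA fX G W; t • n) := rfl

include h₀ hann hs₀ hk₀ in
theorem kernel_ι_comp_mulT : kernel.ι (unitHom g₀ G) ≫ mulT fX t G = 0 := by
  refine Groth.Agent.Lib.helper16.QCohEpi.hom_ext_of_basis _ _ X.affineOpens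
    X.isBasis_affineOpens ?_
  intro W hW s
  have e1 := Groth.Agent.Lib.helper7.KerSections.kernel_ι_app_comp (unitHom g₀ G) W s
  have e2 := (unit_app_eq_zero_iff fX fX₀ g₀ h₀ m hs₀ hk₀ G W hW _).mp e1
  letI := modSecA fX G W
  exact smul_eq_zero_of_mem_smul_top t m hann _ e2

/-- the map `g₀_* g₀^* G ⟶ G` induced by multiplication by `t` -/
noncomputable def psi : pushPull g₀ G ⟶ G :=
  haveI := epi_unit fX fX₀ g₀ h₀ hs₀ G
  (Abelian.epiIsCokernelOfKernel _ (kernelIsKernel (unitHom g₀ G))).desc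
    (CokernelCofork.ofπ (mulT fX t G) (kernel_ι_comp_mulT fX fX₀ g₀ h₀ t m hann hs₀ hk₀ G))

theorem unit_psi :
    unitHom g₀ G ≫ psi fX fX₀ g₀ h₀ t m hann hs₀ hk₀ G = mulT fX t G := by
  haveI := epi_unit fX fX₀ g₀ h₀ hs₀ G
  exact (Abelian.epiIsCokernelOfKernel _ (kernelIsKernel (unitHom g₀ G))).fac
    (CokernelCofork.ofπ (mulT fX t G) (kernel_ι_comp_mulT fX fX₀ g₀ h₀ t m hann hs₀ hk₀ G))
    WalkingParallelPair.one

theorem unit_psi_app (W : X.Opens) (n : G.val.obj (op W)) :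
    ((psi fX fX₀ g₀ h₀ t m hann hs₀ hk₀ G).val.app (op W)).hom (unitSec g₀ G W n) =
      (letI := modSecA fX G W; t • n) := by
  have := congrArg (fun φ : G ⟶ G => (φ.val.app (op W)).hom n)
    (unit_psi fX fX₀ g₀ h₀ t m hann hs₀ hk₀ G)
  exact this

omit [G.IsQuasicoherent] in
include h₁ hk₁ in
theorem mulT_comp_unit : mulT fX t G ≫ unitHom g₁ G = 0 := by
  rw [← KLin.comp_smulModΓ]
  have e1 : Formal.smulModΓ (pushPull g₁ G) (Coh.toGlobal fX t) = 0 := by
    have e2 := Groth.Agent.Lib.helper11.FibLift.pushforward_map_smulModΓ g₁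
      ((Scheme.Modules.pullback g₁).obj G) (Coh.toGlobal fX t)
    rw [← toGlobal_algebraMap fX fX₁ g₁ h₁ t] at e2
    have e3 : algebraMap A B₁ t = 0 := by
      rw [← RingHom.mem_ker, hk₁]
      exact Ideal.mem_span_singleton_self t
    rw [e3, map_zero, KLin.smulModΓ_zero, Functor.map_zero] at e2
    exact e2.symm
  rw [e1, comp_zero]

include h₁ hk₁ in
theorem psi_comp_unit :
    psi fX fX₀ g₀ h₀ t m hann hs₀ hk₀ G ≫ unitHom g₁ G = 0 := by
  haveI := epi_unit fX fX₀ g₀ h₀ hs₀ G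
  rw [← cancel_epi (unitHom g₀ G), ← Category.assoc, unit_psi, comp_zero]
  exact mulT_comp_unit fX fX₁ g₁ h₁ t hk₁ G

include h₀ in
theorem mono_psi (hfl : FlatMod.IsFlatOver fX G) :
    Mono (psi fX fX₀ g₀ h₀ t m hann hs₀ hk₀ G) := by
  haveI := isQuasicoherent_pushPull fX fX₀ g₀ h₀ G
  apply Groth.Agent.Lib.helper7.KerSections.mono_of_injective_affine
  intro W hW
  rw [injective_iff_map_eq_zero]
  intro q hq
  obtain ⟨n, rfl⟩ := unit_app_surjective fX fX₀ g₀ h₀ hs₀ G W hW q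
  have e1 := unit_psi_app fX fX₀ g₀ h₀ t m hann hs₀ hk₀ G W n
  have e2 : (letI := modSecA fX G W; t • n) = 0 := e1.symm.trans hq
  have hflat := flat_modSec fX G hfl W hW
  letI := modSecA fX G W
  have e3 : n ∈ m • (⊤ : Submodule A (G.val.obj (op W))) :=
    @mem_smul_top_of_smul_eq_zero A _ t m hann (G.val.obj (op W)) _ (modSecA fX G W) hflat n e2
  exact (unit_app_eq_zero_iff fX fX₀ g₀ h₀ m hs₀ hk₀ G W hW n).mpr e3

/-- the comparison `g₀_* g₀^* G ⟶ ker (G ⟶ g₁_* g₁^* G)` -/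
noncomputable def toKer : pushPull g₀ G ⟶ kernel (unitHom g₁ G) :=
  kernel.lift (unitHom g₁ G) (psi fX fX₀ g₀ h₀ t m hann hs₀ hk₀ G)
    (psi_comp_unit fX fX₁ g₁ h₁ fX₀ g₀ h₀ t m hann hk₁ hs₀ hk₀ G)

theorem toKer_ι :
    toKer fX fX₁ g₁ h₁ fX₀ g₀ h₀ t m hann hk₁ hs₀ hk₀ G ≫ kernel.ι (unitHom g₁ G) =
      psi fX fX₀ g₀ h₀ t m hann hs₀ hk₀ G :=
  kernel.lift_ι _ _ _

include hs₁ in
theorem isIso_toKer (hfl : FlatMod.IsFlatOver fX G) :
    IsIso (toKer fX fX₁ g₁ h₁ fX₀ g₀ h₀ t m hann hk₁ hs₀ hk₀ G) := by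
  haveI := isQuasicoherent_pushPull fX fX₀ g₀ h₀ G
  haveI := isQuasicoherent_pushPull fX fX₁ g₁ h₁ G
  haveI : (kernel (unitHom g₁ G)).IsQuasicoherent :=
    Groth.Agent.Lib.helper7.CohKer.isQuasicoherent_kernel (unitHom g₁ G)
  haveI := mono_psi fX fX₀ g₀ h₀ t m hann hs₀ hk₀ G hfl
  apply Groth.Agent.Lib.helper7.KerSections.isIso_of_bijective_affine
  intro W hW
  have hcomp : ∀ q, ((kernel.ι (unitHom g₁ G)).val.app (op W)).hom
      (((toKer fX fX₁ g₁ h₁ fX₀ g₀ h₀ t m hann hk₁ hs₀ hk₀ G).val.app (op W)).hom q) =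
      ((psi fX fX₀ g₀ h₀ t m hann hs₀ hk₀ G).val.app (op W)).hom q := by
    intro q
    have := congrArg (fun φ : pushPull g₀ G ⟶ G => (φ.val.app (op W)).hom q)
      (toKer_ι fX fX₁ g₁ h₁ fX₀ g₀ h₀ t m hann hk₁ hs₀ hk₀ G)
    exact this
  constructor
  · intro q q' hqq'
    apply Groth.Agent.Lib.Helper25.StalkExact.app_injective_of_mono
      (psi fX fX₀ g₀ h₀ t m hann hs₀ hk₀ G) W
    have h3 := congrArg (fun z => ((kernel.ι (unitHom g₁ G)).val.app (op W)).hom z) hqq'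
    exact (hcomp q).symm.trans (h3.trans (hcomp q'))
  · intro x
    have e1 := Groth.Agent.Lib.helper7.KerSections.kernel_ι_app_comp (unitHom g₁ G) W x
    have e2 := (unit_app_eq_zero_iff fX fX₁ g₁ h₁ (Ideal.span {t}) hs₁ hk₁ G W hW _).mp e1
    letI := modSecA fX G W
    obtain ⟨n', hn'⟩ := exists_smul_of_mem_span_smul_top t _ e2
    refine ⟨unitSec g₀ G W n', ?_⟩
    apply Groth.Agent.Lib.helper7.KerSections.kernel_ι_app_injective (unitHom g₁ G) W
    refine (hcomp _).trans ?_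
    rw [unit_psi_app]
    exact hn'.symm

include hs₁ in
/-- **the short exact sequence of a small extension** -/
theorem shortExact (hfl : FlatMod.IsFlatOver fX G) :
    (ShortComplex.mk (psi fX fX₀ g₀ h₀ t m hann hs₀ hk₀ G) (unitHom g₁ G)
      (psi_comp_unit fX fX₁ g₁ h₁ fX₀ g₀ h₀ t m hann hk₁ hs₀ hk₀ G)).ShortExact := by
  haveI := isIso_toKer fX fX₁ g₁ h₁ fX₀ g₀ h₀ t m hann hs₁ hk₁ hs₀ hk₀ G hfl
  haveI := mono_psi fX fX₀ g₀ h₀ t m hann hs₀ hk₀ G hfl
  haveI := epi_unit fX fX₁ g₁ h₁ hs₁ G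
  let S' : ShortComplex X.Modules :=
    ShortComplex.mk (kernel.ι (unitHom g₁ G)) (unitHom g₁ G) (kernel.condition _)
  have hS' : S'.Exact := ShortComplex.exact_of_f_is_kernel _ (kernelIsKernel (unitHom g₁ G))
  let e : ShortComplex.mk (psi fX fX₀ g₀ h₀ t m hann hs₀ hk₀ G) (unitHom g₁ G)
      (psi_comp_unit fX fX₁ g₁ h₁ fX₀ g₀ h₀ t m hann hk₁ hs₀ hk₀ G) ≅ S' :=
    ShortComplex.isoMk (asIso (toKer fX fX₁ g₁ h₁ fX₀ g₀ h₀ t m hann hk₁ hs₀ hk₀ G))
      (Iso.refl _) (Iso.refl _)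
      (by
        dsimp [S']
        rw [toKer_ι, Category.comp_id])
      (by
        dsimp [S']
        rw [Category.comp_id, Category.id_comp])
  exact
    { exact := (ShortComplex.exact_iff_of_iso e).mpr hS'
      mono_f := inferInstance
      epi_g := inferInstance }

end ses

end Groth.Agent.Lib.helper11.Thick
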