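import Mathlib
import Groth.Agent.Lib.Helper11.Thick2

/-!
# Comparison maps `G/J'G ⟶ G/JG` and the relative short exact sequence (helper11)

All on a fixed scheme `X` over `Spec A`; for a base change datum `(B, X', g', …)` with
`ker (A → B) = J` write `Q_J = g'_* g'^* G`.
* `piHom` : for `J' ≤ J` the map `Q_{J'} ⟶ Q_J` with `unit ≫ piHom = unit`.
* relative small extension: `J = J' ⊔ (t)`, `(a t ∈ J' ↔ a ∈ m)`, `J' ≤ m`, `G` flat over `A`:
  short exact sequence `0 ⟶ Q_m ⟶ Q_{J'} ⟶ Q_J ⟶ 0` (`relShortExact`).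
-/

set_option autoImplicit false
universe u
open CategoryTheory CategoryTheory.Limits AlgebraicGeometry TopologicalSpace Opposite
open Scheme.Modules TensorProduct
open Groth.Agent.Lib.helper8.FlatCohBC Groth.Agent.Lib.helper21.GCCech
open Groth.Agent.Lib.helper8.PullbackUnit
open Groth.Agent.Lib.helper12.PullTensor
open Groth.Agent.Lib.helper11.FibMono

namespace Groth.Agent.Lib.helper11.Thick

section pi

variable {A B' B₁ : Type u} [CommRing A] [CommRing B'] [CommRing B₁] [Algebra A B'] [Algebra A B₁]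
variable {X X' X₁ : Scheme.{u}} (fX : X ⟶ Spec (CommRingCat.of A))
  (fX' : X' ⟶ Spec (CommRingCat.of B')) (g' : X' ⟶ X)
  (h' : IsPullback g' fX' fX (Spec.map (CommRingCat.ofHom (algebraMap A B'))))
  (fX₁ : X₁ ⟶ Spec (CommRingCat.of B₁)) (g₁ : X₁ ⟶ X)
  (h₁ : IsPullback g₁ fX₁ fX (Spec.map (CommRingCat.ofHom (algebraMap A B₁))))
  (J' J : Ideal A) (hJ : J' ≤ J)
  (hs' : Function.Surjective (algebraMap A B'))
  (hk' : RingHom.ker (algebraMap A B') = J')
  (hs₁ : Function.Surjective (algebraMap A B₁))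
  (hk₁ : RingHom.ker (algebraMap A B₁) = J)
  (G : X.Modules) [G.IsQuasicoherent]

include h' h₁ hJ hs' hk' hs₁ hk₁ in
theorem kernel_ι_comp_unit : kernel.ι (unitHom g' G) ≫ unitHom g₁ G = 0 := by
  refine Groth.Agent.Lib.helper16.QCohEpi.hom_ext_of_basis _ _ X.affineOpens
    X.isBasis_affineOpens ?_
  intro W hW s
  have e1 := Groth.Agent.Lib.helper7.KerSections.kernel_ι_app_comp (unitHom g' G) W s
  have e2 := (unit_app_eq_zero_iff fX fX' g' h' J' hs' hk' G W hW _).mp e1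
  letI := modSecA fX G W
  have e3 : (((kernel.ι (unitHom g' G)).val.app (op W)).hom s) ∈
      J • (⊤ : Submodule A (G.val.obj (op W))) :=
    Submodule.smul_mono_left hJ e2
  exact (unit_app_eq_zero_iff fX fX₁ g₁ h₁ J hs₁ hk₁ G W hW _).mpr e3

/-- the comparison map `G/J'G ⟶ G/JG` -/
noncomputable def piHom : pushPull g' G ⟶ pushPull g₁ G :=
  haveI := epi_unit fX fX' g' h' hs' G
  (Abelian.epiIsCokernelOfKernel _ (kernelIsKernel (unitHom g' G))).desc
    (CokernelCofork.ofπ (unitHom g₁ G)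
      (kernel_ι_comp_unit fX fX' g' h' fX₁ g₁ h₁ J' J hJ hs' hk' hs₁ hk₁ G))

theorem unit_piHom :
    unitHom g' G ≫ piHom fX fX' g' h' fX₁ g₁ h₁ J' J hJ hs' hk' hs₁ hk₁ G = unitHom g₁ G := by
  haveI := epi_unit fX fX' g' h' hs' G
  exact (Abelian.epiIsCokernelOfKernel _ (kernelIsKernel (unitHom g' G))).fac
    (CokernelCofork.ofπ (unitHom g₁ G)
      (kernel_ι_comp_unit fX fX' g' h' fX₁ g₁ h₁ J' J hJ hs' hk' hs₁ hk₁ G))
    WalkingParallelPair.one

theorem unit_piHom_app (W : X.Opens) (n : G.val.obj (op W)) :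
    ((piHom fX fX' g' h' fX₁ g₁ h₁ J' J hJ hs' hk' hs₁ hk₁ G).val.app (op W)).hom
      (unitSec g' G W n) = unitSec g₁ G W n := by
  have := congrArg (fun φ : G ⟶ pushPull g₁ G => (φ.val.app (op W)).hom n)
    (unit_piHom fX fX' g' h' fX₁ g₁ h₁ J' J hJ hs' hk' hs₁ hk₁ G)
  exact this

theorem epi_piHom : Epi (piHom fX fX' g' h' fX₁ g₁ h₁ J' J hJ hs' hk' hs₁ hk₁ G) := by
  haveI := epi_unit fX fX₁ g₁ h₁ hs₁ G
  have := unit_piHom fX fX' g' h' fX₁ g₁ h₁ J' J hJ hs' hk' hs₁ hk₁ G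
  exact epi_of_epi_fac this

end pi

section algebra

/-- relative version: for a flat module `N`, `t n ∈ J' N` implies `n ∈ m N`
when `(a t ∈ J' ↔ a ∈ m)` and `J' ≤ m` -/
theorem mem_smul_top_of_smul_mem {A : Type u} [CommRing A] (t : A) (J' m : Ideal A)
    (hann : ∀ a : A, a * t ∈ J' ↔ a ∈ m) (hJ'm : J' ≤ m)
    {N : Type u} [AddCommGroup N] [Module A N] [Module.Flat A N] (n : N)
    (hn : t • n ∈ J' • (⊤ : Submodule A N)) :
    n ∈ m • (⊤ : Submodule A N) := by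
  let f : m →ₗ[A] (A ⧸ J') := (Submodule.mkQ J').comp m.subtype
  let g : (A ⧸ J') →ₗ[A] (A ⧸ J') := LinearMap.lsmul A (A ⧸ J') t
  have hfg : Function.Exact f g := by
    intro a
    obtain ⟨a, rfl⟩ := Submodule.mkQ_surjective J' a
    constructor
    · intro ha
      have h1 : Submodule.mkQ J' (t • a) = 0 := by
        rw [_root_.map_smul]; exact ha
      rw [Submodule.mkQ_apply, Submodule.Quotient.mk_eq_zero, smul_eq_mul, mul_comm] at h1
      exact ⟨⟨a, (hann a).mp h1⟩, rfl⟩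
    · rintro ⟨⟨b, hb⟩, hba⟩
      change Submodule.mkQ J' b = Submodule.mkQ J' a at hba
      change t • Submodule.mkQ J' a = 0
      rw [← hba, ← _root_.map_smul, Submodule.mkQ_apply, Submodule.Quotient.mk_eq_zero, smul_eq_mul,
        mul_comm]
      exact (hann b).mpr hb
  have hex := Module.Flat.rTensor_exact N hfg
  have hker : ∀ x : N, (Submodule.mkQ J' (1 : A)) ⊗ₜ[A] x = 0 ↔ x ∈ J' • (⊤ : Submodule A N) := by
    intro x
    have := LinearMap.ker_tensorProductMk (R := A) (I := J') (Q := N)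
    rw [← this]
    rfl
  have h1 : (g.rTensor N) ((Submodule.mkQ J' (1 : A)) ⊗ₜ[A] n) = 0 := by
    rw [LinearMap.rTensor_tmul]
    change (t • Submodule.mkQ J' (1 : A)) ⊗ₜ[A] n = 0
    rw [TensorProduct.smul_tmul]
    exact (hker _).mpr hn
  obtain ⟨z, hz⟩ := (hex _).mp h1
  -- `z` gives an element of `m N`
  have key : ∀ z : m ⊗[A] N, ∃ y ∈ m • (⊤ : Submodule A N),
      (f.rTensor N) z = (Submodule.mkQ J' (1 : A)) ⊗ₜ[A] y := by
    intro z
    induction z using TensorProduct.induction_on with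
    | zero => exact ⟨0, Submodule.zero_mem _, by simp⟩
    | tmul a x =>
      refine ⟨(a : A) • x, Submodule.smul_mem_smul a.2 trivial, ?_⟩
      rw [LinearMap.rTensor_tmul, ← TensorProduct.smul_tmul]
      congr 1
      change Submodule.mkQ J' (a : A) = (a : A) • Submodule.mkQ J' (1 : A)
      rw [← _root_.map_smul, smul_eq_mul, mul_one]
    | add x y hx hy =>
      obtain ⟨x', hx', ex⟩ := hx
      obtain ⟨y', hy', ey⟩ := hy
      exact ⟨x' + y', Submodule.add_mem _ hx' hy', by rw [map_add, ex, ey, TensorProduct.tmul_add]⟩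
  obtain ⟨y, hy, ey⟩ := key z
  have h2 : (Submodule.mkQ J' (1 : A)) ⊗ₜ[A] (n - y) = 0 := by
    rw [TensorProduct.tmul_sub, ← ey, hz, sub_self]
  have h3 : n - y ∈ J' • (⊤ : Submodule A N) := (hker _).mp h2
  have h4 : n - y ∈ m • (⊤ : Submodule A N) := Submodule.smul_mono_left hJ'm h3
  have : n = (n - y) + y := by abel
  rw [this]
  exact Submodule.add_mem _ h4 hy

/-- `t` maps `m N` into `J' N` -/
theorem smul_mem_of_mem_smul_top {A : Type u} [CommRing A] (t : A) (J' m : Ideal A)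
    (hann : ∀ a : A, a * t ∈ J' ↔ a ∈ m)
    {N : Type u} [AddCommGroup N] [Module A N] (n : N) (hn : n ∈ m • (⊤ : Submodule A N)) :
    t • n ∈ J' • (⊤ : Submodule A N) := by
  refine Submodule.smul_induction_on hn ?_ ?_
  · intro a ha z _
    rw [← mul_smul, mul_comm]
    exact Submodule.smul_mem_smul ((hann a).mpr ha) trivial
  · intro x y hx hy
    rw [smul_add]
    exact Submodule.add_mem _ hx hy

/-- elements of `(J' ⊔ (t)) N` are multiples of `t` modulo `J' N` -/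
theorem exists_sub_smul_mem {A : Type u} [CommRing A] (t : A) (J' : Ideal A)
    {N : Type u} [AddCommGroup N] [Module A N] (n : N)
    (hn : n ∈ (J' ⊔ Ideal.span {t}) • (⊤ : Submodule A N)) :
    ∃ n' : N, n - t • n' ∈ J' • (⊤ : Submodule A N) := by
  refine Submodule.smul_induction_on hn ?_ ?_
  · intro a ha z _
    obtain ⟨j, hj, c, hc, rfl⟩ := Submodule.mem_sup.mp ha
    obtain ⟨b, rfl⟩ := Ideal.mem_span_singleton'.mp hc
    refine ⟨b • z, ?_⟩
    have : (j + b * t) • z - t • b • z = j • z := by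
      rw [add_smul, ← mul_smul, mul_comm b t]; abel
    rw [this]
    exact Submodule.smul_mem_smul hj trivial
  · rintro x y ⟨x', hx'⟩ ⟨y', hy'⟩
    refine ⟨x' + y', ?_⟩
    have : x + y - t • (x' + y') = (x - t • x') + (y - t • y') := by
      rw [smul_add]; abel
    rw [this]
    exact Submodule.add_mem _ hx' hy'

end algebra

section relses

variable {A B' B₁ B₀ : Type u} [CommRing A] [CommRing B'] [CommRing B₁] [CommRing B₀]
  [Algebra A B'] [Algebra A B₁] [Algebra A B₀]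
variable {X X' X₁ X₀ : Scheme.{u}} (fX : X ⟶ Spec (CommRingCat.of A))
  (fX' : X' ⟶ Spec (CommRingCat.of B')) (g' : X' ⟶ X)
  (h' : IsPullback g' fX' fX (Spec.map (CommRingCat.ofHom (algebraMap A B'))))
  (fX₁ : X₁ ⟶ Spec (CommRingCat.of B₁)) (g₁ : X₁ ⟶ X)
  (h₁ : IsPullback g₁ fX₁ fX (Spec.map (CommRingCat.ofHom (algebraMap A B₁))))
  (fX₀ : X₀ ⟶ Spec (CommRingCat.of B₀)) (g₀ : X₀ ⟶ X)
  (h₀ : IsPullback g₀ fX₀ fX (Spec.map (CommRingCat.ofHom (algebraMap A B₀))))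
  (t : A) (J' m : Ideal A) (hann : ∀ a : A, a * t ∈ J' ↔ a ∈ m) (hJ'm : J' ≤ m)
  (hs' : Function.Surjective (algebraMap A B'))
  (hk' : RingHom.ker (algebraMap A B') = J')
  (hs₁ : Function.Surjective (algebraMap A B₁))
  (hk₁ : RingHom.ker (algebraMap A B₁) = J' ⊔ Ideal.span {t})
  (hs₀ : Function.Surjective (algebraMap A B₀))
  (hk₀ : RingHom.ker (algebraMap A B₀) = m)
  (G : X.Modules) [G.IsQuasicoherent]

include h' h₀ hann hs' hk' hs₀ hk₀ in
theorem kernel_ι_comp_mulT_unit :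
    kernel.ι (unitHom g₀ G) ≫ mulT fX t G ≫ unitHom g' G = 0 := by
  refine Groth.Agent.Lib.helper16.QCohEpi.hom_ext_of_basis _ _ X.affineOpens
    X.isBasis_affineOpens ?_
  intro W hW s
  have e1 := Groth.Agent.Lib.helper7.KerSections.kernel_ι_app_comp (unitHom g₀ G) W s
  have e2 := (unit_app_eq_zero_iff fX fX₀ g₀ h₀ m hs₀ hk₀ G W hW _).mp e1
  letI := modSecA fX G W
  have e3 := smul_mem_of_mem_smul_top t J' m hann _ e2
  exact (unit_app_eq_zero_iff fX fX' g' h' J' hs' hk' G W hW _).mpr e3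

/-- the map `G/mG ⟶ G/J'G` induced by multiplication by `t` -/
noncomputable def relPsi : pushPull g₀ G ⟶ pushPull g' G :=
  haveI := epi_unit fX fX₀ g₀ h₀ hs₀ G
  (Abelian.epiIsCokernelOfKernel _ (kernelIsKernel (unitHom g₀ G))).desc
    (CokernelCofork.ofπ (mulT fX t G ≫ unitHom g' G)
      (kernel_ι_comp_mulT_unit fX fX' g' h' fX₀ g₀ h₀ t J' m hann hs' hk' hs₀ hk₀ G))

theorem unit_relPsi :
    unitHom g₀ G ≫ relPsi fX fX' g' h' fX₀ g₀ h₀ t J' m hann hs' hk' hs₀ hk₀ G =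
      mulT fX t G ≫ unitHom g' G := by
  haveI := epi_unit fX fX₀ g₀ h₀ hs₀ G
  exact (Abelian.epiIsCokernelOfKernel _ (kernelIsKernel (unitHom g₀ G))).fac
    (CokernelCofork.ofπ (mulT fX t G ≫ unitHom g' G)
      (kernel_ι_comp_mulT_unit fX fX' g' h' fX₀ g₀ h₀ t J' m hann hs' hk' hs₀ hk₀ G))
    WalkingParallelPair.one

theorem unit_relPsi_app (W : X.Opens) (n : G.val.obj (op W)) :
    ((relPsi fX fX' g' h' fX₀ g₀ h₀ t J' m hann hs' hk' hs₀ hk₀ G).val.app (op W)).hom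
      (unitSec g₀ G W n) = unitSec g' G W (letI := modSecA fX G W; t • n) := by
  have := congrArg (fun φ : G ⟶ pushPull g' G => (φ.val.app (op W)).hom n)
    (unit_relPsi fX fX' g' h' fX₀ g₀ h₀ t J' m hann hs' hk' hs₀ hk₀ G)
  exact this

/-- the projection `G/J'G ⟶ G/JG` for `J = J' ⊔ (t)` -/
noncomputable abbrev relPi : pushPull g' G ⟶ pushPull g₁ G :=
  piHom fX fX' g' h' fX₁ g₁ h₁ J' (J' ⊔ Ideal.span {t}) le_sup_left hs' hk' hs₁ hk₁ G

include h₁ hk₁ in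
theorem relPsi_relPi :
    relPsi fX fX' g' h' fX₀ g₀ h₀ t J' m hann hs' hk' hs₀ hk₀ G ≫
      relPi fX fX' g' h' fX₁ g₁ h₁ t J' hs' hk' hs₁ hk₁ G = 0 := by
  haveI := epi_unit fX fX₀ g₀ h₀ hs₀ G
  rw [← cancel_epi (unitHom g₀ G), ← Category.assoc, unit_relPsi, comp_zero, Category.assoc,
    unit_piHom]
  refine Groth.Agent.Lib.helper16.QCohEpi.hom_ext_of_basis _ _ X.affineOpens
    X.isBasis_affineOpens ?_
  intro W hW s
  letI := modSecA fX G W
  have e3 : t • (show G.val.obj (op W) from s) ∈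
      (J' ⊔ Ideal.span {t}) • (⊤ : Submodule A (G.val.obj (op W))) :=
    Submodule.smul_mem_smul (Ideal.mem_sup_right (Ideal.mem_span_singleton_self t)) trivial
  exact (unit_app_eq_zero_iff fX fX₁ g₁ h₁ _ hs₁ hk₁ G W hW _).mpr e3

include hJ'm in
theorem mono_relPsi (hfl : FlatMod.IsFlatOver fX G) :
    Mono (relPsi fX fX' g' h' fX₀ g₀ h₀ t J' m hann hs' hk' hs₀ hk₀ G) := by
  haveI := isQuasicoherent_pushPull fX fX₀ g₀ h₀ G
  haveI := isQuasicoherent_pushPull fX fX' g' h' G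
  apply Groth.Agent.Lib.helper7.KerSections.mono_of_injective_affine
  intro W hW
  rw [injective_iff_map_eq_zero]
  intro q hq
  obtain ⟨n, rfl⟩ := unit_app_surjective fX fX₀ g₀ h₀ hs₀ G W hW q
  have e1 := unit_relPsi_app fX fX' g' h' fX₀ g₀ h₀ t J' m hann hs' hk' hs₀ hk₀ G W n
  have e2 : unitSec g' G W (letI := modSecA fX G W; t • n) = 0 := e1.symm.trans hq
  have e2' := (unit_app_eq_zero_iff fX fX' g' h' J' hs' hk' G W hW _).mp e2
  have hflat := flat_modSec fX G hfl W hW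
  letI := modSecA fX G W
  have e3 : n ∈ m • (⊤ : Submodule A (G.val.obj (op W))) :=
    @mem_smul_top_of_smul_mem A _ t J' m hann hJ'm (G.val.obj (op W)) _ (modSecA fX G W) hflat n e2'
  exact (unit_app_eq_zero_iff fX fX₀ g₀ h₀ m hs₀ hk₀ G W hW n).mpr e3

/-- the comparison `G/mG ⟶ ker (G/J'G ⟶ G/JG)` -/
noncomputable def relToKer :
    pushPull g₀ G ⟶ kernel (relPi fX fX' g' h' fX₁ g₁ h₁ t J' hs' hk' hs₁ hk₁ G) :=
  kernel.lift _ (relPsi fX fX' g' h' fX₀ g₀ h₀ t J' m hann hs' hk' hs₀ hk₀ G)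
    (relPsi_relPi fX fX' g' h' fX₁ g₁ h₁ fX₀ g₀ h₀ t J' m hann hs' hk' hs₁ hk₁ hs₀ hk₀ G)

theorem relToKer_ι :
    relToKer fX fX' g' h' fX₁ g₁ h₁ fX₀ g₀ h₀ t J' m hann hs' hk' hs₁ hk₁ hs₀ hk₀ G ≫
        kernel.ι (relPi fX fX' g' h' fX₁ g₁ h₁ t J' hs' hk' hs₁ hk₁ G) =
      relPsi fX fX' g' h' fX₀ g₀ h₀ t J' m hann hs' hk' hs₀ hk₀ G :=
  kernel.lift_ι _ _ _

include hJ'm in
theorem isIso_relToKer (hfl : FlatMod.IsFlatOver fX G) :
    IsIso (relToKer fX fX' g' h' fX₁ g₁ h₁ fX₀ g₀ h₀ t J' m hann hs' hk' hs₁ hk₁ hs₀ hk₀ G) := by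
  haveI := isQuasicoherent_pushPull fX fX₀ g₀ h₀ G
  haveI := isQuasicoherent_pushPull fX fX₁ g₁ h₁ G
  haveI := isQuasicoherent_pushPull fX fX' g' h' G
  haveI : (kernel (relPi fX fX' g' h' fX₁ g₁ h₁ t J' hs' hk' hs₁ hk₁ G)).IsQuasicoherent :=
    Groth.Agent.Lib.helper7.CohKer.isQuasicoherent_kernel _
  haveI := mono_relPsi fX fX' g' h' fX₀ g₀ h₀ t J' m hann hJ'm hs' hk' hs₀ hk₀ G hfl
  apply Groth.Agent.Lib.helper7.KerSections.isIso_of_bijective_affine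
  intro W hW
  have hcomp : ∀ q, ((kernel.ι (relPi fX fX' g' h' fX₁ g₁ h₁ t J' hs' hk' hs₁ hk₁ G)).val.app
        (op W)).hom
      (((relToKer fX fX' g' h' fX₁ g₁ h₁ fX₀ g₀ h₀ t J' m hann hs' hk' hs₁ hk₁ hs₀ hk₀ G).val.app
        (op W)).hom q) =
      ((relPsi fX fX' g' h' fX₀ g₀ h₀ t J' m hann hs' hk' hs₀ hk₀ G).val.app (op W)).hom q := by
    intro q
    have := congrArg (fun φ : pushPull g₀ G ⟶ pushPull g' G => (φ.val.app (op W)).hom q)
      (relToKer_ι fX fX' g' h' fX₁ g₁ h₁ fX₀ g₀ h₀ t J' m hann hs' hk' hs₁ hk₁ hs₀ hk₀ G)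
    exact this
  constructor
  · intro q q' hqq'
    apply Groth.Agent.Lib.Helper25.StalkExact.app_injective_of_mono
      (relPsi fX fX' g' h' fX₀ g₀ h₀ t J' m hann hs' hk' hs₀ hk₀ G) W
    have h3 := congrArg (fun z =>
      ((kernel.ι (relPi fX fX' g' h' fX₁ g₁ h₁ t J' hs' hk' hs₁ hk₁ G)).val.app (op W)).hom z) hqq'
    exact (hcomp q).symm.trans (h3.trans (hcomp q'))
  · intro x
    have e1 := Groth.Agent.Lib.helper7.KerSections.kernel_ι_app_comp
      (relPi fX fX' g' h' fX₁ g₁ h₁ t J' hs' hk' hs₁ hk₁ G) W x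
    obtain ⟨n, hn⟩ := unit_app_surjective fX fX' g' h' hs' G W hW
      (((kernel.ι (relPi fX fX' g' h' fX₁ g₁ h₁ t J' hs' hk' hs₁ hk₁ G)).val.app (op W)).hom x)
    have e1' : ((relPi fX fX' g' h' fX₁ g₁ h₁ t J' hs' hk' hs₁ hk₁ G).val.app (op W)).hom
        (unitSec g' G W n) = 0 := by
      rw [hn]; exact e1
    rw [unit_piHom_app] at e1'
    have e2 := (unit_app_eq_zero_iff fX fX₁ g₁ h₁ _ hs₁ hk₁ G W hW _).mp e1'
    letI := modSecA fX G W
    obtain ⟨n', hn'⟩ := exists_sub_smul_mem t J' n e2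
    have e4 : unitSec g' G W (n - t • n') = 0 :=
      (unit_app_eq_zero_iff fX fX' g' h' J' hs' hk' G W hW _).mpr hn'
    refine ⟨unitSec g₀ G W n', ?_⟩
    apply Groth.Agent.Lib.helper7.KerSections.kernel_ι_app_injective
      (relPi fX fX' g' h' fX₁ g₁ h₁ t J' hs' hk' hs₁ hk₁ G) W
    refine (hcomp _).trans ?_
    rw [unit_relPsi_app]
    refine Eq.trans ?_ hn
    have e5 : unitSec g' G W (n - t • n') = unitSec g' G W n - unitSec g' G W (t • n') :=
      map_sub (((pbAdj g').unit.app G).val.app (op W)).hom n (t • n')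
    rw [e5, sub_eq_zero] at e4
    exact e4.symm

include hJ'm in
/-- **the relative short exact sequence of a small extension** `0 ⟶ G/mG ⟶ G/J'G ⟶ G/JG ⟶ 0` -/
theorem relShortExact (hfl : FlatMod.IsFlatOver fX G) :
    (ShortComplex.mk (relPsi fX fX' g' h' fX₀ g₀ h₀ t J' m hann hs' hk' hs₀ hk₀ G)
      (relPi fX fX' g' h' fX₁ g₁ h₁ t J' hs' hk' hs₁ hk₁ G)
      (relPsi_relPi fX fX' g' h' fX₁ g₁ h₁ fX₀ g₀ h₀ t J' m hann hs' hk' hs₁ hk₁ hs₀ hk₀
        G)).ShortExact := by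
  haveI := isIso_relToKer fX fX' g' h' fX₁ g₁ h₁ fX₀ g₀ h₀ t J' m hann hJ'm hs' hk' hs₁ hk₁ hs₀
    hk₀ G hfl
  haveI := mono_relPsi fX fX' g' h' fX₀ g₀ h₀ t J' m hann hJ'm hs' hk' hs₀ hk₀ G hfl
  haveI : Epi (relPi fX fX' g' h' fX₁ g₁ h₁ t J' hs' hk' hs₁ hk₁ G) :=
    epi_piHom fX fX' g' h' fX₁ g₁ h₁ J' _ le_sup_left hs' hk' hs₁ hk₁ G
  let S' : ShortComplex X.Modules :=
    ShortComplex.mk (kernel.ι (relPi fX fX' g' h' fX₁ g₁ h₁ t J' hs' hk' hs₁ hk₁ G))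
      (relPi fX fX' g' h' fX₁ g₁ h₁ t J' hs' hk' hs₁ hk₁ G) (kernel.condition _)
  have hS' : S'.Exact := ShortComplex.exact_of_f_is_kernel _ (kernelIsKernel _)
  let e : ShortComplex.mk (relPsi fX fX' g' h' fX₀ g₀ h₀ t J' m hann hs' hk' hs₀ hk₀ G)
      (relPi fX fX' g' h' fX₁ g₁ h₁ t J' hs' hk' hs₁ hk₁ G)
      (relPsi_relPi fX fX' g' h' fX₁ g₁ h₁ fX₀ g₀ h₀ t J' m hann hs' hk' hs₁ hk₁ hs₀ hk₀ G) ≅ S' :=
    ShortComplex.isoMk
      (asIso (relToKer fX fX' g' h' fX₁ g₁ h₁ fX₀ g₀ h₀ t J' m hann hs' hk' hs₁ hk₁ hs₀ hk₀ G))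
      (Iso.refl _) (Iso.refl _)
      (by
        dsimp [S']
        rw [relToKer_ι, Category.comp_id])
      (by
        dsimp [S']
        rw [Category.comp_id, Category.id_comp])
  exact
    { exact := (ShortComplex.exact_iff_of_iso e).mpr hS'
      mono_f := inferInstance
      epi_g := inferInstance }

end relses

end Groth.Agent.Lib.helper11.Thick
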