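import Mathlib
import Groth.Agent.Lib.Helper11.Thick3
import Groth.Agent.Lib.Helper7.QCohExt
import Groth.Agent.Lib.Helper18.HHPush
import Groth.Agent.Lib.Helper27.SerreVan

/-!
# Lifting global sections through a small extension (helper11)
-/

set_option autoImplicit false
universe u
open CategoryTheory CategoryTheory.Limits AlgebraicGeometry TopologicalSpace Opposite
open Scheme.Modules TensorProduct
open Groth.Agent.Lib.helper8.FlatCohBC Groth.Agent.Lib.helper21.GCCech
open Groth.Agent.Lib.helper8.PullbackUnit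
open Groth.Agent.Lib.helper12.PullTensor
open Groth.Agent.Lib.helper11.FibMono

namespace Groth.Agent.Lib.helper11.Thick

/-- global sections of a short exact sequence are surjective when `H^1` of the kernel vanishes -/
theorem sections_surjective_of_subsingleton_HH {X : Scheme.{u}} (S : ShortComplex X.Modules)
    (hS : S.ShortExact) (h1 : Subsingleton (Coh.HH X S.X₁ 1)) :
    Function.Surjective (S.g.val.app (op ⊤)).hom := by
  have hS' := Groth.Agent.Lib.helper7.QCohExt.toSheaf_shortExact_general X.ringCatSheaf S hS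
  have hvan : Subsingleton (CohTop.HU (Coh.toAb S.X₁) 1 ⊤) :=
    (Groth.Agent.Lib.helper27.SerreVan.HEquivHU (Coh.toAb S.X₁) 1).toEquiv.subsingleton
  have := Groth.Agent.Lib.helper27.CechLeray.surjective_of_ext_one
    (Opens.grothendieckTopology X) _ hS' ⊤ hvan
  exact this

section push

variable {A B₀ : Type u} [CommRing A] [CommRing B₀] [Algebra A B₀]
variable {X X₀ : Scheme.{u}} (fX : X ⟶ Spec (CommRingCat.of A))
  (fX₀ : X₀ ⟶ Spec (CommRingCat.of B₀)) (g₀ : X₀ ⟶ X)
  (h₀ : IsPullback g₀ fX₀ fX (Spec.map (CommRingCat.ofHom (algebraMap A B₀))))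
  (G : X.Modules) [G.IsQuasicoherent]

include h₀ in
theorem subsingleton_HH_pushPull (n : ℕ)
    (hv : Subsingleton (Coh.HH X₀ ((Scheme.Modules.pullback g₀).obj G) n)) :
    Subsingleton (Coh.HH X (pushPull g₀ G) n) := by
  haveI := isAffineHom_of_isPullback fX fX₀ g₀ h₀
  haveI : ((Scheme.Modules.pullback g₀).obj G).IsQuasicoherent :=
    Groth.Agent.Lib.helper16.QCohPullback.isQuasicoherent_pullback g₀ G
  exact (Groth.Agent.Lib.Helper18.HH.pushEquivAdd g₀
    ((Scheme.Modules.pullback g₀).obj G) n).toEquiv.subsingleton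

end push

section algebra

/-- in a Noetherian local ring every nonzero proper ideal `J` has a maximal proper subideal `J'`,
and then `J = J' ⊔ (t)` with `(a t ∈ J' ↔ a ∈ m)` -/
theorem exists_covBy_ideal {A : Type u} [CommRing A] [IsLocalRing A] [IsNoetherianRing A]
    (J : Ideal A) (hJ : J ≠ ⊥) :
    ∃ (J' : Ideal A) (t : A), J' < J ∧ J = J' ⊔ Ideal.span {t} ∧
      ∀ a : A, a * t ∈ J' ↔ a ∈ IsLocalRing.maximalIdeal A := by
  have hwf : WellFounded ((· > ·) : Ideal A → Ideal A → Prop) := wellFounded_gt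
  obtain ⟨J', hJ'lt, hmax⟩ := hwf.has_min {I | I < J} ⟨⊥, bot_lt_iff_ne_bot.mpr hJ⟩
  have hJ'lt' : J' < J := hJ'lt
  obtain ⟨t, htJ, htJ'⟩ := SetLike.exists_of_lt hJ'lt'
  have hmax' : ∀ K : Ideal A, J' ≤ K → K < J → K = J' := by
    intro K hK hKJ
    by_contra hne
    exact hmax K hKJ (lt_of_le_of_ne hK (Ne.symm hne))
  have hle : J' ⊔ Ideal.span {t} ≤ J :=
    sup_le hJ'lt'.le ((Ideal.span_singleton_le_iff_mem J).mpr htJ)
  have hsup : J' ⊔ Ideal.span {t} = J := by
    by_contra hne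
    have h1 := hmax' _ le_sup_left (lt_of_le_of_ne hle hne)
    apply htJ'
    rw [← h1]
    exact Ideal.mem_sup_right (Ideal.mem_span_singleton_self t)
  have hK : J' ⊔ IsLocalRing.maximalIdeal A * Ideal.span {t} = J' := by
    apply hmax' _ le_sup_left
    refine lt_of_le_of_ne (sup_le hJ'lt'.le ?_) ?_
    · exact (Ideal.mul_le_inf.trans inf_le_right : IsLocalRing.maximalIdeal A * Ideal.span {t} ≤ Ideal.span {t}).trans ((Ideal.span_singleton_le_iff_mem J).mpr htJ)
    · intro heq
      have ht : t ∈ J' ⊔ IsLocalRing.maximalIdeal A * Ideal.span {t} := by rw [heq]; exact htJ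
      obtain ⟨j, hj, x, hx, hjx⟩ := Submodule.mem_sup.mp ht
      obtain ⟨c, hc, rfl⟩ := Ideal.mem_mul_span_singleton.mp hx
      have hu : IsUnit (1 - c) := by
        by_contra hnu
        have h1 : (1 - c) ∈ IsLocalRing.maximalIdeal A := (IsLocalRing.mem_maximalIdeal _).mpr hnu
        have h2 : (1 : A) ∈ IsLocalRing.maximalIdeal A := by
          have := Ideal.add_mem _ h1 hc
          rwa [sub_add_cancel] at this
        exact (IsLocalRing.maximalIdeal.isMaximal A).ne_top ((Ideal.eq_top_iff_one _).mpr h2)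
      obtain ⟨u, hu⟩ := hu
      apply htJ'
      have h3 : (1 - c) * t = j := by linear_combination (-1 : A) * hjx
      have h4 : t = (↑u⁻¹ : A) * j := by
        rw [← h3, ← hu, ← mul_assoc, Units.inv_mul, one_mul]
      rw [h4]
      exact Ideal.mul_mem_left _ _ hj
  refine ⟨J', t, hJ'lt', hsup.symm, fun a => ⟨fun ha => ?_, fun ha => ?_⟩⟩
  · by_contra hna
    have hu : IsUnit a := by
      by_contra hnu
      exact hna ((IsLocalRing.mem_maximalIdeal _).mpr hnu)
    obtain ⟨u, rfl⟩ := hu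
    apply htJ'
    have : t = (↑u⁻¹ : A) * (↑u * t) := by rw [← mul_assoc, Units.inv_mul, one_mul]
    rw [this]
    exact Ideal.mul_mem_left _ _ ha
  · have h1 : a * t ∈ IsLocalRing.maximalIdeal A * Ideal.span {t} :=
      Ideal.mul_mem_mul ha (Ideal.mem_span_singleton_self t)
    rw [← hK]
    exact Ideal.mem_sup_right h1

end algebra

section rellift

variable {A B' B₁ B₀ : Type u} [CommRing A] [CommRing B'] [CommRing B₁] [CommRing B₀]
  [Algebra A B'] [Algebra A B₁] [Algebra A B₀]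
variable {X X' X₁ X₀ : Scheme.{u}} (fX : X ⟶ Spec (CommRingCat.of A))
  (fX' : X' ⟶ Spec (CommRingCat.of B')) (g' : X' ⟶ X)
  (h' : IsPullback g' fX' fX (Spec.map (CommRingCat.ofHom (algebraMap A B'))))
  (fX₁ : X₁ ⟶ Spec (CommRingCat.of B₁)) (g₁ : X₁ ⟶ X)
  (h₁ : IsPullback g₁ fX₁ fX (Spec.map (CommRingCat.ofHom (algebraMap A B₁))))
  (fX₀ : X₀ ⟶ Spec (CommRingCat.of B₀)) (g₀ : X₀ ⟶ X)
  (h₀ : IsPullback g₀ fX₀ fX (Spec.map (CommRingCat.ofHom (algebraMap A B₀))))
  (t : A) (J' m : Ideal A) (hann : ∀ a : A, a * t ∈ J' ↔ a ∈ m) (hJ'm : J' ≤ m)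
  (hs' : Function.Surjective (algebraMap A B'))
  (hk' : RingHom.ker (algebraMap A B') = J')
  (hs₁ : Function.Surjective (algebraMap A B₁))
  (hk₁ : RingHom.ker (algebraMap A B₁) = J' ⊔ Ideal.span {t})
  (hs₀ : Function.Surjective (algebraMap A B₀))
  (hk₀ : RingHom.ker (algebraMap A B₀) = m)
  (G : X.Modules) [G.IsQuasicoherent]

include hJ'm h₀ hann hs₀ hk₀ in
/-- sections of `G/JG` lift to `G/J'G` when `H^1(X₀, G₀) = 0` -/
theorem exists_rel_lift (hfl : FlatMod.IsFlatOver fX G)
    (hv : Subsingleton (Coh.HH X₀ ((Scheme.Modules.pullback g₀).obj G) 1))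
    (s : (pushPull g₁ G).val.obj (op ⊤)) :
    ∃ s' : (pushPull g' G).val.obj (op ⊤),
      ((relPi fX fX' g' h' fX₁ g₁ h₁ t J' hs' hk' hs₁ hk₁ G).val.app (op ⊤)).hom s' = s :=
  sections_surjective_of_subsingleton_HH _
    (relShortExact fX fX' g' h' fX₁ g₁ h₁ fX₀ g₀ h₀ t J' m hann hJ'm hs' hk' hs₁ hk₁ hs₀ hk₀ G hfl)
    (subsingleton_HH_pushPull fX fX₀ g₀ h₀ G 1 hv) s

end rellift

section base

variable {A B : Type u} [CommRing A] [CommRing B] [Algebra A B]
variable {X X' : Scheme.{u}} (fX : X ⟶ Spec (CommRingCat.of A))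
  (fX' : X' ⟶ Spec (CommRingCat.of B)) (g' : X' ⟶ X)
  (h : IsPullback g' fX' fX (Spec.map (CommRingCat.ofHom (algebraMap A B))))
  (hsurj : Function.Surjective (algebraMap A B))
  (hker : RingHom.ker (algebraMap A B) = ⊥)
  (G : X.Modules) [G.IsQuasicoherent]

include h hsurj hker in
/-- for a trivial base change the unit is an isomorphism -/
theorem isIso_unit_of_ker_eq_bot : IsIso (unitHom g' G) := by
  haveI := isQuasicoherent_pushPull fX fX' g' h G
  apply Groth.Agent.Lib.helper7.KerSections.isIso_of_bijective_affine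
  intro W hW
  refine ⟨?_, unit_app_surjective fX fX' g' h hsurj G W hW⟩
  rw [injective_iff_map_eq_zero]
  intro n hn
  have e := (unit_app_eq_zero_iff fX fX' g' h ⊥ hsurj hker G W hW n).mp hn
  letI := modSecA fX G W
  rw [Submodule.bot_smul] at e
  exact e

include h hsurj hker in
theorem unit_top_surjective_of_ker_eq_bot : Function.Surjective (unitSec g' G ⊤) := by
  haveI := isIso_unit_of_ker_eq_bot fX fX' g' h hsurj hker G
  intro s
  refine ⟨((inv (unitHom g' G)).val.app (op ⊤)).hom s, ?_⟩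
  have := congrArg (fun φ : pushPull g' G ⟶ pushPull g' G => (φ.val.app (op ⊤)).hom s)
    (IsIso.inv_hom_id (unitHom g' G))
  exact this

end base

end Groth.Agent.Lib.helper11.Thick
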