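import Mathlib
import Groth.Agent.Lib.Helper11.AdicGr
import Groth.Agent.Lib.Helper11.AdicUnifSerre
import Groth.Agent.Lib.Helper11.Thick4
import Groth.Agent.Lib.Helper11.RelSerre
import Groth.Agent.Lib.Helper11.FibLift1
import Groth.Agent.Lib.Helper12.PullAmple
import Groth.Agent.Lib.Helper2.TensorQCoh

/-!
# Cohomology on the levels of an adic system (helper11)

* `isIso_unit_cc`: a quasi-coherent module on `X_K` killed by `J` is the pushforward of its pullback to `X_0`;
* `subsingleton_HH_tensor_of_pullback`: vanishing of `H^q(X_K, T ⊗ E^n)` from vanishing on `X_0`;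
* `subsingleton_HH_Sb`: vanishing of `H^q(X_K, J^k F_K ⊗ L_K^n)` from vanishing for the pieces of `gr_J F`.
-/

set_option autoImplicit false
universe u
open CategoryTheory CategoryTheory.Limits AlgebraicGeometry Opposite TopologicalSpace

namespace Groth.Agent.Lib.helper11.AdicSys

open Formal Groth.Agent.Lib.helper8.FF Groth.Agent.Lib.helper8.FPull Groth.Agent.Lib.helper8.Rees
  Scheme.Modules Groth.Agent.Lib.helper11.Thick Groth.Agent.Lib.helper11.FibMono
  Groth.Agent.Lib.Lead.ModTensor Groth.Agent.Lib.Lead.GE Groth.Agent.Lib.Helper18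

section General

variable {A : Type u} [CommRing A] {X : Scheme.{u}} [X.Over (Spec (CommRingCat.of A))]

lemma isIso_sbι_of_eq_top (𝔞 : Ideal A) (h : 𝔞 = ⊤) (M : X.Modules) : IsIso (sbι 𝔞 M) := by
  subst h
  infer_instance

/-- a module killed by `a` stays killed after tensoring -/
lemma smulMod_tensorMod_eq_zero (T E : X.Modules) {a : A} (h : smulMod A T a = 0) :
    smulMod A (CohB1.tensorMod T E) a = 0 := by
  have h1 := Groth.Agent.Lib.helper11.FibLift.tensorMap_smulModΓ_left T E
    (Coh.toGlobal (X ↘ Spec (CommRingCat.of A)) a)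
  have h2 := Groth.Agent.Lib.helper11.FibLift.tensorMap_smulModΓ_left T E
    (Coh.toGlobal (X ↘ Spec (CommRingCat.of A)) 0)
  have h3 : smulMod A T a = smulMod A T 0 := by rw [h, smulMod_zero]
  unfold smulMod at h3 ⊢
  rw [← h1, h3, h2]
  exact smulMod_zero _

instance mono_sbIncl {𝔞 𝔟 : Ideal A} (h : 𝔞 ≤ 𝔟) (M : X.Modules) : Mono (sbIncl h M) :=
  mono_of_mono_fac (sbIncl_ι h M)

/-- `0 → 𝔞 M → 𝔟 M → 𝔟 M / 𝔞 M → 0` -/
theorem shortExact_sbIncl {𝔞 𝔟 : Ideal A} (h : 𝔞 ≤ 𝔟) (M : X.Modules) :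
    (ShortComplex.mk (sbIncl h M) (cokernel.π (sbIncl h M)) (cokernel.condition _)).ShortExact :=
  ShortComplex.ShortExact.mk' (ShortComplex.exact_cokernel _) inferInstance inferInstance

/-- the quotient `𝔟 M / 𝔞 M` is killed by `a` when `a 𝔟 ≤ 𝔞` -/
lemma smulMod_cokernel_sbIncl {𝔞 𝔟 : Ideal A} (h : 𝔞 ≤ 𝔟) (M : X.Modules) (a : A)
    (ha : ∀ c ∈ 𝔟, a * c ∈ 𝔞) : smulMod A (cokernel (sbIncl h M)) a = 0 := by
  rw [← cancel_epi (cokernel.π (sbIncl h M)), ← smulMod_naturality, smulMod_Sb a ha h M,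
    Category.assoc, cokernel.condition, comp_zero, comp_zero]

end General

namespace AdicData

variable {A : Type u} [CommRing A] {J : Ideal A} (D : AdicData A J)

/-- a quasi-coherent module on `X_K` killed by `J` is the pushforward of its pullback to `X_0` -/
theorem isIso_unit_cc (K : ℕ) (T : (D.Xs K).Modules) [T.IsQuasicoherent]
    (hT : ∀ a ∈ J, smulMod A T a = 0) :
    IsIso ((Scheme.Modules.pullbackPushforwardAdjunction (D.cc K)).unit.app T) := by
  have hsurj : Function.Surjective (algebraMap A (A ⧸ J ^ (0 + 1))) := Ideal.Quotient.mk_surjective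
  have hker : RingHom.ker (algebraMap A (A ⧸ J ^ (0 + 1))) = J ^ (0 + 1) := by
    rw [Ideal.Quotient.algebraMap_eq, Ideal.mk_ker]
  have h := D.isPullback_cc_over K
  haveI : ((Scheme.Modules.pullback (D.cc K) ⋙ pushforward (D.cc K)).obj T).IsQuasicoherent :=
    isQuasicoherent_pushPull _ (D.p 0) (D.cc K) h T
  haveI : ((𝟭 (D.Xs K).Modules).obj T).IsQuasicoherent := ‹T.IsQuasicoherent›
  apply Groth.Agent.Lib.helper7.KerSections.isIso_of_bijective_affine
  intro W hW
  refine ⟨?_, unit_app_surjective _ (D.p 0) (D.cc K) h hsurj T W hW⟩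
  rw [injective_iff_map_eq_zero]
  intro n hn
  have e := (unit_app_eq_zero_iff _ (D.p 0) (D.cc K) h _ hsurj hker T W hW n).mp hn
  letI := modSecA (D.Xs K ↘ Spec (CommRingCat.of A)) T W
  refine Submodule.smul_induction_on e (fun a ha s _ => ?_)
    (fun x y hx hy => by rw [hx, hy]; exact add_zero _)
  have : appLin (smulMod A T a) W s = 0 := by
    rw [hT a (by simpa using ha)]
    rfl
  exact this

/-- vanishing of cohomology on `X_K` of a module killed by `J` from vanishing on `X_0` -/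
theorem subsingleton_HH_of_pullback (K : ℕ) (T : (D.Xs K).Modules) [T.IsQuasicoherent]
    (hT : ∀ a ∈ J, smulMod A T a = 0) (q : ℕ)
    (h : Subsingleton (Coh.HH (D.Xs 0) ((Scheme.Modules.pullback (D.cc K)).obj T) q)) :
    Subsingleton (Coh.HH (D.Xs K) T q) := by
  haveI := D.isIso_unit_cc K T hT
  haveI : ((Scheme.Modules.pullback (D.cc K)).obj T).IsQuasicoherent :=
    Groth.Agent.Lib.helper16.QCohPullback.isQuasicoherent_pullback _ T
  have h1 : Subsingleton (Coh.HH (D.Xs K) (pushPull (D.cc K) T) q) :=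
    (Groth.Agent.Lib.Helper18.HH.pushEquivAdd (D.cc K)
      ((Scheme.Modules.pullback (D.cc K)).obj T) q).toEquiv.subsingleton
  exact Groth.Agent.Lib.helper11.RelSerre.subsingleton_HH_of_iso
    (asIso ((Scheme.Modules.pullbackPushforwardAdjunction (D.cc K)).unit.app T)).symm q h1

/-- the same for twists -/
theorem subsingleton_HH_tensor_of_pullback (K : ℕ) (T : (D.Xs K).Modules) [T.IsQuasicoherent]
    (hT : ∀ a ∈ J, smulMod A T a = 0) {E : (D.Xs K).Modules} (hE : PicF.IsInvertible E)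
    {E₀ : (D.Xs 0).Modules} (e : (Scheme.Modules.pullback (D.cc K)).obj E ≅ E₀) (n q : ℕ)
    (h : Subsingleton (Coh.HH (D.Xs 0)
      (CohB1.tensorMod ((Scheme.Modules.pullback (D.cc K)).obj T) (CohB1.tensorPow E₀ n)) q)) :
    Subsingleton (Coh.HH (D.Xs K) (CohB1.tensorMod T (CohB1.tensorPow E n)) q) := by
  have hEn := Groth.Agent.Lib.helper12.TensorInv.isInvertible_tensorPow hE n
  haveI := Groth.Agent.Lib.helper12.AmpleBasis.isQuasicoherent_of_isInvertible hEn
  haveI : (CohB1.tensorMod T (CohB1.tensorPow E n)).IsQuasicoherent :=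
    Groth.Agent.Lib.helper2.TensorQCoh.isQuasicoherent_tensorMod _ _
  refine D.subsingleton_HH_of_pullback K _
    (fun a ha => smulMod_tensorMod_eq_zero T _ (hT a ha)) q ?_
  let i1 := Groth.Agent.Lib.helper12.PullTensor.pullTensorIso (D.cc K) T (CohB1.tensorPow E n) hEn
  let i2 := tensorIso (Iso.refl ((Scheme.Modules.pullback (D.cc K)).obj T))
    (Groth.Agent.Lib.helper12.PullAmple.pullTensorPowIso (D.cc K) hE n ≪≫ tensorPowIso e n)
  exact Groth.Agent.Lib.helper11.RelSerre.subsingleton_HH_of_iso (i1 ≪≫ i2).symm q h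

end AdicData

end Groth.Agent.Lib.helper11.AdicSys
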