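import Mathlib
import Groth.Agent.Lib.Helper11.AdicCoh

/-!
# Uniform vanishing on the levels of an adic system (helper11)

`exists_uniform_vanishing_Sb`: for an adic system `X_k` with `X_0` proper over `A/J` (`A` Noetherian),
compatible invertible modules `L_k` with `L_0` ample and compatible coherent modules `F_k`, there is `n₀`
with `H^q(X_K, J^k F_K ⊗ L_K^n) = 0` for all `n ≥ n₀`, all `K`, `k` and all `q > 0`.
-/

set_option autoImplicit false
universe u
open CategoryTheory CategoryTheory.Limits AlgebraicGeometry Opposite TopologicalSpace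

namespace Groth.Agent.Lib.helper11.AdicSys

open Formal Groth.Agent.Lib.helper8.FF Groth.Agent.Lib.helper8.FPull Groth.Agent.Lib.helper8.Rees
  Scheme.Modules Groth.Agent.Lib.Lead.ModTensor Groth.Agent.Lib.Lead.GE Groth.Agent.Lib.Helper18

namespace AdicData

variable {A : Type u} [CommRing A] {J : Ideal A} (D : AdicData A J)

/-- a compatible system of modules pulls back to its `0`-th term along `X_0 ⟶ X_K` -/
noncomputable def pullCcIso (M : ∀ k, (D.Xs k).Modules)
    (φ : ∀ k, (Scheme.Modules.pullback (D.i k)).obj (M (k + 1)) ≅ M k) :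
    ∀ K, (Scheme.Modules.pullback (D.cc K)).obj (M K) ≅ M 0
  | 0 => (pullbackId (D.Xs 0)).app (M 0)
  | K + 1 => ((pullbackComp (D.cc K) (D.i K)).app (M (K + 1))).symm ≪≫
      (Scheme.Modules.pullback (D.cc K)).mapIso (φ K) ≪≫ pullCcIso M φ K

variable {r : ℕ} (a : Fin r → A) (ha : Ideal.span (Set.range a) = J)
  (F : ∀ k, (D.Xs k).Modules) (hF : ∀ k, Coh.IsCoh (F k))
  (ψ : ∀ k, (Scheme.Modules.pullback (D.i k)).obj (F (k + 1)) ≅ F k)

include ha in
lemma mem_J (i : Fin r) : a i ∈ J := by
  rw [← ha]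
  exact Ideal.subset_span ⟨i, rfl⟩

include ha in
/-- `c_K^*` kills the inclusion `J^(k+1) F_K ⟶ J^k F_K` -/
lemma pullback_map_sbIncl_eq_zero (K k : ℕ) :
    (Scheme.Modules.pullback (D.cc K)).map
      (sbIncl (Ideal.pow_le_pow_right (I := Ideal.span (Set.range a)) (Nat.le_succ k)) (F K)) = 0 := by
  refine jointEpi_pullSys (D.cc K) (reesSys a (F K)) k
    (jointEpi_of_epi_desc _ _ (epi_desc_reesSys a (F K) k)) _ 0 (fun i => ?_)
  change (Scheme.Modules.pullback (D.cc K)).map (sbMul (a i) (mul_mem_pow_succ a i k) (F K)) ≫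
    (Scheme.Modules.pullback (D.cc K)).map _ = _ ≫ 0
  rw [comp_zero, ← Functor.map_comp, ← smulMod_Sb, pullback_map_smulMod (D.cc K) (D.hcc K),
    D.smulMod_eq_zero' _ (mem_J a ha i)]

include ha in
theorem isIso_pullback_map_cokernel_π (K k : ℕ) :
    IsIso ((Scheme.Modules.pullback (D.cc K)).map (cokernel.π
      (sbIncl (Ideal.pow_le_pow_right (I := Ideal.span (Set.range a)) (Nat.le_succ k)) (F K)))) := by
  set ι := sbIncl (Ideal.pow_le_pow_right (I := Ideal.span (Set.range a)) (Nat.le_succ k)) (F K)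
    with hι
  let S : ShortComplex (D.Xs K).Modules := ShortComplex.mk ι (cokernel.π ι) (cokernel.condition _)
  have hS : S.Exact := ShortComplex.exact_cokernel _
  have hS' : (S.map (Scheme.Modules.pullback (D.cc K))).Exact :=
    hS.map_of_epi_of_preservesCokernel _ (inferInstanceAs (Epi (cokernel.π ι))) inferInstance
  haveI : Mono ((Scheme.Modules.pullback (D.cc K)).map (cokernel.π ι)) :=
    hS'.mono_g (D.pullback_map_sbIncl_eq_zero a ha F K k)
  haveI : Epi ((Scheme.Modules.pullback (D.cc K)).map (cokernel.π ι)) := inferInstance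
  exact isIso_of_mono_of_epi _

variable (L : ∀ k, (D.Xs k).Modules) (hL : ∀ k, PicF.IsInvertible (L k))

include hL in
/-- the filtration argument on `X_K` -/
theorem subsingleton_HH_Sb (K n q : ℕ) (e : (Scheme.Modules.pullback (D.cc K)).obj (L K) ≅ L 0)
    (hvan : ∀ k, k ≤ K → Subsingleton (Coh.HH (D.Xs 0)
      (CohB1.tensorMod ((D.grSys a ha F hF ψ).obj k) (CohB1.tensorPow (L 0) n)) q)) :
    ∀ m k, k + m = K + 1 → Subsingleton (Coh.HH (D.Xs K)
      (CohB1.tensorMod (Sb (Ideal.span (Set.range a) ^ k) (F K)) (CohB1.tensorPow (L K) n)) q) := by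
  haveI : (F K).IsQuasicoherent := (hF K).1
  intro m
  induction m with
  | zero =>
    intro k hk
    obtain rfl : k = K + 1 := by omega
    have hz : IsZero (Sb (Ideal.span (Set.range a) ^ (K + 1)) (F K)) :=
      isZero_Sb_of_smulMod_eq_zero _ _ (fun a' ha' => D.smulMod_eq_zero K _ (by rw [← ha]; exact ha'))
    exact subsingleton_HH_of_isZero (Punctual.isZero_tensorMod_left hz _) q
  | succ m ih =>
    intro k hk
    have hkK : k ≤ K := by omega
    have h1 := ih (k + 1) (by omega)
    have hle : Ideal.span (Set.range a) ^ (k + 1) ≤ Ideal.span (Set.range a) ^ k :=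
      Ideal.pow_le_pow_right (Nat.le_succ k)
    have hSES := shortExact_sbIncl hle (F K)
    obtain ⟨w, hw⟩ := shortExact_tensor_invertible _ hSES
      (Groth.Agent.Lib.helper12.TensorInv.isInvertible_tensorPow (hL K) n)
    haveI := isQuasicoherent_Sb (Ideal.span (Set.range a) ^ k) (F K)
    haveI := isQuasicoherent_Sb (Ideal.span (Set.range a) ^ (k + 1)) (F K)
    haveI : (cokernel (sbIncl hle (F K))).IsQuasicoherent :=
      Groth.Agent.Lib.helper7.CohKer.isQuasicoherent_cokernel _
    have hkill : ∀ a' ∈ J, smulMod A (cokernel (sbIncl hle (F K))) a' = 0 := by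
      intro a' ha'
      refine smulMod_cokernel_sbIncl hle (F K) a' (fun c hc => ?_)
      rw [pow_succ']
      exact Ideal.mul_mem_mul (by rw [ha]; exact ha') hc
    haveI := D.isIso_pullback_map_cokernel_π a ha F K k
    obtain ⟨e2⟩ := D.nonempty_iso_grSys a ha F hF ψ K k hkK
    let e1 := (asIso ((Scheme.Modules.pullback (D.cc K)).map (cokernel.π (sbIncl hle (F K))))).symm
    have h3 : Subsingleton (Coh.HH (D.Xs K)
        (CohB1.tensorMod (cokernel (sbIncl hle (F K))) (CohB1.tensorPow (L K) n)) q) := by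
      refine D.subsingleton_HH_tensor_of_pullback K _ hkill (hL K) e n q ?_
      exact Groth.Agent.Lib.helper11.RelSerre.subsingleton_HH_of_iso
        (tensorIso (e1 ≪≫ e2) (Iso.refl _)).symm q (hvan k hkK)
    exact subsingleton_HH_middle _ hw q h1 h3

variable [IsNoetherianRing A] (hp : IsProper (D.p 0))
  (φ : ∀ k, (Scheme.Modules.pullback (D.i k)).obj (L (k + 1)) ≅ L k) (hample : CohB1.IsAmple (L 0))

include hL hp hample ha hF φ ψ in
/-- **uniform vanishing on all levels** -/
theorem exists_uniform_vanishing_Sb :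
    ∃ n₀ : ℕ, ∀ n : ℕ, n₀ ≤ n → ∀ K k q : ℕ, 0 < q → Subsingleton (Coh.HH (D.Xs K)
      (CohB1.tensorMod (Sb (Ideal.span (Set.range a) ^ k) (F K)) (CohB1.tensorPow (L K) n)) q) := by
  haveI := hp
  obtain ⟨n₀, hn₀⟩ := exists_uniform_vanishing (D.p 0) hample Finset.univ
    (D.grSys a ha F hF ψ) (D.good_grSys a ha F hF ψ)
  refine ⟨n₀, fun n hn K k q hq => ?_⟩
  by_cases hk : k ≤ K + 1
  · exact D.subsingleton_HH_Sb a ha F hF ψ L hL K n q (D.pullCcIso L φ K)
      (fun k' _ => hn₀ n hn k' q hq) (K + 1 - k) k (by omega)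
  · have hz : IsZero (Sb (Ideal.span (Set.range a) ^ k) (F K)) :=
      isZero_Sb_of_smulMod_eq_zero _ _ (fun a' ha' => D.smulMod_eq_zero K _ (by
        rw [← ha]
        exact Ideal.pow_le_pow_right (by omega) ha'))
    exact subsingleton_HH_of_isZero (Punctual.isZero_tensorMod_left hz _) q

end AdicData

end Groth.Agent.Lib.helper11.AdicSys
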