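import Mathlib
import Groth.Agent.Lib.Helper11.AdicFilt

/-!
# Uniform Serre vanishing on the levels of a proper adic system (helper11)
-/

set_option autoImplicit false
universe u
open CategoryTheory CategoryTheory.Limits AlgebraicGeometry Opposite TopologicalSpace

namespace Groth.Agent.Lib.helper11.AdicSys

open Formal Groth.Agent.Lib.helper8.FF Groth.Agent.Lib.Lead.ModTensor

/-- finitely many generators of an ideal of a Noetherian ring -/
theorem exists_generators {A : Type u} [CommRing A] [IsNoetherianRing A] (J : Ideal A) :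
    ∃ (r : ℕ) (a : Fin r → A), Ideal.span (Set.range a) = J := by
  classical
  obtain ⟨t, ht⟩ := (isNoetherianRing_iff_ideal_fg A).mp inferInstance J
  obtain ⟨r, ⟨e⟩⟩ : ∃ r : ℕ, Nonempty (Fin r ≃ t) := ⟨_, ⟨(Fintype.equivFin t).symm⟩⟩
  refine ⟨r, fun k => (e k : A), ?_⟩
  rw [← ht]
  congr 1
  ext x
  constructor
  · rintro ⟨k, rfl⟩
    exact (e k).2
  · intro hx
    exact ⟨e.symm ⟨x, hx⟩, by simp⟩

namespace AdicData

variable {A : Type u} [CommRing A] [IsNoetherianRing A] {J : Ideal A} (D : AdicData A J)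
  (hp : IsProper (D.p 0))
  (L : ∀ k, (D.Xs k).Modules) (hL : ∀ k, PicF.IsInvertible (L k))
  (φ : ∀ k, Nonempty ((Scheme.Modules.pullback (D.i k)).obj (L (k + 1)) ≅ L k))
  (hample : CohB1.IsAmple (L 0))
  (F : ∀ k, (D.Xs k).Modules) (hF : ∀ k, Coh.IsCoh (F k))
  (ψ : ∀ k, Nonempty ((Scheme.Modules.pullback (D.i k)).obj (F (k + 1)) ≅ F k))

include hp hL φ hample hF ψ in
/-- **uniform Serre vanishing on all levels** (EGA III 5.2.3 core, levelwise form) -/
theorem exists_uniform_vanishing_levels :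
    ∃ n₀ : ℕ, ∀ n : ℕ, n₀ ≤ n → ∀ K q : ℕ, 0 < q → Subsingleton (Coh.HH (D.Xs K)
      (CohB1.tensorMod (F K) (CohB1.tensorPow (L K) n)) q) := by
  obtain ⟨r, a, hspan⟩ := exists_generators J
  obtain ⟨n₀, hn₀⟩ := D.exists_uniform_vanishing_Sb a hspan F hF (fun k => (ψ k).some) L hL hp
    (fun k => (φ k).some) hample
  refine ⟨n₀, fun n hn K q hq => ?_⟩
  have h1 := hn₀ n hn K 0 q hq
  have h0 : Ideal.span (Set.range a) ^ 0 = ⊤ := by rw [pow_zero, Ideal.one_eq_top]
  haveI : IsIso (sbι (Ideal.span (Set.range a) ^ 0) (F K)) := isIso_sbι_of_eq_top _ h0 _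
  exact Groth.Agent.Lib.helper11.RelSerre.subsingleton_HH_of_iso
    (tensorIso (asIso (sbι (Ideal.span (Set.range a) ^ 0) (F K))) (Iso.refl _)) q h1

end AdicData

end Groth.Agent.Lib.helper11.AdicSys
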