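import Mathlib
import Groth.Prelude.Def_Coh
import Groth.Agent.Lib.Helper27.FiltCohTop
import Groth.Agent.Lib.Helper27.SerreVan
import Groth.Agent.Lib.Helper21.ModSh

/-!
# Cohomology of qcqs schemes and coproducts (helper11)

* `isZero_of_isColimit`, `isZero_map_sigma` (abstract).
* `isZero_HU_top_sigma`: on a quasi-compact quasi-separated scheme, `H^p(X, ∐ A_j) = 0` if all `H^p(X, A_j) = 0`
  (abelian sheaves; from helper27 `FiltCoh.preservesColimit_H_top` + coproducts as filtered colimits of finite ones).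
* `subsingleton_HH_sigma`: the same for `O_X`-modules and `Coh.HH`.
-/

set_option autoImplicit false
universe u
open CategoryTheory CategoryTheory.Limits AlgebraicGeometry Opposite TopologicalSpace

namespace Groth.Agent.Lib.helper11.CoprodVan

/-- a colimit of zero objects is zero -/
theorem isZero_of_isColimit {C J : Type*} [Category C] [Category J] [HasZeroMorphisms C]
    {F : J ⥤ C} {c : Cocone F} (hc : IsColimit c) (h : ∀ j, IsZero (F.obj j)) : IsZero c.pt := by
  rw [IsZero.iff_id_eq_zero]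
  apply hc.hom_ext
  intro j
  exact (h j).eq_of_src _ _

/-- an additive functor kills a finite coproduct of objects it kills -/
theorem isZero_map_sigma {C D : Type*} [Category C] [Category D] [Preadditive C] [Preadditive D]
    (Φ : C ⥤ D) [Φ.Additive] {ι : Type*} [Finite ι] (f : ι → C) [HasCoproduct f]
    [HasFiniteBiproducts C]
    (h : ∀ i, IsZero (Φ.obj (f i))) : IsZero (Φ.obj (∐ f)) := by
  classical
  have := Fintype.ofFinite ι
  have hb : HasBiproduct f := inferInstance
  have e : ∐ f ≅ ⨁ f := (biproduct.isoCoproduct f).symm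
  refine IsZero.of_iso ?_ (Φ.mapIso e)
  rw [IsZero.iff_id_eq_zero, ← Φ.map_id]
  have ht : 𝟙 (⨁ f) = ∑ j, biproduct.π f j ≫ biproduct.ι f j :=
    (IsBilimit.total (biproduct.isBilimit f)).symm
  rw [ht, Φ.map_sum]
  refine Finset.sum_eq_zero fun i _ => ?_
  rw [Φ.map_comp, (h i).eq_of_tgt (Φ.map (biproduct.π f i)) 0, zero_comp]

end Groth.Agent.Lib.helper11.CoprodVan

namespace Groth.Agent.Lib.helper11.CoprodVan

open Groth.Agent.Lib.helper27

variable (X : Scheme.{u})

/-- the compact opens of a quasi-separated scheme satisfy the hypotheses of `preservesColimit_H_top` -/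
theorem isZero_HU_top_sigma [CompactSpace X] [QuasiSeparatedSpace X] {ι : Type u}
    (A : ι → CohTop.Ab X.toTopCat) (p : ℕ)
    (h : ∀ j, Subsingleton (CohTop.HU (A j) p ⊤)) :
    Subsingleton (CohTop.HU (∐ A) p ⊤) := by
  classical
  let Φ : CohTop.Ab X.toTopCat ⥤ AddCommGrpCat.{u} :=
    (Sheaf.cohomologyPresheafFunctor (Opens.grothendieckTopology X) p).flip.obj (op ⊤)
  have hadd : Φ.Additive :=
    inferInstanceAs (Abelian.extFunctorObj
      ((presheafToSheaf (Opens.grothendieckTopology X) AddCommGrpCat.{u}).obj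
        (yoneda.obj (⊤ : Opens X) ⋙ AddCommGrpCat.free)) p).Additive
  have hqs : QuasiSeparatedSpace ↑X.toTopCat := ‹QuasiSeparatedSpace X›
  have hcs : CompactSpace ↑X.toTopCat := ‹CompactSpace X›
  have hfb : HasFiniteBiproducts (CohTop.Ab X.toTopCat) := Abelian.hasFiniteBiproducts
  -- the family of compact opens
  let 𝔅 : Set (Opens X.toTopCat) := {W | IsCompact W.1}
  have hcomp : ∀ W ∈ 𝔅, IsCompact (W : Set X.toTopCat) := fun W hW => hW
  have hinf : ∀ W ∈ 𝔅, ∀ W' ∈ 𝔅, W ⊓ W' ∈ 𝔅 := fun W hW W' hW' =>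
    QuasiSeparatedSpace.inter_isCompact W.1 W'.1 W.2 hW W'.2 hW'
  have hbasis : ∀ W ∈ 𝔅, ∀ (V : Opens X.toTopCat), V ≤ W → ∀ x ∈ V, ∃ W' ∈ 𝔅, x ∈ W' ∧ W' ≤ V := by
    intro W _ V _ x hx
    obtain ⟨W', hW', hxW', hle⟩ := Opens.isBasis_iff_nbhd.mp X.isBasis_affineOpens hx
    exact ⟨W', hW'.isCompact, hxW', hle⟩
  have htop : (⊤ : Opens X.toTopCat) ∈ 𝔅 := isCompact_univ
  let F := CoproductsFromFiniteFiltered.liftToFinsetObj (Discrete.functor A)
  have hpres : PreservesColimit F Φ :=
    FiltCoh.preservesColimit_H_top 𝔅 hcomp hinf hbasis ⊤ htop p F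
  have hc := isColimitOfPreserves Φ
    (CoproductsFromFiniteFiltered.isColimitFiniteSubproductsCocone A)
  have hz : IsZero (Φ.obj (∐ A)) := by
    refine isZero_of_isColimit hc fun S => ?_
    change IsZero (Φ.obj (∐ fun x : S => (Discrete.functor A).obj x))
    refine isZero_map_sigma Φ _ fun x => ?_
    have h1 : Subsingleton ↑(Φ.obj ((Discrete.functor A).obj ↑x)) := h x.1.as
    exact AddCommGrpCat.isZero_of_subsingleton _
  exact AddCommGrpCat.subsingleton_of_isZero hz

/-- **cohomology of a quasi-compact quasi-separated scheme kills coproducts of modules it kills** -/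
theorem subsingleton_HH_sigma [CompactSpace X] [QuasiSeparatedSpace X] {ι : Type u}
    (G : ι → X.Modules) (p : ℕ) (h : ∀ j, Subsingleton (Coh.HH X (G j) p)) :
    Subsingleton (Coh.HH X (∐ G) p) := by
  have hpc := Groth.Agent.Lib.Helper21.ModSh.toSheaf_preservesColimits X.ringCatSheaf
  let e : Coh.toAb (∐ G) ≅ ∐ fun j => Coh.toAb (G j) :=
    PreservesCoproduct.iso (SheafOfModules.toSheaf X.ringCatSheaf) G
  have h1 : Subsingleton (CohTop.HU (∐ fun j => Coh.toAb (G j)) p ⊤) :=
    isZero_HU_top_sigma X (fun j => Coh.toAb (G j)) p fun j =>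
      (SerreVan.HEquivHU (Coh.toAb (G j)) p).toEquiv.subsingleton
  have h2 : Subsingleton (CohTop.HU (Coh.toAb (∐ G)) p ⊤) :=
    @Equiv.subsingleton _ _ (((Sheaf.cohomologyPresheafFunctor (Opens.grothendieckTopology X)
      p).flip.obj (op ⊤)).mapIso e).addCommGroupIsoToAddEquiv.toEquiv h1
  exact (SerreVan.HEquivHU (Coh.toAb (∐ G)) p).symm.toEquiv.subsingleton

end Groth.Agent.Lib.helper11.CoprodVan
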