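import Mathlib
import Groth.Agent.Lib.Helper11.AdicMain
import Groth.Agent.Lib.Helper11.SerreGG
import Groth.Agent.Lib.Helper11.CounitEpi
import Groth.Agent.Lib.Helper12.GGExt
import Groth.Agent.Lib.Helper12.GGTensor
import Groth.Agent.Lib.Helper8.RpushClosed
import Groth.Agent.Lib.Helper8.DevCore
import Groth.Agent.Lib.Helper25.QCohCoprod

/-!
# Uniform global generation on the levels of a proper adic system (helper11)

`exists_uniform_gg_levels`: there is `N` with `F_K ⊗ L_K^n` globally generated for all `n ≥ N` and all `K`.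
-/

set_option autoImplicit false
universe u
open CategoryTheory CategoryTheory.Limits AlgebraicGeometry Opposite TopologicalSpace

namespace Groth.Agent.Lib.helper11.AdicSys

open Formal Groth.Agent.Lib.helper8.FF Groth.Agent.Lib.helper8.FPull Groth.Agent.Lib.helper8.Rees
  Scheme.Modules Groth.Agent.Lib.Lead.ModTensor Groth.Agent.Lib.Lead.GE Groth.Agent.Lib.Helper18
  Groth.Agent.Lib.helper12.GGTensor Groth.Agent.Lib.helper12.GGExt
  Groth.Agent.Lib.helper12.TensorCocont

section General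

variable {X : Scheme.{u}}

theorem gg_of_isZero {M : X.Modules} (h : IsZero M) : Curv2.IsGloballyGenerated M :=
  ⟨PEmpty, 0, ⟨fun g g' _ => h.eq_of_src g g'⟩⟩

theorem isQuasicoherent_free (ι : Type u) : (SheafOfModules.free ι : X.Modules).IsQuasicoherent :=
  Groth.Agent.Lib.helper25.QCohCoprod.isQuasicoherent_coproduct X
    (fun _ : ι => SheafOfModules.unit X.ringCatSheaf)
    (fun _ => Groth.Agent.Lib.helper12.AmpleBasis.structureModule_qcoh X)

/-- global generation of `N ⊗ E` from a finite jointly epimorphic family `M ⟶ N` -/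
theorem gg_tensor_of_jointEpi {r : ℕ} {M N : X.Modules} (E : X.Modules) (f : Fin r → (M ⟶ N))
    (hf : ∀ ⦃Z : X.Modules⦄ (g h : N ⟶ Z), (∀ i, f i ≫ g = f i ≫ h) → g = h)
    (hM : Curv2.IsGloballyGenerated (CohB1.tensorMod M E)) :
    Curv2.IsGloballyGenerated (CohB1.tensorMod N E) := by
  let d : (∐ fun _ : ULift.{u} (Fin r) => M) ⟶ N := Sigma.desc (fun i => f i.down)
  haveI : Epi d := by
    refine ⟨fun g h hgh => hf g h (fun i => ?_)⟩
    have := congrArg (fun φ => Sigma.ι (fun _ : ULift.{u} (Fin r) => M) ⟨i⟩ ≫ φ) hgh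
    simpa [d] using this
  haveI : Epi (tensorMap d (𝟙 E)) := epi_tensorMap_right E d
  refine gg_of_epi (tensorMap d (𝟙 E)) ?_
  exact gg_of_iso (tensorRightSigmaIso E _).symm (gg_sigma _ (fun _ => hM))

end General

namespace AdicData

variable {A : Type u} [CommRing A] {J : Ideal A} (D : AdicData A J)

/-- a quasi-coherent module on `X_K` killed by `J` is globally generated if its pullback to `X_0` is -/
theorem gg_of_pullback_gg (K : ℕ) (T : (D.Xs K).Modules) [T.IsQuasicoherent]
    (hT : ∀ a ∈ J, smulMod A T a = 0)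
    (h : Curv2.IsGloballyGenerated ((Scheme.Modules.pullback (D.cc K)).obj T)) :
    Curv2.IsGloballyGenerated T := by
  obtain ⟨ι, e, he⟩ := h
  haveI := he
  haveI := D.isIso_unit_cc K T hT
  haveI := isQuasicoherent_free (X := D.Xs K) ι
  haveI : Epi ((Groth.Agent.Lib.helper11.CounitEpi.pullbackFreeIso (D.cc K) ι).hom ≫ e) :=
    @epi_comp _ _ _ _ _ (Groth.Agent.Lib.helper11.CounitEpi.pullbackFreeIso (D.cc K) ι).hom
      inferInstance e he
  haveI := Groth.Agent.Lib.helper8.RpushClosed.epi_pushforward_map (D.cc K)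
    ((Groth.Agent.Lib.helper11.CounitEpi.pullbackFreeIso (D.cc K) ι).hom ≫ e)
  haveI : Epi (Groth.Agent.Lib.helper8.Dev.unitOf (D.cc K) (SheafOfModules.free ι)) :=
    Groth.Agent.Lib.helper8.Dev.epi_unitOf (D.cc K) (SheafOfModules.free ι)
  exact gg_of_epi (Groth.Agent.Lib.helper8.Dev.unitOf (D.cc K) (SheafOfModules.free ι) ≫
    (Scheme.Modules.pushforward (D.cc K)).map
      ((Groth.Agent.Lib.helper11.CounitEpi.pullbackFreeIso (D.cc K) ι).hom ≫ e) ≫
    inv ((Scheme.Modules.pullbackPushforwardAdjunction (D.cc K)).unit.app T)) (gg_free ι)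

/-- the same for twists -/
theorem gg_tensor_of_pullback (K : ℕ) (T : (D.Xs K).Modules) [T.IsQuasicoherent]
    (hT : ∀ a ∈ J, smulMod A T a = 0) {E : (D.Xs K).Modules} (hE : PicF.IsInvertible E)
    {E₀ : (D.Xs 0).Modules} (e : (Scheme.Modules.pullback (D.cc K)).obj E ≅ E₀) (n : ℕ)
    (h : Curv2.IsGloballyGenerated
      (CohB1.tensorMod ((Scheme.Modules.pullback (D.cc K)).obj T) (CohB1.tensorPow E₀ n))) :
    Curv2.IsGloballyGenerated (CohB1.tensorMod T (CohB1.tensorPow E n)) := by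
  have hEn := Groth.Agent.Lib.helper12.TensorInv.isInvertible_tensorPow hE n
  haveI := Groth.Agent.Lib.helper12.AmpleBasis.isQuasicoherent_of_isInvertible hEn
  haveI : (CohB1.tensorMod T (CohB1.tensorPow E n)).IsQuasicoherent :=
    Groth.Agent.Lib.helper2.TensorQCoh.isQuasicoherent_tensorMod _ _
  refine D.gg_of_pullback_gg K _ (fun a ha => smulMod_tensorMod_eq_zero T _ (hT a ha)) ?_
  let i1 := Groth.Agent.Lib.helper12.PullTensor.pullTensorIso (D.cc K) T (CohB1.tensorPow E n) hEn
  let i2 := tensorIso (Iso.refl ((Scheme.Modules.pullback (D.cc K)).obj T))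
    (Groth.Agent.Lib.helper12.PullAmple.pullTensorPowIso (D.cc K) hE n ≪≫ tensorPowIso e n)
  exact gg_of_iso (i1 ≪≫ i2).symm h

variable {r : ℕ} (a : Fin r → A) (ha : Ideal.span (Set.range a) = J)
  (F : ∀ k, (D.Xs k).Modules) (hF : ∀ k, Coh.IsCoh (F k))
  (ψ : ∀ k, (Scheme.Modules.pullback (D.i k)).obj (F (k + 1)) ≅ F k)

/-- the degree-zero piece of `gr_J F` is `F_0` -/
noncomputable def grSysZeroIso : (D.grSys a ha F hF ψ).obj 0 ≅ F 0 :=
  haveI : IsIso (sbι (Ideal.span (Set.range a) ^ 0) (F 0)) :=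
    isIso_sbι_of_eq_top _ (by rw [pow_zero, Ideal.one_eq_top]) _
  (pullbackId (D.Xs 0)).app (Sb (Ideal.span (Set.range a) ^ 0) (F 0)) ≪≫
    asIso (sbι (Ideal.span (Set.range a) ^ 0) (F 0))

/-- uniform global generation of the pieces of `gr_J F` -/
theorem gg_grSys (E : (D.Xs 0).Modules)
    (h0 : Curv2.IsGloballyGenerated (CohB1.tensorMod (F 0) E)) :
    ∀ k, Curv2.IsGloballyGenerated (CohB1.tensorMod ((D.grSys a ha F hF ψ).obj k) E) := by
  intro k
  induction k with
  | zero => exact gg_of_iso (tensorIso (D.grSysZeroIso a ha F hF ψ) (Iso.refl E)).symm h0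
  | succ k ih =>
    exact gg_tensor_of_jointEpi E (fun i => (D.grSys a ha F hF ψ).τ i k)
      (jointEpi_diag _ _ _ k (D.jointEpi_𝒢 a F (k + 1) k)) ih

variable (L : ∀ k, (D.Xs k).Modules) (hL : ∀ k, PicF.IsInvertible (L k))

include hL in
/-- the filtration argument for global generation on `X_K` -/
theorem gg_Sb (K n : ℕ) (e : (Scheme.Modules.pullback (D.cc K)).obj (L K) ≅ L 0)
    (hgg : ∀ k, k ≤ K → Curv2.IsGloballyGenerated
      (CohB1.tensorMod ((D.grSys a ha F hF ψ).obj k) (CohB1.tensorPow (L 0) n)))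
    (hvan : ∀ k, Subsingleton (Coh.HH (D.Xs K)
      (CohB1.tensorMod (Sb (Ideal.span (Set.range a) ^ k) (F K)) (CohB1.tensorPow (L K) n)) 1)) :
    ∀ m k, k + m = K + 1 → Curv2.IsGloballyGenerated
      (CohB1.tensorMod (Sb (Ideal.span (Set.range a) ^ k) (F K)) (CohB1.tensorPow (L K) n)) := by
  haveI : (F K).IsQuasicoherent := (hF K).1
  intro m
  induction m with
  | zero =>
    intro k hk
    obtain rfl : k = K + 1 := by omega
    have hz : IsZero (Sb (Ideal.span (Set.range a) ^ (K + 1)) (F K)) :=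
      isZero_Sb_of_smulMod_eq_zero _ _ (fun a' ha' => D.smulMod_eq_zero K _ (by rw [← ha]; exact ha'))
    exact gg_of_isZero (Punctual.isZero_tensorMod_left hz _)
  | succ m ih =>
    intro k hk
    have hkK : k ≤ K := by omega
    have h1 := ih (k + 1) (by omega)
    have hle : Ideal.span (Set.range a) ^ (k + 1) ≤ Ideal.span (Set.range a) ^ k :=
      Ideal.pow_le_pow_right (Nat.le_succ k)
    have hSES := shortExact_sbIncl hle (F K)
    obtain ⟨w, hw⟩ := shortExact_tensor_invertible _ hSES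
      (Groth.Agent.Lib.helper12.TensorInv.isInvertible_tensorPow (hL K) n)
    haveI := isQuasicoherent_Sb (Ideal.span (Set.range a) ^ k) (F K)
    haveI := isQuasicoherent_Sb (Ideal.span (Set.range a) ^ (k + 1)) (F K)
    haveI : (cokernel (sbIncl hle (F K))).IsQuasicoherent :=
      Groth.Agent.Lib.helper7.CohKer.isQuasicoherent_cokernel _
    have hkill : ∀ a' ∈ J, smulMod A (cokernel (sbIncl hle (F K))) a' = 0 := by
      intro a' ha'
      refine smulMod_cokernel_sbIncl hle (F K) a' (fun c hc => ?_)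
      rw [pow_succ']
      exact Ideal.mul_mem_mul (by rw [ha]; exact ha') hc
    haveI := D.isIso_pullback_map_cokernel_π a ha F K k
    obtain ⟨e2⟩ := D.nonempty_iso_grSys a ha F hF ψ K k hkK
    let e1 := (asIso ((Scheme.Modules.pullback (D.cc K)).map (cokernel.π (sbIncl hle (F K))))).symm
    have h3 : Curv2.IsGloballyGenerated
        (CohB1.tensorMod (cokernel (sbIncl hle (F K))) (CohB1.tensorPow (L K) n)) := by
      refine D.gg_tensor_of_pullback K _ hkill (hL K) e n ?_
      exact gg_of_iso (tensorIso (e1 ≪≫ e2) (Iso.refl _)).symm (hgg k hkK)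
    exact gg_of_shortExact hw h1 h3 (hvan (k + 1))

end AdicData

namespace AdicData

variable {A : Type u} [CommRing A] [IsNoetherianRing A] {J : Ideal A} (D : AdicData A J)
  (hp : IsProper (D.p 0))
  (L : ∀ k, (D.Xs k).Modules) (hL : ∀ k, PicF.IsInvertible (L k))
  (φ : ∀ k, Nonempty ((Scheme.Modules.pullback (D.i k)).obj (L (k + 1)) ≅ L k))
  (hample : CohB1.IsAmple (L 0))
  (F : ∀ k, (D.Xs k).Modules) (hF : ∀ k, Coh.IsCoh (F k))
  (ψ : ∀ k, Nonempty ((Scheme.Modules.pullback (D.i k)).obj (F (k + 1)) ≅ F k))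

include hp hL φ hample hF ψ in
/-- **uniform global generation on all levels** (EGA III 5.2.3/5.2.4, levelwise form) -/
theorem exists_uniform_gg_levels :
    ∃ N : ℕ, ∀ n : ℕ, N ≤ n → ∀ K : ℕ,
      Curv2.IsGloballyGenerated (CohB1.tensorMod (F K) (CohB1.tensorPow (L K) n)) := by
  obtain ⟨r, a, hspan⟩ := exists_generators J
  obtain ⟨n₀, hn₀⟩ := D.exists_uniform_vanishing_Sb a hspan F hF (fun k => (ψ k).some) L hL hp
    (fun k => (φ k).some) hample
  haveI := hp
  haveI : QuasiSeparatedSpace (D.Xs 0) :=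
    quasiSeparatedSpace_of_quasiSeparated (D.p 0)
  obtain ⟨N₁, hN₁⟩ := Groth.Agent.Lib.helper11.SerreGG.exists_isGloballyGenerated_twist hample
    (F 0) (hF 0)
  refine ⟨max n₀ N₁, fun n hn K => ?_⟩
  have hgg := D.gg_grSys a hspan F hF (fun k => (ψ k).some) (CohB1.tensorPow (L 0) n)
    (hN₁ n (le_of_max_le_right hn))
  have h1 := D.gg_Sb a hspan F hF (fun k => (ψ k).some) L hL K n
    (D.pullCcIso L (fun k => (φ k).some) K) (fun k _ => hgg k)
    (fun k => hn₀ n (le_of_max_le_left hn) K k 1 one_pos) (K + 1) 0 (by omega)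
  have h0 : Ideal.span (Set.range a) ^ 0 = ⊤ := by rw [pow_zero, Ideal.one_eq_top]
  haveI : IsIso (sbι (Ideal.span (Set.range a) ^ 0) (F K)) := isIso_sbι_of_eq_top _ h0 _
  exact gg_of_iso (tensorIso (asIso (sbι (Ideal.span (Set.range a) ^ 0) (F K))) (Iso.refl _)) h1

end AdicData

end Groth.Agent.Lib.helper11.AdicSys
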