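import Mathlib

/-!
# Tower models of adic completions (helper11)

`Model I M T L`: an inverse system `T k` (with transition maps `τ k`) receiving surjections
`ρ k : M → T k` with kernel `I^(k+1) M`, and a limit `L` of the system.  Then `L` is identified with
`AdicCompletion I M` (`Θ`, a natural bijection), and exactness of adic completion on finite modules
over a Noetherian ring transfers to `L` (`exact_of_models`).
-/

set_option autoImplicit false
universe u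

namespace Groth.Agent.Lib.helper11.AdicModel

/-- a tower model of the `I`-adic completion of `M` -/
structure Model {R : Type u} [CommRing R] (I : Ideal R) (M : Type u) [AddCommGroup M] [Module R M]
    (T : ℕ → Type u) [∀ k, AddCommGroup (T k)] (L : Type u) [AddCommGroup L] where
  ρ : ∀ k, M →+ T k
  τ : ∀ k, T (k + 1) →+ T k
  π : ∀ k, L →+ T k
  ρ_surj : ∀ k, Function.Surjective (ρ k)
  ρ_ker : ∀ k m, ρ k m = 0 ↔ m ∈ (I ^ (k + 1) • ⊤ : Submodule R M)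
  τ_ρ : ∀ k m, τ k (ρ (k + 1) m) = ρ k m
  τ_π : ∀ k y, τ k (π (k + 1) y) = π k y
  ext : ∀ y y', (∀ k, π k y = π k y') → y = y'
  exists_lim : ∀ z : ∀ k, T k, (∀ k, τ k (z (k + 1)) = z k) → ∃ y, ∀ k, π k y = z k

variable {R : Type u} [CommRing R] {I : Ideal R} {M : Type u} [AddCommGroup M] [Module R M]
  {T : ℕ → Type u} [∀ k, AddCommGroup (T k)] {L : Type u} [AddCommGroup L] (𝓜 : Model I M T L)

namespace Model

theorem ρ_eq_iff (k : ℕ) (m m' : M) :
    𝓜.ρ k m = 𝓜.ρ k m' ↔ m - m' ∈ (I ^ (k + 1) • ⊤ : Submodule R M) := by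
  rw [← 𝓜.ρ_ker, map_sub, sub_eq_zero]

theorem ρ_cauchy (a : AdicCompletion.AdicCauchySequence I M) (k : ℕ) :
    𝓜.ρ k (a (k + 2)) = 𝓜.ρ k (a (k + 1)) := by
  rw [ρ_eq_iff]
  have h := AdicCompletion.AdicCauchySequence.mk_eq_mk (Nat.le_succ (k + 1)) a
  rw [Submodule.Quotient.eq] at h
  exact h

theorem exists_Θ (x : AdicCompletion I M) :
    ∃ y : L, ∀ (a : AdicCompletion.AdicCauchySequence I M), AdicCompletion.mk I M a = x →
      ∀ k, 𝓜.π k y = 𝓜.ρ k (a (k + 1)) := by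
  obtain ⟨b, rfl⟩ := AdicCompletion.mk_surjective I M x
  obtain ⟨y, hy⟩ := 𝓜.exists_lim (fun k => 𝓜.ρ k (b (k + 1))) (fun k => by
    rw [𝓜.τ_ρ]
    exact 𝓜.ρ_cauchy b k)
  refine ⟨y, fun a ha k => ?_⟩
  rw [hy, ρ_eq_iff]
  have h1 : (AdicCompletion.mk I M a).val (k + 1) = (AdicCompletion.mk I M b).val (k + 1) := by
    rw [ha]
  have h2 : Submodule.Quotient.mk (p := (I ^ (k + 1) • ⊤ : Submodule R M)) (a (k + 1)) =
      Submodule.Quotient.mk (p := (I ^ (k + 1) • ⊤ : Submodule R M)) (b (k + 1)) := h1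
  rw [Submodule.Quotient.eq] at h2
  have h3 := Submodule.neg_mem _ h2
  rwa [neg_sub] at h3

/-- the identification of the adic completion with the limit of the tower -/
noncomputable def Θ (x : AdicCompletion I M) : L := (𝓜.exists_Θ x).choose

theorem π_Θ_mk (a : AdicCompletion.AdicCauchySequence I M) (k : ℕ) :
    𝓜.π k (𝓜.Θ (AdicCompletion.mk I M a)) = 𝓜.ρ k (a (k + 1)) :=
  (𝓜.exists_Θ (AdicCompletion.mk I M a)).choose_spec a rfl k

theorem Θ_zero : 𝓜.Θ 0 = 0 := by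
  apply 𝓜.ext
  intro k
  have h := 𝓜.π_Θ_mk 0 k
  rw [map_zero] at h
  rw [h, map_zero]
  exact map_zero _

theorem Θ_injective : Function.Injective 𝓜.Θ := by
  intro x x' hxx
  obtain ⟨a, rfl⟩ := AdicCompletion.mk_surjective I M x
  obtain ⟨b, rfl⟩ := AdicCompletion.mk_surjective I M x'
  apply AdicCompletion.ext
  intro n
  cases n with
  | zero =>
    have : Subsingleton (M ⧸ (I ^ 0 • ⊤ : Submodule R M)) := by
      rw [pow_zero, Ideal.one_eq_top, Submodule.top_smul]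
      infer_instance
    exact Subsingleton.elim _ _
  | succ k =>
    have h1 := 𝓜.π_Θ_mk a k
    have h2 := 𝓜.π_Θ_mk b k
    rw [hxx, h2, ρ_eq_iff] at h1
    change Submodule.Quotient.mk (p := (I ^ (k + 1) • ⊤ : Submodule R M)) (a (k + 1)) =
      Submodule.Quotient.mk (p := (I ^ (k + 1) • ⊤ : Submodule R M)) (b (k + 1))
    rw [Submodule.Quotient.eq]
    have h3 := Submodule.neg_mem _ h1
    rwa [neg_sub] at h3

theorem Θ_surjective : Function.Surjective 𝓜.Θ := by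
  intro y
  choose m hm using fun k => 𝓜.ρ_surj k (𝓜.π k y)
  have hc : ∀ n, m n ≡ m (n + 1) [SMOD (I ^ n • ⊤ : Submodule R M)] := by
    intro n
    have h1 : 𝓜.ρ n (m n) = 𝓜.ρ n (m (n + 1)) := by
      rw [hm, ← 𝓜.τ_ρ, hm, 𝓜.τ_π]
    rw [ρ_eq_iff] at h1
    rw [SModEq.sub_mem]
    exact Submodule.smul_mono_left (Ideal.pow_le_pow_right (Nat.le_succ n)) h1
  refine ⟨AdicCompletion.mk I M (AdicCompletion.AdicCauchySequence.mk I M m hc), ?_⟩
  apply 𝓜.ext
  intro k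
  rw [π_Θ_mk]
  change 𝓜.ρ k (m (k + 1)) = _
  rw [← 𝓜.τ_ρ, hm, 𝓜.τ_π]

theorem Θ_bijective : Function.Bijective 𝓜.Θ := ⟨𝓜.Θ_injective, 𝓜.Θ_surjective⟩

end Model

section Nat

variable {M' : Type u} [AddCommGroup M'] [Module R M']
  {T' : ℕ → Type u} [∀ k, AddCommGroup (T' k)] {L' : Type u} [AddCommGroup L'] (𝓜' : Model I M' T' L')

/-- naturality of `Θ` -/
theorem Θ_natural (f : M →ₗ[R] M') (φ : ∀ k, T k → T' k) (Φ : L → L')
    (hφ : ∀ k m, φ k (𝓜.ρ k m) = 𝓜'.ρ k (f m)) (hΦ : ∀ k y, 𝓜'.π k (Φ y) = φ k (𝓜.π k y))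
    (x : AdicCompletion I M) : Φ (𝓜.Θ x) = 𝓜'.Θ (AdicCompletion.map I f x) := by
  obtain ⟨a, rfl⟩ := AdicCompletion.mk_surjective I M x
  apply 𝓜'.ext
  intro k
  rw [hΦ, Model.π_Θ_mk, hφ, AdicCompletion.map_mk, Model.π_Θ_mk]
  rfl

end Nat

section Exact

variable {M' M'' : Type u} [AddCommGroup M'] [Module R M'] [AddCommGroup M''] [Module R M'']
  {T' T'' : ℕ → Type u} [∀ k, AddCommGroup (T' k)] [∀ k, AddCommGroup (T'' k)]
  {L' L'' : Type u} [AddCommGroup L'] [AddCommGroup L'']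
  (𝓜' : Model I M' T' L') (𝓜'' : Model I M'' T'' L'')

/-- **Exactness of completion, in tower form**: for a short exact sequence `0 → M' → M → M'' → 0` of
modules over a Noetherian ring with `M` finite, and tower models of the three completions with
compatible maps, the sequence of limits is short exact. -/
theorem exact_of_models [IsNoetherianRing R] [Module.Finite R M]
    (f : M' →ₗ[R] M) (g : M →ₗ[R] M'')
    (hf : Function.Injective f) (hfg : Function.Exact f g) (hg : Function.Surjective g)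
    (φ : ∀ k, T' k → T k) (ψ : ∀ k, T k → T'' k) (Φ : L' →+ L) (Ψ : L →+ L'')
    (hφ : ∀ k m, φ k (𝓜'.ρ k m) = 𝓜.ρ k (f m)) (hΦ : ∀ k y, 𝓜.π k (Φ y) = φ k (𝓜'.π k y))
    (hψ : ∀ k m, ψ k (𝓜.ρ k m) = 𝓜''.ρ k (g m)) (hΨ : ∀ k y, 𝓜''.π k (Ψ y) = ψ k (𝓜.π k y)) :
    Function.Injective Φ ∧ Function.Exact Φ Ψ ∧ Function.Surjective Ψ := by
  have n1 := Θ_natural 𝓜' 𝓜 f φ Φ hφ hΦ
  have n2 := Θ_natural 𝓜 𝓜'' g ψ Ψ hψ hΨ
  refine ⟨?_, ?_, ?_⟩
  · intro y y' hyy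
    obtain ⟨x, rfl⟩ := 𝓜'.Θ_surjective y
    obtain ⟨x', rfl⟩ := 𝓜'.Θ_surjective y'
    rw [n1, n1] at hyy
    rw [AdicCompletion.map_injective I hf (𝓜.Θ_injective hyy)]
  · intro y
    obtain ⟨x, rfl⟩ := 𝓜.Θ_surjective y
    rw [n2]
    have hex := AdicCompletion.map_exact (I := I) hf hfg hg x
    constructor
    · intro h0
      rw [← 𝓜''.Θ_zero] at h0
      obtain ⟨x', hx'⟩ := hex.mp (𝓜''.Θ_injective h0)
      exact ⟨𝓜'.Θ x', by rw [n1, hx']⟩
    · rintro ⟨y', hy'⟩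
      obtain ⟨x', rfl⟩ := 𝓜'.Θ_surjective y'
      rw [n1] at hy'
      have := hex.mpr ⟨x', 𝓜.Θ_injective hy'⟩
      rw [this, 𝓜''.Θ_zero]
  · intro y''
    obtain ⟨x'', rfl⟩ := 𝓜''.Θ_surjective y''
    obtain ⟨x, rfl⟩ := AdicCompletion.map_surjective I hg x''
    exact ⟨𝓜.Θ x, n2 x⟩

end Exact

end Groth.Agent.Lib.helper11.AdicModel
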