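import Mathlib
import Groth.Agent.Lib.Helper8.LimAdic
import Groth.Agent.Lib.Helper8.CompleteNoeth

/-!
# The limit of an adic inverse system of rings (helper11; EGA 0_I 7.2.7)

`(R n, π n : R (n+1) → R n)` surjective with `ker (π n) = (ker (R (n+1) → R 0))^(n+1)`, `R 0`
Noetherian, `ker (π 0)` finitely generated.  Then `A = lim R n` is Noetherian and `J`-adically complete
for `J = ker (A → R 0)`, and `A/J^(n+1) ≃ R n` compatibly.
-/

set_option autoImplicit false
universe u

namespace Groth.Agent.Lib.helper11.AdicRingLim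

variable (R : ℕ → Type u) [∀ n, CommRing (R n)] (π : ∀ n, R (n + 1) →+* R n)

/-- the composite `R n → R 0` -/
def kap : ∀ n, R n →+* R 0
  | 0 => RingHom.id _
  | n + 1 => (kap n).comp (π n)

/-- the limit ring -/
def Lim : Subring (∀ n, R n) where
  carrier := {x | ∀ n, π n (x (n + 1)) = x n}
  mul_mem' := by
    intro x y hx hy n
    change π n (x (n + 1) * y (n + 1)) = x n * y n
    rw [map_mul, hx n, hy n]
  one_mem' := by
    intro n
    change π n 1 = 1
    rw [map_one]
  add_mem' := by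
    intro x y hx hy n
    change π n (x (n + 1) + y (n + 1)) = x n + y n
    rw [map_add, hx n, hy n]
  zero_mem' := by
    intro n
    change π n 0 = 0
    rw [map_zero]
  neg_mem' := by
    intro x hx n
    change π n (- x (n + 1)) = - x n
    rw [map_neg, hx n]

/-- the projections -/
def pr (n : ℕ) : Lim R π →+* R n := (Pi.evalRingHom R n).comp (Lim R π).subtype

variable {R π}

theorem pi_pr (n : ℕ) (x : Lim R π) : π n (pr R π (n + 1) x) = pr R π n x := x.2 n

theorem kap_pr (n : ℕ) (x : Lim R π) : kap R π n (pr R π n x) = pr R π 0 x := by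
  induction n with
  | zero => rfl
  | succ n ih =>
    change kap R π n (π n (pr R π (n + 1) x)) = _
    rw [pi_pr, ih]

theorem ext_pr {x y : Lim R π} (h : ∀ n, pr R π n x = pr R π n y) : x = y :=
  Subtype.ext (funext h)

theorem pr_surjective (hπ : ∀ n, Function.Surjective (π n)) (n : ℕ) :
    Function.Surjective (pr R π n) := by
  intro y
  obtain ⟨x, hx, hxn⟩ := Groth.Agent.Lib.helper8.LimAdic.exists_compatible n R (fun n => π n) hπ y
  exact ⟨⟨x, hx⟩, hxn⟩

/-- the ideals `K n = ker (R n → R 0)` -/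
abbrev K (R : ℕ → Type u) [∀ n, CommRing (R n)] (π : ∀ n, R (n + 1) →+* R n) (n : ℕ) :
    Ideal (R n) := RingHom.ker (kap R π n)

theorem K_succ (n : ℕ) : K R π (n + 1) = (K R π n).comap (π n) := by
  change RingHom.ker ((kap R π n).comp (π n)) = _
  rw [← RingHom.comap_ker]

theorem map_K (hπ : ∀ n, Function.Surjective (π n)) (n : ℕ) :
    (K R π (n + 1)).map (π n) = K R π n := by
  rw [K_succ, Ideal.map_comap_of_surjective _ (hπ n)]

theorem K_pow (hπ : ∀ n, Function.Surjective (π n))
    (hker : ∀ n, RingHom.ker (π n) = K R π (n + 1) ^ (n + 1)) (n : ℕ) :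
    K R π n ^ (n + 1) = ⊥ := by
  rw [← map_K hπ n, ← Ideal.map_pow, ← hker n, Ideal.map_eq_bot_iff_le_ker]

/-- the composite `R (n+1) → R 1` -/
def rho (R : ℕ → Type u) [∀ n, CommRing (R n)] (π : ∀ n, R (n + 1) →+* R n) :
    ∀ n, R (n + 1) →+* R 1
  | 0 => RingHom.id _
  | n + 1 => (rho R π n).comp (π (n + 1))

theorem rho_pr (n : ℕ) (x : Lim R π) : rho R π n (pr R π (n + 1) x) = pr R π 1 x := by
  induction n with
  | zero => rfl
  | succ n ih =>
    change rho R π n (π (n + 1) (pr R π (n + 1 + 1) x)) = _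
    rw [pi_pr, ih]

theorem rho_surjective (hπ : ∀ n, Function.Surjective (π n)) (n : ℕ) :
    Function.Surjective (rho R π n) := by
  induction n with
  | zero => exact Function.surjective_id
  | succ n ih => exact ih.comp (hπ (n + 1))

theorem kap_rho (n : ℕ) (x : R (n + 1)) : kap R π 1 (rho R π n x) = kap R π (n + 1) x := by
  induction n with
  | zero => rfl
  | succ n ih =>
    change kap R π 1 (rho R π n (π (n + 1) x)) = kap R π (n + 1) (π (n + 1) x)
    rw [ih]

theorem K_eq_comap_rho (n : ℕ) : K R π (n + 1) = (K R π 1).comap (rho R π n) := by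
  ext x
  rw [Ideal.mem_comap, RingHom.mem_ker, RingHom.mem_ker, kap_rho]

theorem ker_rho (hπ : ∀ n, Function.Surjective (π n))
    (hker : ∀ n, RingHom.ker (π n) = K R π (n + 1) ^ (n + 1)) (n : ℕ) :
    RingHom.ker (rho R π n) = K R π (n + 1) ^ 2 := by
  induction n with
  | zero =>
    rw [K_pow hπ hker 1]
    exact RingHom.ker_coe_equiv (RingEquiv.refl (R 1))
  | succ n ih =>
    change RingHom.ker ((rho R π n).comp (π (n + 1))) = _
    rw [← RingHom.comap_ker, ih, ← map_K hπ (n + 1), ← Ideal.map_pow,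
      Ideal.comap_map_of_surjective _ (hπ (n + 1)), ← RingHom.ker_eq_comap_bot, hker (n + 1)]
    exact sup_eq_left.mpr (Ideal.pow_le_pow_right (by omega))

/-- nilpotent Nakayama -/
theorem le_of_le_sup_sq {S : Type*} [CommRing S] (I K : Ideal S) (h : K ≤ I ⊔ K ^ 2) (N : ℕ)
    (hN : K ^ N = ⊥) : K ≤ I := by
  have key : ∀ m : ℕ, K ≤ I ⊔ K ^ (m + 1) := by
    intro m
    induction m with
    | zero => rw [zero_add, pow_one]; exact le_sup_right
    | succ m ih =>
      refine h.trans (sup_le le_sup_left ?_)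
      rw [pow_two]
      refine (Ideal.mul_mono_right ih).trans ?_
      rw [Ideal.mul_sup]
      refine sup_le (Ideal.mul_le_right.trans le_sup_left) ?_
      rw [← pow_succ']
      exact le_sup_right
  have h2 := key N
  rw [pow_succ, hN, Ideal.bot_mul, sup_bot_eq] at h2
  exact h2

theorem mem_smul_top_iff {S T : Type*} [CommRing S] [CommRing T] (φ : S →+* T)
    (hφ : Function.Surjective φ) (I : Ideal S) (x : T) :
    (letI := Module.compHom T φ; x ∈ I • (⊤ : Submodule S T)) ↔ x ∈ I.map φ := by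
  letI := Module.compHom T φ
  constructor
  · intro hx
    refine Submodule.smul_induction_on hx ?_ ?_
    · intro i hi t _
      change φ i * t ∈ _
      exact Ideal.mul_mem_right _ _ (Ideal.mem_map_of_mem _ hi)
    · intro a b ha hb
      exact Ideal.add_mem _ ha hb
  · intro hx
    obtain ⟨i, hi, rfl⟩ := (Ideal.mem_map_iff_of_surjective φ hφ).1 hx
    have : φ i = i • (1 : T) := by change φ i = φ i * 1; rw [mul_one]
    rw [this]
    exact Submodule.smul_mem_smul hi Submodule.mem_top

section main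

variable (hπ : ∀ n, Function.Surjective (π n))
  (hker : ∀ n, RingHom.ker (π n) = K R π (n + 1) ^ (n + 1))

include hπ in
theorem exists_J (hfg : (RingHom.ker (π 0)).FG) :
    ∃ J : Ideal (Lim R π), J.FG ∧ J.map (pr R π 1) = K R π 1 := by
  classical
  have hK1 : K R π 1 = RingHom.ker (π 0) := by
    change RingHom.ker ((RingHom.id (R 0)).comp (π 0)) = _
    rw [RingHom.id_comp]
  obtain ⟨s, hs⟩ := hfg
  let g : R 1 → Lim R π := Function.surjInv (pr_surjective hπ 1)
  refine ⟨Ideal.span ((s.image g : Finset (Lim R π)) : Set (Lim R π)), ⟨s.image g, rfl⟩, ?_⟩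
  rw [Ideal.map_span, hK1, ← hs, Finset.coe_image, Set.image_image]
  congr 1
  ext t
  simp only [Set.mem_image, Finset.mem_coe]
  constructor
  · rintro ⟨t', ht', rfl⟩
    rw [Function.surjInv_eq (pr_surjective hπ 1)]
    exact ht'
  · intro ht
    exact ⟨t, ht, Function.surjInv_eq (pr_surjective hπ 1) t⟩

variable (J : Ideal (Lim R π)) (hJ : J.map (pr R π 1) = K R π 1)

include hπ hker hJ in
theorem map_pr_J (n : ℕ) : J.map (pr R π n) = K R π n := by
  cases n with
  | zero =>
    have h0 : pr R π 0 = (π 0).comp (pr R π 1) := RingHom.ext (fun x => (pi_pr 0 x).symm)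
    rw [h0, ← Ideal.map_map, hJ, map_K hπ 0]
  | succ m =>
    have h1 : (rho R π m).comp (pr R π (m + 1)) = pr R π 1 := RingHom.ext (rho_pr m)
    have h2 : (J.map (pr R π (m + 1))).map (rho R π m) = K R π 1 := by
      rw [Ideal.map_map, h1, hJ]
    apply le_antisymm
    · rw [K_eq_comap_rho, ← Ideal.map_le_iff_le_comap, h2]
    · apply le_of_le_sup_sq _ _ _ (m + 1 + 1) (K_pow hπ hker (m + 1))
      rw [← ker_rho hπ hker m, RingHom.ker_eq_comap_bot, ← Ideal.comap_map_of_surjective _
        (rho_surjective hπ m), h2, ← K_eq_comap_rho]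

include hπ hker hJ in
theorem map_pr_J_pow (n : ℕ) : (J ^ (n + 1)).map (pr R π n) = ⊥ := by
  rw [Ideal.map_pow, map_pr_J hπ hker J hJ, K_pow hπ hker]

include hπ hker hJ in
theorem ker_pr (hJfg : J.FG) (n : ℕ) : RingHom.ker (pr R π n) = J ^ (n + 1) := by
  apply le_antisymm
  · intro x hx
    rw [RingHom.mem_ker] at hx
    letI mod : ∀ n, Module (Lim R π) (R n) := fun n => Module.compHom (R n) (pr R π n)
    let f : ∀ n, R (n + 1) →ₗ[Lim R π] R n := fun n =>
      { toFun := π n
        map_add' := map_add _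
        map_smul' := fun a y => by
          change π n (pr R π (n + 1) a * y) = pr R π n a * π n y
          rw [map_mul, pi_pr] }
    have hk : ∀ n, J ^ (n + 1) • (⊤ : Submodule (Lim R π) (R n)) = ⊥ := by
      intro n
      ext y
      rw [mem_smul_top_iff (pr R π n) (pr_surjective hπ n), map_pr_J_pow hπ hker J hJ]
      simp only [Submodule.mem_bot, Ideal.mem_bot]
    have hkf : ∀ n, LinearMap.ker (f n) = J ^ (n + 1) • (⊤ : Submodule (Lim R π) (R (n + 1))) := by
      intro n
      ext y
      rw [mem_smul_top_iff (pr R π (n + 1)) (pr_surjective hπ (n + 1)), Ideal.map_pow,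
        map_pr_J hπ hker J hJ, ← hker n]
      rfl
    let L : Submodule (Lim R π) (∀ n, R n) :=
      { carrier := {y | ∀ n, π n (y (n + 1)) = y n}
        add_mem' := fun {a b} ha hb n => by
          change π n (a (n + 1) + b (n + 1)) = a n + b n
          rw [map_add, ha n, hb n]
        zero_mem' := fun n => map_zero _
        smul_mem' := fun c y hy n => by
          change π n (pr R π (n + 1) c * y (n + 1)) = pr R π n c * y n
          rw [map_mul, pi_pr, hy n] }
    have hL : ∀ y : ∀ n, R n, y ∈ L ↔ ∀ n, f n (y (n + 1)) = y n := fun y => Iff.rfl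
    have hkp := Groth.Agent.Lib.helper8.LimAdic.ker_proj_eq J R f hJfg hπ hk hkf L hL n
    let ι : L →ₗ[Lim R π] Lim R π :=
      { toFun := fun y => ⟨y.1, y.2⟩
        map_add' := fun a b => rfl
        map_smul' := fun c y => rfl }
    have hx' : (⟨x.1, x.2⟩ : L) ∈ LinearMap.ker ((LinearMap.proj n).comp L.subtype) := hx
    rw [hkp] at hx'
    have h3 := Groth.Agent.Lib.helper8.LimAdic.map_mem_smul_top (J ^ (n + 1)) ι hx'
    rw [smul_eq_mul, Ideal.mul_top] at h3
    exact h3
  · rw [← Ideal.map_eq_bot_iff_le_ker]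
    exact map_pr_J_pow hπ hker J hJ n

include hπ hker hJ in
theorem mem_pow_iff (hJfg : J.FG) (n : ℕ) (x : Lim R π) :
    x ∈ J ^ (n + 1) ↔ pr R π n x = 0 := by
  rw [← ker_pr hπ hker J hJ hJfg n, RingHom.mem_ker]

include hπ hker hJ in
theorem isHausdorff (hJfg : J.FG) : IsHausdorff J (Lim R π) := by
  refine ⟨fun x hx => ?_⟩
  apply ext_pr
  intro n
  have h1 := hx (n + 1)
  rw [SModEq.sub_mem, sub_zero, smul_eq_mul, Ideal.mul_top,
    mem_pow_iff hπ hker J hJ hJfg] at h1
  rw [h1, map_zero]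

include hπ hker hJ in
theorem isPrecomplete (hJfg : J.FG) : IsPrecomplete J (Lim R π) := by
  refine ⟨fun f hf => ?_⟩
  have hmem : ∀ n : ℕ, pr R π n (f (n + 1)) = pr R π n (f (n + 2)) := by
    intro n
    have h1 := hf (Nat.le_succ (n + 1))
    rw [SModEq.sub_mem, smul_eq_mul, Ideal.mul_top, mem_pow_iff hπ hker J hJ hJfg, map_sub,
      sub_eq_zero] at h1
    exact h1
  let x : ∀ n, R n := fun n => pr R π n (f (n + 1))
  have hx : ∀ n, π n (x (n + 1)) = x n := by
    intro n
    change π n (pr R π (n + 1) (f (n + 2))) = pr R π n (f (n + 1))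
    rw [pi_pr, hmem]
  refine ⟨⟨x, hx⟩, fun n => ?_⟩
  cases n with
  | zero =>
    rw [SModEq.sub_mem, pow_zero, Ideal.one_eq_top, smul_eq_mul, Ideal.mul_top]
    trivial
  | succ k =>
    rw [SModEq.sub_mem, smul_eq_mul, Ideal.mul_top, mem_pow_iff hπ hker J hJ hJfg, map_sub,
      sub_eq_zero]
    rfl

include hπ hker hJ in
theorem isAdicComplete (hJfg : J.FG) : IsAdicComplete J (Lim R π) :=
  { toIsHausdorff := isHausdorff hπ hker J hJ hJfg
    toIsPrecomplete := isPrecomplete hπ hker J hJ hJfg }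

/-- `A/J^(n+1) ≃ R n` -/
noncomputable def quotEquiv (hJfg : J.FG) (n : ℕ) : (Lim R π ⧸ J ^ (n + 1)) ≃+* R n :=
  (Ideal.quotEquivOfEq (ker_pr hπ hker J hJ hJfg n).symm).trans
    (RingHom.quotientKerEquivOfSurjective (pr_surjective hπ n))

theorem quotEquiv_mk (hJfg : J.FG) (n : ℕ) (x : Lim R π) :
    quotEquiv hπ hker J hJ hJfg n (Ideal.Quotient.mk _ x) = pr R π n x := rfl

include hπ hker hJ in
theorem isNoetherianRing [IsNoetherianRing (R 0)] (hJfg : J.FG) :
    IsNoetherianRing (Lim R π) := by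
  haveI := isHausdorff hπ hker J hJ hJfg
  haveI := isPrecomplete hπ hker J hJ hJfg
  have hJ1 : RingHom.ker (pr R π 0) = J := by rw [ker_pr hπ hker J hJ hJfg 0, zero_add, pow_one]
  haveI : IsNoetherianRing (Lim R π ⧸ J) := by
    let e : (Lim R π ⧸ J) ≃+* R 0 := (Ideal.quotEquivOfEq hJ1.symm).trans
      (RingHom.quotientKerEquivOfSurjective (pr_surjective hπ 0))
    exact isNoetherianRing_of_ringEquiv _ e.symm
  exact Groth.Agent.Lib.Helper8.CompleteNoeth.isNoetherianRing_of_fg J hJfg

end main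

end Groth.Agent.Lib.helper11.AdicRingLim
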