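import Mathlib
import Groth.Agent.Lib.Helper11.CounitEpi
import Groth.Agent.Lib.Helper27.CompAcyc
import Groth.Agent.Lib.Helper27.RpushVanish
import Groth.Agent.Lib.Helper27.PushComp
import Groth.Agent.Lib.Helper8.PullbackUnit2
import Groth.Agent.Lib.Helper8.DevGen
import Groth.Agent.Lib.Helper7.QCohPushQC
import Groth.Agent.Lib.Helper16.QCohPullback

/-!
# Higher direct images and counits along a composite with an affine morphism (helper11)

* `isZero_RpushAb_comp_of_acyclic`: `f'` qcqs, `g` affine, `K` quasi-coherent and `f'_*`-acyclic ⇒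
  `R^{p+1}(f' ≫ g)_* K = 0`.
* `epi_counit_push_of_epi_counit`: in a cartesian square with `g` affine, if the counit of `f'` at `K` is epi,
  then the counit of `f` at `g'_* K` is epi.
-/

set_option autoImplicit false
universe u

open CategoryTheory CategoryTheory.Limits AlgebraicGeometry Opposite TopologicalSpace
open Scheme.Modules

namespace Groth.Agent.Lib.helper11.AffBCTwist

theorem isZero_RpushAb_comp_of_acyclic {X' Y' Y : Scheme.{u}} (f' : X' ⟶ Y') (g : Y' ⟶ Y)
    [IsAffineHom g] [QuasiCompact f'] [QuasiSeparated f']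
    (K : X'.Modules) [K.IsQuasicoherent]
    (hK : ∀ q : ℕ, IsZero ((Coh.RpushAb f' (q + 1)).obj (Coh.toAb K))) (p : ℕ) :
    IsZero ((Coh.RpushAb (f' ≫ g) (p + 1)).obj (Coh.toAb K)) := by
  have hG : ∀ I : CohTop.Ab X'.toTopCat, Injective I → Injective ((CohTop.push f'.base).obj I) :=
    fun I hI => Groth.Agent.Lib.helper27.PushComp.injective_push f'.base I hI
  have hF : Groth.Agent.Lib.helper27.CompAcyc.Acyc (CohTop.push f'.base) (Coh.toAb K) := by
    intro i hi
    obtain ⟨j, rfl⟩ : ∃ j, i = j + 1 := ⟨i - 1, by omega⟩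
    exact hK j
  obtain ⟨e⟩ := Groth.Agent.Lib.helper27.CompAcyc.rightDerived_comp_iso (CohTop.push f'.base)
    (CohTop.push g.base) hG (Coh.toAb K) hF (p + 1)
  haveI : ((Scheme.Modules.pushforward f').obj K).IsQuasicoherent :=
    Groth.Agent.Lib.helper7.QCohPushQC.isQuasicoherent_pushforward f' K
  have h0 := Groth.Agent.Lib.helper27.RpushVanish.isZero_RpushAb g
    ((Scheme.Modules.pushforward f').obj K) p
  exact IsZero.of_iso h0 e.symm

theorem epi_counit_push_of_epi_counit {X Y X' Y' : Scheme.{u}} {f : X ⟶ Y} {g : Y' ⟶ Y}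
    {g' : X' ⟶ X} {f' : X' ⟶ Y'} (hsq : IsPullback g' f' f g) [IsAffineHom g]
    [QuasiCompact f'] [QuasiSeparated f'] (K : X'.Modules) [K.IsQuasicoherent]
    (h : Epi ((pullbackPushforwardAdjunction f').counit.app K)) :
    Epi ((pullbackPushforwardAdjunction f).counit.app ((Scheme.Modules.pushforward g').obj K)) := by
  haveI : IsAffineHom g' := MorphismProperty.of_isPullback (P := @IsAffineHom) hsq.flip inferInstance
  haveI hE : ((Scheme.Modules.pushforward f').obj K).IsQuasicoherent :=
    Groth.Agent.Lib.helper7.QCohPushQC.isQuasicoherent_pushforward f' K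
  let E : Y'.Modules := (Scheme.Modules.pushforward f').obj K
  let β : (Scheme.Modules.pullback f).obj ((Scheme.Modules.pushforward g).obj E) ⟶
      (Scheme.Modules.pushforward g').obj ((Scheme.Modules.pullback f').obj E) :=
    ((pullbackPushforwardAdjunction f).homEquiv ((Scheme.Modules.pushforward g).obj E)
          ((Scheme.Modules.pushforward g').obj ((Scheme.Modules.pullback f').obj E))).symm
      ((Scheme.Modules.pushforward g).map ((pullbackPushforwardAdjunction f').unit.app E) ≫
        (pushforwardComp f' g).hom.app ((Scheme.Modules.pullback f').obj E) ≫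
          (pushforwardCongr hsq.flip.w).hom.app ((Scheme.Modules.pullback f').obj E) ≫
            (pushforwardComp g' f).inv.app ((Scheme.Modules.pullback f').obj E))
  haveI hiso : IsIso β :=
    Groth.Agent.Lib.helper8.PullbackUnit.isIso_baseChange_of_isAffineHom g f f' g' hsq.flip E
  haveI hq2 : ((Scheme.Modules.pullback f').obj E).IsQuasicoherent :=
    Groth.Agent.Lib.helper16.QCohPullback.isQuasicoherent_pullback f' E
  haveI := h
  let c : (Scheme.Modules.pullback f').obj E ⟶ K := (pullbackPushforwardAdjunction f').counit.app K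
  haveI : Epi c := h
  haveI hepi : Epi ((Scheme.Modules.pushforward g').map c) :=
    Groth.Agent.Lib.helper8.Dev.epi_pushforward_map g' c
  exact Groth.Agent.Lib.helper11.CounitEpi.epi_counit_of_epi f
    (β ≫ (Scheme.Modules.pushforward g').map c)

end Groth.Agent.Lib.helper11.AffBCTwist
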