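import Mathlib
import Groth.Agent.Lib.Helper4.LocRep3

/-!
# Existence of cofiltered limits of schemes with affine transition maps (helper11)

`hasLimit_of_isAffineHom`: a diagram of schemes indexed by a small cofiltered category all of whose
transition maps are affine has a limit.  The limit of `Over.post D : Over i₀ ⥤ Over (D.obj i₀)` is
constructed by local representability (helper4 `LocRep.exists_repr`): over an affine open `U` of
`D.obj i₀` the diagram consists of affine schemes and has a limit.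
-/

set_option autoImplicit false
universe u
open CategoryTheory Limits AlgebraicGeometry Opposite

namespace Groth.Agent.Lib.helper11.AffLim

/-- a diagram of affine schemes has a limit -/
theorem hasLimit_of_isAffine {J : Type u} [SmallCategory J] (K : J ⥤ Scheme.{u})
    [∀ j, IsAffine (K.obj j)] : HasLimit K := by
  let e : K ≅ (K ⋙ Scheme.Γ.rightOp) ⋙ Scheme.Spec :=
    NatIso.ofComponents (fun j => (K.obj j).isoSpec) (by
      intro j k f
      simp [Scheme.isoSpec_hom_naturality])
  exact hasLimit_of_iso e.symm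

section

variable {I : Type u} [SmallCategory I] (D : I ⥤ Scheme.{u})
  [∀ (i j : I) (f : i ⟶ j), IsAffineHom (D.map f)] (i₀ : I)

/-- the functor of cones over the diagram lifted to `Over (D.obj i₀)` -/
noncomputable abbrev F : (Over (D.obj i₀))ᵒᵖ ⥤ Type u := (Over.post (X := i₀) D).cones

variable (U : (D.obj i₀).affineOpens)

instance (j : Over i₀) : IsAffine ((opensDiagram D i₀ U.1).obj j) :=
  U.2.preimage (D.map j.hom)

instance : HasLimit (opensDiagram D i₀ U.1) := hasLimit_of_isAffine _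

/-- the terminal object of `Over i₀` -/
abbrev top : Over i₀ := Over.mk (𝟙 i₀)

/-- the map to the terminal object -/
abbrev toTop (j : Over i₀) : j ⟶ top i₀ := Over.homMk j.hom

/-- the inclusion `(D j)⁻¹ U ⟶ D j` -/
noncomputable def inc (j : Over i₀) : (opensDiagram D i₀ U.1).obj j ⟶ D.obj j.left :=
  (D.map j.hom ⁻¹ᵁ U.1).ι

instance (j : Over i₀) : IsOpenImmersion (inc D i₀ U j) :=
  inferInstanceAs (IsOpenImmersion (Scheme.Opens.ι (D.map j.hom ⁻¹ᵁ U.1)))

lemma map_inc {j k : Over i₀} (f : j ⟶ k) :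
    (opensDiagram D i₀ U.1).map f ≫ inc D i₀ U k = inc D i₀ U j ≫ D.map f.left :=
  (opensDiagramι D i₀ U.1).naturality f

/-- the composite `L_U ⟶ (D j)⁻¹ U ⟶ D j` -/
noncomputable def proj (j : Over i₀) : limit (opensDiagram D i₀ U.1) ⟶ D.obj j.left :=
  limit.π (opensDiagram D i₀ U.1) j ≫ inc D i₀ U j

lemma proj_map {j k : Over i₀} (f : j ⟶ k) : proj D i₀ U j ≫ D.map f.left = proj D i₀ U k := by
  unfold proj
  rw [Category.assoc, ← map_inc, ← Category.assoc, limit.w]

/-- the chart over the affine open `U` -/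
noncomputable def W : Over (D.obj i₀) := Over.mk (proj D i₀ U (top i₀))

lemma proj_hom (j : Over i₀) : proj D i₀ U j ≫ D.map j.hom = proj D i₀ U (top i₀) :=
  proj_map D i₀ U (toTop i₀ j)

/-- the universal cone over the chart -/
noncomputable def ξ : (F D i₀).obj (op (W D i₀ U)) where
  app j := Over.homMk (proj D i₀ U j) (proj_hom D i₀ U j)
  naturality j k f := by
    ext
    simp only [Over.comp_left, Over.homMk_left]
    exact (proj_map D i₀ U f).symm

lemma ξ_app_left (j : Over i₀) : ((ξ D i₀ U).app j).left = proj D i₀ U j := rfl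

lemma cones_map_app_left {T T' : Over (D.obj i₀)} (k : T' ⟶ T) (η : (F D i₀).obj (op T))
    (j : Over i₀) : (((F D i₀).map k.op η).app j).left = k.left ≫ (η.app j).left := rfl

lemma hmono (T : Over (D.obj i₀)) (m m' : T ⟶ W D i₀ U)
    (h : (F D i₀).map m.op (ξ D i₀ U) = (F D i₀).map m'.op (ξ D i₀ U)) : m = m' := by
  apply Over.OverMorphism.ext
  apply limit.hom_ext
  intro j
  have h1 : m.left ≫ proj D i₀ U j = m'.left ≫ proj D i₀ U j :=
    congrArg (fun c => (c.app j).left) h
  unfold proj at h1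
  rw [← cancel_mono (inc D i₀ U j), Category.assoc, Category.assoc]
  exact h1

section chart

variable (T : Over (D.obj i₀)) (η : (F D i₀).obj (op T))

/-- the components of a cone as morphisms of schemes -/
noncomputable def comp (j : Over i₀) : T.left ⟶ D.obj j.left := (η.app j).left

lemma comp_hom (j : Over i₀) : comp D i₀ T η j ≫ D.map j.hom = T.hom := Over.w (η.app j)

lemma comp_map {j k : Over i₀} (f : j ⟶ k) :
    comp D i₀ T η j ≫ D.map f.left = comp D i₀ T η k := by
  have h := congrArg (fun c => c.left) (η.naturality f)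
  simp only [Functor.const_obj_obj, Functor.const_obj_map, Category.id_comp, Over.comp_left] at h
  exact h.symm

/-- the open of `T` lying over `U` -/
noncomputable abbrev V : T.left.Opens := T.hom ⁻¹ᵁ U.1

lemma V_le (j : Over i₀) : V D i₀ U T ≤ comp D i₀ T η j ⁻¹ᵁ (D.map j.hom ⁻¹ᵁ U.1) := by
  rw [← Scheme.Hom.comp_preimage, comp_hom]

/-- the components of the cone over the restricted diagram -/
noncomputable def res (j : Over i₀) : (V D i₀ U T).toScheme ⟶ (opensDiagram D i₀ U.1).obj j :=
  (comp D i₀ T η j).resLE (D.map j.hom ⁻¹ᵁ U.1) (V D i₀ U T) (V_le D i₀ U T η j)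

lemma res_inc (j : Over i₀) :
    res D i₀ U T η j ≫ inc D i₀ U j = (V D i₀ U T).ι ≫ comp D i₀ T η j :=
  Scheme.Hom.resLE_comp_ι _ _

/-- the cone over the restricted diagram -/
noncomputable def chartCone : Cone (opensDiagram D i₀ U.1) where
  pt := V D i₀ U T
  π :=
    { app := fun j => res D i₀ U T η j
      naturality := by
        intro j k f
        rw [← cancel_mono (inc D i₀ U k)]
        simp only [Functor.const_obj_obj, Functor.const_obj_map, Category.id_comp, Category.assoc]
        rw [map_inc, res_inc, ← Category.assoc, res_inc, Category.assoc, comp_map] }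

/-- the lift of the cone to the chart -/
noncomputable def chartLift : (V D i₀ U T).toScheme ⟶ limit (opensDiagram D i₀ U.1) :=
  limit.lift _ (chartCone D i₀ U T η)

lemma chartLift_proj (j : Over i₀) :
    chartLift D i₀ U T η ≫ proj D i₀ U j = (V D i₀ U T).ι ≫ comp D i₀ T η j := by
  unfold chartLift proj
  have h := limit.lift_π (chartCone D i₀ U T η) j
  rw [← Category.assoc]
  refine (congrArg (· ≫ inc D i₀ U j) h).trans ?_
  exact res_inc D i₀ U T η j

lemma comp_top : comp D i₀ T η (top i₀) = T.hom := by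
  have h := comp_hom D i₀ T η (top i₀)
  simpa using h

/-- the chart morphism -/
noncomputable def chartHom : Over.mk ((V D i₀ U T).ι ≫ T.hom) ⟶ W D i₀ U :=
  Over.homMk (chartLift D i₀ U T η) (by
    change chartLift D i₀ U T η ≫ proj D i₀ U (top i₀) = _
    rw [chartLift_proj, comp_top]
    rfl)

lemma chartHom_eq :
    (F D i₀).map (chartHom D i₀ U T η).op (ξ D i₀ U) =
      (F D i₀).map (Over.homMk (V D i₀ U T).ι rfl : Over.mk ((V D i₀ U T).ι ≫ T.hom) ⟶ T).op η := by
  apply NatTrans.ext
  funext j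
  apply Over.OverMorphism.ext
  rw [cones_map_app_left, cones_map_app_left]
  exact chartLift_proj D i₀ U T η j

end chart

lemma proj_top_mem (y : ↥(limit (opensDiagram D i₀ U.1) : Scheme.{u})) :
    (proj D i₀ U (top i₀)).base y ∈ U.1 := by
  have h := ((limit.π (opensDiagram D i₀ U.1) (top i₀)).base y).2
  have h2 : (D.map (top i₀).hom ⁻¹ᵁ U.1) = U.1 := by
    change (D.map (𝟙 i₀) ⁻¹ᵁ U.1) = U.1
    rw [D.map_id]
    rfl
  unfold proj
  change (inc D i₀ U (top i₀)).base ((limit.π (opensDiagram D i₀ U.1) (top i₀)).base y) ∈ U.1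
  exact h2.le h

lemma hopen (T : Over (D.obj i₀)) (η : (F D i₀).obj (op T)) :
    ∃ V' : T.left.Opens,
      (∃ a : Over.mk (V'.ι ≫ T.hom) ⟶ W D i₀ U,
        (F D i₀).map a.op (ξ D i₀ U) =
          (F D i₀).map (Over.homMk V'.ι rfl : Over.mk (V'.ι ≫ T.hom) ⟶ T).op η) ∧
      ∀ (T' : Over (D.obj i₀)) (k : T' ⟶ T) (m : T' ⟶ W D i₀ U),
        (F D i₀).map m.op (ξ D i₀ U) = (F D i₀).map k.op η →
          Set.range k.left ⊆ (V' : Set T.left) := by
  refine ⟨V D i₀ U T, ⟨chartHom D i₀ U T η, chartHom_eq D i₀ U T η⟩, ?_⟩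
  rintro T' k m - _ ⟨t', rfl⟩
  change T.hom.base (k.left.base t') ∈ U.1
  have h1 : k.left ≫ T.hom = m.left ≫ proj D i₀ U (top i₀) := (Over.w k).trans (Over.w m).symm
  have h2 : T.hom.base (k.left.base t') = (proj D i₀ U (top i₀)).base (m.left.base t') := by
    have h3 := congrArg (fun f : T'.left ⟶ D.obj i₀ => f.base t') h1
    exact h3
  rw [h2]
  exact proj_top_mem D i₀ U _

lemma hcov (T : Over (D.obj i₀)) (η : (F D i₀).obj (op T)) (t : T.left) :
    ∃ (U : (D.obj i₀).affineOpens) (V' : T.left.Opens), t ∈ V' ∧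
      ∃ a : Over.mk (V'.ι ≫ T.hom) ⟶ W D i₀ U,
        (F D i₀).map a.op (ξ D i₀ U) =
          (F D i₀).map (Over.homMk V'.ι rfl : Over.mk (V'.ι ≫ T.hom) ⟶ T).op η := by
  obtain ⟨U₀, hU₀, hx, -⟩ := exists_isAffineOpen_mem_and_subset
    (x := T.hom.base t) (U := ⊤) trivial
  exact ⟨⟨U₀, hU₀⟩, V D i₀ ⟨U₀, hU₀⟩ T, hx, chartHom D i₀ ⟨U₀, hU₀⟩ T η,
    chartHom_eq D i₀ ⟨U₀, hU₀⟩ T η⟩

end

theorem isSheaf_cones {C : Type (u+1)} [Category.{u} C] (J : GrothendieckTopology C) [J.Subcanonical]
    {I : Type u} [Category.{u} I] (K : I ⥤ C) : Presieve.IsSheaf J K.cones := by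
  intro T R hR
  have hy : ∀ j, Presieve.IsSheafFor (yoneda.obj (K.obj j)) R.arrows := fun j =>
    GrothendieckTopology.Subcanonical.isSheaf_of_isRepresentable (J := J)
      (yoneda.obj (K.obj j)) R hR
  apply Presieve.IsSeparatedFor.isSheafFor
  · intro x t₁ t₂ h₁ h₂
    apply NatTrans.ext; funext j
    apply (hy j).isSeparatedFor.ext
    intro Y f hf
    have e1 := congrArg (fun c => c.app j) (h₁ f hf)
    have e2 := congrArg (fun c => c.app j) (h₂ f hf)
    exact e1.trans e2.symm
  · intro x hx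
    let a : ∀ j, T ⟶ K.obj j := fun j =>
      (hy j).amalgamate (fun Y f hf => (x f hf).app j) (by
        intro Y₁ Y₂ Z g₁ g₂ f₁ f₂ h₁ h₂ e
        exact congrArg (fun c => c.app j) (hx g₁ g₂ h₁ h₂ e))
    have ha : ∀ j Y (f : Y ⟶ T) (hf : R f), f ≫ a j = (x f hf).app j :=
      fun j Y f hf => (hy j).valid_glue _ f hf
    refine ⟨⟨a, ?_⟩, ?_⟩
    · intro j k φ
      apply (hy k).isSeparatedFor.ext
      intro Y f hf
      change f ≫ (𝟙 T ≫ a k) = f ≫ a j ≫ K.map φ
      rw [Category.id_comp, ha _ _ _ hf, ← Category.assoc, ha _ _ _ hf]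
      have := (x f hf).naturality φ
      simpa using this
    · intro Y f hf
      apply NatTrans.ext; funext j
      exact ha j Y f hf

section final

variable {I : Type u} [SmallCategory I] [IsCofiltered I] (D : I ⥤ Scheme.{u})
  [∀ (i j : I) (f : i ⟶ j), IsAffineHom (D.map f)]

theorem hasLimit_post (i₀ : I) : HasLimit (Over.post (X := i₀) D) := by
  obtain ⟨W₀, ⟨e⟩⟩ := Groth.Agent.Lib.Helper4.LocRep.exists_repr (F D i₀) (W D i₀) (ξ D i₀)
    (fun U => hmono D i₀ U) (fun U => hopen D i₀ U) (hcov D i₀)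
    (isSheaf_cones (Scheme.zariskiTopology.over (D.obj i₀)) (Over.post (X := i₀) D))
  exact ⟨⟨_, IsLimit.ofRepresentableBy e⟩⟩

theorem hasLimit_of_isAffineHom : HasLimit D := by
  obtain ⟨i₀⟩ := IsCofiltered.nonempty (C := I)
  haveI := hasLimit_post D i₀
  haveI : IsConnected (Over i₀) := isConnected_of_hasTerminal _
  haveI : HasLimit (Over.post (X := i₀) D ⋙ Over.forget (D.obj i₀)) := inferInstance
  let e : Over.post (X := i₀) D ⋙ Over.forget (D.obj i₀) ≅ Over.forget i₀ ⋙ D :=
    NatIso.ofComponents (fun j => Iso.refl _) (by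
      intro j k f
      exact (Category.comp_id _).trans (Category.id_comp _).symm)
  haveI : HasLimit (Over.forget i₀ ⋙ D) := hasLimit_of_iso e
  exact Functor.Initial.hasLimit_of_comp (Over.forget i₀)

theorem exists_limit_isAffineHom :
    ∃ (c : Limits.Cone D) (_ : Limits.IsLimit c), ∀ i, IsAffineHom (c.π.app i) := by
  haveI := hasLimit_of_isAffineHom D
  haveI : ∀ {i j : I} (f : i ⟶ j), IsAffineHom (D.map f) := fun f => inferInstance
  exact ⟨limit.cone D, limit.isLimit D, fun i => isAffineHom_π_app D _ (limit.isLimit D) i⟩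

end final

end Groth.Agent.Lib.helper11.AffLim
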