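import Mathlib
import Groth.Agent.Lib.Helper11.AdicMain

/-!
# The tower of thickenings `X ×_A A/J^(k+1)` as an adic system, and uniform vanishing (helper11)

* `isPullback_thickTrans`, `thickData f J : AdicData A J` (levels `CohB1.thick f J k`);
* `isIso_unit_of_killedBy`: for a base change `g' : X' ⟶ X` along `A → B` surjective with kernel `I`,
  a quasi-coherent module on `X` killed by `I` is `g'_* g'^*` of itself;
* `exists_uniform_vanishing_modPow`: `X` proper over Noetherian `A`, `L` invertible on `X` whose restriction to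
  `X ×_A A/J` is ample, `M` coherent: `∃ d₀ ∀ d ≥ d₀ ∀ k ∀ q > 0, H^q(X, (M ⊗ L^d)/J^(k+1)) = 0`.
-/

set_option autoImplicit false
universe u
open CategoryTheory CategoryTheory.Limits AlgebraicGeometry Opposite TopologicalSpace

namespace Groth.Agent.Lib.helper11.ThickTower

open Formal Groth.Agent.Lib.helper8.FF Groth.Agent.Lib.helper8.FPull Groth.Agent.Lib.helper8.Rees
  Scheme.Modules Groth.Agent.Lib.helper11.Thick Groth.Agent.Lib.helper11.FibMono
  Groth.Agent.Lib.Lead.ModTensor Groth.Agent.Lib.Lead.GE Groth.Agent.Lib.Helper18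
  Groth.Agent.Lib.helper11.AdicSys

section Tower

variable {A : Type u} [CommRing A] {X : Scheme.{u}} (f : X ⟶ Spec (CommRingCat.of A)) (J : Ideal A)

@[reassoc]
lemma thickTrans_ι (k : ℕ) :
    CohB1.thickTrans f J k ≫ CohB1.thickι f J (k + 1) = CohB1.thickι f J k := by
  exact (pullback.lift_fst _ _ _).trans (Category.comp_id _)

@[reassoc]
lemma thickTrans_toBase (k : ℕ) :
    CohB1.thickTrans f J k ≫ CohB1.thickToBase f J (k + 1) =
      CohB1.thickToBase f J k ≫ CohB1.specQuotTrans J k := by
  exact pullback.lift_snd _ _ _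

theorem isPullback_thickTrans (k : ℕ) :
    IsPullback (CohB1.thickTrans f J k) (CohB1.thickToBase f J k) (CohB1.thickToBase f J (k + 1))
      (CohB1.specQuotTrans J k) := by
  have hbig : IsPullback (CohB1.thickι f J k) (CohB1.thickToBase f J k) f (CohB1.specQuot J k) :=
    IsPullback.of_hasPullback _ _
  have hright : IsPullback (CohB1.thickι f J (k + 1)) (CohB1.thickToBase f J (k + 1)) f
      (CohB1.specQuot J (k + 1)) := IsPullback.of_hasPullback _ _
  refine IsPullback.of_right ?_ (thickTrans_toBase f J k) hright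
  rw [thickTrans_ι, CohB1.specQuotTrans_specQuot]
  exact hbig

/-- the tower of thickenings as an adic system -/
noncomputable def thickData : AdicData A J where
  Xs := CohB1.thick f J
  p := CohB1.thickToBase f J
  i := CohB1.thickTrans f J
  hcart := isPullback_thickTrans f J

end Tower

section Unit

variable {A B : Type u} [CommRing A] [CommRing B] [Algebra A B]
  {X X' : Scheme.{u}} [X.Over (Spec (CommRingCat.of A))]
  (fX' : X' ⟶ Spec (CommRingCat.of B)) (g' : X' ⟶ X)
  (h : IsPullback g' fX' (X ↘ Spec (CommRingCat.of A))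
    (Spec.map (CommRingCat.ofHom (algebraMap A B))))
  (I : Ideal A) (hsurj : Function.Surjective (algebraMap A B))
  (hker : RingHom.ker (algebraMap A B) = I)

include h hsurj hker in
/-- a quasi-coherent module killed by `I = ker (A → B)` is the pushforward of its pullback along the
base change `g' : X ×_A B ⟶ X` -/
theorem isIso_unit_of_killedBy (T : X.Modules) [T.IsQuasicoherent]
    (hT : ∀ a ∈ I, smulMod A T a = 0) :
    IsIso ((Scheme.Modules.pullbackPushforwardAdjunction g').unit.app T) := by
  haveI : ((Scheme.Modules.pullback g' ⋙ pushforward g').obj T).IsQuasicoherent :=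
    isQuasicoherent_pushPull _ fX' g' h T
  haveI : ((𝟭 X.Modules).obj T).IsQuasicoherent := ‹T.IsQuasicoherent›
  apply Groth.Agent.Lib.helper7.KerSections.isIso_of_bijective_affine
  intro W hW
  refine ⟨?_, unit_app_surjective _ fX' g' h hsurj T W hW⟩
  rw [injective_iff_map_eq_zero]
  intro n hn
  have e := (unit_app_eq_zero_iff _ fX' g' h _ hsurj hker T W hW n).mp hn
  letI := modSecA (X ↘ Spec (CommRingCat.of A)) T W
  refine Submodule.smul_induction_on e (fun a ha s _ => ?_)
    (fun x y hx hy => by rw [hx, hy]; exact add_zero _)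
  have : appLin (smulMod A T a) W s = 0 := by
    rw [hT a ha]
    rfl
  exact this

include h hsurj hker in
/-- vanishing of cohomology of a module killed by `I` from vanishing on `X ×_A B` -/
theorem subsingleton_HH_of_pullback (T : X.Modules) [T.IsQuasicoherent]
    (hT : ∀ a ∈ I, smulMod A T a = 0) (q : ℕ)
    (hq : Subsingleton (Coh.HH X' ((Scheme.Modules.pullback g').obj T) q)) :
    Subsingleton (Coh.HH X T q) := by
  haveI := isIso_unit_of_killedBy fX' g' h I hsurj hker T hT
  haveI := isAffineHom_of_isPullback _ fX' g' h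
  haveI : ((Scheme.Modules.pullback g').obj T).IsQuasicoherent :=
    Groth.Agent.Lib.helper16.QCohPullback.isQuasicoherent_pullback _ T
  have h1 : Subsingleton (Coh.HH X (pushPull g' T) q) :=
    (Groth.Agent.Lib.Helper18.HH.pushEquivAdd g'
      ((Scheme.Modules.pullback g').obj T) q).toEquiv.subsingleton
  exact Groth.Agent.Lib.helper11.RelSerre.subsingleton_HH_of_iso
    (asIso ((Scheme.Modules.pullbackPushforwardAdjunction g').unit.app T)).symm q h1

end Unit

section Main

variable {A : Type u} [CommRing A] [IsNoetherianRing A] (J : Ideal A)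
  {X : Scheme.{u}} [X.Over (Spec (CommRingCat.of A))] [IsProper (X ↘ Spec (CommRingCat.of A))]

/-- **uniform vanishing modulo powers of `J`**: `L` invertible on `X` proper over Noetherian `A`, ample
on `X ×_A A/J`; `M` coherent. Then for `d ≫ 0`, all `k` and `q > 0`: `H^q(X, (M ⊗ L^d)/J^(k+1)) = 0`. -/
theorem exists_uniform_vanishing_modPow (L : X.Modules) (hL : PicF.IsInvertible L)
    (hample : CohB1.IsAmple ((Scheme.Modules.pullback
      (CohB1.thickι (X ↘ Spec (CommRingCat.of A)) J 0)).obj L))
    (M : X.Modules) (hM : Coh.IsCoh M) :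
    ∃ d₀ : ℕ, ∀ d : ℕ, d₀ ≤ d → ∀ k q : ℕ, 0 < q →
      Subsingleton (Coh.HH X (Formal.modPow J (k + 1)
        (CohB1.tensorMod M (CohB1.tensorPow L d))) q) := by
  let f := X ↘ Spec (CommRingCat.of A)
  let D : AdicData A J := thickData f J
  let ι : ∀ k, D.Xs k ⟶ X := fun k => CohB1.thickι f J k
  haveI : M.IsQuasicoherent := hM.1
  let Lk : ∀ k, (D.Xs k).Modules := fun k => (Scheme.Modules.pullback (ι k)).obj L
  let Fk : ∀ k, (D.Xs k).Modules := fun k => (Scheme.Modules.pullback (ι k)).obj M
  have hp : IsProper (D.p 0) := by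
    change IsProper (pullback.snd f (CohB1.specQuot J 0))
    infer_instance
  have hLk : ∀ k, PicF.IsInvertible (Lk k) := fun k =>
    Groth.Agent.Lib.helper11.InvMod.isInvertible_pullback _ hL
  have φ : ∀ k, Nonempty ((Scheme.Modules.pullback (D.i k)).obj (Lk (k + 1)) ≅ Lk k) := fun k =>
    ⟨(pullbackComp (CohB1.thickTrans f J k) (CohB1.thickι f J (k + 1))).app L ≪≫
      (pullbackCongr (thickTrans_ι f J k)).app L⟩
  have ψ : ∀ k, Nonempty ((Scheme.Modules.pullback (D.i k)).obj (Fk (k + 1)) ≅ Fk k) := fun k =>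
    ⟨(pullbackComp (CohB1.thickTrans f J k) (CohB1.thickι f J (k + 1))).app M ≪≫
      (pullbackCongr (thickTrans_ι f J k)).app M⟩
  have hFk : ∀ k, Coh.IsCoh (Fk k) := fun k =>
    ⟨Groth.Agent.Lib.helper16.QCohPullback.isQuasicoherent_pullback _ M,
      Groth.Agent.Lib.helper16.QCohPullback2.isFiniteType_pullback _ M hM.2⟩
  obtain ⟨d₀, hd₀⟩ := D.exists_uniform_vanishing_levels hp Lk hLk φ hample Fk hFk ψ
  refine ⟨d₀, fun d hd k q hq => ?_⟩
  have h1 := hd₀ d hd k q hq
  have hLd := Groth.Agent.Lib.helper12.TensorInv.isInvertible_tensorPow hL d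
  haveI := Groth.Agent.Lib.helper12.AmpleBasis.isQuasicoherent_of_isInvertible hLd
  haveI hNq : (CohB1.tensorMod M (CohB1.tensorPow L d)).IsQuasicoherent :=
    Groth.Agent.Lib.helper2.TensorQCoh.isQuasicoherent_tensorMod _ _
  have hpb : IsPullback (ι k) (D.p k) f
      (Spec.map (CommRingCat.ofHom (algebraMap A (A ⧸ J ^ (k + 1))))) :=
    IsPullback.of_hasPullback _ _
  haveI : (Q (J ^ (k + 1)) (CohB1.tensorMod M (CohB1.tensorPow L d))).IsQuasicoherent :=
    isQuasicoherent_Q _ _
  refine subsingleton_HH_of_pullback (D.p k) (ι k) hpb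
    (J ^ (k + 1)) Ideal.Quotient.mk_surjective
    (by rw [Ideal.Quotient.algebraMap_eq, Ideal.mk_ker])
    (Q (J ^ (k + 1)) (CohB1.tensorMod M (CohB1.tensorPow L d)))
    (fun a ha => smulMod_Q _ ha) q ?_
  have hf : ι k ≫ (X ↘ Spec (CommRingCat.of A)) =
      (D.Xs k ↘ Spec (CommRingCat.of A)) := pullback.condition
  let N := CohB1.tensorMod M (CohB1.tensorPow L d)
  haveI : IsIso (qπ (J ^ (k + 1)) ((Scheme.Modules.pullback (ι k)).obj N)) :=
    (Groth.Agent.Lib.helper8.FCompl.isCok_qπ _ _).isIso_of_killedBy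
      (fun a ha => D.smulMod_eq_zero k _ ha)
  let i0 := (Groth.Agent.Lib.helper8.FCompl.pullbackQIso (ι k) hf (J ^ (k + 1)) N).symm
  let i1 := (asIso (qπ (J ^ (k + 1)) ((Scheme.Modules.pullback (ι k)).obj N))).symm
  let i2 := Groth.Agent.Lib.helper12.PullTensor.pullTensorIso (ι k) M
    (CohB1.tensorPow L d) hLd
  let i3 := tensorIso (Iso.refl ((Scheme.Modules.pullback (ι k)).obj M))
    (Groth.Agent.Lib.helper12.PullAmple.pullTensorPowIso (ι k) hL d)
  exact Groth.Agent.Lib.helper11.RelSerre.subsingleton_HH_of_iso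
    (i0 ≪≫ i1 ≪≫ i2 ≪≫ i3).symm q h1

end Main

end Groth.Agent.Lib.helper11.ThickTower
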