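import Groth.Agent.Lib.Helper11.ParaFFree
import Groth.Agent.Lib.Helper11.InvPullback

set_option autoImplicit false
universe u
open CategoryTheory CategoryTheory.Limits AlgebraicGeometry TopologicalSpace Opposite
open Scheme.Modules
open Groth.Agent.Lib.helper11.IsoLocus Groth.Agent.Lib.helper11.InvMod
open Groth.Agent.Lib.helper11.InvPullback Groth.Agent.Lib.helper11.ParaFLib

namespace Groth.Agent.Lib.helper11.PullUnit

section abstract

universe v₁ v₂ v₃ v₄ u₁ u₂ u₃ u₄

variable {𝒮 : Type u₁} {𝒳 : Type u₂} {𝒱 : Type u₃} {𝒰 : Type u₄}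
  [Category.{v₁} 𝒮] [Category.{v₂} 𝒳] [Category.{v₃} 𝒱] [Category.{v₄} 𝒰]

/-- base change of units: in a square of adjunctions whose right adjoints commute up to
isomorphism, if `J ⊣ Js` has invertible counit, the unit of `F ⊣ G` becomes invertible after `J`
as soon as the unit of `F' ⊣ G'` is invertible at `J N` (and the unit of `J' ⊣ Js'` becomes invertible
after `G ⋙ J`). -/
theorem isIso_map_unit_of_conjugate {F : 𝒮 ⥤ 𝒳} {G : 𝒳 ⥤ 𝒮} (adjF : F ⊣ G)
    {F' : 𝒱 ⥤ 𝒰} {G' : 𝒰 ⥤ 𝒱} (adjF' : F' ⊣ G')
    {J : 𝒮 ⥤ 𝒱} {Js : 𝒱 ⥤ 𝒮} (adjJ : J ⊣ Js)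
    {J' : 𝒳 ⥤ 𝒰} {Js' : 𝒰 ⥤ 𝒳} (adjJ' : J' ⊣ Js')
    (ρ : Js' ⋙ G ≅ G' ⋙ Js) [IsIso adjJ.counit] (N : 𝒮)
    (h1 : IsIso (J.map (G.map (adjJ'.unit.app (F.obj N)))))
    (h2 : IsIso (adjF'.unit.app (J.obj N))) :
    IsIso (J.map (adjF.unit.app N)) := by
  let adj₁ := adjF.comp adjJ'
  let adj₂ := adjJ.comp adjF'
  let α := (conjugateEquiv adj₁ adj₂).symm ρ.hom
  have hα : IsIso α := inferInstance
  have key := unit_conjugateEquiv_symm adj₁ adj₂ ρ.hom N
  have e1 : adj₁.unit.app N = adjF.unit.app N ≫ G.map (adjJ'.unit.app (F.obj N)) :=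
    Adjunction.comp_unit_app _ _ _
  have e2 : adj₂.unit.app N = adjJ.unit.app N ≫ Js.map (adjF'.unit.app (J.obj N)) :=
    Adjunction.comp_unit_app _ _ _
  rw [e1, e2] at key
  have key' := congrArg (fun φ => J.map φ) key
  simp only [Functor.map_comp, Category.assoc] at key'
  have h3 : IsIso (J.map (adjJ.unit.app N)) := by
    have h6 := adjJ.left_triangle_components N
    have h4 : IsIso (adjJ.counit.app (J.obj N)) := inferInstance
    have h7 : J.map (adjJ.unit.app N) = inv (adjJ.counit.app (J.obj N)) := by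
      rw [← cancel_mono (adjJ.counit.app (J.obj N)), IsIso.inv_hom_id]
      exact h6
    rw [h7]
    infer_instance
  have h5 : IsIso (J.map (adjF.unit.app N) ≫ J.map (G.map (adjJ'.unit.app (F.obj N))) ≫
      J.map (ρ.hom.app ((F ⋙ J').obj N))) := by
    rw [key']
    infer_instance
  exact IsIso.of_isIso_comp_right _ (J.map (G.map (adjJ'.unit.app (F.obj N))) ≫
      J.map (ρ.hom.app ((F ⋙ J').obj N)))

end abstract


/-- a functor on a thin category sends morphisms between equivalent objects to isomorphisms -/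
theorem isIso_map_of_thin' {C D : Type*} [Category C] [Quiver.IsThin C] [Category D]
    (P : Cᵒᵖ ⥤ D) {A B : C} (g : B ⟶ A) (g' : A ⟶ B) : IsIso (P.map g.op) := by
  refine ⟨P.map g'.op, ?_, ?_⟩
  · rw [← P.map_comp, ← op_comp]
    have : g' ≫ g = 𝟙 _ := Subsingleton.elim _ _
    rw [this, op_id, P.map_id]
  · rw [← P.map_comp, ← op_comp]
    have : g ≫ g' = 𝟙 _ := Subsingleton.elim _ _
    rw [this, op_id, P.map_id]

variable {X S : Scheme.{u}}

/-- `O_S ⟶ f_* O_X` is an isomorphism when it is bijective on sections -/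
theorem isIso_unitToPush (f : X ⟶ S) (hf : ∀ U : S.Opens, Function.Bijective (f.app U)) :
    IsIso (unitToPush f) := by
  rw [Hom.isIso_iff_isIso_app]
  intro U
  rw [ConcreteCategory.isIso_iff_bijective]
  exact hf U

theorem unit_comp_pushforward_pullbackUnitHom (f : X ⟶ S) :
    (pullbackPushforwardAdjunction f).unit.app (Coh.structureModule S) ≫
      (pushforward f).map (pullbackUnitHom f) = unitToPush f := by
  have h := pullbackUnitHom_eq f
  have h2 : ((pullbackPushforwardAdjunction f).homEquiv _ _) (pullbackUnitHom f) = unitToPush f := by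
    rw [h, Equiv.apply_symm_apply]
  rw [← h2, Adjunction.homEquiv_unit]

theorem isIso_unit_structureModule (f : X ⟶ S)
    (hf : ∀ U : S.Opens, Function.Bijective (f.app U)) :
    IsIso ((pullbackPushforwardAdjunction f).unit.app (Coh.structureModule S)) := by
  have h1 := isIso_unitToPush f hf
  have h2 : IsIso ((pullbackPushforwardAdjunction f).unit.app (Coh.structureModule S) ≫
      (pushforward f).map (pullbackUnitHom f)) := by
    rw [unit_comp_pushforward_pullbackUnitHom]; exact h1
  exact IsIso.of_isIso_comp_right _ ((pushforward f).map (pullbackUnitHom f))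

theorem isIso_unit_freeMod (f : X ⟶ S) (hf : ∀ U : S.Opens, Function.Bijective (f.app U)) (n : ℕ) :
    IsIso ((pullbackPushforwardAdjunction f).unit.app (FlatMod.freeMod S n)) := by
  have : HasFiniteBiproducts S.Modules := HasFiniteBiproducts.of_hasFiniteProducts
  have h1 := isIso_unit_structureModule f hf
  exact isIso_app_coproduct (𝟭 _) (pullback f ⋙ pushforward f)
    (pullbackPushforwardAdjunction f).unit (fun _ : Fin n => Coh.structureModule S) (fun _ => h1)

theorem isIso_unit_of_iso_freeMod (f : X ⟶ S) (hf : ∀ U : S.Opens, Function.Bijective (f.app U))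
    (N : S.Modules) (n : ℕ) (e : N ≅ FlatMod.freeMod S n) :
    IsIso ((pullbackPushforwardAdjunction f).unit.app N) :=
  isIso_app_of_iso (𝟭 _) (pullback f ⋙ pushforward f) (pullbackPushforwardAdjunction f).unit e.symm
    (isIso_unit_freeMod f hf n)

theorem bijective_app_morphismRestrict (f : X ⟶ S)
    (hf : ∀ U : S.Opens, Function.Bijective (f.app U)) (V : S.Opens)
    (W : (↑V : Scheme.{u}).Opens) : Function.Bijective ((f ∣_ V).app W) := by
  rw [morphismRestrict_app]
  have h1 := hf (V.ι ''ᵁ W)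
  have h2 : IsIso (X.presheaf.map (eqToHom (image_morphismRestrict_preimage f V W)).op) :=
    inferInstance
  have h3 := (ConcreteCategory.isIso_iff_bijective _).mp h2
  exact h3.comp h1


/-- the unit of `f^* ⊣ f_*` restricted to an open `V` of the target is invertible as soon as the
unit of the restricted morphism `f⁻¹V ⟶ V` is invertible at the restricted module -/
theorem isIso_restrict_unit (f : X ⟶ S) (V : S.Opens) (N : S.Modules)
    (h : IsIso ((pullbackPushforwardAdjunction (f ∣_ V)).unit.app (N.restrict V.ι))) :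
    IsIso ((restrictFunctor V.ι).map ((pullbackPushforwardAdjunction f).unit.app N)) := by
  let ρ : pushforward (f ⁻¹ᵁ V).ι ⋙ pushforward f ≅ pushforward (f ∣_ V) ⋙ pushforward V.ι :=
    pushforwardComp _ _ ≪≫ pushforwardCongr (morphismRestrict_ι f V).symm ≪≫
      (pushforwardComp _ _).symm
  refine isIso_map_unit_of_conjugate (pullbackPushforwardAdjunction f)
    (pullbackPushforwardAdjunction (f ∣_ V)) (restrictAdjunction V.ι)
    (restrictAdjunction (f ⁻¹ᵁ V).ι) ρ N ?_ h
  rw [Hom.isIso_iff_isIso_app]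
  intro W
  rw [restrictFunctor_map_app, pushforward_map_app, restrictAdjunction_unit_app_app]
  refine isIso_map_of_thin' _ _ (homOfLE ?_)
  rw [Scheme.Hom.image_preimage_eq_opensRange_inf, Scheme.Opens.opensRange_ι]
  refine le_inf ?_ le_rfl
  rintro x ⟨w, -, hw⟩
  show f x ∈ V
  rw [← hw]
  exact w.2

theorem isIso_unit_of_isFinLocFree (f : X ⟶ S) (hf : ∀ U : S.Opens, Function.Bijective (f.app U))
    (N : S.Modules) (hN : FlatMod.IsFinLocFree N) :
    IsIso ((pullbackPushforwardAdjunction f).unit.app N) := by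
  refine isIso_of_forall_restrict _ fun x => ?_
  obtain ⟨V, n, hxV, ⟨e⟩⟩ := hN x
  exact ⟨V, hxV, isIso_restrict_unit f V N
    (isIso_unit_of_iso_freeMod (f ∣_ V) (bijective_app_morphismRestrict f hf V) _ n e)⟩


theorem isIso_unit_of_isInvertible (f : X ⟶ S) (hf : ∀ U : S.Opens, Function.Bijective (f.app U))
    (N : S.Modules) (hN : PicF.IsInvertible N) :
    IsIso ((pullbackPushforwardAdjunction f).unit.app N) := by
  refine isIso_of_forall_restrict _ fun x => ?_
  obtain ⟨V, hxV, ⟨e⟩⟩ := hN x
  refine ⟨V, hxV, isIso_restrict_unit f V N ?_⟩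
  exact isIso_app_of_iso (𝟭 _) (pullback (f ∣_ V) ⋙ pushforward (f ∣_ V))
    (pullbackPushforwardAdjunction (f ∣_ V)).unit e.symm
    (isIso_unit_structureModule (f ∣_ V) (bijective_app_morphismRestrict f hf V))

/-- full faithfulness of a left adjoint at objects where the unit is invertible -/
theorem bijective_map_of_isIso_unit {C D : Type*} [Category C] [Category D] {F : C ⥤ D} {G : D ⥤ C}
    (adj : F ⊣ G) (A B : C) (h : IsIso (adj.unit.app B)) :
    Function.Bijective (fun φ : A ⟶ B => F.map φ) := by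
  have key : ∀ φ : A ⟶ B, adj.homEquiv A _ (F.map φ) = φ ≫ adj.unit.app B := by
    intro φ
    rw [Adjunction.homEquiv_unit]
    exact (adj.unit.naturality φ).symm
  constructor
  · intro φ ψ h'
    have : φ ≫ adj.unit.app B = ψ ≫ adj.unit.app B := by
      rw [← key, ← key]
      exact congrArg _ h'
    exact (cancel_mono _).mp this
  · intro χ
    refine ⟨adj.homEquiv _ _ χ ≫ inv (adj.unit.app B), ?_⟩
    apply (adj.homEquiv _ _).injective
    show adj.homEquiv _ _ (F.map _) = _
    rw [key, Category.assoc, IsIso.inv_hom_id, Category.comp_id]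

/-- the counit is invertible at `F M` when the unit is invertible at `M` -/
theorem isIso_counit_of_isIso_unit {C D : Type*} [Category C] [Category D] {F : C ⥤ D} {G : D ⥤ C}
    (adj : F ⊣ G) (M : C) (h : IsIso (adj.unit.app M)) : IsIso (adj.counit.app (F.obj M)) := by
  have h1 := adj.left_triangle_components M
  have h2 : IsIso (F.map (adj.unit.app M)) := inferInstance
  have h3 : adj.counit.app (F.obj M) = inv (F.map (adj.unit.app M)) := by
    rw [← cancel_epi (F.map (adj.unit.app M)), IsIso.hom_inv_id]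
    exact h1
  rw [h3]
  infer_instance

end Groth.Agent.Lib.helper11.PullUnit
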