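import Mathlib
import Groth.Agent.Lib.Helper11.Thick4

/-!
# Lifting global sections from an infinitesimal neighbourhood over an Artinian local ring (helper11)

`A` Artinian local, `X` over `Spec A`, `G` quasi-coherent on `X`, flat over `A`, with
`H^1(X₀, G|X₀) = 0` on the closed fibre: for every ideal `J ≤ m` every global section of `G|X_J`
lifts to a global section of `G` (`exists_lift_section_artinian`).
-/

set_option autoImplicit false
universe u
open CategoryTheory CategoryTheory.Limits AlgebraicGeometry TopologicalSpace Opposite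
open Scheme.Modules TensorProduct
open Groth.Agent.Lib.helper12.PullTensor

namespace Groth.Agent.Lib.helper11.Thick

section

variable {A : Type u} [CommRing A] [IsLocalRing A] [IsArtinianRing A]
  {X : Scheme.{u}} (fX : X ⟶ Spec (CommRingCat.of A)) (G : X.Modules) [G.IsQuasicoherent]
  (hfl : FlatMod.IsFlatOver fX G)
  {B₀ : Type u} [CommRing B₀] [Algebra A B₀] {X₀ : Scheme.{u}}
  (fX₀ : X₀ ⟶ Spec (CommRingCat.of B₀)) (g₀ : X₀ ⟶ X)
  (h₀ : IsPullback g₀ fX₀ fX (Spec.map (CommRingCat.ofHom (algebraMap A B₀))))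
  (hs₀ : Function.Surjective (algebraMap A B₀))
  (hk₀ : RingHom.ker (algebraMap A B₀) = IsLocalRing.maximalIdeal A)
  (hv : Subsingleton (Coh.HH X₀ ((Scheme.Modules.pullback g₀).obj G) 1))

include hfl h₀ hs₀ hk₀ hv in
/-- **lifting sections from `X_J` to `X`** -/
theorem exists_lift_section_artinian (J : Ideal A) (hJm : J ≤ IsLocalRing.maximalIdeal A) :
    ∀ (B₁ : Type u) [CommRing B₁] [Algebra A B₁] (X₁ : Scheme.{u})
      (fX₁ : X₁ ⟶ Spec (CommRingCat.of B₁)) (g₁ : X₁ ⟶ X)
      (_ : IsPullback g₁ fX₁ fX (Spec.map (CommRingCat.ofHom (algebraMap A B₁))))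
      (_ : Function.Surjective (algebraMap A B₁))
      (_ : RingHom.ker (algebraMap A B₁) = J)
      (s : (pushPull g₁ G).val.obj (op ⊤)),
      ∃ n : G.val.obj (op ⊤), unitSec g₁ G ⊤ n = s := by
  have hwf : WellFounded ((· < ·) : Ideal A → Ideal A → Prop) := wellFounded_lt
  induction J using hwf.induction with
  | _ J ih =>
    intro B₁ _ _ X₁ fX₁ g₁ h₁ hs₁ hk₁ s
    by_cases hJ : J = ⊥
    · subst hJ
      exact unit_top_surjective_of_ker_eq_bot fX fX₁ g₁ h₁ hs₁ hk₁ G s
    · obtain ⟨J', t, hJ'lt, hJeq, hann⟩ := exists_covBy_ideal J hJ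
      subst hJeq
      have hJ'm : J' ≤ IsLocalRing.maximalIdeal A := hJ'lt.le.trans hJm
      -- the canonical base change datum for `J'`
      let fX' := pullback.snd fX (Spec.map (CommRingCat.ofHom (algebraMap A (A ⧸ J'))))
      let g' := pullback.fst fX (Spec.map (CommRingCat.ofHom (algebraMap A (A ⧸ J'))))
      have h' : IsPullback g' fX' fX (Spec.map (CommRingCat.ofHom (algebraMap A (A ⧸ J')))) :=
        IsPullback.of_hasPullback _ _
      have hs' : Function.Surjective (algebraMap A (A ⧸ J')) := Ideal.Quotient.mk_surjective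
      have hk' : RingHom.ker (algebraMap A (A ⧸ J')) = J' := Ideal.mk_ker
      obtain ⟨s', hs's⟩ := exists_rel_lift fX fX' g' h' fX₁ g₁ h₁ fX₀ g₀ h₀ t J' _ hann hJ'm
        hs' hk' hs₁ hk₁ hs₀ hk₀ G hfl hv s
      obtain ⟨n, hn⟩ := ih J' hJ'lt hJ'm (A ⧸ J') _ fX' g' h' hs' hk' s'
      refine ⟨n, ?_⟩
      rw [← hs's, ← hn]
      exact (unit_piHom_app fX fX' g' h' fX₁ g₁ h₁ J' _ le_sup_left hs' hk' hs₁ hk₁ G ⊤ n).symm

end

end Groth.Agent.Lib.helper11.Thick
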