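import Mathlib
import Groth.Agent.Lib.Helper11.Thick5
import Groth.Agent.Lib.Helper11.PullUnit

/-!
# `A/J → Γ(X_J, O)` over an Artinian local base (helper11)

`beta a = unit (a • 1) : Γ(X, g'_* g'^* O_X)`; a base change datum with kernel `J` is *good* when
`beta` is surjective with kernel `J`.  Step lemma `isGood_step` and the induction
`isGood_of_closedFibre`.
-/

set_option autoImplicit false
universe u
open CategoryTheory CategoryTheory.Limits AlgebraicGeometry TopologicalSpace Opposite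
open Scheme.Modules TensorProduct
open Groth.Agent.Lib.helper8.FlatCohBC Groth.Agent.Lib.helper21.GCCech
open Groth.Agent.Lib.helper12.PullTensor
open Groth.Agent.Lib.helper11.FibMono

namespace Groth.Agent.Lib.helper11.Thick

section beta

variable {A B : Type u} [CommRing A] [CommRing B] [Algebra A B]
variable {X X' : Scheme.{u}} (fX : X ⟶ Spec (CommRingCat.of A))
  (fX' : X' ⟶ Spec (CommRingCat.of B)) (g' : X' ⟶ X)
  (h : IsPullback g' fX' fX (Spec.map (CommRingCat.ofHom (algebraMap A B))))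
  (G : X.Modules)

include h in
/-- elements of the kernel of `A → B` kill `g'_* g'^* G` -/
theorem smul_pushPull_eq_zero (a : A) (ha : algebraMap A B a = 0) (W : X.Opens)
    (s : (pushPull g' G).val.obj (op W)) :
    (letI := modSecA fX (pushPull g' G) W; a • s) = 0 := by
  have e1 : Formal.smulModΓ (pushPull g' G) (Coh.toGlobal fX a) = 0 := by
    have e2 := Groth.Agent.Lib.helper11.FibLift.pushforward_map_smulModΓ g'
      ((Scheme.Modules.pullback g').obj G) (Coh.toGlobal fX a)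
    rw [← toGlobal_algebraMap fX fX' g' h a, ha, map_zero, KLin.smulModΓ_zero,
      Functor.map_zero] at e2
    exact e2.symm
  have := congrArg (fun φ : pushPull g' G ⟶ pushPull g' G => (φ.val.app (op W)).hom s) e1
  exact this

/-- the unit section of `O_X` -/
noncomputable abbrev oneSec (X : Scheme.{u}) : (Coh.structureModule X).val.obj (op ⊤) :=
  (1 : X.ringCatSheaf.obj.obj (op ⊤))

/-- `a ↦ unit (a • 1)` -/
noncomputable def beta (a : A) : (pushPull g' (Coh.structureModule X)).val.obj (op ⊤) :=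
  unitSec g' (Coh.structureModule X) ⊤
    (letI := modSecA fX (Coh.structureModule X) ⊤; a • oneSec X)

theorem beta_eq_smul (a : A) :
    beta fX g' a = (letI := modSecA fX (pushPull g' (Coh.structureModule X)) ⊤;
      a • (show (pushPull g' (Coh.structureModule X)).val.obj (op ⊤) from
        unitSec g' (Coh.structureModule X) ⊤ (oneSec X))) :=
  app_smulA fX (unitHom g' (Coh.structureModule X)) ⊤ a (oneSec X)

theorem beta_add (a b : A) : beta fX g' (a + b) = beta fX g' a + beta fX g' b := by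
  letI := modSecA fX (Coh.structureModule X) ⊤
  unfold beta
  rw [add_smul]
  exact map_add ((unitHom g' (Coh.structureModule X)).val.app (op ⊤)).hom _ _

theorem beta_sub (a b : A) : beta fX g' (a - b) = beta fX g' a - beta fX g' b := by
  letI := modSecA fX (Coh.structureModule X) ⊤
  unfold beta
  rw [sub_smul]
  exact map_sub ((unitHom g' (Coh.structureModule X)).val.app (op ⊤)).hom _ _

/-- `unit (a • s) ` in terms of `beta` for `s = b • 1` -/
theorem unitSec_smul_smul_one (a b : A) :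
    unitSec g' (Coh.structureModule X) ⊤
      (letI := modSecA fX (Coh.structureModule X) ⊤; a • b • oneSec X) = beta fX g' (a * b) := by
  letI := modSecA fX (Coh.structureModule X) ⊤
  unfold beta
  rw [mul_smul]

/-- the datum is good: `beta` is surjective with kernel `J` -/
def IsGood (J : Ideal A) : Prop :=
  Function.Surjective (beta fX g') ∧ ∀ a : A, beta fX g' a = 0 ↔ a ∈ J

end beta

section step

variable {A B' B₁ B₀ : Type u} [CommRing A] [CommRing B'] [CommRing B₁] [CommRing B₀]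
  [Algebra A B'] [Algebra A B₁] [Algebra A B₀]
variable {X X' X₁ X₀ : Scheme.{u}} (fX : X ⟶ Spec (CommRingCat.of A))
  (fX' : X' ⟶ Spec (CommRingCat.of B')) (g' : X' ⟶ X)
  (h' : IsPullback g' fX' fX (Spec.map (CommRingCat.ofHom (algebraMap A B'))))
  (fX₁ : X₁ ⟶ Spec (CommRingCat.of B₁)) (g₁ : X₁ ⟶ X)
  (h₁ : IsPullback g₁ fX₁ fX (Spec.map (CommRingCat.ofHom (algebraMap A B₁))))
  (fX₀ : X₀ ⟶ Spec (CommRingCat.of B₀)) (g₀ : X₀ ⟶ X)
  (h₀ : IsPullback g₀ fX₀ fX (Spec.map (CommRingCat.ofHom (algebraMap A B₀))))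
  (t : A) (J' m : Ideal A) (hann : ∀ a : A, a * t ∈ J' ↔ a ∈ m) (hJ'm : J' ≤ m)
  (hs' : Function.Surjective (algebraMap A B'))
  (hk' : RingHom.ker (algebraMap A B') = J')
  (hs₁ : Function.Surjective (algebraMap A B₁))
  (hk₁ : RingHom.ker (algebraMap A B₁) = J' ⊔ Ideal.span {t})
  (hs₀ : Function.Surjective (algebraMap A B₀))
  (hk₀ : RingHom.ker (algebraMap A B₀) = m)

include hJ'm h' h₁ h₀ hann hs' hk' hs₁ hk₁ hs₀ hk₀ in
/-- **the step**: good for `J' ⊔ (t)` and for `m` implies good for `J'` -/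
theorem isGood_step (hfl : FlatMod.IsFlatOver fX (Coh.structureModule X))
    (hK : IsGood fX g₁ (J' ⊔ Ideal.span {t})) (h0 : IsGood fX g₀ m) : IsGood fX g' J' := by
  haveI : (Coh.structureModule X).IsQuasicoherent :=
    Groth.Agent.Lib.helper16.FLF.isQuasicoherent_of_isFinLocFree _
      (Groth.Agent.Lib.helper16.FLF.isFinLocFree_of_isInvertible
        (Groth.Agent.Lib.helper11.InvMod.isInvertible_structureModule X))
  have hSE := relShortExact fX fX' g' h' fX₁ g₁ h₁ fX₀ g₀ h₀ t J' m hann hJ'm hs' hk' hs₁ hk₁ hs₀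
    hk₀ (Coh.structureModule X) hfl
  haveI := hSE.mono_f
  have hle := Groth.Agent.Lib.helper7.KerSections.sections_leftExact _ hSE.exact ⊤
  -- the two compatibilities
  have hπ : ∀ a : A, ((relPi fX fX' g' h' fX₁ g₁ h₁ t J' hs' hk' hs₁ hk₁
      (Coh.structureModule X)).val.app (op ⊤)).hom (beta fX g' a) = beta fX g₁ a := by
    intro a
    exact unit_piHom_app fX fX' g' h' fX₁ g₁ h₁ J' _ le_sup_left hs' hk' hs₁ hk₁ _ ⊤ _
  have hψ : ∀ b : A, ((relPsi fX fX' g' h' fX₀ g₀ h₀ t J' m hann hs' hk' hs₀ hk₀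
      (Coh.structureModule X)).val.app (op ⊤)).hom (beta fX g₀ b) = beta fX g' (t * b) := by
    intro b
    refine (unit_relPsi_app fX fX' g' h' fX₀ g₀ h₀ t J' m hann hs' hk' hs₀ hk₀ _ ⊤ _).trans ?_
    exact unitSec_smul_smul_one fX g' t b
  constructor
  · intro s'
    obtain ⟨a, ha⟩ := hK.1 (((relPi fX fX' g' h' fX₁ g₁ h₁ t J' hs' hk' hs₁ hk₁
      (Coh.structureModule X)).val.app (op ⊤)).hom s')
    have hd : ((relPi fX fX' g' h' fX₁ g₁ h₁ t J' hs' hk' hs₁ hk₁
        (Coh.structureModule X)).val.app (op ⊤)).hom (s' - beta fX g' a) = 0 := by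
      rw [map_sub, hπ a, ha, sub_self]
    obtain ⟨q, hq⟩ := hle.2 _ hd
    obtain ⟨b, rfl⟩ := h0.1 q
    refine ⟨a + t * b, ?_⟩
    have hq' : ((relPsi fX fX' g' h' fX₀ g₀ h₀ t J' m hann hs' hk' hs₀ hk₀
        (Coh.structureModule X)).val.app (op ⊤)).hom (beta fX g₀ b) = s' - beta fX g' a := hq
    rw [beta_add, ← hψ b, hq']
    abel
  · intro a
    constructor
    · intro ha
      have h1 : beta fX g₁ a = 0 := by rw [← hπ a, ha, map_zero]
      have h2 := (hK.2 a).mp h1
      obtain ⟨j, hj, x, hx, rfl⟩ := Submodule.mem_sup.mp h2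
      obtain ⟨c, rfl⟩ := Ideal.mem_span_singleton'.mp hx
      have hj0 : beta fX g' j = 0 := by
        rw [beta_eq_smul]
        apply smul_pushPull_eq_zero fX fX' g' h'
        rw [← RingHom.mem_ker, hk']
        exact hj
      have h3 : beta fX g' (t * c) = 0 := by
        rw [beta_add, hj0, zero_add, mul_comm] at ha
        exact ha
      rw [← hψ c] at h3
      have h4 : beta fX g₀ c = 0 := by
        apply hle.1
        exact h3.trans (map_zero ((relPsi fX fX' g' h' fX₀ g₀ h₀ t J' m hann hs' hk' hs₀ hk₀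
          (Coh.structureModule X)).val.app (op ⊤)).hom).symm
      have h5 := (h0.2 c).mp h4
      exact Ideal.add_mem _ hj ((hann c).mpr h5)
    · intro ha
      rw [beta_eq_smul]
      apply smul_pushPull_eq_zero fX fX' g' h'
      rw [← RingHom.mem_ker, hk']
      exact ha

end step

section congr

variable {A B' B₁ : Type u} [CommRing A] [CommRing B'] [CommRing B₁] [Algebra A B'] [Algebra A B₁]
variable {X X' X₁ : Scheme.{u}} (fX : X ⟶ Spec (CommRingCat.of A))
  (fX' : X' ⟶ Spec (CommRingCat.of B')) (g' : X' ⟶ X)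
  (h' : IsPullback g' fX' fX (Spec.map (CommRingCat.ofHom (algebraMap A B'))))
  (fX₁ : X₁ ⟶ Spec (CommRingCat.of B₁)) (g₁ : X₁ ⟶ X)
  (h₁ : IsPullback g₁ fX₁ fX (Spec.map (CommRingCat.ofHom (algebraMap A B₁))))
  (J : Ideal A)
  (hs' : Function.Surjective (algebraMap A B'))
  (hk' : RingHom.ker (algebraMap A B') = J)
  (hs₁ : Function.Surjective (algebraMap A B₁))
  (hk₁ : RingHom.ker (algebraMap A B₁) = J)

include h' h₁ hs' hk' hs₁ hk₁ in
/-- goodness only depends on the kernel -/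
theorem isGood_congr (hg : IsGood fX g' J) : IsGood fX g₁ J := by
  haveI : (Coh.structureModule X).IsQuasicoherent :=
    Groth.Agent.Lib.helper16.FLF.isQuasicoherent_of_isFinLocFree _
      (Groth.Agent.Lib.helper16.FLF.isFinLocFree_of_isInvertible
        (Groth.Agent.Lib.helper11.InvMod.isInvertible_structureModule X))
  let π := piHom fX fX' g' h' fX₁ g₁ h₁ J J le_rfl hs' hk' hs₁ hk₁ (Coh.structureModule X)
  let π' := piHom fX fX₁ g₁ h₁ fX' g' h' J J le_rfl hs₁ hk₁ hs' hk' (Coh.structureModule X)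
  have e1 : π ≫ π' = 𝟙 _ := by
    haveI := epi_unit fX fX' g' h' hs' (Coh.structureModule X)
    rw [← cancel_epi (unitHom g' (Coh.structureModule X)), ← Category.assoc]
    dsimp only [π, π']
    rw [unit_piHom, unit_piHom, Category.comp_id]
  have e2 : π' ≫ π = 𝟙 _ := by
    haveI := epi_unit fX fX₁ g₁ h₁ hs₁ (Coh.structureModule X)
    rw [← cancel_epi (unitHom g₁ (Coh.structureModule X)), ← Category.assoc]
    dsimp only [π, π']
    rw [unit_piHom, unit_piHom, Category.comp_id]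
  have hπ : ∀ a : A, (π.val.app (op ⊤)).hom (beta fX g' a) = beta fX g₁ a := fun a =>
    unit_piHom_app fX fX' g' h' fX₁ g₁ h₁ J J le_rfl hs' hk' hs₁ hk₁ _ ⊤ _
  have a1 : ∀ s, (π'.val.app (op ⊤)).hom ((π.val.app (op ⊤)).hom s) = s := fun s =>
    congrArg (fun φ : pushPull g' (Coh.structureModule X) ⟶ pushPull g' (Coh.structureModule X) =>
      (φ.val.app (op ⊤)).hom s) e1
  have a2 : ∀ s, (π.val.app (op ⊤)).hom ((π'.val.app (op ⊤)).hom s) = s := fun s =>
    congrArg (fun φ : pushPull g₁ (Coh.structureModule X) ⟶ pushPull g₁ (Coh.structureModule X) =>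
      (φ.val.app (op ⊤)).hom s) e2
  constructor
  · intro s
    obtain ⟨a, ha⟩ := hg.1 ((π'.val.app (op ⊤)).hom s)
    exact ⟨a, by rw [← hπ a, ha, a2]⟩
  · intro a
    rw [← hg.2 a, ← hπ a]
    constructor
    · intro h0
      rw [← a1 (beta fX g' a), h0, map_zero]
    · intro h0
      rw [h0, map_zero]

end congr

section induction

/-- in an Artinian local ring every ideal `J < m` is covered by some `J ⊔ (t) ≤ m` with
`(a t ∈ J ↔ a ∈ m)` -/
theorem exists_covBy_ideal_up {A : Type u} [CommRing A] [IsLocalRing A] [IsArtinianRing A]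
    (J : Ideal A) (hJ : J < IsLocalRing.maximalIdeal A) :
    ∃ t : A, J < J ⊔ Ideal.span {t} ∧ J ⊔ Ideal.span {t} ≤ IsLocalRing.maximalIdeal A ∧
      ∀ a : A, a * t ∈ J ↔ a ∈ IsLocalRing.maximalIdeal A := by
  have hwf : WellFounded ((· < ·) : Ideal A → Ideal A → Prop) := wellFounded_lt
  obtain ⟨K, ⟨hJK, hKm⟩, hmin⟩ := hwf.has_min {I | J < I ∧ I ≤ IsLocalRing.maximalIdeal A}
    ⟨_, hJ, le_rfl⟩
  obtain ⟨t, htK, htJ⟩ := SetLike.exists_of_lt hJK
  have hmin' : ∀ I : Ideal A, J ≤ I → I ≤ K → I ≠ J → I = K := by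
    intro I hJI hIK hne
    by_contra hneK
    exact hmin I ⟨lt_of_le_of_ne hJI (Ne.symm hne), hIK.trans hKm⟩ (lt_of_le_of_ne hIK hneK)
  have hle : J ⊔ Ideal.span {t} ≤ K :=
    sup_le hJK.le ((Ideal.span_singleton_le_iff_mem K).mpr htK)
  have hlt : J < J ⊔ Ideal.span {t} := by
    refine lt_of_le_of_ne le_sup_left ?_
    intro heq
    apply htJ
    rw [heq]
    exact Ideal.mem_sup_right (Ideal.mem_span_singleton_self t)
  have hsup : J ⊔ Ideal.span {t} = K := hmin' _ le_sup_left hle hlt.ne'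
  have hmt : J ⊔ IsLocalRing.maximalIdeal A * Ideal.span {t} = J := by
    by_contra hne
    have hleK : J ⊔ IsLocalRing.maximalIdeal A * Ideal.span {t} ≤ K :=
      sup_le hJK.le ((Ideal.mul_le_inf.trans inf_le_right :
        IsLocalRing.maximalIdeal A * Ideal.span {t} ≤ Ideal.span {t}).trans
          ((Ideal.span_singleton_le_iff_mem K).mpr htK))
    have heq := hmin' _ le_sup_left hleK hne
    have ht : t ∈ J ⊔ IsLocalRing.maximalIdeal A * Ideal.span {t} := by rw [heq]; exact htK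
    obtain ⟨j, hj, x, hx, hjx⟩ := Submodule.mem_sup.mp ht
    obtain ⟨c, hc, rfl⟩ := Ideal.mem_mul_span_singleton.mp hx
    have hu : IsUnit (1 - c) := by
      by_contra hnu
      have h1 : (1 - c) ∈ IsLocalRing.maximalIdeal A := (IsLocalRing.mem_maximalIdeal _).mpr hnu
      have h2 : (1 : A) ∈ IsLocalRing.maximalIdeal A := by
        have := Ideal.add_mem _ h1 hc
        rwa [sub_add_cancel] at this
      exact (IsLocalRing.maximalIdeal.isMaximal A).ne_top ((Ideal.eq_top_iff_one _).mpr h2)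
    obtain ⟨u, hu⟩ := hu
    apply htJ
    have h3 : (1 - c) * t = j := by linear_combination (-1 : A) * hjx
    have h4 : t = (↑u⁻¹ : A) * j := by
      rw [← h3, ← hu, ← mul_assoc, Units.inv_mul, one_mul]
    rw [h4]
    exact Ideal.mul_mem_left _ _ hj
  refine ⟨t, hlt, hsup.le.trans hKm, fun a => ⟨fun ha => ?_, fun ha => ?_⟩⟩
  · by_contra hna
    have hu : IsUnit a := by
      by_contra hnu
      exact hna ((IsLocalRing.mem_maximalIdeal _).mpr hnu)
    obtain ⟨u, rfl⟩ := hu
    apply htJ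
    have : t = (↑u⁻¹ : A) * (↑u * t) := by rw [← mul_assoc, Units.inv_mul, one_mul]
    rw [this]
    exact Ideal.mul_mem_left _ _ ha
  · have h1 : a * t ∈ IsLocalRing.maximalIdeal A * Ideal.span {t} :=
      Ideal.mul_mem_mul ha (Ideal.mem_span_singleton_self t)
    rw [← hmt]
    exact Ideal.mem_sup_right h1

variable {A : Type u} [CommRing A] [IsLocalRing A] [IsArtinianRing A]
  {X : Scheme.{u}} (fX : X ⟶ Spec (CommRingCat.of A))
  (hfl : FlatMod.IsFlatOver fX (Coh.structureModule X))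
  {B₀ : Type u} [CommRing B₀] [Algebra A B₀] {X₀ : Scheme.{u}}
  (fX₀ : X₀ ⟶ Spec (CommRingCat.of B₀)) (g₀ : X₀ ⟶ X)
  (h₀ : IsPullback g₀ fX₀ fX (Spec.map (CommRingCat.ofHom (algebraMap A B₀))))
  (hs₀ : Function.Surjective (algebraMap A B₀))
  (hk₀ : RingHom.ker (algebraMap A B₀) = IsLocalRing.maximalIdeal A)

include hfl h₀ hs₀ hk₀ in
/-- **if the closed fibre is good then every infinitesimal neighbourhood is good** -/
theorem isGood_of_closedFibre (h0 : IsGood fX g₀ (IsLocalRing.maximalIdeal A))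
    (J : Ideal A) (hJm : J ≤ IsLocalRing.maximalIdeal A) :
    IsGood fX (pullback.fst fX (Spec.map (CommRingCat.ofHom (algebraMap A (A ⧸ J))))) J := by
  have hwf : WellFounded ((· > ·) : Ideal A → Ideal A → Prop) := wellFounded_gt
  induction J using hwf.induction with
  | _ J ih =>
    have hcan : ∀ I : Ideal A, IsPullback
        (pullback.fst fX (Spec.map (CommRingCat.ofHom (algebraMap A (A ⧸ I)))))
        (pullback.snd fX (Spec.map (CommRingCat.ofHom (algebraMap A (A ⧸ I))))) fX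
        (Spec.map (CommRingCat.ofHom (algebraMap A (A ⧸ I)))) :=
      fun I => IsPullback.of_hasPullback _ _
    have hsI : ∀ I : Ideal A, Function.Surjective (algebraMap A (A ⧸ I)) :=
      fun I => Ideal.Quotient.mk_surjective
    have hkI : ∀ I : Ideal A, RingHom.ker (algebraMap A (A ⧸ I)) = I := fun I => Ideal.mk_ker
    by_cases hJ : J = IsLocalRing.maximalIdeal A
    · subst hJ
      exact isGood_congr fX fX₀ g₀ h₀ _ _ (hcan _) _ hs₀ hk₀ (hsI _) (hkI _) h0
    · obtain ⟨t, hlt, hle, hann⟩ := exists_covBy_ideal_up J (lt_of_le_of_ne hJm hJ)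
      have hK := ih (J ⊔ Ideal.span {t}) hlt hle
      exact isGood_step fX _ _ (hcan J) _ _ (hcan (J ⊔ Ideal.span {t})) fX₀ g₀ h₀ t J _ hann hJm
        (hsI J) (hkI J) (hsI _) (hkI _) hs₀ hk₀ hfl hK h0

end induction

section final

variable {A : Type u} [CommRing A] {X : Scheme.{u}} (fX : X ⟶ Spec (CommRingCat.of A))

theorem smul_oneSec (a : A) :
    (letI := modSecA fX (Coh.structureModule X) ⊤; a • oneSec X) = Coh.toGlobal fX a := by
  letI := modSecA fX (Coh.structureModule X) ⊤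
  change (show X.ringCatSheaf.obj.obj (op ⊤) from secAlg fX ⊤ a) *
    (1 : X.ringCatSheaf.obj.obj (op ⊤)) = _
  rw [mul_one]
  change (X.ringCatSheaf.obj.map (𝟙 (op (⊤ : X.Opens)))).hom (Coh.toGlobal fX a) = _
  rw [X.ringCatSheaf.obj.map_id]
  rfl

variable {B₀ : Type u} [CommRing B₀] [Algebra A B₀] {X₀ : Scheme.{u}}
  (fX₀ : X₀ ⟶ Spec (CommRingCat.of B₀)) (g₀ : X₀ ⟶ X)
  (h₀ : IsPullback g₀ fX₀ fX (Spec.map (CommRingCat.ofHom (algebraMap A B₀))))
  (hs₀ : Function.Surjective (algebraMap A B₀))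

/-- the comparison `Γ(X₀, g₀^* O_X) → Γ(X₀, O_{X₀})` -/
noncomputable def epsSec (s : (pushPull g₀ (Coh.structureModule X)).val.obj (op ⊤)) :
    X₀.ringCatSheaf.obj.obj (op (g₀ ⁻¹ᵁ ⊤)) :=
  ((Groth.Agent.Lib.helper11.InvMod.pullbackUnitHom g₀).val.app (op (g₀ ⁻¹ᵁ ⊤))).hom s

theorem epsSec_bijective : Function.Bijective (epsSec (X := X) g₀) := by
  let φ := Groth.Agent.Lib.helper11.InvMod.pullbackUnitHom (X := X) g₀
  have e1 : ∀ s, ((inv φ).val.app (op (g₀ ⁻¹ᵁ ⊤))).hom ((φ.val.app (op (g₀ ⁻¹ᵁ ⊤))).hom s) = s :=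
    fun s => congrArg (fun ψ : (Scheme.Modules.pullback g₀).obj (Coh.structureModule X) ⟶
      (Scheme.Modules.pullback g₀).obj (Coh.structureModule X) =>
      (ψ.val.app (op (g₀ ⁻¹ᵁ ⊤))).hom s) (IsIso.hom_inv_id φ)
  have e2 : ∀ s, (φ.val.app (op (g₀ ⁻¹ᵁ ⊤))).hom (((inv φ).val.app (op (g₀ ⁻¹ᵁ ⊤))).hom s) = s :=
    fun s => congrArg (fun ψ : Coh.structureModule X₀ ⟶ Coh.structureModule X₀ =>
      (ψ.val.app (op (g₀ ⁻¹ᵁ ⊤))).hom s) (IsIso.inv_hom_id φ)
  exact ⟨Function.LeftInverse.injective e1, Function.RightInverse.surjective e2⟩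

theorem epsSec_unitSec (s : (Coh.structureModule X).val.obj (op ⊤)) :
    epsSec g₀ (unitSec g₀ (Coh.structureModule X) ⊤ s) = (g₀.app ⊤).hom s := by
  have := congrArg (fun φ : Coh.structureModule X ⟶
      (Scheme.Modules.pushforward g₀).obj (Coh.structureModule X₀) => (φ.val.app (op ⊤)).hom s)
    (Groth.Agent.Lib.helper11.PullUnit.unit_comp_pushforward_pullbackUnitHom g₀)
  exact this

include h₀ in
theorem epsSec_beta (a : A) :
    epsSec g₀ (beta fX g₀ a) = Coh.toGlobal fX₀ (algebraMap A B₀ a) := by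
  unfold beta
  rw [epsSec_unitSec, smul_oneSec, toGlobal_algebraMap fX fX₀ g₀ h₀ a]
  rfl

include h₀ hs₀ in
/-- the closed fibre is good when `B₀ → Γ(X₀, O)` is bijective -/
theorem isGood_of_bijective_toGlobal (hb : Function.Bijective (Coh.toGlobal fX₀)) :
    IsGood fX g₀ (RingHom.ker (algebraMap A B₀)) := by
  constructor
  · intro s
    obtain ⟨b, hb'⟩ := hb.2 (epsSec g₀ s)
    obtain ⟨a, rfl⟩ := hs₀ b
    refine ⟨a, (epsSec_bijective g₀).1 ?_⟩
    rw [epsSec_beta fX fX₀ g₀ h₀, hb']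
  · intro a
    rw [RingHom.mem_ker]
    constructor
    · intro h0
      have h1 := epsSec_beta fX fX₀ g₀ h₀ a
      rw [h0] at h1
      have h2 : epsSec (X := X) g₀ 0 = 0 := map_zero _
      rw [h2] at h1
      exact hb.1 (h1.symm.trans (map_zero _).symm)
    · intro h0
      apply (epsSec_bijective g₀).1
      rw [epsSec_beta fX fX₀ g₀ h₀, h0, map_zero]
      exact (map_zero ((Groth.Agent.Lib.helper11.InvMod.pullbackUnitHom g₀).val.app
        (op (g₀ ⁻¹ᵁ ⊤))).hom).symm

end final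

end Groth.Agent.Lib.helper11.Thick
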