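import Mathlib
import Groth.Agent.Lib.Helper11.Thick8
import Groth.Agent.Lib.Helper7.AbSheafExact
import Groth.Prelude.Def_UnitsSh

/-!
# The kernel of the units map of a closed subscheme (helper11)

* `epsU`, `unitSec_eq_zero_iff` : the unit `O_X ⟶ g_* g^* O_X` vanishes on a section iff `g^♯` does;
* `KU g := kernel (UnitsSh.comap g)` and its sections (`ιU`, `exists_ιU`, `ιU_injective`).
-/

set_option autoImplicit false
universe u
open CategoryTheory CategoryTheory.Limits AlgebraicGeometry TopologicalSpace Opposite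
open Scheme.Modules
open Groth.Agent.Lib.helper12.PullTensor
open Groth.Agent.Lib.helper11.Thick

namespace Groth.Agent.Lib.helper11.UnitsK

section eps

variable {X X' : Scheme.{u}} (g : X' ⟶ X)

/-- the comparison `Γ(g⁻¹U, g^* O_X) → Γ(g⁻¹U, O_{X'})` -/
noncomputable def epsU (U : X.Opens)
    (s : (pushPull g (Coh.structureModule X)).val.obj (op U)) :
    X'.ringCatSheaf.obj.obj (op (g ⁻¹ᵁ U)) :=
  ((Groth.Agent.Lib.helper11.InvMod.pullbackUnitHom g).val.app (op (g ⁻¹ᵁ U))).hom s

theorem epsU_bijective (U : X.Opens) : Function.Bijective (epsU g U) := by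
  let φ := Groth.Agent.Lib.helper11.InvMod.pullbackUnitHom (X := X) g
  have e1 : ∀ s, ((inv φ).val.app (op (g ⁻¹ᵁ U))).hom ((φ.val.app (op (g ⁻¹ᵁ U))).hom s) = s :=
    fun s => congrArg (fun ψ : (Scheme.Modules.pullback g).obj (Coh.structureModule X) ⟶
      (Scheme.Modules.pullback g).obj (Coh.structureModule X) =>
      (ψ.val.app (op (g ⁻¹ᵁ U))).hom s) (IsIso.hom_inv_id φ)
  have e2 : ∀ s, (φ.val.app (op (g ⁻¹ᵁ U))).hom (((inv φ).val.app (op (g ⁻¹ᵁ U))).hom s) = s :=
    fun s => congrArg (fun ψ : Coh.structureModule X' ⟶ Coh.structureModule X' =>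
      (ψ.val.app (op (g ⁻¹ᵁ U))).hom s) (IsIso.inv_hom_id φ)
  exact ⟨Function.LeftInverse.injective e1, Function.RightInverse.surjective e2⟩

theorem epsU_unitSec (U : X.Opens) (s : (Coh.structureModule X).val.obj (op U)) :
    epsU g U (unitSec g (Coh.structureModule X) U s) = (g.app U).hom s := by
  have := congrArg (fun φ : Coh.structureModule X ⟶
      (Scheme.Modules.pushforward g).obj (Coh.structureModule X') => (φ.val.app (op U)).hom s)
    (Groth.Agent.Lib.helper11.PullUnit.unit_comp_pushforward_pullbackUnitHom g)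
  exact this

theorem unitSec_eq_zero_iff (U : X.Opens) (s : (Coh.structureModule X).val.obj (op U)) :
    unitSec g (Coh.structureModule X) U s = 0 ↔ (g.app U).hom s = 0 := by
  rw [← epsU_unitSec]
  constructor
  · intro h
    rw [h]
    exact map_zero ((Groth.Agent.Lib.helper11.InvMod.pullbackUnitHom g).val.app
      (op (g ⁻¹ᵁ U))).hom
  · intro h
    apply (epsU_bijective g U).1
    rw [h]
    exact (map_zero ((Groth.Agent.Lib.helper11.InvMod.pullbackUnitHom g).val.app
      (op (g ⁻¹ᵁ U))).hom).symm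

end eps

section KU

variable {X X' : Scheme.{u}} (g : X' ⟶ X)

/-- the sheaf of units of `X` restricting to `1` on `X'` -/
noncomputable abbrev KU : CohTop.Ab X.toTopCat := kernel (UnitsSh.comap g)

/-- a section of `KU g` as a unit -/
noncomputable def ιU (U : X.Opens) (s : (KU g).obj.obj (op U)) : (Γ(X, U))ˣ :=
  UnitsSh.unitOfSect (O := X.presheaf) (U := op U)
    ((kernel.ι (UnitsSh.comap g)).hom.app (op U) s)

theorem ιU_add (U : X.Opens) (s s' : (KU g).obj.obj (op U)) :
    ιU g U (s + s') = ιU g U s * ιU g U s' := by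
  unfold ιU
  rw [map_add]
  rfl

theorem ιU_zero (U : X.Opens) : ιU g U 0 = 1 := by
  unfold ιU
  rw [map_zero]
  rfl

theorem ιU_injective (U : X.Opens) : Function.Injective (ιU g U) := by
  intro s s' h
  exact Groth.Agent.Lib.helper7.AbSheafExact.app_injective_of_mono (kernel.ι (UnitsSh.comap g)) U h

theorem ιU_map {U V : X.Opens} (h : V ≤ U) (s : (KU g).obj.obj (op U)) :
    ιU g V ((KU g).obj.map (homOfLE h).op s) =
      Units.map (X.presheaf.map (homOfLE h).op).hom.toMonoidHom (ιU g U s) := by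
  have := congrArg (fun φ => (ConcreteCategory.hom φ) s)
    ((kernel.ι (UnitsSh.comap g)).hom.naturality (homOfLE h).op)
  exact congrArg (UnitsSh.unitOfSect (O := X.presheaf) (U := op V)) this

theorem app_ιU (U : X.Opens) (s : (KU g).obj.obj (op U)) :
    (g.app U).hom (ιU g U s).val = 1 := by
  have h1 : (UnitsSh.comap g).hom.app (op U)
      ((kernel.ι (UnitsSh.comap g)).hom.app (op U) s) = 0 := by
    have := congrArg (fun φ : KU g ⟶ _ => (ConcreteCategory.hom (φ.hom.app (op U))) s)
      (kernel.condition (UnitsSh.comap g))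
    exact this
  have h2 : Units.map (g.app U).hom.toMonoidHom (ιU g U s) = 1 :=
    congrArg (UnitsSh.unitOfSect (O := g.base _* X'.presheaf) (U := op U)) h1
  exact congrArg Units.val h2

theorem exists_ιU (U : X.Opens) (u : (Γ(X, U))ˣ) (h : (g.app U).hom u.val = 1) :
    ∃ s : (KU g).obj.obj (op U), ιU g U s = u := by
  have h1 : Units.map (g.app U).hom.toMonoidHom u = 1 := Units.ext h
  have h2 : (UnitsSh.comap g).hom.app (op U)
      (UnitsSh.sectOfUnit (O := X.presheaf) (U := op U) u) = 0 :=
    congrArg (UnitsSh.sectOfUnit (O := g.base _* X'.presheaf) (U := op U)) h1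
  obtain ⟨s, hs⟩ := Groth.Agent.Lib.helper7.AbSheafExact.exists_kernel_section
    (UnitsSh.comap g) U _ h2
  exact ⟨s, congrArg (UnitsSh.unitOfSect (O := X.presheaf) (U := op U)) hs⟩

end KU

section pmap

variable {X X' X₁ : Scheme.{u}} (g' : X' ⟶ X) (g₁ : X₁ ⟶ X)

theorem unitSec_add' (M : X.Modules) (U : X.Opens) (m m' : M.val.obj (op U)) :
    unitSec g' M U (m + m') = unitSec g' M U m + unitSec g' M U m' :=
  map_add (((pbAdj g').unit.app M).val.app (op U)).hom m m'

theorem unitSec_zero' (M : X.Modules) (U : X.Opens) :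
    unitSec g' M U 0 = 0 :=
  map_zero (((pbAdj g').unit.app M).val.app (op U)).hom

theorem unitSec_map (M : X.Modules) {U V : X.Opens} (h : V ≤ U) (m : M.val.obj (op U)) :
    (pushPull g' M).presheaf.map (homOfLE h).op (unitSec g' M U m) =
      unitSec g' M V (M.presheaf.map (homOfLE h).op m) := by
  have nat := Groth.Agent.Lib.helper7.LocalLift.app_naturality' (unitHom g' M) (homOfLE h).op
  have nat' := congr($(nat).hom m)
  exact nat'.symm

/-- `u ↦ class of (u - 1)` in `O_X / I O_X` -/
noncomputable def pFun (U : X.Opens) (s : (KU g₁).obj.obj (op U)) :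
    (pushPull g' (Coh.structureModule X)).val.obj (op U) :=
  unitSec g' (Coh.structureModule X) U
    (show (Coh.structureModule X).val.obj (op U) from ((ιU g₁ U s).val - 1 : Γ(X, U)))

theorem pFun_zero (U : X.Opens) : pFun g' g₁ U 0 = 0 := by
  unfold pFun
  rw [ιU_zero]
  have : ((1 : (Γ(X, U))ˣ).val - 1 : Γ(X, U)) = 0 := by simp
  rw [this]
  exact unitSec_zero' g' _ U

theorem pFun_add
    (hmul : ∀ (U : X.Opens) (x y : Γ(X, U)), (g₁.app U).hom x = 0 → (g₁.app U).hom y = 0 →
      unitSec g' (Coh.structureModule X) U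
        (show (Coh.structureModule X).val.obj (op U) from x * y) = 0)
    (U : X.Opens) (s s' : (KU g₁).obj.obj (op U)) :
    pFun g' g₁ U (s + s') = pFun g' g₁ U s + pFun g' g₁ U s' := by
  unfold pFun
  rw [ιU_add]
  have e : (((ιU g₁ U s * ιU g₁ U s').val - 1 : Γ(X, U))) =
      (((ιU g₁ U s).val - 1) + ((ιU g₁ U s').val - 1)) +
        ((ιU g₁ U s).val - 1) * ((ιU g₁ U s').val - 1) := by
    rw [Units.val_mul]; ring
  have h1 : (g₁.app U).hom ((ιU g₁ U s).val - 1) = 0 := by
    rw [map_sub, map_one, app_ιU, sub_self]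
  have h2 : (g₁.app U).hom ((ιU g₁ U s').val - 1) = 0 := by
    rw [map_sub, map_one, app_ιU, sub_self]
  have h3 := hmul U _ _ h1 h2
  rw [e]
  refine (unitSec_add' g' _ U _ _).trans ?_
  rw [h3, add_zero]
  exact unitSec_add' g' _ U _ _

theorem pFun_map {U V : X.Opens} (h : V ≤ U) (s : (KU g₁).obj.obj (op U)) :
    pFun g' g₁ V ((KU g₁).obj.map (homOfLE h).op s) =
      (pushPull g' (Coh.structureModule X)).presheaf.map (homOfLE h).op (pFun g' g₁ U s) := by
  unfold pFun
  rw [unitSec_map, ιU_map]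
  congr 1
  change _ = (X.presheaf.map (homOfLE h).op).hom ((ιU g₁ U s).val - 1)
  rw [map_sub, map_one]
  rfl

/-- the map `1 + J O ⟶ O / I O`, additive when `J² ⊆ I` -/
noncomputable def pHom
    (hmul : ∀ (U : X.Opens) (x y : Γ(X, U)), (g₁.app U).hom x = 0 → (g₁.app U).hom y = 0 →
      unitSec g' (Coh.structureModule X) U
        (show (Coh.structureModule X).val.obj (op U) from x * y) = 0) :
    KU g₁ ⟶ Coh.toAb (pushPull g' (Coh.structureModule X)) :=
  ⟨{ app := fun U => AddCommGrpCat.ofHom
        { toFun := fun s => pFun g' g₁ U.unop s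
          map_zero' := pFun_zero g' g₁ U.unop
          map_add' := fun s s' => pFun_add g' g₁ hmul U.unop s s' }
     naturality := by
      intro U V i
      ext s
      have hi : i = (homOfLE (leOfHom i.unop)).op := Subsingleton.elim _ _
      have := pFun_map g' g₁ (leOfHom i.unop) s
      rw [← hi] at this
      exact this }⟩

theorem pHom_app
    (hmul : ∀ (U : X.Opens) (x y : Γ(X, U)), (g₁.app U).hom x = 0 → (g₁.app U).hom y = 0 →
      unitSec g' (Coh.structureModule X) U
        (show (Coh.structureModule X).val.obj (op U) from x * y) = 0)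
    (U : X.Opens) (s : (KU g₁).obj.obj (op U)) :
    (pHom g' g₁ hmul).hom.app (op U) s = pFun g' g₁ U s := rfl

end pmap

end Groth.Agent.Lib.helper11.UnitsK
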