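import Mathlib
import Groth.Agent.Lib.Helper11.UnitsK1
import Groth.Agent.Lib.Helper12.TwistKill

/-!
# Algebra on sections of the structure module (helper11)

For `fX : X ⟶ Spec A` and an ideal `J` of `A`, the `A`-submodule `J • ⊤` of `Γ(X, W)`:
products, nilpotency, and the kernel of `g^♯` on affine opens for a base change `g` along `A → A/J`.
-/

set_option autoImplicit false
universe u
open CategoryTheory CategoryTheory.Limits AlgebraicGeometry TopologicalSpace Opposite
open Scheme.Modules
open Groth.Agent.Lib.helper8.FlatCohBC Groth.Agent.Lib.helper21.GCCech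
open Groth.Agent.Lib.helper12.PullTensor
open Groth.Agent.Lib.helper11.FibMono
open Groth.Agent.Lib.helper11.Thick

namespace Groth.Agent.Lib.helper11.UnitsK

section alg

variable {A : Type u} [CommRing A] {X : Scheme.{u}} (fX : X ⟶ Spec (CommRingCat.of A))

/-- a function as a section of the structure module -/
abbrev ofFn (W : X.Opens) (s : Γ(X, W)) : (Coh.structureModule X).val.obj (op W) := s

/-- a section of the structure module as a function -/
abbrev toFn (W : X.Opens) (s : (Coh.structureModule X).val.obj (op W)) : Γ(X, W) := s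

theorem smulA_def (W : X.Opens) (a : A) (s : (Coh.structureModule X).val.obj (op W)) :
    (letI := modSecA fX (Coh.structureModule X) W; a • s) =
      ofFn W (secAlg fX W a * toFn W s) := rfl

/-- the predicate `x ∈ J O(W)` -/
def InJ (J : Ideal A) (W : X.Opens) (x : Γ(X, W)) : Prop :=
  letI := modSecA fX (Coh.structureModule X) W
  ofFn W x ∈ J • (⊤ : Submodule A ((Coh.structureModule X).val.obj (op W)))

theorem inJ_zero (J : Ideal A) (W : X.Opens) : InJ fX J W 0 := by
  letI := modSecA fX (Coh.structureModule X) W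
  exact Submodule.zero_mem (J • (⊤ : Submodule A ((Coh.structureModule X).val.obj (op W))))

theorem inJ_add (J : Ideal A) (W : X.Opens) {x y : Γ(X, W)} (hx : InJ fX J W x)
    (hy : InJ fX J W y) : InJ fX J W (x + y) := by
  letI := modSecA fX (Coh.structureModule X) W
  exact Submodule.add_mem (J • (⊤ : Submodule A ((Coh.structureModule X).val.obj (op W)))) hx hy

theorem inJ_secAlg_mul (J : Ideal A) (W : X.Opens) {a : A} (ha : a ∈ J) (z : Γ(X, W)) :
    InJ fX J W (secAlg fX W a * z) := by
  letI := modSecA fX (Coh.structureModule X) W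
  exact Submodule.smul_mem_smul (N := (⊤ : Submodule A ((Coh.structureModule X).val.obj (op W))))
    ha (Submodule.mem_top (x := ofFn W z))

theorem inJ_mono {J J' : Ideal A} (h : J ≤ J') (W : X.Opens) {x : Γ(X, W)}
    (hx : InJ fX J W x) : InJ fX J' W x := by
  letI := modSecA fX (Coh.structureModule X) W
  exact Submodule.smul_mono_left h hx

/-- induction principle for `InJ` -/
theorem inJ_induction (J : Ideal A) (W : X.Opens) (P : Γ(X, W) → Prop)
    (h0 : ∀ (a : A) (_ : a ∈ J) (z : Γ(X, W)), P (secAlg fX W a * z))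
    (hadd : ∀ x y, P x → P y → P (x + y))
    {x : Γ(X, W)} (hx : InJ fX J W x) : P x := by
  letI := modSecA fX (Coh.structureModule X) W
  exact Submodule.smul_induction_on (p := fun y => P (toFn W y)) hx
    (fun a ha z _ => h0 a ha (toFn W z)) (fun x y hx hy => hadd _ _ hx hy)

theorem inJ_mul_left (J : Ideal A) (W : X.Opens) (z : Γ(X, W)) {x : Γ(X, W)}
    (hx : InJ fX J W x) : InJ fX J W (z * x) := by
  refine inJ_induction fX J W (fun x => InJ fX J W (z * x)) ?_ ?_ hx
  · intro a ha w
    have : z * (secAlg fX W a * w) = secAlg fX W a * (z * w) := by ring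
    rw [this]
    exact inJ_secAlg_mul fX J W ha _
  · intro x y hx hy
    rw [mul_add]
    exact inJ_add fX J W hx hy

theorem inJ_mul (J₁ J₂ : Ideal A) (W : X.Opens) {x y : Γ(X, W)}
    (hx : InJ fX J₁ W x) (hy : InJ fX J₂ W y) : InJ fX (J₁ * J₂) W (x * y) := by
  refine inJ_induction fX J₁ W (fun x => InJ fX (J₁ * J₂) W (x * y)) ?_ ?_ hx
  · intro a ha z
    refine inJ_induction fX J₂ W (fun y => InJ fX (J₁ * J₂) W (secAlg fX W a * z * y)) ?_ ?_ hy
    · intro b hb w
      have : secAlg fX W a * z * (secAlg fX W b * w) = secAlg fX W (a * b) * (z * w) := by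
        rw [map_mul]; ring
      rw [this]
      exact inJ_secAlg_mul fX _ W (Ideal.mul_mem_mul ha hb) _
    · intro x y hx hy
      rw [mul_add]
      exact inJ_add fX _ W hx hy
  · intro x x' hx hx'
    rw [add_mul]
    exact inJ_add fX _ W hx hx'

theorem isNilpotent_of_inJ (J : Ideal A) (hJ : ∀ a ∈ J, IsNilpotent a) (W : X.Opens)
    {x : Γ(X, W)} (hx : InJ fX J W x) : IsNilpotent x := by
  refine inJ_induction fX J W (fun x => IsNilpotent x) ?_ ?_ hx
  · intro a ha z
    exact (Commute.all _ _).isNilpotent_mul_right ((hJ a ha).map (secAlg fX W))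
  · intro x y hx hy
    exact (Commute.all _ _).isNilpotent_add hx hy

end alg

section bc

variable {A B : Type u} [CommRing A] [CommRing B] [Algebra A B]
variable {X X' : Scheme.{u}} (fX : X ⟶ Spec (CommRingCat.of A))
  (fX' : X' ⟶ Spec (CommRingCat.of B)) (g' : X' ⟶ X)
  (h : IsPullback g' fX' fX (Spec.map (CommRingCat.ofHom (algebraMap A B))))
  (I : Ideal A) (hsurj : Function.Surjective (algebraMap A B))
  (hker : RingHom.ker (algebraMap A B) = I)

theorem isQuasicoherent_structureModule (X : Scheme.{u}) :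
    (Coh.structureModule X).IsQuasicoherent :=
  Groth.Agent.Lib.helper16.FLF.isQuasicoherent_of_isFinLocFree _
    (Groth.Agent.Lib.helper16.FLF.isFinLocFree_of_isInvertible
      (Groth.Agent.Lib.helper11.InvMod.isInvertible_structureModule X))

include h hsurj hker in
theorem app_eq_zero_iff_inJ (W : X.Opens) (hW : IsAffineOpen W) (x : Γ(X, W)) :
    (g'.app W).hom x = 0 ↔ InJ fX I W x := by
  haveI := isQuasicoherent_structureModule X
  exact (unitSec_eq_zero_iff g' W (ofFn W x)).symm.trans
    (unit_app_eq_zero_iff fX fX' g' h I hsurj hker (Coh.structureModule X) W hW (ofFn W x))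

include h hsurj in
theorem app_surjective_affine (W : X.Opens) (hW : IsAffineOpen W) :
    Function.Surjective (g'.app W).hom := by
  haveI := isQuasicoherent_structureModule X
  intro v
  obtain ⟨y, hy⟩ := (epsU_bijective g' W).2 v
  obtain ⟨x, hx⟩ := unit_app_surjective fX fX' g' h hsurj (Coh.structureModule X) W hW y
  refine ⟨toFn W x, ?_⟩
  have := epsU_unitSec g' W x
  rw [hx, hy] at this
  exact this.symm

theorem app_res (U W : X.Opens) (hWU : W ≤ U) (x : Γ(X, U)) :
    (g'.app W).hom (X.presheaf.map (homOfLE hWU).op x) =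
      X'.presheaf.map (homOfLE (show g' ⁻¹ᵁ W ≤ g' ⁻¹ᵁ U from
        fun _ hy => hWU hy)).op ((g'.app U).hom x) := by
  have := g'.naturality (homOfLE hWU).op
  exact congr($(this).hom x)

include h hsurj hker in
theorem inJ_res_of_app_eq_zero (U : X.Opens) (x : Γ(X, U)) (hx : (g'.app U).hom x = 0)
    (W : X.Opens) (hW : IsAffineOpen W) (hWU : W ≤ U) :
    InJ fX I W (X.presheaf.map (homOfLE hWU).op x) := by
  rw [← app_eq_zero_iff_inJ fX fX' g' h I hsurj hker W hW, app_res, hx, map_zero]

include h hsurj hker in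
theorem unitSec_eq_zero_of_affine (U : X.Opens) (x : Γ(X, U))
    (hx : ∀ (W : X.Opens) (_ : IsAffineOpen W) (hWU : W ≤ U),
      InJ fX I W (X.presheaf.map (homOfLE hWU).op x)) :
    unitSec g' (Coh.structureModule X) U (ofFn U x) = 0 := by
  haveI := isQuasicoherent_structureModule X
  let S := {V : X.affineOpens // V.1 ≤ U}
  have hcov : U ≤ ⨆ i : S, (i.1.1 : X.Opens) := by
    intro p hp
    obtain ⟨V, hV, hpV, hVU⟩ := Opens.isBasis_iff_nbhd.mp X.isBasis_affineOpens hp
    exact Opens.mem_iSup.mpr ⟨⟨⟨V, hV⟩, hVU⟩, hpV⟩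
  apply Groth.Agent.Lib.helper12.TwistKill.eq_zero_of_cover (pushPull g' (Coh.structureModule X))
    (fun i : S => (i.1.1 : X.Opens)) U (fun i => i.2) hcov
  intro i
  have e1 := unitSec_map g' (Coh.structureModule X) i.2 (ofFn U x)
  refine e1.trans ?_
  exact (unit_app_eq_zero_iff fX fX' g' h I hsurj hker (Coh.structureModule X) i.1.1 i.1.2 _).mpr
    (hx i.1.1 i.1.2 i.2)

end bc

end Groth.Agent.Lib.helper11.UnitsK
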