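import Mathlib
import Groth.Agent.Lib.Helper11.SerreGG
import Groth.Agent.Lib.Helper11.SerreCrit
import Groth.Agent.Lib.Helper20.TensorEquiv
import Groth.Agent.Lib.Helper16.QCohEpi
import Groth.Agent.Lib.Helper12.AmpleSep
import Groth.Agent.Lib.Helper12.TensorInv

set_option autoImplicit false
universe u
open CategoryTheory CategoryTheory.Limits AlgebraicGeometry Opposite TopologicalSpace
open Scheme.Modules

namespace Groth.Agent.Lib.helper11.AmpleGen

open Groth.Agent.Lib.helper11.SerreGG Groth.Agent.Lib.helper11.SerreCrit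
open Groth.Agent.Lib.helper11.IsoLocus Groth.Agent.Lib.helper11.GenLocus
open Groth.Agent.Lib.Lead.ModTensor Groth.Agent.Lib.Helper20.TensorEquiv
open Groth.Agent.Lib.helper12.PullTensor

variable {X : Scheme.{u}}

/-- element-level naturality of `twistHom` -/
theorem twistHom_naturality_apply {L : X.Modules} (s : Coh.structureModule X ⟶ L) (n : ℕ)
    {G G' : X.Modules} (f : G ⟶ G') (W : X.Opens) (t : G.val.obj (op W)) :
    ((tensorMap f (𝟙 (CohB1.tensorPow L n))).val.app (op W)).hom
        (((twistHom s n G).val.app (op W)).hom t) =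
      ((twistHom s n G').val.app (op W)).hom ((f.val.app (op W)).hom t) := by
  rw [twistHom_apply, twistHom_apply]
  unfold SecTwist.twist
  rw [tensorMap_tmul]
  rfl

/-- abstract form: for an equivalence `E : C ≌ D` and `T : A ⟶ E.functor.obj F`, the adjunct `ψ` of `T`
satisfies `ε⁻¹ ≫ E.functor.map ψ = T` -/
theorem equivalence_adjunct {C D : Type*} [Category C] [Category D] (E : C ≌ D) {A : D} {F : C}
    (T : A ⟶ E.functor.obj F) :
    E.counitIso.inv.app A ≫ E.functor.map (E.inverse.map T ≫ E.unitIso.inv.app F) = T := by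
  rw [Functor.map_comp]
  have h2 : E.functor.map (E.unitIso.inv.app F) = E.counitIso.hom.app (E.functor.obj F) := by
    have := E.functor_unit_comp F
    rw [← cancel_epi (E.functor.map (E.unitIso.hom.app F))]
    rw [← Functor.map_comp, Iso.hom_inv_id_app]
    exact (E.functor.map_id _).trans this.symm
  rw [h2]
  have h3 := E.counitIso.hom.naturality T
  simp only [Functor.comp_map, Functor.id_map] at h3
  rw [h3, ← Category.assoc, Iso.inv_hom_id_app]
  exact Category.id_comp _

/-- the map `O ⊗ N ⟶ F` attached to a section `T` of `F ⊗ P`, where `N` is an inverse of `P` -/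
noncomputable def psi {P N : X.Modules} (e : CohB1.tensorMod P N ≅ Coh.structureModule X)
    {F : X.Modules} (T : Coh.structureModule X ⟶ CohB1.tensorMod F P) :
    CohB1.tensorMod (Coh.structureModule X) N ⟶ F :=
  (tensorEquiv e).inverse.map T ≫ (tensorEquiv e).unitIso.inv.app F

/-- the section `ε⁻¹` of `(O ⊗ N) ⊗ P` -/
noncomputable def epsInv {P N : X.Modules} (e : CohB1.tensorMod P N ≅ Coh.structureModule X) :
    Coh.structureModule X ⟶ CohB1.tensorMod (CohB1.tensorMod (Coh.structureModule X) N) P :=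
  (tensorEquiv e).counitIso.inv.app (Coh.structureModule X)

theorem epsInv_tensorMap_psi {P N : X.Modules} (e : CohB1.tensorMod P N ≅ Coh.structureModule X)
    {F : X.Modules} (T : Coh.structureModule X ⟶ CohB1.tensorMod F P) :
    epsInv e ≫ tensorMap (psi e T) (𝟙 P) = T :=
  equivalence_adjunct (tensorEquiv e) (A := Coh.structureModule X) (F := F) T

/-- **core local computation**: if the section `T` of `F ⊗ L₀^{⊗ m}` restricts on `U ⊆ X_s` to `t ⊗ s^{⊗ m}`,
then `t` is in the image of `psi e T` over `U`. -/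
theorem exists_psi_eq {L₀ : X.Modules} (hL₀ : PicF.IsInvertible L₀)
    (s : Coh.structureModule X ⟶ L₀) (m : ℕ) {N : X.Modules}
    (e : CohB1.tensorMod (CohB1.tensorPow L₀ m) N ≅ Coh.structureModule X) (F : X.Modules)
    {U : X.Opens} (hU : U ≤ CohB1.genLocus L₀ s)
    (T : Coh.structureModule X ⟶ CohB1.tensorMod F (CohB1.tensorPow L₀ m)) (t : F.val.obj (op U))
    (hT : sec T U = SecTwist.twist s m F U t) :
    ∃ ν : (CohB1.tensorMod (Coh.structureModule X) N).val.obj (op U),
      ((psi e T).val.app (op U)).hom ν = t := by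
  have hθ' : U ≤ isoLocus (twistHom s m (CohB1.tensorMod (Coh.structureModule X) N)) :=
    hU.trans (genLocus_le_isoLocus_twistHom hL₀ s m _)
  have hθF : U ≤ isoLocus (twistHom s m F) := hU.trans (genLocus_le_isoLocus_twistHom hL₀ s m _)
  obtain ⟨ν, hν⟩ := exists_app_eq_of_le_isoLocus _ hθ' (sec (epsInv e) U)
  refine ⟨ν, ?_⟩
  have h1 : IsIso ((twistHom s m F).app U) := isIso_app_of_le_isoLocus _ hθF
  have hinj : Function.Injective ((twistHom s m F).val.app (op U)).hom :=
    ((ConcreteCategory.isIso_iff_bijective ((twistHom s m F).app U)).mp h1).1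
  apply hinj
  have key : sec T U = ((tensorMap (psi e T) (𝟙 (CohB1.tensorPow L₀ m))).val.app (op U)).hom
      (sec (epsInv e) U) := by
    have h := congrArg (fun φ => sec φ U) (epsInv_tensorMap_psi e T)
    exact h.symm
  rw [← twistHom_naturality_apply s m (psi e T) U ν, hν, twistHom_apply, ← hT, key]

/-- **generation of an arbitrary quasi-coherent module by inverse powers of an ample module**: every
quasi-coherent `F` is a quotient of a coproduct of modules isomorphic to `L'^{⊗ n}`, `n ≥ n₀`, where `L'` is an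
inverse of the ample `L`. -/
theorem exists_epi_sigma_inverse_powers {L L' : X.Modules} (hL : CohB1.IsAmple L)
    (hinv : ClSub.IsInverseOf L L') (F : X.Modules) [F.IsQuasicoherent] (n₀ : ℕ) :
    ∃ (J : Type u) (E : J → X.Modules) (π : (∐ E) ⟶ F), Epi π ∧
      ∀ j, ∃ n, n₀ ≤ n ∧ Nonempty (E j ≅ CohB1.tensorPow L' n) := by
  classical
  have hc : CompactSpace X := hL.2.1
  have hsep : X.IsSeparated := Groth.Agent.Lib.helper12.AmpleSep.isSeparated_of_isAmple hL
  have hqs : QuasiSeparatedSpace X := inferInstance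
  -- the inverse pairs
  have hinvP : ∀ d m : ℕ, ClSub.IsInverseOf (CohB1.tensorPow (CohB1.tensorPow L (d + 1)) m)
      (CohB1.tensorPow (CohB1.tensorPow L' (d + 1)) m) := fun d m =>
    isInverseOf_tensorPow (isInverseOf_tensorPow hinv (d + 1)) m
  let ee : ∀ d m : ℕ, CohB1.tensorMod (CohB1.tensorPow (CohB1.tensorPow L (d + 1)) m)
      (CohB1.tensorPow (CohB1.tensorPow L' (d + 1)) m) ≅ Coh.structureModule X := fun d m =>
    (hinvP d m).some
  let J : Type u := Σ q : ℕ × ℕ, (Coh.structureModule X ⟶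
    CohB1.tensorMod F (CohB1.tensorPow (CohB1.tensorPow L (q.1 + 1)) (q.2 + n₀)))
  let E : J → X.Modules := fun j => CohB1.tensorMod (Coh.structureModule X)
    (CohB1.tensorPow (CohB1.tensorPow L' (j.1.1 + 1)) (j.1.2 + n₀))
  let ψ : ∀ j : J, E j ⟶ F := fun j => psi (ee j.1.1 (j.1.2 + n₀)) j.2
  refine ⟨J, E, Sigma.desc ψ, ?_, fun j => ⟨(j.1.1 + 1) * (j.1.2 + n₀), ?_, ⟨?_⟩⟩⟩
  · -- epi
    choose d s hxs haff using hL.2.2
    refine Groth.Agent.Lib.helper16.QCohEpi.epi_of_surjective_on_affine_cover (Sigma.desc ψ)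
      (fun x : X => CohB1.genLocus _ (s x)) haff (fun x => ⟨x, hxs x⟩) fun x t => ?_
    have hL₀ : PicF.IsInvertible (CohB1.tensorPow L (d x + 1)) :=
      Groth.Agent.Lib.helper12.TensorInv.isInvertible_tensorPow hL.1 _
    obtain ⟨m₀, hm₀⟩ := exists_extend_twist_ge F hL₀ (s x) t
    obtain ⟨Te, hTe⟩ := hm₀ (m₀ + n₀) (Nat.le_add_right _ _)
    let Te' : Γ(CohB1.tensorMod F (CohB1.tensorPow (CohB1.tensorPow L (d x + 1)) (m₀ + n₀)), ⊤) := Te
    let T : Coh.structureModule X ⟶
        CohB1.tensorMod F (CohB1.tensorPow (CohB1.tensorPow L (d x + 1)) (m₀ + n₀)) := ofSec _ Te'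
    have hT : sec T (CohB1.genLocus _ (s x)) = SecTwist.twist (s x) (m₀ + n₀) F _ t := by
      rw [← hTe]
      exact sec_ofSec _ Te' _
    let j : J := ⟨(d x, m₀), T⟩
    obtain ⟨ν, hν⟩ := exists_psi_eq hL₀ (s x) (m₀ + n₀) (ee (d x) (m₀ + n₀)) F le_rfl T t hT
    refine ⟨((Sigma.ι E j).val.app (op (CohB1.genLocus _ (s x)))).hom ν, ?_⟩
    have h1 : Sigma.ι E j ≫ Sigma.desc ψ = ψ j := Sigma.ι_desc ψ j
    have h2 := congrArg (fun φ => (φ.val.app (op (CohB1.genLocus _ (s x)))).hom ν) h1
    exact h2.trans hν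
  · exact (Nat.le_add_left _ _).trans (Nat.le_mul_of_pos_left _ (Nat.succ_pos _))
  · exact leftUnitor _ ≪≫ tensorPowMul L' (j.1.1 + 1) (j.1.2 + n₀)

end Groth.Agent.Lib.helper11.AmpleGen
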