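import Mathlib
import Groth.Prelude.Def_Coh
import Groth.Agent.Lib.Helper28.RestrictCover

set_option autoImplicit false
universe u
open CategoryTheory CategoryTheory.Limits AlgebraicGeometry Opposite TopologicalSpace
open Scheme.Modules

namespace Groth.Agent.Lib.helper11.QCohSigma

/-- on an affine scheme `Spec R`, a coproduct of quasi-coherent modules is quasi-coherent -/
theorem isQuasicoherent_sigma_Spec (R : CommRingCat.{u}) {J : Type u} (E : J → (Spec R).Modules)
    (h : ∀ j, (E j).IsQuasicoherent) : (∐ E).IsQuasicoherent := by
  have hiso : ∀ j, IsIso (E j).fromTildeΓ := fun j => by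
    have := h j
    infer_instance
  let N : J → ModuleCat.{u} R := fun j => (moduleSpecΓFunctor (R := R)).obj (E j)
  let e1 : (∐ fun j => (tilde.functor R).obj (N j)) ≅ ∐ E :=
    Sigma.mapIso fun j => @asIso _ _ _ _ (E j).fromTildeΓ (hiso j)
  let e2 : (tilde.functor R).obj (∐ N) ≅ ∐ fun j => (tilde.functor R).obj (N j) :=
    PreservesCoproduct.iso (tilde.functor R) N
  exact (SheafOfModules.isQuasicoherent (Spec R).ringCatSheaf).prop_of_iso (e2 ≪≫ e1)
    (inferInstanceAs ((tilde.functor R).obj (∐ N)).IsQuasicoherent)

variable {X : Scheme.{u}}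

set_option backward.isDefEq.respectTransparency false in
/-- **a coproduct of quasi-coherent modules is quasi-coherent** -/
theorem isQuasicoherent_sigma {J : Type u} (E : J → X.Modules)
    (h : ∀ j, (E j).IsQuasicoherent) : (∐ E).IsQuasicoherent := by
  refine Groth.Agent.Lib.helper28.RestrictCover.isQuasicoherent_of_restrict_cover (∐ E)
    (fun i => X.affineCover.X i) (fun i => X.affineCover.f i)
    (fun x => ⟨X.affineCover.idx x, X.affineCover.covers x⟩) fun i => ?_
  have hp : PreservesColimitsOfSize.{u, u} (restrictFunctor (X.affineCover.f i)) := inferInstance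
  let e : (restrictFunctor (X.affineCover.f i)).obj (∐ E) ≅
      ∐ fun j => (restrictFunctor (X.affineCover.f i)).obj (E j) :=
    PreservesCoproduct.iso (restrictFunctor (X.affineCover.f i)) E
  have hq : (∐ fun j => (restrictFunctor (X.affineCover.f i)).obj (E j)).IsQuasicoherent :=
    isQuasicoherent_sigma_Spec _ _ fun j => by
      have := h j
      infer_instance
  exact (SheafOfModules.isQuasicoherent (X.affineCover.X i).ringCatSheaf).prop_of_iso e.symm hq

end Groth.Agent.Lib.helper11.QCohSigma
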