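import Mathlib
import Groth.Agent.Lib.Helper11.AmpleGen
import Groth.Agent.Lib.Helper11.CoprodVan
import Groth.Agent.Lib.Helper11.QCohSigma
import Groth.Agent.Lib.Helper11.RelSerre
import Groth.Agent.Lib.Helper18.HHConseq
import Groth.Agent.Lib.Helper12.AmpleBasis
import Groth.Agent.S0016

/-!
# Affineness from vanishing of cohomology of inverse powers of an ample module (helper11)

* `isTrivOn_of_isInverseOf`, `isInvertible_of_isInverseOf`: an inverse of an invertible module is invertible.
* `subsingleton_HH_of_vanishing_inverse_powers`: if `L` is ample with inverse `L'` and `H^p(X, L'^{⊗ n}) = 0` for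
  `n ≥ n₀`, `p > 0`, then `H^p(X, F) = 0` for every quasi-coherent `F` and `p > 0`.
* `isAffine_of_vanishing_inverse_powers`: in that situation `X` is affine (Serre's criterion).
-/

set_option autoImplicit false
universe u
open CategoryTheory CategoryTheory.Limits AlgebraicGeometry Opposite TopologicalSpace
open Scheme.Modules

namespace Groth.Agent.Lib.helper11.AmpleAffine

open Groth.Agent.Lib.helper11.InvMod Groth.Agent.Lib.Lead.ModTensor

variable {X : Scheme.{u}}

/-- an inverse of a module trivial on `U` is trivial on `U` -/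
theorem isTrivOn_of_isInverseOf {L L' : X.Modules} {U : X.Opens} (hL : IsTrivOn L U)
    (hinv : ClSub.IsInverseOf L L') : IsTrivOn L' U := by
  obtain ⟨e⟩ := hL
  obtain ⟨ε⟩ := hinv
  exact ⟨(Groth.Agent.Lib.helper12.TensorInv.tensorTrivIso L' L U e).symm ≪≫
    (restrictFunctor U.ι).mapIso (braid L' L ≪≫ ε) ≪≫ (isTrivOn_structureModule U).some⟩

/-- an inverse of an invertible module is invertible -/
theorem isInvertible_of_isInverseOf {L L' : X.Modules} (hL : PicF.IsInvertible L)
    (hinv : ClSub.IsInverseOf L L') : PicF.IsInvertible L' := by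
  intro x
  obtain ⟨U, hxU, hU⟩ := hL x
  exact ⟨U, hxU, isTrivOn_of_isInverseOf hU hinv⟩

/-- the descending induction -/
theorem subsingleton_HH_of_vanishing_inverse_powers {L L' : X.Modules} (hL : CohB1.IsAmple L)
    (hinv : ClSub.IsInverseOf L L') (n₀ : ℕ)
    (h : ∀ n : ℕ, n₀ ≤ n → ∀ p : ℕ, 0 < p → Subsingleton (Coh.HH X (CohB1.tensorPow L' n) p))
    (F : X.Modules) (hF : F.IsQuasicoherent) (p : ℕ) (hp : 0 < p) :
    Subsingleton (Coh.HH X F p) := by
  have hc : CompactSpace X := hL.2.1
  have hsep : X.IsSeparated := Groth.Agent.Lib.helper12.AmpleSep.isSeparated_of_isAmple hL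
  have hqs : QuasiSeparatedSpace X := inferInstance
  obtain ⟨d, hd⟩ := Groth.Agent.S0016.result X
  have hL' : PicF.IsInvertible L' := isInvertible_of_isInverseOf hL.1 hinv
  suffices H : ∀ k : ℕ, ∀ (F : X.Modules), F.IsQuasicoherent → ∀ p : ℕ, 0 < p → d ≤ p + k →
      Subsingleton (Coh.HH X F p) from H d F hF p hp (Nat.le_add_left _ _)
  intro k
  induction k with
  | zero => intro F hF p _ hpd; exact hd F hF p hpd
  | succ k ih =>
    intro F hF p hp hpd
    obtain ⟨J, E, π, hπ, hE⟩ := AmpleGen.exists_epi_sigma_inverse_powers hL hinv F n₀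
    have hEq : ∀ j, (E j).IsQuasicoherent := fun j => by
      obtain ⟨n, -, ⟨e⟩⟩ := hE j
      exact (SheafOfModules.isQuasicoherent X.ringCatSheaf).prop_of_iso e.symm
        (Groth.Agent.Lib.helper12.AmpleBasis.isQuasicoherent_of_isInvertible
          (Groth.Agent.Lib.helper12.TensorInv.isInvertible_tensorPow hL' n))
    have hSig : (∐ E).IsQuasicoherent := QCohSigma.isQuasicoherent_sigma E hEq
    have hK : (kernel π).IsQuasicoherent := Groth.Agent.Lib.helper7.CohKer.isQuasicoherent_kernel π
    let S : ShortComplex X.Modules := ShortComplex.mk (kernel.ι π) π (kernel.condition π)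
    have hS : S.ShortExact :=
      { exact := ShortComplex.exact_of_f_is_kernel _ (kernelIsKernel π)
        mono_f := inferInstanceAs (Mono (kernel.ι π))
        epi_g := hπ }
    have h2 : Subsingleton (Coh.HH X (∐ E) p) :=
      CoprodVan.subsingleton_HH_sigma X E p fun j => by
        obtain ⟨n, hn, ⟨e⟩⟩ := hE j
        exact RelSerre.subsingleton_HH_of_iso e.symm p (h n hn p hp)
    have h1 : Subsingleton (Coh.HH X (kernel π) (p + 1)) :=
      ih (kernel π) hK (p + 1) (Nat.succ_pos _) (by omega)
    exact Groth.Agent.Lib.Helper18.HH.subsingleton_X₃ hS p h2 h1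

/-- **affineness criterion**: if `L` is ample with inverse `L'` and `H^p(X, L'^{⊗ n}) = 0` for all `n ≥ n₀` and
`p > 0`, then `X` is affine. -/
theorem isAffine_of_vanishing_inverse_powers {L L' : X.Modules} (hL : CohB1.IsAmple L)
    (hinv : ClSub.IsInverseOf L L') (n₀ : ℕ)
    (h : ∀ n : ℕ, n₀ ≤ n → ∀ p : ℕ, 0 < p → Subsingleton (Coh.HH X (CohB1.tensorPow L' n) p)) :
    IsAffine X := by
  have hc : CompactSpace X := hL.2.1
  refine SerreCrit.isAffine_of_H1Ideals fun I _ _ hI => ?_
  exact subsingleton_HH_of_vanishing_inverse_powers hL hinv n₀ h I hI 1 Nat.one_pos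

end Groth.Agent.Lib.helper11.AmpleAffine
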