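import Mathlib
import Groth.Agent.Lib.Helper11.AdicDiag
import Groth.Agent.Lib.Helper11.AdicAlpha1
import Groth.Agent.Lib.Helper11.AdicUnifSerre
import Groth.Agent.Lib.Helper8.FormalTorsion

/-!
# The graded system of kernels of a coherent formal module (helper11)

`X` over `Spec A`, `I = (a_1, …, a_r)`, `(N_n, t_n : N_(n+1) ⟶ N_n)` an inverse system of modules with
`N_n` killed by `I^(n+1)` and `t_n` a cokernel of `I^(n+1) N_(n+1) ⟶ N_(n+1)` (a formal module).
* `aBar`: the map `N_(n+1) ⟶ N_(n+2)` induced by multiplication by `a ∈ I`;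
* `kerSys`: the graded system `n ↦ ker t_n` with operators induced by the `a_i`; `jointEpi_kerSys`;
* `good_kerSys` (coherent case, `X` locally Noetherian);
* `exists_uniform_vanishing_kernels`: uniform Serre vanishing for the kernels (EGA III 5.2.4).
-/

set_option autoImplicit false
universe u
open CategoryTheory CategoryTheory.Limits AlgebraicGeometry Opposite TopologicalSpace

namespace Groth.Agent.Lib.helper11.FormalKer

open Formal Groth.Agent.Lib.helper8.FF Groth.Agent.Lib.helper8.FTors Groth.Agent.Lib.helper8.Rees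
  Groth.Agent.Lib.helper11.AdicSys

variable {A : Type u} [CommRing A] {X : Scheme.{u}} [X.Over (Spec (CommRingCat.of A))]
  {r : ℕ} (a : Fin r → A)
  (N : ℕ → X.Modules) (t : ∀ n, N (n + 1) ⟶ N n)
  (hcok : ∀ n, IsCok (Ideal.span (Set.range a) ^ (n + 1)) (t n))
  (hkill : ∀ n, KilledBy (Ideal.span (Set.range a) ^ (n + 1)) (N n))

include hcok in
lemma epi_t (n : ℕ) : Epi (t n) := (hcok n).epi

/-- `ker t_n = I^(n+1) N_(n+1)` -/
noncomputable def eIso (n : ℕ) : Sb (Ideal.span (Set.range a) ^ (n + 1)) (N (n + 1)) ≅ kernel (t n) where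
  hom := kernel.lift (t n) (sbι _ _) (by
    obtain ⟨θ, hθ⟩ := (hcok n).exists_iso
    rw [← hθ, ← Category.assoc, kernel.condition, zero_comp])
  inv := kernel.lift _ (kernel.ι (t n)) (by
    obtain ⟨θ, hθ⟩ := (hcok n).exists_iso
    rw [← cancel_mono θ.hom, Category.assoc, hθ, kernel.condition, zero_comp])
  hom_inv_id := by
    rw [← cancel_mono (sbι _ _), Category.assoc, kernel.lift_ι, kernel.lift_ι, Category.id_comp]
  inv_hom_id := by
    rw [← cancel_mono (kernel.ι (t n)), Category.assoc, kernel.lift_ι, kernel.lift_ι,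
      Category.id_comp]

@[reassoc (attr := simp)]
lemma eIso_hom_ι (n : ℕ) : (eIso a N t hcok n).hom ≫ kernel.ι (t n) = sbι _ _ := kernel.lift_ι _ _ _

include hcok hkill in
/-- the kernels are killed by `I` -/
lemma kernel_ι_smulMod (n : ℕ) {b : A} (hb : b ∈ Ideal.span (Set.range a)) :
    kernel.ι (t n) ≫ smulMod A (N (n + 1)) b = 0 := by
  rw [← cancel_epi (eIso a N t hcok n).hom, comp_zero, eIso_hom_ι_assoc]
  have hmul : ∀ c ∈ Ideal.span (Set.range a) ^ (n + 1), b * c ∈ Ideal.span (Set.range a) ^ (n + 1 + 1) := by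
    intro c hc
    rw [pow_succ']
    exact Ideal.mul_mem_mul hb hc
  rw [← sbMul_ι b hmul]
  have hz : IsZero (Sb (Ideal.span (Set.range a) ^ (n + 1 + 1)) (N (n + 1))) :=
    isZero_Sb_of_smulMod_eq_zero _ _ (hkill (n + 1))
  rw [hz.eq_of_tgt (sbMul b hmul (N (n + 1))) 0, zero_comp]

/-- multiplication by `b ∈ I` as a map `N_(n+1) ⟶ N_(n+2)` -/
noncomputable def aBar (n : ℕ) {b : A} (hb : b ∈ Ideal.span (Set.range a)) : N (n + 1) ⟶ N (n + 1 + 1) :=
  haveI := epi_t a N t hcok (n + 1)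
  Abelian.epiDesc (t (n + 1)) (smulMod A (N (n + 1 + 1)) b) (kernel_ι_smulMod a N t hcok hkill (n + 1) hb)

@[reassoc (attr := simp)]
lemma t_aBar (n : ℕ) {b : A} (hb : b ∈ Ideal.span (Set.range a)) :
    t (n + 1) ≫ aBar a N t hcok hkill n hb = smulMod A (N (n + 1 + 1)) b := by
  haveI := epi_t a N t hcok (n + 1)
  exact Abelian.comp_epiDesc _ _ _

@[reassoc (attr := simp)]
lemma aBar_t (n : ℕ) {b : A} (hb : b ∈ Ideal.span (Set.range a)) :
    aBar a N t hcok hkill n hb ≫ t (n + 1) = smulMod A (N (n + 1)) b := by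
  haveI := epi_t a N t hcok (n + 1)
  rw [← cancel_epi (t (n + 1)), t_aBar_assoc, smulMod_naturality]

lemma aBar_comm (n : ℕ) {b c : A} (hb : b ∈ Ideal.span (Set.range a))
    (hc : c ∈ Ideal.span (Set.range a)) :
    aBar a N t hcok hkill n hb ≫ aBar a N t hcok hkill (n + 1) hc =
      aBar a N t hcok hkill n hc ≫ aBar a N t hcok hkill (n + 1) hb := by
  haveI := epi_t a N t hcok (n + 1)
  haveI := epi_t a N t hcok (n + 1 + 1)
  rw [← cancel_epi (t (n + 1)), t_aBar_assoc, t_aBar_assoc,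
    smulMod_naturality (aBar a N t hcok hkill (n + 1) hc) b,
    smulMod_naturality (aBar a N t hcok hkill (n + 1) hb) c,
    ← cancel_epi (t (n + 1 + 1)), t_aBar_assoc, t_aBar_assoc,
    ← smulMod_mul, ← smulMod_mul, mul_comm]

lemma mem_span (i : Fin r) : a i ∈ Ideal.span (Set.range a) := Ideal.subset_span ⟨i, rfl⟩

/-- the operator `ker t_n ⟶ ker t_(n+1)` induced by `a_i` -/
noncomputable def τK (i : Fin r) (n : ℕ) : kernel (t n) ⟶ kernel (t (n + 1)) :=
  kernel.lift (t (n + 1)) (kernel.ι (t n) ≫ aBar a N t hcok hkill n (mem_span a i)) (by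
    rw [Category.assoc, aBar_t, kernel_ι_smulMod a N t hcok hkill n (mem_span a i)])

@[reassoc (attr := simp)]
lemma τK_ι (i : Fin r) (n : ℕ) :
    τK a N t hcok hkill i n ≫ kernel.ι (t (n + 1)) =
      kernel.ι (t n) ≫ aBar a N t hcok hkill n (mem_span a i) := kernel.lift_ι _ _ _

/-- the graded system of the kernels `ker t_n` -/
noncomputable def kerSys : Sys X (Fin r) where
  obj n := kernel (t n)
  τ i n := τK a N t hcok hkill i n
  comm i j n := by
    rw [← cancel_mono (kernel.ι (t (n + 1 + 1)))]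
    simp only [Category.assoc, τK_ι, τK_ι_assoc]
    rw [aBar_comm]

/-- the key relation between the Rees system of `N_(n+2)` and the kernel system -/
lemma sbMul_eIso (i : Fin r) (n : ℕ) :
    sbMul (a i) (mul_mem_pow_succ a i (n + 1)) (N (n + 1 + 1)) ≫ (eIso a N t hcok (n + 1)).hom =
      sbMap (Ideal.span (Set.range a) ^ (n + 1)) (t (n + 1)) ≫ (eIso a N t hcok n).hom ≫
        τK a N t hcok hkill i n := by
  rw [← cancel_mono (kernel.ι (t (n + 1))), Category.assoc, eIso_hom_ι, sbMul_ι, Category.assoc,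
    Category.assoc, τK_ι, eIso_hom_ι_assoc, sbMap_ι_assoc, t_aBar]

theorem jointEpi_τK (n : ℕ) {Z : X.Modules} (g h : kernel (t (n + 1)) ⟶ Z)
    (hgh : ∀ i, τK a N t hcok hkill i n ≫ g = τK a N t hcok hkill i n ≫ h) : g = h := by
  rw [← cancel_epi (eIso a N t hcok (n + 1)).hom]
  refine jointEpi_of_epi_desc (reesSys a (N (n + 1 + 1))) (n + 1)
    (epi_desc_reesSys a (N (n + 1 + 1)) (n + 1)) _ _ (fun i => ?_)
  change sbMul (a i) (mul_mem_pow_succ a i (n + 1)) (N (n + 1 + 1)) ≫ _ =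
    sbMul (a i) (mul_mem_pow_succ a i (n + 1)) (N (n + 1 + 1)) ≫ _
  rw [← Category.assoc, ← Category.assoc, sbMul_eIso a N t hcok hkill i n]
  simp only [Category.assoc]
  rw [hgh i]

/-- the operators of the kernel system are jointly epimorphic in every degree -/
theorem jointEpi_kerSys (n : ℕ) : JointEpi (kerSys a N t hcok hkill) n :=
  fun _ g h hgh => jointEpi_τK a N t hcok hkill n g h hgh

/-- the kernel system of a coherent formal module is good -/
theorem good_kerSys [IsLocallyNoetherian X] (hcoh : ∀ n, Coh.IsCoh (N n)) :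
    Good (kerSys a N t hcok hkill) Finset.univ :=
  good_of_jointEpi _ (fun n => Groth.Agent.Lib.helper7.CohKer.isCoh_kernel (hcoh (n + 1)) (hcoh n) _)
    (jointEpi_kerSys a N t hcok hkill)

/-- finitely many generators of an ideal of a Noetherian ring -/
theorem exists_generators' {A : Type u} [CommRing A] [IsNoetherianRing A] (J : Ideal A) :
    ∃ (r : ℕ) (a : Fin r → A), Ideal.span (Set.range a) = J := by
  classical
  obtain ⟨t, ht⟩ := (isNoetherianRing_iff_ideal_fg A).mp inferInstance J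
  obtain ⟨r, ⟨e⟩⟩ : ∃ r : ℕ, Nonempty (Fin r ≃ t) := ⟨_, ⟨(Fintype.equivFin t).symm⟩⟩
  refine ⟨r, fun k => (e k : A), ?_⟩
  rw [← ht]
  congr 1
  ext x
  constructor
  · rintro ⟨k, rfl⟩
    exact (e k).2
  · intro hx
    exact ⟨e.symm ⟨x, hx⟩, by simp⟩

/-- **uniform Serre vanishing for the kernels of a coherent formal module** (EGA III 5.2.4) -/
theorem exists_uniform_vanishing_kernels {A : Type u} [CommRing A] [IsNoetherianRing A] (I : Ideal A)
    {X : Scheme.{u}} [X.Over (Spec (CommRingCat.of A))] [IsProper (X ↘ Spec (CommRingCat.of A))]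
    {L : X.Modules} (hL : CohB1.IsAmple L) (G : ℕᵒᵖ ⥤ X.Modules) (hG : Formal.IsCohFormal I G) :
    ∃ d₀ : ℕ, ∀ d : ℕ, d₀ ≤ d → ∀ n p : ℕ, 0 < p →
      Subsingleton (Coh.HH X (CohB1.tensorMod (kernel (G.map (homOfLE (Nat.le_succ n)).op))
        (CohB1.tensorPow L d)) p) := by
  obtain ⟨r, a, rfl⟩ := exists_generators' I
  haveI : IsLocallyNoetherian X :=
    LocallyOfFiniteType.isLocallyNoetherian (X ↘ Spec (CommRingCat.of A))
  have good := good_kerSys a (fun n => G.obj (op n)) (fun n => G.map (homOfLE (Nat.le_succ n)).op)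
    (fun n => hG.2.2 n) (fun n => hG.2.1 n) (fun n => hG.1 n)
  obtain ⟨d₀, h⟩ := exists_uniform_vanishing (X ↘ Spec (CommRingCat.of A)) hL Finset.univ _ good
  exact ⟨d₀, fun d hd n p hp => h d hd n p hp⟩

end Groth.Agent.Lib.helper11.FormalKer
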