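import Mathlib
import Groth.Agent.Lib.Helper11.FormalKer

/-!
# Filtered inverse systems and their graded kernel systems (helper11)

`X` over `Spec A`, `I = (a_1, …, a_r)`, `(N_n, t_n : N_(n+1) ⟶ N_n)` an inverse system of modules with every
`t_n` an epimorphism whose kernel is killed by `I` (no adic hypothesis).  This generalises `FormalKer`:
* `aBar`: the map `N_(n+1) ⟶ N_(n+2)` induced by multiplication by `b ∈ I`;
* `kerSys`: the graded system `n ↦ ker t_n` with operators induced by the `a_i`;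
* `exists_family`: extension of a finite-level compatible family of maps `E ⟶ N_n` to all levels by lifting.
-/

set_option autoImplicit false
universe u
open CategoryTheory CategoryTheory.Limits AlgebraicGeometry Opposite TopologicalSpace

namespace Groth.Agent.Lib.helper11.FiltSys

open Formal Groth.Agent.Lib.helper8.FF Groth.Agent.Lib.helper8.FTors Groth.Agent.Lib.helper8.Rees
  Groth.Agent.Lib.helper11.AdicSys

variable {A : Type u} [CommRing A] {X : Scheme.{u}} [X.Over (Spec (CommRingCat.of A))]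
  {r : ℕ} (a : Fin r → A)
  (N : ℕ → X.Modules) (t : ∀ n, N (n + 1) ⟶ N n)
  (hepi : ∀ n, Epi (t n))
  (hk : ∀ n (b : A), b ∈ Ideal.span (Set.range a) →
    kernel.ι (t n) ≫ smulMod A (N (n + 1)) b = 0)

/-- multiplication by `b ∈ I` as a map `N_(n+1) ⟶ N_(n+2)` -/
noncomputable def aBar (n : ℕ) {b : A} (hb : b ∈ Ideal.span (Set.range a)) :
    N (n + 1) ⟶ N (n + 1 + 1) :=
  haveI := hepi (n + 1)
  Abelian.epiDesc (t (n + 1)) (smulMod A (N (n + 1 + 1)) b) (hk (n + 1) b hb)

@[reassoc (attr := simp)]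
lemma t_aBar (n : ℕ) {b : A} (hb : b ∈ Ideal.span (Set.range a)) :
    t (n + 1) ≫ aBar a N t hepi hk n hb = smulMod A (N (n + 1 + 1)) b := by
  haveI := hepi (n + 1)
  exact Abelian.comp_epiDesc _ _ _

@[reassoc (attr := simp)]
lemma aBar_t (n : ℕ) {b : A} (hb : b ∈ Ideal.span (Set.range a)) :
    aBar a N t hepi hk n hb ≫ t (n + 1) = smulMod A (N (n + 1)) b := by
  haveI := hepi (n + 1)
  rw [← cancel_epi (t (n + 1)), t_aBar_assoc, smulMod_naturality]

lemma aBar_comm (n : ℕ) {b c : A} (hb : b ∈ Ideal.span (Set.range a))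
    (hc : c ∈ Ideal.span (Set.range a)) :
    aBar a N t hepi hk n hb ≫ aBar a N t hepi hk (n + 1) hc =
      aBar a N t hepi hk n hc ≫ aBar a N t hepi hk (n + 1) hb := by
  haveI := hepi (n + 1)
  haveI := hepi (n + 1 + 1)
  rw [← cancel_epi (t (n + 1)), t_aBar_assoc, t_aBar_assoc,
    smulMod_naturality (aBar a N t hepi hk (n + 1) hc) b,
    smulMod_naturality (aBar a N t hepi hk (n + 1) hb) c,
    ← cancel_epi (t (n + 1 + 1)), t_aBar_assoc, t_aBar_assoc,
    ← smulMod_mul, ← smulMod_mul, mul_comm]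

lemma mem_span (i : Fin r) : a i ∈ Ideal.span (Set.range a) := Ideal.subset_span ⟨i, rfl⟩

/-- the operator `ker t_n ⟶ ker t_(n+1)` induced by `a_i` -/
noncomputable def τK (i : Fin r) (n : ℕ) : kernel (t n) ⟶ kernel (t (n + 1)) :=
  kernel.lift (t (n + 1)) (kernel.ι (t n) ≫ aBar a N t hepi hk n (mem_span a i)) (by
    rw [Category.assoc, aBar_t, hk n _ (mem_span a i)])

@[reassoc (attr := simp)]
lemma τK_ι (i : Fin r) (n : ℕ) :
    τK a N t hepi hk i n ≫ kernel.ι (t (n + 1)) =
      kernel.ι (t n) ≫ aBar a N t hepi hk n (mem_span a i) := kernel.lift_ι _ _ _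

/-- the graded system of the kernels `ker t_n` -/
noncomputable def kerSys : Sys X (Fin r) where
  obj n := kernel (t n)
  τ i n := τK a N t hepi hk i n
  comm i j n := by
    rw [← cancel_mono (kernel.ι (t (n + 1 + 1)))]
    simp only [Category.assoc, τK_ι, τK_ι_assoc]
    rw [aBar_comm]

section Family

variable {C : Type*} [Category C] (M : ℕ → C) (u : ∀ n, M (n + 1) ⟶ M n) (E : C)

/-- extension of a compatible family of maps `E ⟶ M_n`, `n ≤ s`, to all levels, by successive lifting -/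
theorem exists_family (s : ℕ) (ψ₀ : ∀ n, E ⟶ M n) (hcompat : ∀ n, n < s → ψ₀ (n + 1) ≫ u n = ψ₀ n)
    (hlift : ∀ n, s ≤ n → ∀ ξ : E ⟶ M n, ∃ ξ' : E ⟶ M (n + 1), ξ' ≫ u n = ξ) :
    ∃ ψ : ∀ n, E ⟶ M n, (∀ n, n ≤ s → ψ n = ψ₀ n) ∧ ∀ n, ψ (n + 1) ≫ u n = ψ n := by
  classical
  let step : ∀ n, (E ⟶ M n) → (E ⟶ M (n + 1)) := fun n ξ =>
    if h : n + 1 ≤ s then ψ₀ (n + 1) else (hlift n (by omega) ξ).choose
  let ψ : ∀ n, E ⟶ M n := fun n => Nat.rec (motive := fun n => E ⟶ M n) (ψ₀ 0) step n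
  have hψs : ∀ n, ψ (n + 1) = step n (ψ n) := fun n => rfl
  have h1 : ∀ n, n ≤ s → ψ n = ψ₀ n := by
    intro n
    induction n with
    | zero => intro _; rfl
    | succ n ih =>
      intro hn
      rw [hψs]
      simp only [step, dif_pos hn]
  refine ⟨ψ, h1, fun n => ?_⟩
  rw [hψs]
  by_cases h : n + 1 ≤ s
  · simp only [step, dif_pos h]
    rw [h1 n (by omega)]
    exact hcompat n (by omega)
  · simp only [step, dif_neg h]
    exact (hlift n (by omega) (ψ n)).choose_spec

end Family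

section Epi

variable {Q : X.Modules} (σ : ∀ n, Q ⟶ N n) (hσ : ∀ n, σ (n + 1) ≫ t n = σ n)
  (h0 : Epi (σ 0)) (k₀ : ℕ)
  (hcov : ∀ n, n ≤ k₀ → ∃ (R : X.Modules) (ρ : R ⟶ Q) (π : R ⟶ kernel (t n)),
    Epi π ∧ ρ ≫ σ (n + 1) = π ≫ kernel.ι (t n))
  (hJ : ∀ n, k₀ ≤ n → JointEpi (kerSys a N t hepi hk) n)

include hσ h0 hcov hJ in
/-- a compatible family of maps `Q ⟶ N_n` which is epi at level `0`, covers the kernels `ker t_n` for `n ≤ k₀`,
is epi at all levels as soon as the kernel system is generated in degrees `> k₀` -/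
theorem epi_family : ∀ n, Epi (σ n) := by
  intro n
  induction n with
  | zero => exact h0
  | succ n ih =>
    haveI := ih
    haveI := hepi n
    apply Abelian.epi_of_cokernel_π_eq_zero
    -- it suffices that `ker t_n` dies in the cokernel
    suffices hε : kernel.ι (t n) ≫ cokernel.π (σ (n + 1)) = 0 by
      have h1 : t n ≫ Abelian.epiDesc (t n) (cokernel.π (σ (n + 1))) hε = cokernel.π (σ (n + 1)) :=
        Abelian.comp_epiDesc _ _ _
      have h2 : Abelian.epiDesc (t n) (cokernel.π (σ (n + 1))) hε = 0 := by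
        rw [← cancel_epi (σ n), ← hσ n, Category.assoc, h1, cokernel.condition, comp_zero]
      rw [← h1, h2, comp_zero]
    by_cases hn : n ≤ k₀
    · obtain ⟨R, ρ, π, hπ, hρ⟩ := hcov n hn
      rw [← cancel_epi π, ← Category.assoc, ← hρ, Category.assoc, cokernel.condition, comp_zero,
        comp_zero]
    · obtain ⟨n', rfl⟩ : ∃ n', n = n' + 1 := ⟨n - 1, by omega⟩
      have hJ' := hJ n' (by omega)
      have key : ∀ i, aBar a N t hepi hk n' (mem_span a i) ≫ cokernel.π (σ (n' + 1 + 1)) = 0 := by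
        intro i
        rw [← cancel_epi (σ (n' + 1)), ← hσ (n' + 1), Category.assoc, t_aBar_assoc,
          ← Category.assoc, ← smulMod_naturality, Category.assoc, cokernel.condition, comp_zero,
          comp_zero]
      refine hJ' (kernel.ι (t (n' + 1)) ≫ cokernel.π (σ (n' + 1 + 1))) 0 (fun i => ?_)
      have e : τK a N t hepi hk i n' ≫ (kernel.ι (t (n' + 1)) ≫ cokernel.π (σ (n' + 1 + 1))) = 0 := by
        rw [← Category.assoc, τK_ι, Category.assoc, key i, comp_zero]
      exact e.trans comp_zero.symm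

end Epi

end Groth.Agent.Lib.helper11.FiltSys
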