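import Mathlib
import Groth.Agent.Lib.Helper11.FiltSys
import Groth.Agent.Lib.Helper11.TensorEpi
import Groth.Agent.Lib.Helper12.GGExt
import Groth.Agent.Lib.Helper20.TensorEquiv
import Groth.Agent.Lib.Lead.GE2
import Groth.Agent.Lib.Helper8.FiniteGeneric
import Groth.Agent.Lib.Helper11.AmpleAffine

/-!
# Lifting compatible generating families along a filtered inverse system (helper11)

* `exists_jointEpi_of_good`: a good graded system on a quasi-compact scheme is generated by its operators in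
  large degrees;
* `exists_lift_of_H1`: maps from an inverse `E` of `D` lift along an epimorphism whose kernel `K` has
  `H¹(K ⊗ D) = 0`;
* `exists_epi_family`: for a filtered inverse system `(N_n, t_n)` with coherent terms and good kernel system on `X`
  proper over a Noetherian ring with `L` ample: for `d ≫ 0` and `E` an inverse of `L^d` there are a coherent `Q`
  (finite sum of copies of `E`) and compatible epimorphisms `Q ⟶ N_n`.
-/

set_option autoImplicit false
universe u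
open CategoryTheory CategoryTheory.Limits AlgebraicGeometry Opposite TopologicalSpace

namespace Groth.Agent.Lib.helper11.FiltSys

open Formal Groth.Agent.Lib.helper8.FF Groth.Agent.Lib.helper8.FTors Groth.Agent.Lib.helper8.Rees
  Groth.Agent.Lib.helper11.AdicSys Groth.Agent.Lib.Lead.ModTensor Groth.Agent.Lib.Lead.GE
  Groth.Agent.Lib.Helper20.TensorEquiv

section Good

variable {X : Scheme.{u}} {σ : Type*}

theorem exists_jointEpi_of_good [CompactSpace X] (𝓜 : Sys X σ) (s : Finset σ) (h : Good 𝓜 s) :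
    ∃ k₀ : ℕ, ∀ k, k₀ ≤ k → JointEpi 𝓜 k := by
  classical
  obtain ⟨n, W, hW, hcov⟩ := exists_finite_affine_cover X
  choose k₀ hk₀ using fun i : Fin n => h.2 (W i) (hW i)
  refine ⟨Finset.univ.sup k₀, fun k hk Z g g' hgg' => ?_⟩
  haveI : (𝓜.obj (k + 1)).IsQuasicoherent := (h.1 (k + 1)).1
  refine hom_ext_of_cover g g' W hW hcov (fun i x => ?_)
  have hx : x ∈ ⨆ j : s, LinearMap.range (appLin (𝓜.τ j k) (W i)) := by
    rw [hk₀ i k ((Finset.le_sup (Finset.mem_univ i)).trans hk)]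
    trivial
  induction hx using Submodule.iSup_induction' with
  | mem j z hz =>
    obtain ⟨w, rfl⟩ := hz
    rw [← appLin_comp_apply, ← appLin_comp_apply, hgg' j]
  | zero => rw [map_zero, map_zero]
  | add a b _ _ ha hb => rw [map_add, map_add, ha, hb]

end Good

section Lift

variable {X : Scheme.{u}}

/-- maps from an inverse `E` of `D` lift along an epimorphism whose kernel `K` has `H¹(K ⊗ D) = 0` -/
theorem exists_lift_of_H1 {D E : X.Modules} (e : CohB1.tensorMod D E ≅ Coh.structureModule X)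
    {S : ShortComplex X.Modules} (hS : S.ShortExact)
    (hH : Subsingleton (Coh.HH X (CohB1.tensorMod S.X₁ D) 1)) (φ : E ⟶ S.X₃) :
    ∃ φ' : E ⟶ S.X₂, φ' ≫ S.g = φ := by
  haveI := isEquivalence_tensorRight e
  let T := tensorRight D
  let ι0 : Coh.structureModule X ≅ CohB1.tensorMod E D := (braid E D ≪≫ e).symm
  have hS' := shortExact_mapSC e hS
  have hsurj := Groth.Agent.Lib.helper12.GGExt.surjective_app_top_of_H1 hS' hH
  obtain ⟨ψ, hψ⟩ := Groth.Agent.Lib.helper12.GGExt.exists_lift_unit (mapSC e S).g hsurj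
    (ι0.hom ≫ T.map φ)
  refine ⟨T.preimage (ι0.inv ≫ ψ), ?_⟩
  apply T.map_injective
  rw [T.map_comp, T.map_preimage]
  have h1 : ψ ≫ T.map S.g = ι0.hom ≫ T.map φ := hψ
  have h2 : (ι0.inv ≫ ψ) ≫ T.map S.g = ι0.inv ≫ ι0.hom ≫ T.map φ := by
    rw [Category.assoc, h1]
  rw [Iso.inv_hom_id_assoc] at h2
  exact h2

end Lift

section Main

attribute [local instance] Abelian.hasFiniteBiproducts

variable {A : Type u} [CommRing A] [IsNoetherianRing A] {X : Scheme.{u}}
  [X.Over (Spec (CommRingCat.of A))] [IsProper (X ↘ Spec (CommRingCat.of A))]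
  {r : ℕ} (a : Fin r → A)
  (N : ℕ → X.Modules) (t : ∀ n, N (n + 1) ⟶ N n)
  (hepi : ∀ n, Epi (t n))
  (hk : ∀ n (b : A), b ∈ Ideal.span (Set.range a) →
    kernel.ι (t n) ≫ smulMod A (N (n + 1)) b = 0)
  (hcoh : ∀ n, Coh.IsCoh (N n))
  (hgood : Good (kerSys a N t hepi hk) Finset.univ)
  {L : X.Modules} (hL : CohB1.IsAmple L)

include hcoh hgood hL in
/-- **compatible generating families**: for `d ≫ 0` and `E` an inverse of `L^d`, there are a coherent `Q` and
compatible epimorphisms `Q ⟶ N_n` for all `n` -/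
theorem exists_epi_family :
    ∃ d₀ : ℕ, ∀ d : ℕ, d₀ ≤ d → ∀ E : X.Modules, ClSub.IsInverseOf (CohB1.tensorPow L d) E →
      ∃ (Q : X.Modules) (σ : ∀ n, Q ⟶ N n), Coh.IsCoh Q ∧ (∀ n, σ (n + 1) ≫ t n = σ n) ∧
        ∀ n, Epi (σ n) := by
  classical
  haveI : IsLocallyNoetherian X :=
    LocallyOfFiniteType.isLocallyNoetherian (X ↘ Spec (CommRingCat.of A))
  haveI : CompactSpace X :=
    QuasiCompact.compactSpace_of_compactSpace (X ↘ Spec (CommRingCat.of A))
  haveI : QuasiSeparatedSpace X :=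
    quasiSeparatedSpace_of_quasiSeparated (X ↘ Spec (CommRingCat.of A))
  obtain ⟨k₀, hJ⟩ := exists_jointEpi_of_good _ _ hgood
  obtain ⟨d₁, hd₁⟩ := exists_uniform_vanishing (X ↘ Spec (CommRingCat.of A)) hL Finset.univ _ hgood
  let Fj : ℕ → X.Modules := fun j => Nat.casesOn j (N 0) (fun j' => kernel (t j'))
  have hFj : ∀ j, Coh.IsCoh (Fj j) := by
    intro j
    cases j with
    | zero => exact hcoh 0
    | succ j' => exact Groth.Agent.Lib.helper7.CohKer.isCoh_kernel (hcoh (j' + 1)) (hcoh j') _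
  choose thr hthr using fun j =>
    Groth.Agent.Lib.helper11.TensorEpi.exists_epi_sigma_of_isAmple hL (Fj j) (hFj j)
  refine ⟨max d₁ ((Finset.range (k₀ + 2)).sup thr), fun d hd E hE => ?_⟩
  obtain ⟨e⟩ := hE
  have hEinv : PicF.IsInvertible E :=
    Groth.Agent.Lib.helper11.AmpleAffine.isInvertible_of_isInverseOf
      (Groth.Agent.Lib.helper12.TensorInv.isInvertible_tensorPow hL.1 d) ⟨e⟩
  have hEcoh : Coh.IsCoh E :=
    ⟨Groth.Agent.Lib.helper12.AmpleBasis.isQuasicoherent_of_isInvertible hEinv,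
      Groth.Agent.Lib.helper16.FLF.isFiniteType_of_isFinLocFree _
        (Groth.Agent.Lib.helper16.FLF.isFinLocFree_of_isInvertible hEinv)⟩
  -- lifting at every level
  have hlift : ∀ n (ξ : E ⟶ N n), ∃ ξ' : E ⟶ N (n + 1), ξ' ≫ t n = ξ := by
    intro n ξ
    haveI := hepi n
    let S : ShortComplex X.Modules := ShortComplex.mk (kernel.ι (t n)) (t n) (kernel.condition _)
    have hS : S.ShortExact :=
      ShortComplex.ShortExact.mk' (ShortComplex.exact_kernel _) inferInstance inferInstance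
    exact exists_lift_of_H1 e hS (hd₁ d (le_of_max_le_left hd) n 1 one_pos) ξ
  have hliftS : ∀ (m n : ℕ) (ξ : (∐ fun _ : Fin m => E) ⟶ N n),
      ∃ ξ' : (∐ fun _ : Fin m => E) ⟶ N (n + 1), ξ' ≫ t n = ξ := by
    intro m n ξ
    choose c hc using fun k : Fin m => hlift n (Sigma.ι (fun _ : Fin m => E) k ≫ ξ)
    refine ⟨Sigma.desc c, ?_⟩
    apply Sigma.hom_ext
    intro k
    rw [Sigma.ι_desc_assoc, hc]
  -- extension of a map at level `s` vanishing below
  have hext : ∀ (m s : ℕ) (θ : (∐ fun _ : Fin m => E) ⟶ N s),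
      (∀ n, n < s → Function.update (fun n => (0 : (∐ fun _ : Fin m => E) ⟶ N n)) s θ (n + 1) ≫ t n =
        Function.update (fun n => (0 : (∐ fun _ : Fin m => E) ⟶ N n)) s θ n) →
      ∃ σ : ∀ n, (∐ fun _ : Fin m => E) ⟶ N n, σ s = θ ∧ ∀ n, σ (n + 1) ≫ t n = σ n := by
    intro m s θ hθ
    obtain ⟨ψ, h1, h2⟩ := exists_family N t (∐ fun _ : Fin m => E) s _ hθ
      (fun n _ ξ => hliftS m n ξ)
    refine ⟨ψ, ?_, h2⟩
    rw [h1 s le_rfl, Function.update_self]
  have hstar : ∀ j : Fin (k₀ + 2), ∃ (m : ℕ) (σ : ∀ n, (∐ fun _ : Fin m => E) ⟶ N n),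
      (∀ n, σ (n + 1) ≫ t n = σ n) ∧ ((j : ℕ) = 0 → Epi (σ 0)) ∧
      (∀ j', (j : ℕ) = j' + 1 → ∃ π : (∐ fun _ : Fin m => E) ⟶ kernel (t j'),
        Epi π ∧ σ (j' + 1) = π ≫ kernel.ι (t j')) := by
    rintro ⟨j, hj⟩
    have hdj : thr j ≤ d :=
      (Finset.le_sup (f := thr) (Finset.mem_range.mpr hj)).trans (le_of_max_le_right hd)
    obtain ⟨m, π, hπ⟩ := hthr j d hdj E ⟨e⟩
    cases j with
    | zero =>
      have π' : (∐ fun _ : Fin m => E) ⟶ N 0 := π
      obtain ⟨σ, hσ0, hσc⟩ := hext m 0 π (fun n hn => absurd hn (Nat.not_lt_zero n))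
      refine ⟨m, σ, hσc, fun _ => ?_, fun j' hj' => absurd hj' (by simp)⟩
      rw [hσ0]
      exact hπ
    | succ j' =>
      have π' : (∐ fun _ : Fin m => E) ⟶ kernel (t j') := π
      obtain ⟨σ, hσ0, hσc⟩ := hext m (j' + 1) (π ≫ kernel.ι (t j')) (fun n hn => by
        by_cases hnj : n = j'
        · subst hnj
          rw [Function.update_self, Function.update_of_ne (by omega), Category.assoc,
            kernel.condition, comp_zero]
        · rw [Function.update_of_ne (by omega), Function.update_of_ne (by omega), zero_comp])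
      refine ⟨m, σ, hσc, fun h => absurd h (by simp), fun j'' hj'' => ?_⟩
      have : j' = j'' := by simpa using hj''
      subst this
      exact ⟨π, hπ, hσ0⟩
  choose m σ hσc hσ0 hσK using hstar
  let Q : X.Modules := ⨁ fun j : Fin (k₀ + 2) => ∐ fun _ : Fin (m j) => E
  let Sg : ∀ n, Q ⟶ N n := fun n => biproduct.desc (fun j => σ j n)
  have hcompat : ∀ n, Sg (n + 1) ≫ t n = Sg n := by
    intro n
    apply biproduct.hom_ext'
    intro j
    simp only [Sg, biproduct.ι_desc_assoc, biproduct.ι_desc]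
    exact hσc j n
  have h0 : Epi (Sg 0) := by
    haveI : Epi (σ ⟨0, by omega⟩ 0) := hσ0 ⟨0, by omega⟩ rfl
    have hfac : biproduct.ι (fun j : Fin (k₀ + 2) => ∐ fun _ : Fin (m j) => E) ⟨0, by omega⟩ ≫ Sg 0 =
        σ ⟨0, by omega⟩ 0 := biproduct.ι_desc _ _
    exact epi_of_epi_fac hfac
  have hcov : ∀ n, n ≤ k₀ → ∃ (R : X.Modules) (ρ : R ⟶ Q) (π : R ⟶ kernel (t n)),
      Epi π ∧ ρ ≫ Sg (n + 1) = π ≫ kernel.ι (t n) := by
    intro n hn
    obtain ⟨π, hπ, hπσ⟩ := hσK ⟨n + 1, by omega⟩ n rfl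
    refine ⟨_, biproduct.ι (fun j : Fin (k₀ + 2) => ∐ fun _ : Fin (m j) => E) ⟨n + 1, by omega⟩,
      π, hπ, ?_⟩
    rw [← hπσ]
    exact biproduct.ι_desc _ _
  have hQ : Coh.IsCoh Q := by
    refine Groth.Agent.Lib.helper8.Dev.isCoh_biproduct _ (fun j => ?_)
    exact Groth.Agent.Lib.helper7.CohKer.isCoh_of_iso (biproduct.isoCoproduct _)
      (Groth.Agent.Lib.helper8.Dev.isCoh_biproduct (fun _ : Fin (m j) => E) (fun _ => hEcoh))
  exact ⟨Q, Sg, hQ, hcompat, epi_family a N t hepi hk Sg hcompat h0 k₀ hcov hJ⟩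

end Main

end Groth.Agent.Lib.helper11.FiltSys
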