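import Mathlib
import Groth.Agent.Lib.Helper11.FiltLift

/-!
# The kernel of an epimorphism of coherent formal modules as a filtered system (helper11)

`û : 𝓟 ⟶ G` a levelwise epimorphism of coherent formal modules for `I = (a_1, …, a_r)`.  The kernels
`N_n = ker û_n` form an inverse system with epimorphic transition maps whose kernels are killed by `I`, and
its graded kernel system is a subsystem of the one of `𝓟`, hence good (`X` locally Noetherian).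
-/

set_option autoImplicit false
universe u
open CategoryTheory CategoryTheory.Limits AlgebraicGeometry Opposite TopologicalSpace

namespace Groth.Agent.Lib.helper11.GEProj

open Formal Groth.Agent.Lib.helper8.FF Groth.Agent.Lib.helper8.FTors Groth.Agent.Lib.helper8.Rees
  Groth.Agent.Lib.helper11.AdicSys Groth.Agent.Lib.helper11.FiltSys

section Abstract

variable {C : Type*} [Category C] [Abelian C]

/-- a snake-lemma consequence: in a map of short exact sequences `ker u' → P' → G'`, `ker u → P → G` with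
`P' → P` epi and `ker(P' → P) → ker(G' → G)` epi, the map `ker u' → ker u` is epi -/
theorem epi_kernel_map {P' P G' G : C} (u' : P' ⟶ G') (u : P ⟶ G) (p : P' ⟶ P) (q : G' ⟶ G)
    (w : u' ≫ q = p ≫ u) [Epi p] (hκ : Epi (kernel.map p q u' u w.symm)) :
    Epi (kernel.map u' u p q w) := by
  rw [epi_iff_surjective_up_to_refinements]
  intro T x
  obtain ⟨T₁, e₁, he₁, x', hx'⟩ := surjective_up_to_refinements_of_epi p (x ≫ kernel.ι u)
  have hg : (x' ≫ u') ≫ q = 0 := by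
    rw [Category.assoc, w, ← Category.assoc, ← hx', Category.assoc, Category.assoc,
      kernel.condition, comp_zero, comp_zero]
  obtain ⟨T₂, e₂, he₂, y, hy⟩ := surjective_up_to_refinements_of_epi
    (kernel.map p q u' u w.symm) (kernel.lift q (x' ≫ u') hg)
  have hz : (e₂ ≫ x' - y ≫ kernel.ι p) ≫ u' = 0 := by
    have h1 : y ≫ kernel.ι p ≫ u' = e₂ ≫ x' ≫ u' := by
      have := congrArg (· ≫ kernel.ι q) hy
      simp only [Category.assoc, kernel.lift_ι] at this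
      rw [this]
    rw [Preadditive.sub_comp, Category.assoc, Category.assoc, h1, sub_self]
  refine ⟨T₂, e₂ ≫ e₁, epi_comp _ _, kernel.lift u' _ hz, ?_⟩
  rw [← cancel_mono (kernel.ι u)]
  unfold kernel.map
  simp only [Category.assoc, kernel.lift_ι, kernel.lift_ι_assoc]
  rw [Preadditive.sub_comp, Category.assoc, Category.assoc, kernel.condition, comp_zero, sub_zero,
    ← hx']

end Abstract

variable {A : Type u} [CommRing A] {X : Scheme.{u}} [X.Over (Spec (CommRingCat.of A))]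

/-- `M ↦ 𝔞 M` preserves epimorphisms -/
theorem epi_sbMap (𝔞 : Ideal A) {M N : X.Modules} (φ : M ⟶ N) [Epi φ] : Epi (sbMap 𝔞 φ) := by
  refine ⟨fun {Z} g h hgh => ?_⟩
  apply sb_hom_ext
  intro c
  rw [← Category.assoc, ← Category.assoc, ι_sbCover, ← cancel_epi φ, ← Category.assoc,
    ← Category.assoc, ← sbLift_sbMap c.2 φ, Category.assoc, Category.assoc, hgh]

section SubSys

variable {Y : Scheme.{u}} {σ : Type*}

/-- a subsystem with coherent terms of a good graded system is good (`Y` locally Noetherian) -/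
theorem good_of_mono [IsLocallyNoetherian Y] (𝓚 𝓜 : Sys Y σ) (s : Finset σ)
    (j : ∀ k, 𝓚.obj k ⟶ 𝓜.obj k) (hmono : ∀ k, Mono (j k))
    (hj : ∀ i k, 𝓚.τ i k ≫ j (k + 1) = j k ≫ 𝓜.τ i k) (h𝓜 : Good 𝓜 s)
    (h𝓚 : ∀ k, Coh.IsCoh (𝓚.obj k)) : Good 𝓚 s := by
  refine ⟨h𝓚, fun U hU => ?_⟩
  obtain ⟨k₀, hk₀⟩ := h𝓜.2 U hU
  haveI : IsNoetherianRing Γ(Y, U) := IsLocallyNoetherian.component_noetherian ⟨U, hU⟩
  have hcomm : ∀ (i i' : s) (k : ℕ) (x : Γ(𝓜.obj k, U)),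
      appLin (𝓜.τ i (k + 1)) U (appLin (𝓜.τ i' k) U x) =
        appLin (𝓜.τ i' (k + 1)) U (appLin (𝓜.τ i k) U x) := by
    intro i i' k x
    rw [← appLin_comp_apply, ← appLin_comp_apply, 𝓜.comm]
  have hstab : ∀ (i : s) (k : ℕ),
      (LinearMap.range (appLin (j k) U)).map (appLin (𝓜.τ i k) U) ≤
        LinearMap.range (appLin (j (k + 1)) U) := by
    rintro i k _ ⟨_, ⟨x, rfl⟩, rfl⟩
    refine ⟨appLin (𝓚.τ i k) U x, ?_⟩
    rw [← appLin_comp_apply, hj, appLin_comp_apply]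
  obtain ⟨k₁, hk₁⟩ := hilbert_basis (A := Γ(Y, U)) (σ := s)
    (fun k => Γ(𝓜.obj k, U)) (fun i k => appLin (𝓜.τ i k) U) hcomm
    (fun k => Groth.Agent.Lib.helper16.CohFinite.finite_sections_of_isCoh (𝓜.obj k) (h𝓜.1 k) hU)
    k₀ hk₀ (fun k => LinearMap.range (appLin (j k) U)) hstab
  refine ⟨k₁, fun k hk => ?_⟩
  rw [eq_top_iff]
  haveI := hmono (k + 1)
  have hinj := appLin_injective_of_mono (j (k + 1)) U
  rw [← Submodule.map_le_map_iff_of_injective hinj, Submodule.map_top]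
  refine (hk₁ k hk).trans ?_
  refine iSup_le (fun i => ?_)
  rw [Submodule.map_iSup]
  refine le_trans ?_ (le_iSup _ i)
  rw [LinearMap.range_eq_map, LinearMap.range_eq_map, ← Submodule.map_comp,
    ← Submodule.map_comp, ← appLin_comp, ← appLin_comp, hj]

end SubSys

section Ker

variable {r : ℕ} (a : Fin r → A) (𝓟 G : ℕᵒᵖ ⥤ X.Modules)
  (h𝓟 : IsCohFormal (Ideal.span (Set.range a)) 𝓟) (hG : IsCohFormal (Ideal.span (Set.range a)) G)
  (û : 𝓟 ⟶ G) (hû : ∀ n, Epi (û.app (op n)))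

/-- the transition map of an inverse system -/
abbrev tr (F : ℕᵒᵖ ⥤ X.Modules) (n : ℕ) : F.obj (op (n + 1)) ⟶ F.obj (op n) :=
  F.map (homOfLE (Nat.le_succ n)).op

/-- the kernels `N_n = ker û_n` -/
noncomputable abbrev kerN (n : ℕ) : X.Modules := kernel (û.app (op n))

/-- the transition maps of the kernels -/
noncomputable def kerT (n : ℕ) : kerN 𝓟 G û (n + 1) ⟶ kerN 𝓟 G û n :=
  kernel.map (û.app (op (n + 1))) (û.app (op n)) (tr 𝓟 n) (tr G n) (û.naturality _).symm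

@[reassoc (attr := simp)]
lemma kerT_ι (n : ℕ) :
    kerT 𝓟 G û n ≫ kernel.ι (û.app (op n)) = kernel.ι (û.app (op (n + 1))) ≫ tr 𝓟 n :=
  kernel.lift_ι _ _ _

include h𝓟 hG hû in
theorem epi_kerT (n : ℕ) : Epi (kerT 𝓟 G û n) := by
  haveI : Epi (tr 𝓟 n) := IsCok.epi (h𝓟.2.2 n)
  haveI := hû (n + 1)
  refine epi_kernel_map (û.app (op (n + 1))) (û.app (op n)) (tr 𝓟 n) (tr G n)
    (û.naturality _).symm ?_
  -- the map on the kernels of the transition maps is `I^(n+1) 𝓟_(n+1) ⟶ I^(n+1) G_(n+1)`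
  let eP := Groth.Agent.Lib.helper11.FormalKer.eIso a (fun n => 𝓟.obj (op n)) (fun n => tr 𝓟 n)
    (fun n => h𝓟.2.2 n) n
  let eG := Groth.Agent.Lib.helper11.FormalKer.eIso a (fun n => G.obj (op n)) (fun n => tr G n)
    (fun n => hG.2.2 n) n
  have hκ : kernel.map (tr 𝓟 n) (tr G n) (û.app (op (n + 1))) (û.app (op n))
      ((û.naturality _).symm).symm =
      eP.inv ≫ sbMap (Ideal.span (Set.range a) ^ (n + 1)) (û.app (op (n + 1))) ≫ eG.hom := by
    rw [← cancel_epi eP.hom, Iso.hom_inv_id_assoc, ← cancel_mono (kernel.ι (tr G n))]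
    unfold kernel.map
    simp only [Category.assoc, kernel.lift_ι]
    rw [Groth.Agent.Lib.helper11.FormalKer.eIso_hom_ι,
      Groth.Agent.Lib.helper11.FormalKer.eIso_hom_ι_assoc, sbMap_ι]
  rw [hκ]
  haveI := epi_sbMap (Ideal.span (Set.range a) ^ (n + 1)) (û.app (op (n + 1)))
  infer_instance

include h𝓟 in
/-- the kernels of the transition maps of `N` are killed by `I` -/
theorem kernel_ι_kerT_smulMod (n : ℕ) (b : A) (hb : b ∈ Ideal.span (Set.range a)) :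
    kernel.ι (kerT 𝓟 G û n) ≫ smulMod A (kerN 𝓟 G û (n + 1)) b = 0 := by
  rw [← cancel_mono (kernel.ι (û.app (op (n + 1)))), zero_comp, Category.assoc, smulMod_naturality]
  have h0 : (kernel.ι (kerT 𝓟 G û n) ≫ kernel.ι (û.app (op (n + 1)))) ≫ tr 𝓟 n = 0 := by
    rw [Category.assoc, ← kerT_ι, ← Category.assoc, kernel.condition, zero_comp]
  have h1 := Groth.Agent.Lib.helper11.FormalKer.kernel_ι_smulMod a (fun n => 𝓟.obj (op n))
    (fun n => tr 𝓟 n) (fun n => h𝓟.2.2 n) (fun n => h𝓟.2.1 n) n hb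
  rw [← Category.assoc, ← kernel.lift_ι (tr 𝓟 n) _ h0, Category.assoc, h1, comp_zero]

include h𝓟 in
lemma epi_tr (n : ℕ) : Epi (tr 𝓟 n) := IsCok.epi (h𝓟.2.2 n)

include h𝓟 in
lemma kernel_ι_tr_smulMod (n : ℕ) (b : A) (hb : b ∈ Ideal.span (Set.range a)) :
    kernel.ι (tr 𝓟 n) ≫ smulMod A (𝓟.obj (op (n + 1))) b = 0 :=
  Groth.Agent.Lib.helper11.FormalKer.kernel_ι_smulMod a (fun n => 𝓟.obj (op n))
    (fun n => tr 𝓟 n) (fun n => h𝓟.2.2 n) (fun n => h𝓟.2.1 n) n hb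

/-- multiplication by `b ∈ I` one level up is compatible with the inclusion `N ⊆ 𝓟` -/
lemma aBar_compat (n : ℕ) {b : A} (hb : b ∈ Ideal.span (Set.range a)) :
    aBar a (kerN 𝓟 G û) (kerT 𝓟 G û) (epi_kerT a 𝓟 G h𝓟 hG û hû)
        (kernel_ι_kerT_smulMod a 𝓟 G h𝓟 û) n hb ≫ kernel.ι (û.app (op (n + 1 + 1))) =
      kernel.ι (û.app (op (n + 1))) ≫
        aBar a (fun n => 𝓟.obj (op n)) (fun n => tr 𝓟 n) (epi_tr a 𝓟 h𝓟)
          (kernel_ι_tr_smulMod a 𝓟 h𝓟) n hb := by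
  haveI := epi_kerT a 𝓟 G h𝓟 hG û hû (n + 1)
  rw [← cancel_epi (kerT 𝓟 G û (n + 1)), t_aBar_assoc, kerT_ι_assoc]
  have h2 := t_aBar a (fun n => 𝓟.obj (op n)) (fun n => tr 𝓟 n) (epi_tr a 𝓟 h𝓟)
    (kernel_ι_tr_smulMod a 𝓟 h𝓟) n hb
  rw [h2, smulMod_naturality]

/-- the inclusion of the kernel systems -/
noncomputable def kerIncl (k : ℕ) : kernel (kerT 𝓟 G û k) ⟶ kernel (tr 𝓟 k) :=
  kernel.map (kerT 𝓟 G û k) (tr 𝓟 k) (kernel.ι (û.app (op (k + 1)))) (kernel.ι (û.app (op k)))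
    (kerT_ι 𝓟 G û k)

@[reassoc (attr := simp)]
lemma kerIncl_ι (k : ℕ) : kerIncl 𝓟 G û k ≫ kernel.ι (tr 𝓟 k) =
    kernel.ι (kerT 𝓟 G û k) ≫ kernel.ι (û.app (op (k + 1))) := kernel.lift_ι _ _ _

instance (k : ℕ) : Mono (kerIncl 𝓟 G û k) := mono_of_mono_fac (kerIncl_ι 𝓟 G û k)

/-- the graded kernel system of `N = ker û` is good -/
theorem good_kerSys_kerN [IsLocallyNoetherian X] :
    Good (kerSys a (kerN 𝓟 G û) (kerT 𝓟 G û) (epi_kerT a 𝓟 G h𝓟 hG û hû)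
      (kernel_ι_kerT_smulMod a 𝓟 G h𝓟 û)) Finset.univ := by
  have hgoodP : Good (kerSys a (fun n => 𝓟.obj (op n)) (fun n => tr 𝓟 n) (epi_tr a 𝓟 h𝓟)
      (kernel_ι_tr_smulMod a 𝓟 h𝓟)) Finset.univ :=
    Groth.Agent.Lib.helper11.FormalKer.good_kerSys a (fun n => 𝓟.obj (op n))
      (fun n => tr 𝓟 n) (fun n => h𝓟.2.2 n) (fun n => h𝓟.2.1 n) (fun n => h𝓟.1 n)
  have hcohN : ∀ n, Coh.IsCoh (kerN 𝓟 G û n) := fun n =>
    Groth.Agent.Lib.helper7.CohKer.isCoh_kernel (h𝓟.1 n) (hG.1 n) _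
  refine good_of_mono (kerSys a (kerN 𝓟 G û) (kerT 𝓟 G û) (epi_kerT a 𝓟 G h𝓟 hG û hû)
      (kernel_ι_kerT_smulMod a 𝓟 G h𝓟 û))
    (kerSys a (fun n => 𝓟.obj (op n)) (fun n => tr 𝓟 n) (epi_tr a 𝓟 h𝓟)
      (kernel_ι_tr_smulMod a 𝓟 h𝓟)) Finset.univ (fun k => kerIncl 𝓟 G û k)
    (fun k => inferInstanceAs (Mono (kerIncl 𝓟 G û k))) (fun i k => ?_) hgoodP
    (fun k => Groth.Agent.Lib.helper7.CohKer.isCoh_kernel (hcohN (k + 1)) (hcohN k) _)
  change τK a (kerN 𝓟 G û) (kerT 𝓟 G û) _ _ i k ≫ kerIncl 𝓟 G û (k + 1) =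
    kerIncl 𝓟 G û k ≫ τK a (fun n => 𝓟.obj (op n)) (fun n => tr 𝓟 n) _ _ i k
  rw [← cancel_mono (kernel.ι (tr 𝓟 (k + 1))), Category.assoc, kerIncl_ι, τK_ι_assoc,
    Category.assoc, τK_ι, kerIncl_ι_assoc, aBar_compat a 𝓟 G h𝓟 hG û hû k (mem_span a i)]

end Ker

end Groth.Agent.Lib.helper11.GEProj
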