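import Mathlib
import Groth.Agent.Lib.Helper11.GEProj1
import Groth.Agent.Lib.Helper12.InvDual2
import Groth.Agent.Lib.Helper8.ReesFinal
import Groth.Agent.S0060

/-!
# Grothendieck's existence theorem for `X` proper over a complete Noetherian ring with an ample module (helper11)

* `qDesc`, `sysHom`: the map of inverse systems `completion I P ⟶ G` attached to a compatible family `P ⟶ G_n`;
* `exists_algebraization`: every coherent formal module is the completion of a coherent module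
  (EGA III 5.1.6 / 5.2.x in the presence of an ample invertible module).
-/

set_option autoImplicit false
universe u
open CategoryTheory CategoryTheory.Limits AlgebraicGeometry Opposite TopologicalSpace

namespace Groth.Agent.Lib.helper11.GEProj

open Formal Groth.Agent.Lib.helper8.FF Groth.Agent.Lib.helper8.FTors Groth.Agent.Lib.helper8.Rees
  Groth.Agent.Lib.helper11.AdicSys Groth.Agent.Lib.helper11.FiltSys

variable {A : Type u} [CommRing A] {X : Scheme.{u}} [X.Over (Spec (CommRingCat.of A))]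

section Desc

/-- a morphism to a module killed by `𝔞` factors through `M / 𝔞 M` -/
noncomputable def qDesc (𝔞 : Ideal A) {M T : X.Modules} (g : M ⟶ T) (hT : KilledBy 𝔞 T) :
    Q 𝔞 M ⟶ T :=
  cokernel.desc _ g (smulFamily_comp_eq_zero g (fun c hc => by
    rw [smulMod_naturality, hT c hc, comp_zero]))

@[reassoc (attr := simp)]
lemma qπ_qDesc (𝔞 : Ideal A) {M T : X.Modules} (g : M ⟶ T) (hT : KilledBy 𝔞 T) :
    qπ 𝔞 M ≫ qDesc 𝔞 g hT = g := cokernel.π_desc _ _ _

variable (I : Ideal A) (P : X.Modules) (G : ℕᵒᵖ ⥤ X.Modules)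
  (hkill : ∀ n, KilledBy (I ^ (n + 1)) (G.obj (op n)))
  (σ : ∀ n, P ⟶ G.obj (op n)) (hσ : ∀ n, σ (n + 1) ≫ tr G n = σ n)

include hσ in
lemma sysHom_naturality (n : ℕ) :
    (Formal.completion I P).map (homOfLE (Nat.le_add_right n 1)).op ≫
        (qDesc (I ^ (n + 1)) (σ n) (hkill n) : (Formal.completion I P).obj (op n) ⟶ G.obj (op n)) =
      (qDesc (I ^ (n + 1 + 1)) (σ (n + 1)) (hkill (n + 1)) :
        (Formal.completion I P).obj (op (n + 1)) ⟶ G.obj (op (n + 1))) ≫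
        G.map (homOfLE (Nat.le_add_right n 1)).op := by
  have h1 : qπ (I ^ (n + 1 + 1)) P ≫
      (Formal.completion I P).map (homOfLE (Nat.le_add_right n 1)).op = qπ (I ^ (n + 1)) P :=
    Groth.Agent.Lib.helper8.Rees.qπ_completion_map I P (Nat.le_add_right n 1)
  refine (cancel_epi (qπ (I ^ (n + 1 + 1)) P)).mp ?_
  have h2 : qπ (I ^ (n + 1 + 1)) P ≫
      (Formal.completion I P).map (homOfLE (Nat.le_add_right n 1)).op ≫
        (qDesc (I ^ (n + 1)) (σ n) (hkill n) : (Formal.completion I P).obj (op n) ⟶ G.obj (op n)) =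
      σ n := by
    rw [← Category.assoc, h1]
    exact qπ_qDesc _ _ _
  have h3 : qπ (I ^ (n + 1 + 1)) P ≫
      (qDesc (I ^ (n + 1 + 1)) (σ (n + 1)) (hkill (n + 1)) :
        (Formal.completion I P).obj (op (n + 1)) ⟶ G.obj (op (n + 1))) ≫
        G.map (homOfLE (Nat.le_add_right n 1)).op = σ n := by
    rw [← Category.assoc]
    have : qπ (I ^ (n + 1 + 1)) P ≫
        (qDesc (I ^ (n + 1 + 1)) (σ (n + 1)) (hkill (n + 1)) :
          (Formal.completion I P).obj (op (n + 1)) ⟶ G.obj (op (n + 1))) = σ (n + 1) :=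
      qπ_qDesc _ _ _
    rw [this]
    exact hσ n
  exact h2.trans h3.symm

include hσ in
/-- the map of inverse systems attached to a compatible family `P ⟶ G_n` -/
noncomputable def sysHom : Formal.completion I P ⟶ G :=
  NatTrans.ofOpSequence (fun n => qDesc (I ^ (n + 1)) (σ n) (hkill n))
    (sysHom_naturality I P G hkill σ hσ)

@[reassoc]
lemma qπ_sysHom_app (n : ℕ) :
    qπ (I ^ (n + 1)) P ≫ (sysHom I P G hkill σ hσ).app (op n) = σ n := by
  change qπ (I ^ (n + 1)) P ≫ qDesc (I ^ (n + 1)) (σ n) (hkill n) = σ n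
  exact qπ_qDesc _ _ _

lemma epi_sysHom_app (n : ℕ) [Epi (σ n)] : Epi ((sysHom I P G hkill σ hσ).app (op n)) :=
  epi_of_epi_fac (qπ_sysHom_app I P G hkill σ hσ n)

end Desc

section Cok

variable (I : Ideal A) (P : X.Modules) (G : ℕᵒᵖ ⥤ X.Modules) (hG : IsCohFormal I G)
  (σ : ∀ n, P ⟶ G.obj (op n)) (hσ : ∀ n, σ (n + 1) ≫ tr G n = σ n) (hσepi : ∀ n, Epi (σ n))
  {P' : X.Modules} (φ : P' ⟶ P) (hφ0 : ∀ n, φ ≫ σ n = 0)

include hσepi in
lemma epi_qDesc (n : ℕ) : Epi (qDesc (I ^ (n + 1)) (σ n) (hG.2.1 n)) := by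
  haveI := hσepi n
  exact epi_of_epi_fac (qπ_qDesc _ (σ n) (hG.2.1 n))

include hσepi in
lemma isCok_cokernel_desc (n : ℕ)
    (hφepi : Epi (kernel.lift (qDesc (I ^ (n + 1)) (σ n) (hG.2.1 n)) (φ ≫ qπ (I ^ (n + 1)) P)
      (by rw [Category.assoc, qπ_qDesc, hφ0]))) :
    IsCok (I ^ (n + 1)) (cokernel.desc φ (σ n) (hφ0 n)) := by
  have h0 : smulFamily (I ^ (n + 1)) (cokernel φ) ≫ cokernel.desc φ (σ n) (hφ0 n) = 0 :=
    smulFamily_comp_eq_zero _ (fun c hc => by rw [smulMod_naturality, hG.2.1 n c hc, comp_zero])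
  refine isCok_of_isColimit h0 (CokernelCofork.IsColimit.ofπ' _ _ (fun {T} k hk => ?_))
  have hk1 : smulFamily (I ^ (n + 1)) P ≫ cokernel.π φ ≫ k = 0 := by
    refine smulFamily_comp_eq_zero _ (fun c hc => ?_)
    rw [← Category.assoc, smulMod_naturality, Category.assoc]
    have h2 : smulMod A (cokernel φ) c ≫ k = 0 := by
      rw [← ι_smulFamily (I ^ (n + 1)) (cokernel φ) ⟨c, hc⟩, Category.assoc, hk, comp_zero]
    rw [h2, comp_zero]
  have hh₁ : kernel.ι (qDesc (I ^ (n + 1)) (σ n) (hG.2.1 n)) ≫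
      cokernel.desc (smulFamily (I ^ (n + 1)) P) (cokernel.π φ ≫ k) hk1 = 0 := by
    have hw : (φ ≫ qπ (I ^ (n + 1)) P) ≫ qDesc (I ^ (n + 1)) (σ n) (hG.2.1 n) = 0 := by
      rw [Category.assoc, qπ_qDesc, hφ0]
    haveI : Epi (kernel.lift (qDesc (I ^ (n + 1)) (σ n) (hG.2.1 n)) (φ ≫ qπ (I ^ (n + 1)) P) hw) :=
      hφepi
    refine (cancel_epi (kernel.lift (qDesc (I ^ (n + 1)) (σ n) (hG.2.1 n)) (φ ≫ qπ (I ^ (n + 1)) P)
      hw)).mp ?_
    rw [kernel.lift_ι_assoc, comp_zero, Category.assoc]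
    have : qπ (I ^ (n + 1)) P ≫ cokernel.desc (smulFamily (I ^ (n + 1)) P) (cokernel.π φ ≫ k) hk1 =
        cokernel.π φ ≫ k := cokernel.π_desc _ _ _
    rw [this, cokernel.condition_assoc, zero_comp]
  haveI := epi_qDesc I P G hG σ hσepi n
  refine ⟨Abelian.epiDesc (qDesc (I ^ (n + 1)) (σ n) (hG.2.1 n)) _ hh₁, ?_⟩
  refine (cancel_epi (cokernel.π φ)).mp ?_
  rw [cokernel.π_desc_assoc]
  have e2 : (qπ (I ^ (n + 1)) P ≫ qDesc (I ^ (n + 1)) (σ n) (hG.2.1 n)) ≫
      Abelian.epiDesc (qDesc (I ^ (n + 1)) (σ n) (hG.2.1 n)) _ hh₁ = cokernel.π φ ≫ k := by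
    rw [Category.assoc, Abelian.comp_epiDesc]
    exact cokernel.π_desc _ _ _
  rwa [qπ_qDesc] at e2

include hσ hσepi in
theorem completion_cokernel_iso
    (hφepi : ∀ n, Epi (kernel.lift (qDesc (I ^ (n + 1)) (σ n) (hG.2.1 n)) (φ ≫ qπ (I ^ (n + 1)) P)
      (by rw [Category.assoc, qπ_qDesc, hφ0]))) :
    Nonempty (Formal.completion I (cokernel φ) ≅ G) := by
  have hg : ∀ n, cokernel.desc φ (σ (n + 1)) (hφ0 (n + 1)) ≫ tr G n =
      cokernel.desc φ (σ n) (hφ0 n) := fun n => by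
    refine (cancel_epi (cokernel.π φ)).mp ?_
    rw [cokernel.π_desc_assoc, cokernel.π_desc]
    exact hσ n
  have hβ : ∀ n, IsIso ((sysHom I (cokernel φ) G (fun n => hG.2.1 n)
      (fun n => cokernel.desc φ (σ n) (hφ0 n)) hg).app (op n)) := fun n => by
    obtain ⟨θ, hθ⟩ := (isCok_cokernel_desc I P G hG σ hσepi φ hφ0 n (hφepi n)).exists_iso
    have : (sysHom I (cokernel φ) G (fun n => hG.2.1 n)
        (fun n => cokernel.desc φ (σ n) (hφ0 n)) hg).app (op n) = θ.hom := by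
      refine (cancel_epi (qπ (I ^ (n + 1)) (cokernel φ))).mp ?_
      exact (qπ_sysHom_app I (cokernel φ) G _ _ hg n).trans hθ.symm
    rw [this]
    infer_instance
  haveI : IsIso (sysHom I (cokernel φ) G (fun n => hG.2.1 n)
      (fun n => cokernel.desc φ (σ n) (hφ0 n)) hg) := by
    haveI : ∀ k : ℕᵒᵖ, IsIso ((sysHom I (cokernel φ) G (fun n => hG.2.1 n)
      (fun n => cokernel.desc φ (σ n) (hφ0 n)) hg).app k) := fun k => hβ k.unop
    exact NatIso.isIso_of_isIso_app _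
  exact ⟨asIso (sysHom I (cokernel φ) G (fun n => hG.2.1 n)
      (fun n => cokernel.desc φ (σ n) (hφ0 n)) hg)⟩

end Cok

section Main

variable [IsNoetherianRing A] [IsProper (X ↘ Spec (CommRingCat.of A))]
  {r : ℕ} (a : Fin r → A) [IsAdicComplete (Ideal.span (Set.range a)) A]
  {L : X.Modules} (hL : CohB1.IsAmple L)
  (G : ℕᵒᵖ ⥤ X.Modules) (hG : IsCohFormal (Ideal.span (Set.range a)) G)

include hL hG in
theorem exists_algebraization_aux :
    ∃ M : X.Modules, Coh.IsCoh M ∧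
      Nonempty (Formal.completion (Ideal.span (Set.range a)) M ≅ G) := by
  haveI : IsLocallyNoetherian X :=
    LocallyOfFiniteType.isLocallyNoetherian (X ↘ Spec (CommRingCat.of A))
  haveI : CompactSpace X :=
    QuasiCompact.compactSpace_of_compactSpace (X ↘ Spec (CommRingCat.of A))
  haveI : IsNoetherian X := {}
  -- Step 1: generators of `G`
  have hgoodG := Groth.Agent.Lib.helper11.FormalKer.good_kerSys a (fun n => G.obj (op n))
    (fun n => tr G n) (fun n => hG.2.2 n) (fun n => hG.2.1 n) (fun n => hG.1 n)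
  obtain ⟨d₀, hd₀⟩ := exists_epi_family a (fun n => G.obj (op n)) (fun n => tr G n)
    (epi_tr a G hG) (kernel_ι_tr_smulMod a G hG) (fun n => hG.1 n) hgoodG hL
  obtain ⟨E, -, hE, -⟩ := Groth.Agent.Lib.helper12.InvDual.exists_inverse
    (Groth.Agent.Lib.helper12.TensorInv.isInvertible_tensorPow hL.1 d₀)
  obtain ⟨P, σ, hP, hσ, hσepi⟩ := hd₀ d₀ le_rfl E hE
  have h𝓟 : IsCohFormal (Ideal.span (Set.range a)) (Formal.completion (Ideal.span (Set.range a)) P) :=
    Groth.Agent.Lib.helper8.FCompl.isCohFormal_completion _ P hP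
  have hû : ∀ n, Epi ((sysHom (Ideal.span (Set.range a)) P G (fun n => hG.2.1 n) σ hσ).app (op n)) :=
    fun n => by
      haveI := hσepi n
      exact epi_sysHom_app _ P G _ σ hσ n
  -- Step 2: generators of the kernel
  have hgoodN := good_kerSys_kerN a _ G h𝓟 hG _ hû
  have hcohN : ∀ n, Coh.IsCoh (kerN (Formal.completion (Ideal.span (Set.range a)) P) G
      (sysHom (Ideal.span (Set.range a)) P G (fun n => hG.2.1 n) σ hσ) n) := fun n =>
    Groth.Agent.Lib.helper7.CohKer.isCoh_kernel (h𝓟.1 n) (hG.1 n) _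
  obtain ⟨d₁, hd₁⟩ := exists_epi_family a _ _ (epi_kerT a _ G h𝓟 hG _ hû)
    (kernel_ι_kerT_smulMod a _ G h𝓟 _) hcohN hgoodN hL
  obtain ⟨E', -, hE', -⟩ := Groth.Agent.Lib.helper12.InvDual.exists_inverse
    (Groth.Agent.Lib.helper12.TensorInv.isInvertible_tensorPow hL.1 d₁)
  obtain ⟨P', σ', hP', hσ', hσ'epi⟩ := hd₁ d₁ le_rfl E' hE'
  -- Step 3: algebraize the map `P' ⟶ N ⊆ 𝓟`
  have hσ'' : ∀ n, (σ' (n + 1) ≫ kernel.ι ((sysHom (Ideal.span (Set.range a)) P G
      (fun n => hG.2.1 n) σ hσ).app (op (n + 1)))) ≫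
      tr (Formal.completion (Ideal.span (Set.range a)) P) n =
      σ' n ≫ kernel.ι ((sysHom (Ideal.span (Set.range a)) P G
        (fun n => hG.2.1 n) σ hσ).app (op n)) := fun n => by
    rw [Category.assoc, ← kerT_ι, ← Category.assoc, hσ' n]
  obtain ⟨φ, hφ, -⟩ := Groth.Agent.S0060.result A (Ideal.span (Set.range a)) X P' P hP' hP
    (sysHom (Ideal.span (Set.range a)) P' (Formal.completion (Ideal.span (Set.range a)) P)
      (fun n => h𝓟.2.1 n) (fun n => σ' n ≫ kernel.ι ((sysHom (Ideal.span (Set.range a)) P G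
        (fun n => hG.2.1 n) σ hσ).app (op n))) hσ'')
  have hφ' : ∀ n, φ ≫ qπ (Ideal.span (Set.range a) ^ (n + 1)) P =
      σ' n ≫ kernel.ι ((sysHom (Ideal.span (Set.range a)) P G
        (fun n => hG.2.1 n) σ hσ).app (op n)) := fun n =>
    (hφ n).symm.trans (qπ_sysHom_app (Ideal.span (Set.range a)) P'
      (Formal.completion (Ideal.span (Set.range a)) P) (fun n => h𝓟.2.1 n)
      (fun n => σ' n ≫ kernel.ι ((sysHom (Ideal.span (Set.range a)) P G
        (fun n => hG.2.1 n) σ hσ).app (op n))) hσ'' n)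
  have hφ0 : ∀ n, φ ≫ σ n = 0 := fun n => by
    rw [← qπ_sysHom_app (Ideal.span (Set.range a)) P G (fun n => hG.2.1 n) σ hσ n,
      ← Category.assoc]
    erw [hφ' n]
    exact (Category.assoc _ _ _).trans ((congrArg (σ' n ≫ ·) (kernel.condition _)).trans comp_zero)
  refine ⟨cokernel φ, Groth.Agent.Lib.helper7.CohKer.isCoh_cokernel hP' hP φ,
    completion_cokernel_iso (Ideal.span (Set.range a)) P G hG σ hσ hσepi φ hφ0 (fun n => ?_)⟩
  have e : kernel.lift (qDesc (Ideal.span (Set.range a) ^ (n + 1)) (σ n) (hG.2.1 n))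
      (φ ≫ qπ (Ideal.span (Set.range a) ^ (n + 1)) P)
      (by rw [Category.assoc, qπ_qDesc, hφ0]) = σ' n := by
    refine (cancel_mono (kernel.ι (qDesc (Ideal.span (Set.range a) ^ (n + 1)) (σ n)
      (hG.2.1 n)))).mp ?_
    rw [kernel.lift_ι]
    exact hφ' n
  rw [e]
  exact hσ'epi n

end Main

end Groth.Agent.Lib.helper11.GEProj
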