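import Mathlib

/-!
# Linear maps from finitely presented modules into directed colimits (helper11)

For a directed system of `R`-modules `N a` with a "weak colimit" `Ninf` (every element comes from a
stage; an element of a stage vanishing in `Ninf` vanishes at a later stage):
* `exists_lift`: a linear map from a finitely presented module into `Ninf` lifts to a stage;
* `exists_eq_stage`: two linear maps from a finite module into a stage which agree in `Ninf` agree
  at a later stage.
-/

set_option autoImplicit false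
universe u v

namespace Groth.Agent.Lib.helper11.HomDescAlg

variable {R : Type u} [CommRing R] {α : Type v} [Preorder α] [IsDirectedOrder α] [Nonempty α]
  (N : α → Type u) [∀ a, AddCommGroup (N a)] [∀ a, Module R (N a)]
  (τ : ∀ a b, a ≤ b → N a →ₗ[R] N b)
  (hτ : ∀ a b c (hab : a ≤ b) (hbc : b ≤ c) (x : N a),
    τ b c hbc (τ a b hab x) = τ a c (hab.trans hbc) x)
  {Ninf : Type u} [AddCommGroup Ninf] [Module R Ninf] (ρ : ∀ a, N a →ₗ[R] Ninf)
  (hρ : ∀ a b (h : a ≤ b) (x : N a), ρ b (τ a b h x) = ρ a x)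

include hτ in
/-- two linear maps from a finite module into a stage agreeing in the colimit agree at a later
stage -/
theorem exists_eq_stage
    (hinj : ∀ a (x : N a), ρ a x = 0 → ∃ b, ∃ h : a ≤ b, τ a b h x = 0)
    {M : Type u} [AddCommGroup M] [Module R M] [Module.Finite R M] (a : α)
    (ℓ ℓ' : M →ₗ[R] N a) (h : ∀ m, ρ a (ℓ m) = ρ a (ℓ' m)) :
    ∃ b, ∃ hab : a ≤ b, ∀ m, τ a b hab (ℓ m) = τ a b hab (ℓ' m) := by
  classical
  obtain ⟨n, f, hf⟩ := Module.Finite.exists_fin' R M
  have h1 : ∀ i : Fin n, ∃ b, ∃ hab : a ≤ b,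
      τ a b hab (ℓ (f (Pi.single i 1)) - ℓ' (f (Pi.single i 1))) = 0 := fun i =>
    hinj a _ (by rw [map_sub, h, sub_self])
  choose b hb hb0 using h1
  obtain ⟨d, hd⟩ := Finite.exists_le (fun o : Option (Fin n) => o.elim a b)
  have had : a ≤ d := hd none
  refine ⟨d, had, fun m => ?_⟩
  have h2 : (τ a d had) ∘ₗ ℓ ∘ₗ f = (τ a d had) ∘ₗ ℓ' ∘ₗ f := by
    apply LinearMap.pi_ext'
    intro i
    ext
    simp only [LinearMap.coe_comp, LinearMap.coe_single, Function.comp_apply]
    have h3 := hb0 i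
    have h4 : τ a d had (ℓ (f (Pi.single i 1)) - ℓ' (f (Pi.single i 1))) = 0 := by
      rw [← hτ a (b i) d (hb i) (hd (some i)), h3, map_zero]
    rw [map_sub, sub_eq_zero] at h4
    exact h4
  obtain ⟨v, rfl⟩ := hf m
  exact congr($h2 v)

include hτ hρ in
/-- a linear map from a finitely presented module into the colimit lifts to a stage -/
theorem exists_lift
    (hsurj : ∀ s : Ninf, ∃ a, ∃ x : N a, ρ a x = s)
    (hinj : ∀ a (x : N a), ρ a x = 0 → ∃ b, ∃ h : a ≤ b, τ a b h x = 0)
    {M : Type u} [AddCommGroup M] [Module R M] [Module.FinitePresentation R M]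
    (ψ : M →ₗ[R] Ninf) : ∃ a, ∃ ℓ : M →ₗ[R] N a, ∀ m, ρ a (ℓ m) = ψ m := by
  classical
  obtain ⟨n, f, hf⟩ := Module.Finite.exists_fin' R M
  have hker : (LinearMap.ker f).FG := Module.FinitePresentation.fg_ker f hf
  -- lift the images of the generators
  have h1 : ∀ i : Fin n, ∃ a, ∃ x : N a, ρ a x = ψ (f (Pi.single i 1)) := fun i => hsurj _
  choose a₁ x₁ hx₁ using h1
  obtain ⟨a, ha⟩ := Finite.exists_le a₁
  let g : (Fin n → R) →ₗ[R] N a :=
    Fintype.linearCombination R (fun i => τ (a₁ i) a (ha i) (x₁ i))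
  have hg : ∀ v, ρ a (g v) = ψ (f v) := by
    have : (ρ a) ∘ₗ g = ψ ∘ₗ f := by
      apply LinearMap.pi_ext'
      intro i
      ext
      simp only [LinearMap.coe_comp, LinearMap.coe_single, Function.comp_apply, g,
        Fintype.linearCombination_apply_single, one_smul]
      rw [hρ, hx₁]
    intro v
    exact congr($this v)
  -- kill the relations
  obtain ⟨T, hT⟩ := hker
  have h2 : ∀ k : T, ∃ b, ∃ hab : a ≤ b, τ a b hab (g k.1) = 0 := fun k => by
    apply hinj
    rw [hg]
    have : (k.1 : Fin n → R) ∈ LinearMap.ker f := by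
      rw [← hT]
      exact Submodule.subset_span k.2
    rw [LinearMap.mem_ker.mp this, map_zero]
  choose b hb hb0 using h2
  obtain ⟨d, hd⟩ := Finite.exists_le (fun o : Option T => o.elim a b)
  have had : a ≤ d := hd none
  let g' : (Fin n → R) →ₗ[R] N d := (τ a d had) ∘ₗ g
  have hg'ker : LinearMap.ker f ≤ LinearMap.ker g' := by
    rw [← hT, Submodule.span_le]
    intro k hk
    have h3 := hb0 ⟨k, hk⟩
    show g' k = 0
    show τ a d had (g k) = 0
    rw [← hτ a (b ⟨k, hk⟩) d (hb ⟨k, hk⟩) (hd (some ⟨k, hk⟩)), h3, map_zero]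
  let e := f.quotKerEquivOfSurjective hf
  let ℓ : M →ₗ[R] N d := (LinearMap.ker f).liftQ g' hg'ker ∘ₗ e.symm.toLinearMap
  refine ⟨d, ℓ, fun m => ?_⟩
  obtain ⟨v, rfl⟩ := hf m
  have h4 : e.symm (f v) = Submodule.Quotient.mk v := by
    rw [LinearEquiv.symm_apply_eq]
    rfl
  show ρ d ((LinearMap.ker f).liftQ g' hg'ker (e.symm (f v))) = ψ (f v)
  rw [h4, Submodule.liftQ_apply]
  show ρ d (τ a d had (g v)) = ψ (f v)
  rw [hρ, hg]

end Groth.Agent.Lib.helper11.HomDescAlg
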