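import Mathlib
import Groth.Agent.Lib.Helper28.HomOfBasis
import Groth.Agent.Lib.Helper21.AffHom1
import Groth.Agent.Lib.Helper16.QCohEpi

/-!
# Morphisms of modules defined over an open subset, by families of maps on sections (helper11)

`ChartHom A B U`: a family of additive maps `Γ(A, O) → Γ(B, O)` for the opens `O ≤ U`, natural in
`O` and linear over the functions.  Toolkit: `ofHom`, `comp`, `restrict`, `eq_of_cover`,
`ext_affine` (source quasi-coherent, `U` affine: determined by the map on `Γ(-, U)`),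
`exists_ofLinear` (source quasi-coherent, `U` affine: every linear map on `Γ(-, U)` extends),
`exists_glue`, `hom_ext_of_cover`.
-/

set_option autoImplicit false
universe u
open CategoryTheory AlgebraicGeometry TopologicalSpace Opposite

namespace Groth.Agent.Lib.helper11.HomDescChart

open Scheme.Modules Groth.Agent.Lib.helper7 Groth.Agent.Lib.helper2

variable {X : Scheme.{u}}

/-- a morphism of modules defined over the open `U` only: a family of maps on sections over the
opens contained in `U` -/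
structure ChartHom (A B : X.Modules) (U : X.Opens) where
  app : ∀ (O : X.Opens), O ≤ U → (Γ(A, O) →+ Γ(B, O))
  nat : ∀ (O O' : X.Opens) (h : O ≤ O') (h' : O' ≤ U) (s : Γ(A, O')),
    app O (h.trans h') (A.presheaf.map (homOfLE h).op s) =
      B.presheaf.map (homOfLE h).op (app O' h' s)
  lin : ∀ (O : X.Opens) (hO : O ≤ U) (r : Γ(X, O)) (s : Γ(A, O)),
    app O hO (r • s) = r • app O hO s

namespace ChartHom

variable {A B C C' : X.Modules} {U : X.Opens}

theorem ext' {z z' : ChartHom A B U} (h : ∀ O hO s, z.app O hO s = z'.app O hO s) : z = z' := by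
  cases z
  cases z'
  congr
  funext O hO
  exact AddMonoidHom.ext (h O hO)

/-- the restriction of a global morphism -/
noncomputable def ofHom (f : A ⟶ B) (U : X.Opens) : ChartHom A B U where
  app O _ := (f.app O).hom
  nat O O' h _ s := Groth.Agent.Lib.helper16.QCohEpi.app_map f h s
  lin O _ r s := Hom.app_smul f r s

/-- composition with a global morphism -/
noncomputable def comp (z : ChartHom A B U) (g : B ⟶ C) : ChartHom A C U where
  app O hO := (g.app O).hom.comp (z.app O hO)
  nat O O' h h' s := by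
    show (g.app O).hom (z.app O _ (A.presheaf.map _ s)) =
      C.presheaf.map _ ((g.app O').hom (z.app O' h' s))
    rw [z.nat, Groth.Agent.Lib.helper16.QCohEpi.app_map]
  lin O hO r s := by
    show (g.app O).hom (z.app O hO (r • s)) = r • (g.app O).hom (z.app O hO s)
    rw [z.lin]
    exact Hom.app_smul g r _

/-- restriction to a smaller open -/
def restrict (z : ChartHom A B U) {W : X.Opens} (h : W ≤ U) : ChartHom A B W where
  app O hO := z.app O (hO.trans h)
  nat O O' h1 h2 s := z.nat O O' h1 (h2.trans h) s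
  lin O _ r s := z.lin O _ r s

theorem comp_app (z : ChartHom A B U) (g : B ⟶ C) (O : X.Opens) (hO : O ≤ U) (s : Γ(A, O)) :
    (z.comp g).app O hO s = (g.app O).hom (z.app O hO s) := rfl

theorem ofHom_app (f : A ⟶ B) (O : X.Opens) (hO : O ≤ U) (s : Γ(A, O)) :
    (ofHom f U).app O hO s = (f.app O).hom s := rfl

theorem restrict_app (z : ChartHom A B U) {W : X.Opens} (h : W ≤ U) (O : X.Opens) (hO : O ≤ W)
    (s : Γ(A, O)) : (z.restrict h).app O hO s = z.app O (hO.trans h) s := rfl

theorem comp_comp (z : ChartHom A B U) (g : B ⟶ C) (g' : C ⟶ C') :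
    (z.comp g).comp g' = z.comp (g ≫ g') := rfl

theorem ofHom_comp (f : A ⟶ B) (g : B ⟶ C) : (ofHom f U).comp g = ofHom (f ≫ g) U := rfl

theorem restrict_comp (z : ChartHom A B U) {W : X.Opens} (h : W ≤ U) (g : B ⟶ C) :
    (z.restrict h).comp g = (z.comp g).restrict h := rfl

theorem ofHom_restrict (f : A ⟶ B) {W : X.Opens} (h : W ≤ U) :
    (ofHom f U).restrict h = ofHom f W := rfl

/-- sheaf separatedness -/
theorem sec_eq_of_cover (G : X.Modules) {ι : Type*} (W : ι → X.Opens) (V : X.Opens)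
    (hle : ∀ i, W i ≤ V) (hcov : V ≤ ⨆ i, W i) (x y : Γ(G, V))
    (hxy : ∀ i, G.presheaf.map (homOfLE (hle i)).op x = G.presheaf.map (homOfLE (hle i)).op y) :
    x = y :=
  (ModSec.sheaf G).eq_of_locally_eq' W V (fun i => homOfLE (hle i)) hcov x y hxy

/-- two chart morphisms agreeing on the opens contained in the members of a cover are equal -/
theorem eq_of_cover {ι : Type*} (W : ι → X.Opens) (hcov : U ≤ ⨆ i, W i) (z z' : ChartHom A B U)
    (h : ∀ i (O : X.Opens) (hO : O ≤ U) (_ : O ≤ W i) (s : Γ(A, O)),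
      z.app O hO s = z'.app O hO s) : z = z' := by
  refine ext' fun O hO s => ?_
  refine sec_eq_of_cover B (fun i => O ⊓ W i) O (fun i => inf_le_left) ?_ _ _ (fun i => ?_)
  · intro x hx
    obtain ⟨i, hi⟩ := Opens.mem_iSup.mp (hcov (hO hx))
    exact Opens.mem_iSup.mpr ⟨i, hx, hi⟩
  · rw [← z.nat _ _ inf_le_left hO, ← z'.nat _ _ inf_le_left hO]
    exact h i _ _ inf_le_right _

/-- on an affine open, a chart morphism out of a quasi-coherent module is determined by its effect
on the sections over the whole affine open -/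
theorem ext_affine [A.IsQuasicoherent] (hU : IsAffineOpen U) (z z' : ChartHom A B U)
    (h : ∀ s : Γ(A, U), z.app U le_rfl s = z'.app U le_rfl s) : z = z' := by
  -- basic opens first
  have hbasic : ∀ (f : Γ(X, U)) (y : Γ(A, X.basicOpen f)),
      z.app _ (X.basicOpen_le f) y = z'.app _ (X.basicOpen_le f) y := by
    intro f y
    obtain ⟨n, s, hs⟩ := exists_pow_smul_eq_map_of_isAffineOpen hU A f y
    have hunit : IsUnit ((X.presheaf.map (homOfLE (X.basicOpen_le f)).op).hom f ^ n) :=
      (RingedSpace.isUnit_res_basicOpen X.toRingedSpace f).pow n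
    have h1 := z.nat _ _ (X.basicOpen_le f) le_rfl s
    have h2 := z'.nat _ _ (X.basicOpen_le f) le_rfl s
    rw [h, ← h2] at h1
    rw [hs, z.lin, z'.lin] at h1
    exact hunit.smul_left_cancel.mp h1
  refine ext' fun O hO s => ?_
  refine sec_eq_of_cover B (fun f : {f : Γ(X, U) // X.basicOpen f ≤ O} => X.basicOpen f.1) O
    (fun f => f.2) ?_ _ _ (fun f => ?_)
  · intro x hx
    obtain ⟨f, hf, hxf⟩ := hU.exists_basicOpen_le ⟨x, hx⟩ (hO hx)
    exact Opens.mem_iSup.mpr ⟨⟨f, hf⟩, hxf⟩
  · rw [← z.nat _ _ f.2 hO, ← z'.nat _ _ f.2 hO]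
    exact hbasic f.1 _

section OfRestrict

variable {Y : Scheme.{u}} (f : Y ⟶ X) [IsOpenImmersion f]

theorem restrict_smul (M : X.Modules) (V : Y.Opens) (r' : Γ(Y, V)) (x : Γ(M.restrict f, V)) :
    r' • x = (show Γ(M.restrict f, V) from
      ((f.appIso V).inv r' • (show Γ(M, f ''ᵁ V) from x) : Γ(M, f ''ᵁ V))) := rfl

theorem restrict_map_apply (M : X.Modules) {V V' : Y.Opens} (h : V ≤ V') (x : Γ(M.restrict f, V')) :
    (M.restrict f).presheaf.map (homOfLE h).op x =
      (show Γ(M.restrict f, V) from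
        M.presheaf.map (homOfLE (f.image_mono h)).op (show Γ(M, f ''ᵁ V') from x)) := rfl

include f in
theorem image_preimage_eq_of_le (hf : U ≤ f.opensRange) (O : X.Opens) (hO : O ≤ U) :
    f ''ᵁ (f ⁻¹ᵁ O) = O := by
  rw [Scheme.Hom.image_preimage_eq_opensRange_inf]
  exact inf_eq_right.mpr (hO.trans hf)

theorem restrict_app_smul (u : A.restrict f ⟶ B.restrict f) (V : Y.Opens)
    (r₁ : Γ(X, f ''ᵁ V)) (x : Γ(A, f ''ᵁ V)) :
    (u.app V).hom (show Γ(A.restrict f, V) from r₁ • x) =
      (show Γ(B.restrict f, V) from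
        (r₁ • (show Γ(B, f ''ᵁ V) from (u.app V).hom (show Γ(A.restrict f, V) from x)) :
          Γ(B, f ''ᵁ V))) := by
  have h2 : (f.appIso V).inv ((f.appIso V).hom r₁) = r₁ := by
    rw [← ConcreteCategory.comp_apply, Iso.hom_inv_id]
    rfl
  have := Hom.app_smul u ((f.appIso V).hom r₁) (show Γ(A.restrict f, V) from x)
  rw [restrict_smul, restrict_smul, h2] at this
  exact this

/-- a chart morphism from a morphism between the restrictions along an open immersion -/
noncomputable def ofRestrictHom (hf : U ≤ f.opensRange) (u : A.restrict f ⟶ B.restrict f) :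
    ChartHom A B U where
  app O hO :=
    (B.presheaf.map (homOfLE (image_preimage_eq_of_le f hf O hO).ge).op).hom.comp
      ((show Γ(A, f ''ᵁ (f ⁻¹ᵁ O)) →+ Γ(B, f ''ᵁ (f ⁻¹ᵁ O)) from (u.app (f ⁻¹ᵁ O)).hom).comp
        (A.presheaf.map (homOfLE (image_preimage_eq_of_le f hf O hO).le).op).hom)
  nat O O' h h' s := by
    have eO := image_preimage_eq_of_le f hf O (h.trans h')
    have eO' := image_preimage_eq_of_le f hf O' h'
    have hV : f ⁻¹ᵁ O ≤ f ⁻¹ᵁ O' := fun x hx => h hx
    show B.presheaf.map (homOfLE eO.ge).op ((u.app (f ⁻¹ᵁ O)).hom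
        (A.presheaf.map (homOfLE eO.le).op (A.presheaf.map (homOfLE h).op s))) =
      B.presheaf.map (homOfLE h).op (B.presheaf.map (homOfLE eO'.ge).op
        ((u.app (f ⁻¹ᵁ O')).hom (A.presheaf.map (homOfLE eO'.le).op s)))
    have key1 : A.presheaf.map (homOfLE eO.le).op (A.presheaf.map (homOfLE h).op s) =
        (A.restrict f).presheaf.map (homOfLE hV).op
          (show Γ(A.restrict f, f ⁻¹ᵁ O') from A.presheaf.map (homOfLE eO'.le).op s) := by
      rw [restrict_map_apply]
      show _ = A.presheaf.map _ (A.presheaf.map _ s)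
      rw [map_map, map_map]
    rw [key1, Groth.Agent.Lib.helper16.QCohEpi.app_map u hV, restrict_map_apply]
    show B.presheaf.map _ (B.presheaf.map _ _) = _
    rw [map_map, map_map]
  lin O hO r s := by
    have eO := image_preimage_eq_of_le f hf O hO
    show B.presheaf.map (homOfLE eO.ge).op ((u.app (f ⁻¹ᵁ O)).hom
        (A.presheaf.map (homOfLE eO.le).op (r • s))) =
      r • B.presheaf.map (homOfLE eO.ge).op ((u.app (f ⁻¹ᵁ O)).hom
        (A.presheaf.map (homOfLE eO.le).op s))
    set r₁ : Γ(X, f ''ᵁ (f ⁻¹ᵁ O)) := X.presheaf.map (homOfLE eO.le).op r with hr₁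
    have h1 : A.presheaf.map (homOfLE eO.le).op (r • s) =
        r₁ • A.presheaf.map (homOfLE eO.le).op s := Scheme.Modules.map_smul A (homOfLE eO.le) r s
    rw [h1]
    refine Eq.trans (congrArg (fun w => B.presheaf.map (homOfLE eO.ge).op w)
      (restrict_app_smul f u (f ⁻¹ᵁ O) r₁ _)) ?_
    have h4 := Scheme.Modules.map_smul B (homOfLE eO.ge) r₁
      (show Γ(B, f ''ᵁ (f ⁻¹ᵁ O)) from (u.app (f ⁻¹ᵁ O)).hom
        (show Γ(A.restrict f, f ⁻¹ᵁ O) from A.presheaf.map (homOfLE eO.le).op s))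
    refine h4.trans ?_
    congr 1
    rw [hr₁, ← ConcreteCategory.comp_apply, ← Functor.map_comp]
    have : (homOfLE eO.le).op ≫ (homOfLE eO.ge).op = 𝟙 (op O) := rfl
    rw [this, X.presheaf.map_id]
    rfl

end OfRestrict

/-- on an affine open, every linear map between the modules of sections of a quasi-coherent module
and an arbitrary module extends to a chart morphism -/
theorem exists_ofLinear [A.IsQuasicoherent] (hU : IsAffineOpen U)
    (ℓ : Γ(A, U) →ₗ[Γ(X, U)] Γ(B, U)) :
    ∃ z : ChartHom A B U, ∀ s : Γ(A, U), z.app U le_rfl s = ℓ s := by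
  obtain ⟨u, hu⟩ := Groth.Agent.Lib.helper21.AffHom.exists_restrict_hom A B hU ℓ
  have hf : U ≤ hU.fromSpec.opensRange := by rw [hU.opensRange_fromSpec]
  refine ⟨ofRestrictHom hU.fromSpec hf u, fun s => ?_⟩
  have eU := image_preimage_eq_of_le hU.fromSpec hf U le_rfl
  have hV : hU.fromSpec ⁻¹ᵁ U ≤ ⊤ := le_top
  show B.presheaf.map (homOfLE eU.ge).op ((u.app (hU.fromSpec ⁻¹ᵁ U)).hom
      (A.presheaf.map (homOfLE eU.le).op s)) = ℓ s
  have key1 : A.presheaf.map (homOfLE eU.le).op s =
      (A.restrict hU.fromSpec).presheaf.map (homOfLE hV).op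
        (show Γ(A.restrict hU.fromSpec, ⊤) from
          A.presheaf.map (homOfLE (Groth.Agent.Lib.helper7.image_top_eq hU).le).op s) := by
    rw [restrict_map_apply]
    show _ = A.presheaf.map _ (A.presheaf.map _ s)
    rw [map_map]
  rw [key1, Groth.Agent.Lib.helper16.QCohEpi.app_map u hV]
  erw [hu s]
  rw [restrict_map_apply]
  show B.presheaf.map _ (B.presheaf.map _ (B.presheaf.map _ (ℓ s))) = ℓ s
  rw [map_map, map_map, map_self]

section Glue

variable {ι : Type u} (Uc : ι → X.Opens)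

theorem isBasis_le_cover (hcov : ⨆ i, Uc i = ⊤) :
    Opens.IsBasis (Set.range (fun k : (Σ i, {O : X.Opens // O ≤ Uc i}) => k.2.1)) := by
  rw [Opens.isBasis_iff_nbhd]
  intro O x hx
  have hx' : x ∈ (⨆ i, Uc i : X.Opens) := by
    rw [hcov]
    trivial
  obtain ⟨i, hi⟩ := Opens.mem_iSup.mp hx'
  exact ⟨O ⊓ Uc i, ⟨⟨i, O ⊓ Uc i, inf_le_right⟩, rfl⟩, ⟨hx, hi⟩, inf_le_left⟩

/-- gluing of chart morphisms which agree on the overlaps -/
theorem exists_glue (hcov : ⨆ i, Uc i = ⊤) (z : ∀ i, ChartHom A B (Uc i))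
    (hz : ∀ i j (O : X.Opens) (hi : O ≤ Uc i) (hj : O ≤ Uc j) (s : Γ(A, O)),
      (z i).app O hi s = (z j).app O hj s) :
    ∃ f : A ⟶ B, ∀ i (O : X.Opens) (hO : O ≤ Uc i) (s : Γ(A, O)),
      (f.app O).hom s = (z i).app O hO s := by
  obtain ⟨f, hf⟩ := Groth.Agent.Lib.helper28.HomOfBasis.exists_hom_of_basis
    (F := A) (G := B) (fun k : (Σ i, {O : X.Opens // O ≤ Uc i}) => k.2.1)
    (isBasis_le_cover Uc hcov) (fun k => (z k.1).app k.2.1 k.2.2)
    (fun k k' hkk' s => by
      rw [hz k.1 k'.1 k.2.1 k.2.2 (le_trans hkk' k'.2.2)]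
      exact (z k'.1).nat _ _ hkk' k'.2.2 s)
    (fun k r s => (z k.1).lin _ _ r s)
  exact ⟨f, fun i O hO s => hf ⟨i, O, hO⟩ s⟩

/-- two morphisms of modules agreeing on the opens contained in the members of a cover are equal -/
theorem hom_ext_of_cover (hcov : ⨆ i, Uc i = ⊤) (f g : A ⟶ B)
    (h : ∀ i (O : X.Opens) (_ : O ≤ Uc i) (s : Γ(A, O)), (f.app O).hom s = (g.app O).hom s) :
    f = g :=
  Groth.Agent.Lib.helper28.HomOfBasis.hom_ext_of_basis
    (fun k : (Σ i, {O : X.Opens // O ≤ Uc i}) => k.2.1) (isBasis_le_cover Uc hcov) f g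
    (fun k s => h k.1 k.2.1 k.2.2 s)

end Glue

end ChartHom

end Groth.Agent.Lib.helper11.HomDescChart
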