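import Mathlib
import Groth.Agent.Lib.Helper11.HomDescChart
import Groth.Agent.Lib.Helper11.HomDescAlg

/-!
# Finitely presented quasi-coherent modules are compact objects on a qcqs scheme (helper11)

`exists_factor`: `X` quasi-compact quasi-separated, `Q a` a directed system of `O_X`-modules with a
cocone `p a : Q a ⟶ Qinf` which is a colimit on sections over every affine open (every section of
`Qinf` comes from a stage; a section of a stage vanishing in `Qinf` vanishes at a later stage).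
Then every morphism `F₀ ⟶ Qinf` from a quasi-coherent module with finitely presented sections
factors through some `Q a`.
-/

set_option autoImplicit false
universe u v
open CategoryTheory AlgebraicGeometry TopologicalSpace Opposite

namespace Groth.Agent.Lib.helper11.HomDescGlue

open Scheme.Modules Groth.Agent.Lib.helper11.HomDescChart

variable {X : Scheme.{u}}

/-- the map on sections over `U` as a linear map -/
noncomputable def appLin {A B : X.Modules} (f : A ⟶ B) (U : X.Opens) :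
    Γ(A, U) →ₗ[Γ(X, U)] Γ(B, U) where
  toFun := (f.app U).hom
  map_add' := map_add _
  map_smul' r s := Hom.app_smul f r s

theorem appLin_apply {A B : X.Modules} (f : A ⟶ B) (U : X.Opens) (s : Γ(A, U)) :
    appLin f U s = (f.app U).hom s := rfl

theorem comp_app_apply {A B C : X.Modules} (f : A ⟶ B) (g : B ⟶ C) (U : X.Opens) (s : Γ(A, U)) :
    ((f ≫ g).app U).hom s = (g.app U).hom ((f.app U).hom s) := rfl

/-- a chart morphism on `U` as a linear map on the sections over `U` -/
noncomputable def chartLin {A B : X.Modules} {U : X.Opens} (z : ChartHom A B U) :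
    Γ(A, U) →ₗ[Γ(X, U)] Γ(B, U) where
  toFun := z.app U le_rfl
  map_add' := map_add _
  map_smul' r s := z.lin U le_rfl r s

section Main

variable {α : Type v} [Preorder α] [IsDirectedOrder α] [Nonempty α]
  (Q : α → X.Modules) (t : ∀ a b, a ≤ b → (Q a ⟶ Q b))
  (ht : ∀ a b c (hab : a ≤ b) (hbc : b ≤ c), t a b hab ≫ t b c hbc = t a c (hab.trans hbc))
  (Qinf : X.Modules) (p : ∀ a, Q a ⟶ Qinf) (hp : ∀ a b (h : a ≤ b), t a b h ≫ p b = p a)
  (hsurj : ∀ (U : X.Opens), IsAffineOpen U → ∀ s : Γ(Qinf, U),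
    ∃ a, ∃ x : Γ(Q a, U), ((p a).app U).hom x = s)
  (hinj : ∀ (U : X.Opens), IsAffineOpen U → ∀ a (x : Γ(Q a, U)), ((p a).app U).hom x = 0 →
    ∃ b, ∃ h : a ≤ b, ((t a b h).app U).hom x = 0)
  (F₀ : X.Modules) [F₀.IsQuasicoherent]

include ht hp hsurj hinj in
theorem lift_affine {U : X.Opens} (hU : IsAffineOpen U)
    [Module.FinitePresentation Γ(X, U) Γ(F₀, U)] (y : F₀ ⟶ Qinf) :
    ∃ a, ∃ z : ChartHom F₀ (Q a) U, z.comp (p a) = ChartHom.ofHom y U := by
  obtain ⟨a, ℓ, hℓ⟩ := Groth.Agent.Lib.helper11.HomDescAlg.exists_lift (R := Γ(X, U))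
    (fun a => Γ(Q a, U)) (fun a b h => appLin (t a b h) U)
    (fun a b c hab hbc x => by
      show ((t b c hbc).app U).hom (((t a b hab).app U).hom x) = ((t a c _).app U).hom x
      rw [← ht a b c hab hbc]
      rfl)
    (fun a => appLin (p a) U)
    (fun a b h x => by
      show ((p b).app U).hom (((t a b h).app U).hom x) = ((p a).app U).hom x
      rw [← hp a b h]
      rfl)
    (hsurj U hU) (hinj U hU) (appLin y U)
  obtain ⟨z, hz⟩ := ChartHom.exists_ofLinear hU ℓ
  refine ⟨a, z, ChartHom.ext_affine hU _ _ (fun s => ?_)⟩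
  rw [ChartHom.comp_app, hz]
  exact hℓ s

include ht hinj in
theorem uniq_affine {W : X.Opens} (hW : IsAffineOpen W) [Module.Finite Γ(X, W) Γ(F₀, W)]
    (a : α) (z z' : ChartHom F₀ (Q a) W) (h : z.comp (p a) = z'.comp (p a)) :
    ∃ b, ∃ hab : a ≤ b, z.comp (t a b hab) = z'.comp (t a b hab) := by
  obtain ⟨b, hab, hb⟩ := Groth.Agent.Lib.helper11.HomDescAlg.exists_eq_stage (R := Γ(X, W))
    (fun a => Γ(Q a, W)) (fun a b h => appLin (t a b h) W)
    (fun a b c hab hbc x => by
      show ((t b c hbc).app W).hom (((t a b hab).app W).hom x) = ((t a c _).app W).hom x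
      rw [← ht a b c hab hbc]
      rfl)
    (fun a => appLin (p a) W) (hinj W hW) a (chartLin z) (chartLin z')
    (fun m => by
      have := congrArg (fun w : ChartHom F₀ Qinf W => w.app W le_rfl m) h
      exact this)
  exact ⟨b, hab, ChartHom.ext_affine hW _ _ (fun s => hb s)⟩

include ht hinj in
theorem uniq_qc (hfin : ∀ W : X.Opens, IsAffineOpen W → Module.Finite Γ(X, W) Γ(F₀, W))
    {V : X.Opens} (hV : IsCompact (V : Set X))
    (a : α) (z z' : ChartHom F₀ (Q a) V) (h : z.comp (p a) = z'.comp (p a)) :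
    ∃ b, ∃ hab : a ≤ b, z.comp (t a b hab) = z'.comp (t a b hab) := by
  obtain ⟨S, hSfin, hS⟩ := isCompact_iff_finite_and_eq_biUnion_affineOpens.mp hV
  haveI : Finite S := hSfin
  have hWV : ∀ W : S, W.1.1 ≤ V := fun W => by
    rw [hS]
    exact le_iSup₂ (f := fun (i : X.affineOpens) (_ : i ∈ S) => (i : X.Opens)) W.1 W.2
  have h1 : ∀ W : S, ∃ b, ∃ hab : a ≤ b,
      (z.restrict (hWV W)).comp (t a b hab) = (z'.restrict (hWV W)).comp (t a b hab) := fun W => by
    haveI := hfin W.1.1 W.1.2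
    exact uniq_affine Q t ht Qinf p hinj F₀ W.1.2 a _ _
      (congrArg (fun w : ChartHom F₀ Qinf V => w.restrict (hWV W)) h)
  choose b hb hbeq using h1
  obtain ⟨d, hd⟩ := Finite.exists_le (fun o : Option S => o.elim a b)
  have had : a ≤ d := hd none
  refine ⟨d, had, ChartHom.eq_of_cover (fun W : S => W.1.1) ?_ _ _ (fun W O hO hOW s => ?_)⟩
  · rw [hS]
    exact iSup₂_le fun i hi => le_iSup (fun W : S => W.1.1) ⟨i, hi⟩
  · have hbd : b W ≤ d := hd (some W)
    have e1 : ∀ w : ChartHom F₀ (Q a) V, (w.comp (t a d had)).app O hO s =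
        ((t (b W) d hbd).app O).hom (((w.restrict (hWV W)).comp (t a (b W) (hb W))).app O hOW s) := by
      intro w
      rw [ChartHom.comp_app, ← ht a (b W) d (hb W) hbd]
      rfl
    rw [e1, e1, hbeq W]

include ht hp hsurj hinj in
/-- **Compactness of finitely presented quasi-coherent modules.** -/
theorem exists_factor [CompactSpace X] [QuasiSeparatedSpace X]
    (hfp : ∀ U : X.Opens, IsAffineOpen U → Module.FinitePresentation Γ(X, U) Γ(F₀, U))
    (y : F₀ ⟶ Qinf) : ∃ a, ∃ z : F₀ ⟶ Q a, z ≫ p a = y := by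
  classical
  have hfin : ∀ W : X.Opens, IsAffineOpen W → Module.Finite Γ(X, W) Γ(F₀, W) := fun W hW => by
    haveI := hfp W hW
    infer_instance
  -- a finite affine cover
  obtain ⟨K, hKfin, hK⟩ := isCompact_iff_finite_and_eq_biUnion_affineOpens.mp
    (show IsCompact ((⊤ : X.Opens) : Set X) from isCompact_univ)
  haveI : Finite K := hKfin
  have hcov : ⨆ k : K, k.1.1 = ⊤ := by
    rw [hK]
    apply le_antisymm
    · exact iSup_le fun k => le_iSup₂ (f := fun (i : X.affineOpens) (_ : i ∈ K) => (i : X.Opens))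
        k.1 k.2
    · exact iSup₂_le fun i hi => le_iSup (fun k : K => k.1.1) ⟨i, hi⟩
  -- local lifts
  have h1 : ∀ k : K, ∃ a, ∃ z : ChartHom F₀ (Q a) k.1.1, z.comp (p a) = ChartHom.ofHom y k.1.1 :=
    fun k => by
      haveI := hfp k.1.1 k.1.2
      exact lift_affine Q t ht Qinf p hp hsurj hinj F₀ k.1.2 y
  choose a₁ z₁ hz₁ using h1
  obtain ⟨a, ha⟩ := Finite.exists_le a₁
  let z₂ : ∀ k : K, ChartHom F₀ (Q a) k.1.1 := fun k => (z₁ k).comp (t (a₁ k) a (ha k))
  have hz₂ : ∀ k, (z₂ k).comp (p a) = ChartHom.ofHom y k.1.1 := fun k => by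
    show ((z₁ k).comp (t (a₁ k) a (ha k))).comp (p a) = _
    rw [ChartHom.comp_comp, hp, hz₁]
  -- agreement on overlaps at a later stage
  have h2 : ∀ kl : K × K, ∃ b, ∃ hab : a ≤ b,
      ((z₂ kl.1).restrict (inf_le_left : kl.1.1.1 ⊓ kl.2.1.1 ≤ kl.1.1.1)).comp (t a b hab) =
        ((z₂ kl.2).restrict (inf_le_right : kl.1.1.1 ⊓ kl.2.1.1 ≤ kl.2.1.1)).comp (t a b hab) :=
    fun kl => by
      have hc : IsCompact ((kl.1.1.1 ⊓ kl.2.1.1 : X.Opens) : Set X) :=
        QuasiSeparatedSpace.inter_isCompact _ _ kl.1.1.1.2 kl.1.1.2.isCompact kl.2.1.1.2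
          kl.2.1.2.isCompact
      refine uniq_qc Q t ht Qinf p hinj F₀ hfin hc a _ _ ?_
      rw [ChartHom.restrict_comp, ChartHom.restrict_comp, hz₂, hz₂]
      rfl
  choose b hb hbeq using h2
  obtain ⟨d, hd⟩ := Finite.exists_le (fun o : Option (K × K) => o.elim a b)
  have had : a ≤ d := hd none
  let z₃ : ∀ k : K, ChartHom F₀ (Q d) k.1.1 := fun k => (z₂ k).comp (t a d had)
  have hz₃ : ∀ (k l : K) (O : X.Opens) (hk : O ≤ k.1.1) (hl : O ≤ l.1.1) (s : Γ(F₀, O)),
      (z₃ k).app O hk s = (z₃ l).app O hl s := by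
    intro k l O hk hl s
    have hbd : b (k, l) ≤ d := hd (some (k, l))
    have hO : O ≤ k.1.1 ⊓ l.1.1 := le_inf hk hl
    have e1 : (z₃ k).app O hk s = ((t (b (k, l)) d hbd).app O).hom
        ((((z₂ k).restrict (inf_le_left : k.1.1 ⊓ l.1.1 ≤ k.1.1)).comp
          (t a (b (k, l)) (hb (k, l)))).app O hO s) := by
      show ((z₂ k).comp (t a d had)).app O hk s = _
      rw [ChartHom.comp_app, ← ht a (b (k, l)) d (hb (k, l)) hbd]
      rfl
    have e2 : (z₃ l).app O hl s = ((t (b (k, l)) d hbd).app O).hom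
        ((((z₂ l).restrict (inf_le_right : k.1.1 ⊓ l.1.1 ≤ l.1.1)).comp
          (t a (b (k, l)) (hb (k, l)))).app O hO s) := by
      show ((z₂ l).comp (t a d had)).app O hl s = _
      rw [ChartHom.comp_app, ← ht a (b (k, l)) d (hb (k, l)) hbd]
      rfl
    rw [e1, e2, hbeq (k, l)]
  obtain ⟨f, hf⟩ := ChartHom.exists_glue (fun k : K => k.1.1) hcov z₃ hz₃
  refine ⟨d, f, ChartHom.hom_ext_of_cover (fun k : K => k.1.1) hcov _ _ (fun k O hO s => ?_)⟩
  rw [comp_app_apply, hf k O hO s]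
  have e3 : (z₃ k).comp (p d) = ChartHom.ofHom y k.1.1 := by
    show ((z₂ k).comp (t a d had)).comp (p d) = _
    rw [ChartHom.comp_comp, hp, hz₂]
  exact congrArg (fun w : ChartHom F₀ Qinf k.1.1 => w.app O hO s) e3

end Main

end Groth.Agent.Lib.helper11.HomDescGlue
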