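import Mathlib
import Groth.Prelude.Def_FlatCA

/-!
# Ring-level limit preservation (helper11)

For a directed system of `R`-algebras `G i` with colimit `A` (`FlatCA.IsDirectedColimitRing`):
* `rTensor_eq_zero_of_colim`: an element of `G i ⊗[R] N` vanishing in `A ⊗[R] N` vanishes in some
  `G j ⊗[R] N`;
* `lTensor_eq_zero_of_colim`: for `φ : M →ₗ[B] N` with `M` finite over the `R`-algebra `B`,
  `A ⊗ φ = 0` implies `G j ⊗ φ = 0` for some `j`;
* `lTensor_eq_zero_of_algHom`: `A' ⊗ φ = 0` is stable under `R`-algebra maps `A' → A''`;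
* `lTensor_surjective_iff`, `lTensor_injective_iff`: surjectivity / injectivity of `A' ⊗ φ` in terms
  of vanishing statements.
-/

set_option autoImplicit false
set_option linter.style.haveILetI false
universe u

open TensorProduct

namespace Groth.Agent.Lib.helper11.LimPresRing

section Colim

variable {R : Type u} [CommRing R] {ι : Type u} [Preorder ι] (G : ι → Type u)
  [∀ i, CommRing (G i)] [∀ i, Algebra R (G i)] (g : ∀ i j, i ≤ j → G i →ₐ[R] G j)
  (A : Type u) [CommRing A] [Algebra R A] [∀ i, Algebra (G i) A] [∀ i, IsScalarTower R (G i) A]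
  (hcolim : FlatCA.IsDirectedColimitRing G (fun i j h => (g i j h).toRingHom) A)

include hcolim in
theorem toA_comp (i j : ι) (h : i ≤ j) :
    (IsScalarTower.toAlgHom R (G j) A).toLinearMap ∘ₗ (g i j h).toLinearMap =
      (IsScalarTower.toAlgHom R (G i) A).toLinearMap := by
  ext x
  exact congrArg (fun ψ : G i →+* A => ψ x) (hcolim.2.2.2.2.1 i j h)

include hcolim in
/-- an element of `G i ⊗[R] N` vanishing in `A ⊗[R] N` vanishes at a later stage -/
theorem rTensor_eq_zero_of_colim (N : Type u) [AddCommGroup N] [Module R N] (i : ι)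
    (z : G i ⊗[R] N)
    (hz : LinearMap.rTensor N (IsScalarTower.toAlgHom R (G i) A).toLinearMap z = 0) :
    ∃ j, ∃ h : i ≤ j, LinearMap.rTensor N (g i j h).toLinearMap z = 0 := by
  classical
  obtain ⟨hdir, hne, hid, hcomp, hcompat, hsurj, hzero⟩ := hcolim
  haveI : IsDirectedOrder ι := hdir
  haveI : Nonempty ι := hne
  let f : ∀ i j, i ≤ j → G i →ₗ[R] G j := fun i j h => (g i j h).toLinearMap
  haveI : DirectedSystem G (f · · ·) :=
    { map_self := fun i x => congrArg (fun ψ : G i →+* G i => ψ x) (hid i)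
      map_map := fun k j i hij hjk x =>
        congrArg (fun ψ : G i →+* G k => ψ x) (hcomp i j k hij hjk) }
  let toA : ∀ i, G i →ₗ[R] A := fun i => (IsScalarTower.toAlgHom R (G i) A).toLinearMap
  have htoA : ∀ i j hij x, toA j (f i j hij x) = toA i x := fun i j hij x =>
    congrArg (fun ψ : G i →+* A => ψ x) (hcompat i j hij)
  let ψ : Module.DirectLimit G f →ₗ[R] A := Module.DirectLimit.lift R ι G f toA htoA
  have hψinj : Function.Injective ψ := by
    rw [← LinearMap.ker_eq_bot, LinearMap.ker_eq_bot']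
    intro w hw
    obtain ⟨k, x, rfl⟩ := Module.DirectLimit.exists_of w
    have h1 : algebraMap (G k) A x = 0 := by
      have := Module.DirectLimit.lift_of (R := R) (ι := ι) (G := G) (f := f) toA htoA x
      exact this.symm.trans hw
    obtain ⟨j, hkj, hj⟩ := hzero k x h1
    rw [← Module.DirectLimit.of_f (hij := hkj)]
    have : f k j hkj x = 0 := hj
    rw [this, map_zero]
  have hψsurj : Function.Surjective ψ := by
    intro a
    obtain ⟨k, x, rfl⟩ := hsurj a
    exact ⟨Module.DirectLimit.of R ι G f k x,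
      Module.DirectLimit.lift_of (R := R) (ι := ι) (G := G) (f := f) toA htoA x⟩
  let e : Module.DirectLimit G f ≃ₗ[R] A := LinearEquiv.ofBijective ψ ⟨hψinj, hψsurj⟩
  have hfac : toA i = e.toLinearMap ∘ₗ Module.DirectLimit.of R ι G f i := by
    ext x
    exact (Module.DirectLimit.lift_of (R := R) (ι := ι) (G := G) (f := f) toA htoA x).symm
  have h2 : LinearMap.rTensor N (Module.DirectLimit.of R ι G f i) z = 0 := by
    have h3 : LinearMap.rTensor N e.toLinearMap
        (LinearMap.rTensor N (Module.DirectLimit.of R ι G f i) z) = 0 := by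
      rw [← LinearMap.comp_apply, ← LinearMap.rTensor_comp, ← hfac]
      exact hz
    have h4 : Function.Injective (LinearMap.rTensor N e.toLinearMap) :=
      (LinearEquiv.rTensor N e).injective
    exact h4 (h3.trans (map_zero _).symm)
  have h5 := TensorProduct.directLimitLeft_rTensor_of f N z
  rw [h2, map_zero] at h5
  obtain ⟨j, hij, hj⟩ := Module.DirectLimit.of.zero_exact h5.symm
  exact ⟨j, hij, hj⟩

end Colim

section Maps

variable {R : Type u} [CommRing R] {B : Type u} [CommRing B] [Algebra R B]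
  {M N : Type u} [AddCommGroup M] [Module B M] [Module R M] [IsScalarTower R B M]
  [AddCommGroup N] [Module B N] [Module R N] [IsScalarTower R B N]

/-- `A' ⊗ φ = 0` iff `1 ⊗ φ m = 0` for all `m` -/
theorem lTensor_eq_zero_iff (A' : Type u) [CommRing A'] [Algebra R A'] (φ : M →ₗ[R] N) :
    LinearMap.lTensor A' φ = 0 ↔ ∀ m, (1 : A') ⊗ₜ[R] φ m = 0 := by
  constructor
  · intro h m
    have := LinearMap.congr_fun h ((1 : A') ⊗ₜ[R] m)
    simpa using this
  · intro h
    apply TensorProduct.ext'
    intro a m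
    rw [LinearMap.lTensor_tmul, LinearMap.zero_apply]
    have : a ⊗ₜ[R] φ m = a • ((1 : A') ⊗ₜ[R] φ m) := by
      rw [TensorProduct.smul_tmul', smul_eq_mul, mul_one]
    rw [this, h m, smul_zero]

/-- stability of `A' ⊗ φ = 0` under algebra maps -/
theorem lTensor_eq_zero_of_algHom {A' A'' : Type u} [CommRing A'] [CommRing A''] [Algebra R A']
    [Algebra R A''] (h : A' →ₐ[R] A'') (φ : M →ₗ[R] N) (hφ : LinearMap.lTensor A' φ = 0) :
    LinearMap.lTensor A'' φ = 0 := by
  rw [lTensor_eq_zero_iff] at hφ ⊢
  intro m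
  have := congrArg (LinearMap.rTensor N h.toLinearMap) (hφ m)
  simpa using this

variable {ι : Type u} [Preorder ι] (G : ι → Type u)
  [∀ i, CommRing (G i)] [∀ i, Algebra R (G i)] (g : ∀ i j, i ≤ j → G i →ₐ[R] G j)
  (A : Type u) [CommRing A] [Algebra R A] [∀ i, Algebra (G i) A] [∀ i, IsScalarTower R (G i) A]
  (hcolim : FlatCA.IsDirectedColimitRing G (fun i j h => (g i j h).toRingHom) A)

include hcolim in
/-- **vanishing of a base changed map descends to a finite stage** -/
theorem lTensor_eq_zero_of_colim [Module.Finite B M] (φ : M →ₗ[B] N)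
    (h : LinearMap.lTensor A (φ.restrictScalars R) = 0) :
    ∃ j, LinearMap.lTensor (G j) (φ.restrictScalars R) = 0 := by
  classical
  have hcolim' := hcolim
  obtain ⟨hdir, hne, hid, hcomp, hcompat, hsurj, hzero⟩ := hcolim
  haveI : IsDirectedOrder ι := hdir
  haveI : Nonempty ι := hne
  obtain ⟨i₀⟩ := hne
  obtain ⟨S, hS⟩ := (Module.Finite.fg_top : (⊤ : Submodule B M).FG)
  rw [lTensor_eq_zero_iff] at h
  have key : ∀ m : M, ∃ j, (1 : G j) ⊗ₜ[R] φ m = 0 := by
    intro m
    have hz : LinearMap.rTensor N (IsScalarTower.toAlgHom R (G i₀) A).toLinearMap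
        ((1 : G i₀) ⊗ₜ[R] φ m) = 0 := by
      rw [LinearMap.rTensor_tmul]
      simpa using h m
    obtain ⟨j, hij, hj⟩ := rTensor_eq_zero_of_colim G g A hcolim' N i₀ _ hz
    refine ⟨j, ?_⟩
    rw [LinearMap.rTensor_tmul] at hj
    simpa using hj
  choose jf hjf using key
  obtain ⟨j, hj⟩ := Finset.exists_le (S.image jf)
  refine ⟨j, ?_⟩
  have hSj : ∀ m ∈ S, (1 : G j) ⊗ₜ[R] φ m = 0 := by
    intro m hm
    have hle : jf m ≤ j := hj _ (Finset.mem_image_of_mem _ hm)
    have := congrArg (LinearMap.rTensor N (g (jf m) j hle).toLinearMap) (hjf m)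
    rw [LinearMap.rTensor_tmul] at this
    simpa using this
  let K : Submodule B M :=
    { carrier := {m | (1 : G j) ⊗ₜ[R] φ m = 0}
      add_mem' := fun {a b} ha hb => by
        change (1 : G j) ⊗ₜ[R] φ (a + b) = 0
        rw [map_add, TensorProduct.tmul_add, ha, hb, add_zero]
      zero_mem' := by
        change (1 : G j) ⊗ₜ[R] φ 0 = 0
        rw [map_zero, TensorProduct.tmul_zero]
      smul_mem' := fun b m hm => by
        change (1 : G j) ⊗ₜ[R] φ (b • m) = 0
        have h1 : (1 : G j) ⊗ₜ[R] φ (b • m) =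
            LinearMap.lTensor (G j) ((LinearMap.lsmul B N b).restrictScalars R)
              ((1 : G j) ⊗ₜ[R] φ m) := by
          rw [LinearMap.lTensor_tmul, map_smul]
          rfl
        rw [h1, hm, map_zero] }
  have hK : K = ⊤ := by
    rw [eq_top_iff, ← hS, Submodule.span_le]
    intro m hm
    exact hSj m hm
  rw [lTensor_eq_zero_iff]
  intro m
  have : m ∈ K := hK ▸ Submodule.mem_top
  exact this

end Maps

section Exact

variable {R : Type u} [CommRing R] {M N : Type u} [AddCommGroup M] [Module R M]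
  [AddCommGroup N] [Module R N]

/-- surjectivity of `A' ⊗ φ` in terms of vanishing of `A' ⊗ (N → coker φ)` -/
theorem lTensor_surjective_iff (A' : Type u) [CommRing A'] [Algebra R A'] (φ : M →ₗ[R] N) :
    Function.Surjective (LinearMap.lTensor A' φ) ↔
      LinearMap.lTensor A' (LinearMap.range φ).mkQ = 0 := by
  have hex : Function.Exact φ (LinearMap.range φ).mkQ := by
    intro n
    rw [Submodule.mkQ_apply, Submodule.Quotient.mk_eq_zero]
    rfl
  have hex' := lTensor_exact A' hex (Submodule.mkQ_surjective _)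
  constructor
  · intro h
    apply LinearMap.ext
    intro y
    obtain ⟨x, rfl⟩ := h y
    rw [LinearMap.zero_apply]
    exact (hex' _).mpr ⟨x, rfl⟩
  · intro h y
    exact (hex' y).mp (by rw [h, LinearMap.zero_apply])

/-- injectivity of `A' ⊗ φ` for surjective `φ` in terms of vanishing of `A' ⊗ (ker φ → M)` -/
theorem lTensor_injective_iff (A' : Type u) [CommRing A'] [Algebra R A'] (φ : M →ₗ[R] N)
    (hφ : Function.Surjective φ) :
    Function.Injective (LinearMap.lTensor A' φ) ↔
      LinearMap.lTensor A' (LinearMap.ker φ).subtype = 0 := by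
  have hex : Function.Exact (LinearMap.ker φ).subtype φ := by
    intro m
    constructor
    · intro h
      exact ⟨⟨m, h⟩, rfl⟩
    · rintro ⟨x, rfl⟩
      exact x.2
  have hex' := lTensor_exact A' hex hφ
  constructor
  · intro h
    apply LinearMap.ext
    intro y
    rw [LinearMap.zero_apply]
    apply h
    rw [map_zero]
    exact (hex' _).mpr ⟨y, rfl⟩
  · intro h
    rw [← LinearMap.ker_eq_bot, LinearMap.ker_eq_bot']
    intro y hy
    obtain ⟨x, rfl⟩ := (hex' y).mp hy
    rw [h, LinearMap.zero_apply]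

end Exact

section Square

variable {R R' : Type u} [CommRing R] [CommRing R'] [Algebra R R'] {M N M' N' : Type u}
  [AddCommGroup M] [Module R M] [AddCommGroup N] [Module R N]
  [AddCommGroup M'] [Module R M'] [Module R' M'] [IsScalarTower R R' M']
  [AddCommGroup N'] [Module R N'] [Module R' N'] [IsScalarTower R R' N']
  {kM : M →ₗ[R] M'} {kN : N →ₗ[R] N'}

/-- a map between base changes compatible with `ψ` is the base change of `ψ` -/
theorem baseChange_square (hM : IsBaseChange R' kM) (hN : IsBaseChange R' kN) (ψ : M →ₗ[R] N)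
    (ψ' : M' →ₗ[R'] N') (hsq : ∀ m, ψ' (kM m) = kN (ψ m)) (x : R' ⊗[R] M) :
    ψ' (hM.equiv x) = hN.equiv (LinearMap.lTensor R' ψ x) := by
  induction x using TensorProduct.induction_on with
  | zero => simp
  | tmul r m =>
    rw [LinearMap.lTensor_tmul, IsBaseChange.equiv_tmul, IsBaseChange.equiv_tmul, map_smul, hsq]
  | add x y hx hy => rw [map_add, map_add, map_add, map_add, hx, hy]

end Square

end Groth.Agent.Lib.helper11.LimPresRing
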