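import Mathlib
import Groth.Agent.Lib.Helper8.PullbackUnit
import Groth.Agent.Lib.Helper11.LimPresRing

/-!
# Base change of a module along a directed colimit of rings (helper11)

For a directed system of rings `G a` over `R` with colimit `Ainf`, an `R`-module `N`, and base
changes `k a : N → P a` (to `G a`), `kinf : N → Pinf` (to `Ainf`) in the universal-property form
`IsBC`, with semilinear transition maps `τ`, `σ` compatible with the `k`'s:
* `exists_stage_of_sec`: every element of `Pinf` comes from some `P a`;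
* `exists_stage_zero`: an element of `P a` vanishing in `Pinf` vanishes in some `P b`.
-/

set_option autoImplicit false
set_option linter.style.haveILetI false
universe u
open TensorProduct

namespace Groth.Agent.Lib.helper11.HomDescBC

open Groth.Agent.Lib.helper8.PullbackUnit

/-- two semilinear maps out of a base change agreeing on the image of the base are equal -/
theorem IsBC.hom_ext' {R R' R'' : Type u} [CommRing R] [CommRing R'] [CommRing R'']
    {φ : R →+* R'} (ψ : R' →+* R'') {N P P' : Type u} [AddCommGroup N] [Module R N]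
    [AddCommGroup P] [Module R' P] [AddCommGroup P'] [Module R'' P'] {k : N →+ P}
    (hk : IsBC φ k) (f g : P →+ P') (hf : ∀ r p, f (r • p) = ψ r • f p)
    (hg : ∀ r p, g (r • p) = ψ r • g p) (hfg : ∀ n, f (k n) = g (k n)) : f = g := by
  letI : Module R' P' := Module.compHom P' ψ
  let fl : P →ₗ[R'] P' := { toFun := f, map_add' := map_add f, map_smul' := hf }
  let gl : P →ₗ[R'] P' := { toFun := g, map_add' := map_add g, map_smul' := hg }
  obtain ⟨w, -, hw⟩ := hk.existsUnique_lift P' (f.comp k) (by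
    intro r n
    show f (k (r • n)) = ψ (φ r) • f (k n)
    rw [hk.map_smul, hf])
  have h1 : fl = w := hw fl (fun n => rfl)
  have h2 : gl = w := hw gl (fun n => (hfg n).symm)
  ext x
  exact congr($(h1.trans h2.symm) x)

section Colim

variable {R : Type u} [CommRing R] {α : Type u} [Preorder α] [hdir : IsDirectedOrder α]
  [hne : Nonempty α]
  (G : α → Type u) [∀ a, CommRing (G a)] (φ : ∀ a, R →+* G a)
  (g : ∀ a b, a ≤ b → G a →+* G b) (hgφ : ∀ a b h, (g a b h).comp (φ a) = φ b)
  (Ainf : Type u) [CommRing Ainf] (φinf : R →+* Ainf) (ρ : ∀ a, G a →+* Ainf)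
  (hρφ : ∀ a, (ρ a).comp (φ a) = φinf)
  (hgid : ∀ a, g a a le_rfl = RingHom.id (G a))
  (hgcomp : ∀ a b c (hab : a ≤ b) (hbc : b ≤ c),
    (g b c hbc).comp (g a b hab) = g a c (hab.trans hbc))
  (hρg : ∀ a b (h : a ≤ b), (ρ b).comp (g a b h) = ρ a)
  (hAsurj : ∀ x : Ainf, ∃ a, ∃ y : G a, ρ a y = x)
  (hAinj : ∀ a (y : G a), ρ a y = 0 → ∃ b, ∃ h : a ≤ b, g a b h y = 0)
  {N : Type u} [AddCommGroup N] [Module R N]
  (P : α → Type u) [∀ a, AddCommGroup (P a)] [∀ a, Module (G a) (P a)] (k : ∀ a, N →+ P a)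
  (hk : ∀ a, IsBC (φ a) (k a))
  (Pinf : Type u) [AddCommGroup Pinf] [Module Ainf Pinf] (kinf : N →+ Pinf)
  (hkinf : IsBC φinf kinf)
  (τ : ∀ a b, a ≤ b → P a →+ P b)
  (hτs : ∀ a b h (r : G a) (x : P a), τ a b h (r • x) = g a b h r • τ a b h x)
  (hτk : ∀ a b h n, τ a b h (k a n) = k b n)
  (σ : ∀ a, P a →+ Pinf) (hσs : ∀ a (r : G a) (x : P a), σ a (r • x) = ρ a r • σ a x)
  (hσk : ∀ a n, σ a (k a n) = kinf n)

omit hdir hne in
include hρg hk hτs hτk hσs hσk in
theorem σ_τ (a b : α) (h : a ≤ b) (x : P a) : σ b (τ a b h x) = σ a x := by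
  have := IsBC.hom_ext' (ρ a) (hk a) ((σ b).comp (τ a b h)) (σ a)
    (fun r p => by
      show σ b (τ a b h (r • p)) = ρ a r • σ b (τ a b h p)
      rw [hτs, hσs, ← hρg a b h]
      rfl)
    (hσs a)
    (fun n => by
      show σ b (τ a b h (k a n)) = σ a (k a n)
      rw [hτk, hσk, hσk])
  exact congr($this x)

include hρg hAsurj hk hkinf hτs hτk hσs hσk in
/-- every element of `Pinf` comes from a stage -/
theorem exists_stage_of_sec (s : Pinf) : ∃ a, ∃ x : P a, σ a x = s := by
  letI : Algebra R Ainf := φinf.toAlgebra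
  letI : Module R Pinf := Module.compHom Pinf φinf
  haveI : IsScalarTower R Ainf Pinf := IsScalarTower.of_algebraMap_smul (fun r x => rfl)
  let kl : N →ₗ[R] Pinf :=
    { toFun := kinf, map_add' := map_add kinf, map_smul' := fun r n => hkinf.map_smul r n }
  have hbc : IsBaseChange Ainf kl := IsBC.isBaseChange kl hkinf
  have hστ := σ_τ G φ g Ainf ρ hρg P k hk Pinf kinf τ hτs hτk σ hσs hσk
  refine hbc.inductionOn s (fun s => ∃ a, ∃ x : P a, σ a x = s) ?_ ?_ ?_ ?_
  · exact ⟨hne.some, 0, map_zero _⟩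
  · intro n
    exact ⟨hne.some, k hne.some n, hσk _ n⟩
  · rintro r s ⟨a, x, rfl⟩
    obtain ⟨b, y, rfl⟩ := hAsurj r
    obtain ⟨c, hac, hbc'⟩ := exists_ge_ge a b
    refine ⟨c, g b c hbc' y • τ a c hac x, ?_⟩
    rw [hσs, hστ, ← hρg b c hbc']
    rfl
  · rintro s₁ s₂ ⟨a, x₁, rfl⟩ ⟨b, x₂, rfl⟩
    obtain ⟨c, hac, hbc'⟩ := exists_ge_ge a b
    exact ⟨c, τ a c hac x₁ + τ b c hbc' x₂, by rw [map_add, hστ, hστ]⟩

include hgφ hρφ hgid hgcomp hρg hAsurj hAinj hk hkinf hτs hτk hσs hσk in
/-- an element of a stage vanishing in `Pinf` vanishes at a later stage -/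
theorem exists_stage_zero (a : α) (x : P a) (hx : σ a x = 0) :
    ∃ b, ∃ h : a ≤ b, τ a b h x = 0 := by
  letI algG : ∀ a, Algebra R (G a) := fun a => (φ a).toAlgebra
  letI algA : Algebra R Ainf := φinf.toAlgebra
  letI algGA : ∀ a, Algebra (G a) Ainf := fun a => (ρ a).toAlgebra
  haveI : ∀ a, IsScalarTower R (G a) Ainf := fun a =>
    IsScalarTower.of_algebraMap_eq (fun r => (congr($(hρφ a) r)).symm)
  let gA : ∀ a b, a ≤ b → G a →ₐ[R] G b := fun a b h =>
    { toRingHom := g a b h
      commutes' := fun r => congr($(hgφ a b h) r) }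
  have hcolim : FlatCA.IsDirectedColimitRing G (fun a b h => (gA a b h).toRingHom) Ainf :=
    ⟨hdir, hne, hgid, hgcomp, hρg, hAsurj, hAinj⟩
  letI modP : ∀ a, Module R (P a) := fun a => Module.compHom (P a) (φ a)
  haveI : ∀ a, IsScalarTower R (G a) (P a) := fun a =>
    IsScalarTower.of_algebraMap_smul (fun r x => rfl)
  letI : Module R Pinf := Module.compHom Pinf φinf
  haveI : IsScalarTower R Ainf Pinf := IsScalarTower.of_algebraMap_smul (fun r x => rfl)
  let kl : ∀ a, N →ₗ[R] P a := fun a =>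
    { toFun := k a, map_add' := map_add (k a), map_smul' := fun r n => (hk a).map_smul r n }
  let klinf : N →ₗ[R] Pinf :=
    { toFun := kinf, map_add' := map_add kinf, map_smul' := fun r n => hkinf.map_smul r n }
  have hbc : ∀ a, IsBaseChange (G a) (kl a) := fun a => IsBC.isBaseChange (kl a) (hk a)
  have hbcinf : IsBaseChange Ainf klinf := IsBC.isBaseChange klinf hkinf
  -- compatibility of the equivalences with the transition maps
  have hτe : ∀ a b (h : a ≤ b) (w : G a ⊗[R] N),
      τ a b h ((hbc a).equiv w) = (hbc b).equiv (LinearMap.rTensor N (gA a b h).toLinearMap w) := by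
    intro a b h w
    induction w with
    | zero => rw [map_zero, map_zero, map_zero, map_zero]
    | tmul r n =>
      rw [LinearMap.rTensor_tmul, IsBaseChange.equiv_tmul, IsBaseChange.equiv_tmul, hτs]
      show g a b h r • τ a b h (k a n) = g a b h r • k b n
      rw [hτk]
    | add w₁ w₂ h₁ h₂ => rw [map_add, map_add, map_add, map_add, h₁, h₂]
  have hσe : ∀ a (w : G a ⊗[R] N),
      σ a ((hbc a).equiv w) =
        hbcinf.equiv (LinearMap.rTensor N (IsScalarTower.toAlgHom R (G a) Ainf).toLinearMap w) := by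
    intro a w
    induction w with
    | zero => rw [map_zero, map_zero, map_zero, map_zero]
    | tmul r n =>
      rw [LinearMap.rTensor_tmul, IsBaseChange.equiv_tmul, IsBaseChange.equiv_tmul, hσs]
      show ρ a r • σ a (k a n) = ρ a r • kinf n
      rw [hσk]
    | add w₁ w₂ h₁ h₂ => rw [map_add, map_add, map_add, map_add, h₁, h₂]
  set w := (hbc a).equiv.symm x with hw
  have hxw : x = (hbc a).equiv w := by rw [hw, LinearEquiv.apply_symm_apply]
  have h1 : LinearMap.rTensor N (IsScalarTower.toAlgHom R (G a) Ainf).toLinearMap w = 0 := by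
    apply hbcinf.equiv.injective
    rw [← hσe, ← hxw, hx, map_zero]
  obtain ⟨b, hab, hb⟩ := Groth.Agent.Lib.helper11.LimPresRing.rTensor_eq_zero_of_colim
    G gA Ainf hcolim N a w h1
  refine ⟨b, hab, ?_⟩
  rw [hxw, hτe, hb, map_zero]

end Colim

end Groth.Agent.Lib.helper11.HomDescBC
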