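import Mathlib
import Groth.Prelude.Def_FSch3

set_option autoImplicit false
universe u

open CategoryTheory AlgebraicGeometry Opposite

namespace Groth.Agent.Lib.helper11.FormalSpf

open Scheme.Modules

section Units

variable {X Y Z : Scheme.{u}} (f : X ⟶ Y) (g : Y ⟶ Z)

/-- The unit of the composite pullback--pushforward adjunction in terms of the units of the
factors. -/
theorem unit_pullbackComp (G : Z.Modules) :
    (pullbackPushforwardAdjunction g).unit.app G ≫
        (pushforward g).map ((pullbackPushforwardAdjunction f).unit.app ((pullback g).obj G)) ≫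
          (pushforwardComp f g).hom.app ((pullback f).obj ((pullback g).obj G)) =
      (pullbackPushforwardAdjunction (f ≫ g)).unit.app G ≫
        (pushforward (f ≫ g)).map ((pullbackComp f g).inv.app G) := by
  have h := unit_conjugateEquiv
    ((pullbackPushforwardAdjunction g).comp (pullbackPushforwardAdjunction f))
    (pullbackPushforwardAdjunction (f ≫ g)) (pullbackComp f g).inv G
  rw [conjugateEquiv_pullbackComp_inv] at h
  rw [← h, Adjunction.comp_unit_app]
  simp only [Functor.comp_obj, Category.assoc]

/-- The unit along equal morphisms. -/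
theorem unit_pullbackCongr {f₁ f₂ : X ⟶ Y} (hf : f₁ = f₂) (G : Y.Modules) :
    (pullbackPushforwardAdjunction f₁).unit.app G ≫
        (pushforward f₁).map ((pullbackCongr hf).hom.app G) ≫
          (pushforwardCongr hf).hom.app ((pullback f₂).obj G) =
      (pullbackPushforwardAdjunction f₂).unit.app G := by
  subst hf
  have h1 : (pullbackCongr (rfl : f₁ = f₁)).hom.app G = 𝟙 _ := rfl
  have h2 : (pushforwardCongr (rfl : f₁ = f₁)).hom.app ((pullback f₁).obj G) = 𝟙 _ := by
    ext U : 2
    rw [pushforwardCongr_hom_app_app]
    exact congrArg _ (((pullback f₁).obj G).presheaf.map_id _)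
  rw [h1, h2, CategoryTheory.Functor.map_id]
  erw [Category.id_comp]
  exact Category.comp_id _

end Units

end Groth.Agent.Lib.helper11.FormalSpf
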