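import Mathlib
import Groth.Agent.Lib.Helper11.FormalSpf1

/-!
# Push-pull modules `b_* b^* G₀` and their transition maps (helper11)

For `a : T' ⟶ T`, `b : T ⟶ S₀`, `c : T' ⟶ S₀` with `a ≫ b = c` and `G₀ : S₀.Modules`:
* `PP b G₀ := b_* b^* G₀`, `ppUnit b G₀ : G₀ ⟶ PP b G₀`;
* `ηcomp a b c h : b^* ⋙ a^* ≅ c^*`;
* `ppMap a b c h G₀ : PP b G₀ ⟶ PP c G₀`, with `ppUnit b ≫ ppMap = ppUnit c` (`ppUnit_ppMap`);
* `transp b x := unit ≫ b_* x` the adjoint transpose of `x : b^* F₀ ⟶ b^* G₀`; `conjPull a b c h x` the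
  pullback of `x` along `a` transported to `c^*`; `transp_conjPull : transp c (conjPull x) =
  transp b x ≫ ppMap`.
-/

set_option autoImplicit false
universe u
open CategoryTheory AlgebraicGeometry Opposite

namespace Groth.Agent.Lib.helper11.HomDescPP

open Scheme.Modules Groth.Agent.Lib.helper11.FormalSpf

variable {T' T S₀ : Scheme.{u}} (a : T' ⟶ T) (b : T ⟶ S₀) (c : T' ⟶ S₀) (h : a ≫ b = c)

/-- `b_* b^* G₀` -/
noncomputable abbrev PP (G₀ : S₀.Modules) : S₀.Modules :=
  (pushforward b).obj ((pullback b).obj G₀)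

/-- the unit `G₀ ⟶ b_* b^* G₀` -/
noncomputable abbrev ppUnit (G₀ : S₀.Modules) : G₀ ⟶ PP b G₀ :=
  (pullbackPushforwardAdjunction b).unit.app G₀

/-- `a^* ∘ b^* ≅ c^*` for `a ≫ b = c` -/
noncomputable def ηcomp : pullback b ⋙ pullback a ≅ pullback c :=
  pullbackComp a b ≪≫ pullbackCongr h

/-- the canonical morphism `b^* G₀ ⟶ a_* c^* G₀` -/
noncomputable def ppτ (G₀ : S₀.Modules) :
    (pullback b).obj G₀ ⟶ (pushforward a).obj ((pullback c).obj G₀) :=
  (pullbackPushforwardAdjunction a).unit.app ((pullback b).obj G₀) ≫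
    (pushforward a).map ((ηcomp a b c h).hom.app G₀)

/-- the transition map `b_* b^* G₀ ⟶ c_* c^* G₀` -/
noncomputable def ppMap (G₀ : S₀.Modules) : PP b G₀ ⟶ PP c G₀ :=
  (pushforward b).map (ppτ a b c h G₀) ≫
    (pushforwardComp a b).hom.app ((pullback c).obj G₀) ≫
      (pushforwardCongr h).hom.app ((pullback c).obj G₀)

theorem ppUnit_ppMap_aux (G₀ : S₀.Modules) :
    ppUnit b G₀ ≫ (pushforward b).map ((pullbackPushforwardAdjunction a).unit.app
        ((pullback b).obj G₀)) ≫
      (pushforwardComp a b).hom.app ((pullback a).obj ((pullback b).obj G₀)) ≫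
        (pushforwardCongr h).hom.app ((pullback a).obj ((pullback b).obj G₀)) =
      ppUnit c G₀ ≫ (pushforward c).map ((ηcomp a b c h).inv.app G₀) := by
  subst h
  have h1 := unit_pullbackComp a b G₀
  have h2 : (pushforwardCongr (rfl : a ≫ b = a ≫ b)).hom.app
      ((pullback a).obj ((pullback b).obj G₀)) = 𝟙 _ := by
    ext U : 2
    rw [pushforwardCongr_hom_app_app]
    exact congrArg _ (((pullback a).obj ((pullback b).obj G₀)).presheaf.map_id _)
  have h3 : (ηcomp a b (a ≫ b) rfl).inv.app G₀ = (pullbackComp a b).inv.app G₀ := by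
    simp [ηcomp, pullbackCongr]
  rw [h2, h3]
  erw [Category.comp_id]
  exact h1

theorem ppUnit_ppMap (G₀ : S₀.Modules) : ppUnit b G₀ ≫ ppMap a b c h G₀ = ppUnit c G₀ := by
  unfold ppMap ppτ
  have n1 := (pushforwardComp a b).hom.naturality ((ηcomp a b c h).hom.app G₀)
  have n2 := (pushforwardCongr h).hom.naturality ((ηcomp a b c h).hom.app G₀)
  simp only [Functor.comp_map, Functor.comp_obj] at n1 n2
  have aux := ppUnit_ppMap_aux a b c h G₀
  simp only [Functor.map_comp, Category.assoc]
  rw [reassoc_of% n1, n2, reassoc_of% aux, ← Functor.map_comp, Iso.inv_hom_id_app,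
    CategoryTheory.Functor.map_id, Category.comp_id]

variable {F₀ G₀ : S₀.Modules}

/-- adjoint transpose of `x : b^* F₀ ⟶ b^* G₀` -/
noncomputable def transp (x : (pullback b).obj F₀ ⟶ (pullback b).obj G₀) : F₀ ⟶ PP b G₀ :=
  ppUnit b F₀ ≫ (pushforward b).map x

theorem transp_eq_homEquiv (x : (pullback b).obj F₀ ⟶ (pullback b).obj G₀) :
    transp b x = (pullbackPushforwardAdjunction b).homEquiv F₀ _ x :=
  ((pullbackPushforwardAdjunction b).homEquiv_unit ..).symm

theorem transp_injective : Function.Injective (transp b (F₀ := F₀) (G₀ := G₀)) := by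
  intro x y hxy
  rw [transp_eq_homEquiv, transp_eq_homEquiv] at hxy
  exact ((pullbackPushforwardAdjunction b).homEquiv F₀ _).injective hxy

theorem transp_surjective : Function.Surjective (transp b (F₀ := F₀) (G₀ := G₀)) := by
  intro y
  refine ⟨((pullbackPushforwardAdjunction b).homEquiv F₀ _).symm y, ?_⟩
  rw [transp_eq_homEquiv, Equiv.apply_symm_apply]

/-- the pullback of `x : b^* F₀ ⟶ b^* G₀` along `a`, as a morphism `c^* F₀ ⟶ c^* G₀` -/
noncomputable def conjPull (x : (pullback b).obj F₀ ⟶ (pullback b).obj G₀) :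
    (pullback c).obj F₀ ⟶ (pullback c).obj G₀ :=
  (ηcomp a b c h).inv.app F₀ ≫ (pullback a).map x ≫ (ηcomp a b c h).hom.app G₀

theorem transp_conjPull (x : (pullback b).obj F₀ ⟶ (pullback b).obj G₀) :
    transp c (conjPull a b c h x) = transp b x ≫ ppMap a b c h G₀ := by
  unfold transp conjPull ppMap ppτ
  have nat := (pullbackPushforwardAdjunction a).unit.naturality x
  simp only [Functor.id_obj, Functor.id_map, Functor.comp_obj, Functor.comp_map] at nat
  have n1 := (pushforwardComp a b).hom.naturality ((pullback a).map x ≫ (ηcomp a b c h).hom.app G₀)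
  have n2 := (pushforwardCongr h).hom.naturality ((pullback a).map x ≫ (ηcomp a b c h).hom.app G₀)
  simp only [Functor.comp_map, Functor.comp_obj] at n1 n2
  have aux := ppUnit_ppMap_aux a b c h F₀
  have e1 : (pushforward b).map x ≫ (pushforward b).map
      ((pullbackPushforwardAdjunction a).unit.app ((pullback b).obj G₀) ≫
        (pushforward a).map ((ηcomp a b c h).hom.app G₀)) =
      (pushforward b).map ((pullbackPushforwardAdjunction a).unit.app ((pullback b).obj F₀)) ≫
        (pushforward b).map ((pushforward a).map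
          ((pullback a).map x ≫ (ηcomp a b c h).hom.app G₀)) := by
    rw [← Functor.map_comp, ← Category.assoc, nat, Category.assoc, ← Functor.map_comp,
      Functor.map_comp]
  simp only [Category.assoc]
  rw [reassoc_of% e1, reassoc_of% n1, n2, reassoc_of% aux, ← Functor.map_comp]

end Groth.Agent.Lib.helper11.HomDescPP
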