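import Mathlib
import Groth.Agent.Lib.Helper11.HomDescPP
import Groth.Agent.Lib.Helper8.PullbackUnit2
import Groth.Agent.Lib.Helper28.HomOfAffine
import Groth.Agent.Lib.Helper11.HomDescBC

/-!
# Sections of the push-pull modules `b_* b^* G₀` (helper11)

* `ppMap_app_smul`: the transition map `b_* b^* G₀ ⟶ c_* c^* G₀` is semilinear on sections with
  respect to `a.appLE`.
* `isBC_ppUnit_app`: over affine `U` with affine preimage, the unit `Γ(G₀, U) → Γ(b^* G₀, b⁻¹ U)`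
  is a base change along `Γ(S₀, U) → Γ(T, b⁻¹ U)`.
-/

set_option autoImplicit false
universe u
open CategoryTheory AlgebraicGeometry Opposite

namespace Groth.Agent.Lib.helper11.HomDescSec

open Scheme.Modules Groth.Agent.Lib.helper11.HomDescPP

section Basic

variable {T' T S₀ : Scheme.{u}} (a : T' ⟶ T) (b : T ⟶ S₀) (c : T' ⟶ S₀) (h : a ≫ b = c)
  (G₀ : S₀.Modules) (U : S₀.Opens)

include h in
theorem preimage_le : c ⁻¹ᵁ U ≤ a ⁻¹ᵁ (b ⁻¹ᵁ U) := by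
  subst h
  exact le_rfl

theorem pushforward_smul {X Y : Scheme.{u}} (f : X ⟶ Y) (M : X.Modules) (V : Y.Opens)
    (r : Γ(Y, V)) (p : Γ(M, f ⁻¹ᵁ V)) :
    (r • (show Γ((pushforward f).obj M, V) from p) : Γ((pushforward f).obj M, V)) =
      (show Γ((pushforward f).obj M, V) from (f.app V r) • p) := rfl

theorem ppMap_app_smul (r : Γ(T, b ⁻¹ᵁ U)) (s : Γ((pullback b).obj G₀, b ⁻¹ᵁ U)) :
    ((ppMap a b c h G₀).app U).hom (show Γ(PP b G₀, U) from r • s) =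
      (show Γ(PP c G₀, U) from
        ((a.appLE (b ⁻¹ᵁ U) (c ⁻¹ᵁ U) (preimage_le a b c h U)).hom r) •
          (show Γ((pullback c).obj G₀, c ⁻¹ᵁ U) from
            ((ppMap a b c h G₀).app U).hom (show Γ(PP b G₀, U) from s))) := by
  subst h
  have h1 : ∀ t : Γ((pullback b).obj G₀, b ⁻¹ᵁ U),
      ((ppMap a b (a ≫ b) rfl G₀).app U).hom (show Γ(PP b G₀, U) from t) =
        ((pullback (a ≫ b)).obj G₀).presheaf.map (eqToHom rfl).op
          (((ppτ a b (a ≫ b) rfl G₀).app (b ⁻¹ᵁ U)).hom t) := fun t => rfl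
  rw [h1, h1]
  have h2 : ((ppτ a b (a ≫ b) rfl G₀).app (b ⁻¹ᵁ U)).hom (r • s) =
      r • ((ppτ a b (a ≫ b) rfl G₀).app (b ⁻¹ᵁ U)).hom s :=
    Hom.app_smul (ppτ a b (a ≫ b) rfl G₀) r s
  rw [h2]
  have key : ∀ (x : Γ((pullback (a ≫ b)).obj G₀, (a ≫ b) ⁻¹ᵁ U)),
      ((pullback (a ≫ b)).obj G₀).presheaf.map (eqToHom (rfl : (a ≫ b) ⁻¹ᵁ U = (a ≫ b) ⁻¹ᵁ U)).op x = x := by
    intro x
    simp
    rfl
  have h4 : a.appLE (b ⁻¹ᵁ U) ((a ≫ b) ⁻¹ᵁ U) (preimage_le a b (a ≫ b) rfl U) = a.app (b ⁻¹ᵁ U) := by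
    rw [Scheme.Hom.app_eq_appLE]
    rfl
  rw [h4]
  set x : Γ((pullback (a ≫ b)).obj G₀, (a ≫ b) ⁻¹ᵁ U) :=
    ((ppτ a b (a ≫ b) rfl G₀).app (b ⁻¹ᵁ U)).hom s with hx
  have h5 : (r • ((ppτ a b (a ≫ b) rfl G₀).app (b ⁻¹ᵁ U)).hom s :
      Γ((pushforward a).obj ((pullback (a ≫ b)).obj G₀), b ⁻¹ᵁ U)) =
      (show Γ((pushforward a).obj ((pullback (a ≫ b)).obj G₀), b ⁻¹ᵁ U) from
        ((show Γ(T', (a ≫ b) ⁻¹ᵁ U) from (a.app (b ⁻¹ᵁ U)).hom r) • x :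
          Γ((pullback (a ≫ b)).obj G₀, (a ≫ b) ⁻¹ᵁ U))) := rfl
  rw [h5]
  exact (key _).trans (congrArg (fun z : Γ((pullback (a ≫ b)).obj G₀, (a ≫ b) ⁻¹ᵁ U) =>
    (show Γ(T', (a ≫ b) ⁻¹ᵁ U) from (a.app (b ⁻¹ᵁ U)).hom r) • z) (key x).symm)

end Basic

section BC

open Groth.Agent.Lib.helper8.PullbackUnit

variable {T S₀ : Scheme.{u}} (b : T ⟶ S₀) (G₀ : S₀.Modules) (U : S₀.Opens)

/-- the unit `G₀ ⟶ b_* b^* G₀` on sections over `U`, as an additive map into the sections of the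
pullback over `b ⁻¹ᵁ U` -/
noncomputable def unitSec : Γ(G₀, U) →+ Γ((pullback b).obj G₀, b ⁻¹ᵁ U) :=
  ((ppUnit b G₀).app U).hom

theorem unitSec_apply (x : Γ(G₀, U)) :
    unitSec b G₀ U x = ((ppUnit b G₀).app U).hom x := rfl

theorem ρ_le_refl : ρ b (le_refl (b ⁻¹ᵁ U)) G₀ = unitSec b G₀ U := by
  ext x
  rw [ρ_apply, unitSec_apply]
  have : (homOfLE (le_refl (b ⁻¹ᵁ U))).op = 𝟙 _ := rfl
  rw [this, CategoryTheory.Functor.map_id]
  rfl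

variable {U}

theorem isBC_unitSec [G₀.IsQuasicoherent] (hU : IsAffineOpen U) (hV : IsAffineOpen (b ⁻¹ᵁ U)) :
    IsBC (b.app U).hom (unitSec b G₀ U) := by
  have h := isBC_ρ b hU hV (le_refl (b ⁻¹ᵁ U)) G₀
  rw [ρ_le_refl] at h
  have h4 : b.appLE U (b ⁻¹ᵁ U) le_rfl = b.app U := by
    rw [Scheme.Hom.app_eq_appLE]
  rw [h4] at h
  exact h

end BC

section Sec

open Groth.Agent.Lib.helper8.PullbackUnit

variable {T' T S₀ : Scheme.{u}} (a : T' ⟶ T) (b : T ⟶ S₀) (c : T' ⟶ S₀) (h : a ≫ b = c)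
  (G₀ : S₀.Modules) (U : S₀.Opens)

/-- `ppMap` on sections over `U`, as an additive map between sections of the pullbacks -/
noncomputable def ppSec :
    Γ((pullback b).obj G₀, b ⁻¹ᵁ U) →+ Γ((pullback c).obj G₀, c ⁻¹ᵁ U) :=
  ((ppMap a b c h G₀).app U).hom

theorem ppSec_apply (s : Γ((pullback b).obj G₀, b ⁻¹ᵁ U)) :
    ppSec a b c h G₀ U s = ((ppMap a b c h G₀).app U).hom (show Γ(PP b G₀, U) from s) := rfl

theorem ppSec_smul (r : Γ(T, b ⁻¹ᵁ U)) (s : Γ((pullback b).obj G₀, b ⁻¹ᵁ U)) :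
    ppSec a b c h G₀ U (r • s) =
      (a.appLE (b ⁻¹ᵁ U) (c ⁻¹ᵁ U) (preimage_le a b c h U)).hom r • ppSec a b c h G₀ U s :=
  ppMap_app_smul a b c h G₀ U r s

theorem ppSec_unitSec (x : Γ(G₀, U)) :
    ppSec a b c h G₀ U (unitSec b G₀ U x) = unitSec c G₀ U x := by
  have := ppUnit_ppMap a b c h G₀
  exact congr((($this).app U).hom x)

include h in
theorem appLE_triangle (r : Γ(S₀, U)) :
    (a.appLE (b ⁻¹ᵁ U) (c ⁻¹ᵁ U) (preimage_le a b c h U)).hom ((b.app U).hom r) =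
      (c.app U).hom r := by
  subst h
  rw [Scheme.Hom.app_eq_appLE, ← CommRingCat.comp_apply, Scheme.Hom.appLE_comp_appLE,
    Scheme.Hom.app_eq_appLE]

/-- **cocycle identity** for the transition maps `ppMap` -/
theorem ppMap_comp {T'' : Scheme.{u}} (a' : T'' ⟶ T') (c' : T'' ⟶ S₀) (h' : a' ≫ c = c')
    [IsAffineHom b] [G₀.IsQuasicoherent] :
    ppMap a b c h G₀ ≫ ppMap a' c c' h' G₀ =
      ppMap (a' ≫ a) b c' (by rw [Category.assoc, h, h']) G₀ := by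
  have h'' : (a' ≫ a) ≫ b = c' := by rw [Category.assoc, h, h']
  apply Groth.Agent.Lib.helper28.HomOfAffine.hom_ext_of_affine
  intro V s
  have hV : IsAffineOpen (b ⁻¹ᵁ V.1) := V.2.preimage b
  have hbc := isBC_unitSec b G₀ V.2 hV
  have key := Groth.Agent.Lib.helper11.HomDescBC.IsBC.hom_ext'
    (((a' ≫ a).appLE (b ⁻¹ᵁ V.1) (c' ⁻¹ᵁ V.1) (preimage_le (a' ≫ a) b c' h'' V.1)).hom) hbc
    ((ppSec a' c c' h' G₀ V.1).comp (ppSec a b c h G₀ V.1)) (ppSec (a' ≫ a) b c' h'' G₀ V.1)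
    (fun r p => by
      show ppSec a' c c' h' G₀ V.1 (ppSec a b c h G₀ V.1 (r • p)) = _
      rw [ppSec_smul, ppSec_smul, ← CommRingCat.comp_apply, Scheme.Hom.appLE_comp_appLE]
      rfl)
    (fun r p => ppSec_smul (a' ≫ a) b c' h'' G₀ V.1 r p)
    (fun n => by
      show ppSec a' c c' h' G₀ V.1 (ppSec a b c h G₀ V.1 (unitSec b G₀ V.1 n)) = _
      rw [ppSec_unitSec, ppSec_unitSec, ppSec_unitSec])
  exact congr($key s)

end Sec

end Groth.Agent.Lib.helper11.HomDescSec
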