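import Mathlib
import Groth.Agent.Lib.Helper11.HomDescSec
import Groth.Agent.Lib.Helper11.HomDescGlue

/-!
# Descent of homomorphisms of modules along a directed limit of schemes (helper11)

Directed system of schemes `D : αᵒᵖ ⥤ Scheme` with affine transition maps, limit cone `c`, all over
a quasi-compact quasi-separated base `S₀` via affine morphisms `s a`.  For `F₀` quasi-coherent of
finite presentation and `G₀` quasi-coherent on `S₀`, every homomorphism between the pullbacks to the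
limit comes from a stage (`exists_stage_conjPull`).
-/

set_option autoImplicit false
universe u
open CategoryTheory CategoryTheory.Limits AlgebraicGeometry TopologicalSpace Opposite

namespace Groth.Agent.Lib.helper11.HomDescLim

open Scheme.Modules Groth.Agent.Lib.helper11.HomDescPP Groth.Agent.Lib.helper11.HomDescSec

/-- every section of the structure sheaf of the limit over the preimage of an affine open comes from
a stage -/
theorem exists_appLE_π_eq {I : Type u} [Category.{u} I] [IsCofiltered I] (D : I ⥤ Scheme.{u})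
    (c : Cone D) (hc : IsLimit c) [∀ {i j} (f : i ⟶ j), IsAffineHom (D.map f)] (i : I)
    (V : (D.obj i).Opens) (hV : IsAffineOpen V) (x₀ : Γ(c.pt, c.π.app i ⁻¹ᵁ V)) :
    ∃ (j : Over i) (y₀ : Γ(D.obj j.left, D.map j.hom ⁻¹ᵁ V)),
      ((c.π.app j.left).appLE (D.map j.hom ⁻¹ᵁ V) (c.π.app i ⁻¹ᵁ V)
        (by rw [← Scheme.Hom.comp_preimage, c.w])).hom y₀ = x₀ := by
  have (j : Over i) : IsAffine ((opensDiagram D i V).obj j) := hV.preimage (D.map _)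
  obtain ⟨j, t, hj⟩ := exists_appTop_π_eq_of_isAffine_of_isLimit _ _ (isLimitOpensCone D c hc i V)
    ((c.π.app i ⁻¹ᵁ V).topIso.inv x₀)
  refine ⟨j, (D.map j.hom ⁻¹ᵁ V).topIso.hom t, ?_⟩
  have h3 : ((opensCone D c i V).π.app j).appTop =
      (D.map j.hom ⁻¹ᵁ V).topIso.hom ≫ (c.π.app j.left).appLE (D.map j.hom ⁻¹ᵁ V) (c.π.app i ⁻¹ᵁ V)
        (by rw [← Scheme.Hom.comp_preimage, c.w]) ≫ (c.π.app i ⁻¹ᵁ V).topIso.inv := by
    exact Scheme.Hom.resLE_app_top _ _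
  have h4 : (c.π.app i ⁻¹ᵁ V).topIso.inv
      (((c.π.app j.left).appLE (D.map j.hom ⁻¹ᵁ V) (c.π.app i ⁻¹ᵁ V)
        (by rw [← Scheme.Hom.comp_preimage, c.w])).hom ((D.map j.hom ⁻¹ᵁ V).topIso.hom t)) =
      (c.π.app i ⁻¹ᵁ V).topIso.inv x₀ := by
    rw [← hj, h3]
    rfl
  have hinj : Function.Injective (c.π.app i ⁻¹ᵁ V).topIso.inv :=
    (ConcreteCategory.bijective_of_isIso (c.π.app i ⁻¹ᵁ V).topIso.inv).1
  exact hinj h4

theorem appLE_comp_of_eq {X Y Z : Scheme.{u}} (f : X ⟶ Y) (g : Y ⟶ Z) (k : X ⟶ Z)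
    (hk : f ≫ g = k) (U : Z.Opens) (V : Y.Opens) (W : X.Opens) (e₁ : V ≤ g ⁻¹ᵁ U)
    (e₂ : W ≤ f ⁻¹ᵁ V) (e₃ : W ≤ k ⁻¹ᵁ U) (r : Γ(Z, U)) :
    (f.appLE V W e₂).hom ((g.appLE U V e₁).hom r) = (k.appLE U W e₃).hom r := by
  subst hk
  rw [← CommRingCat.comp_apply, Scheme.Hom.appLE_comp_appLE]

theorem appLE_of_eq_id {X : Scheme.{u}} (f : X ⟶ X) (hf : f = 𝟙 X) (U : X.Opens)
    (e : U ≤ f ⁻¹ᵁ U) (r : Γ(X, U)) : (f.appLE U U e).hom r = r := by
  subst hf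
  have h1 : (𝟙 X : X ⟶ X).appLE U U e = X.presheaf.map (𝟙 (op U)) := by
    simp only [Scheme.Hom.appLE, Scheme.Hom.id_app]
    exact Category.id_comp _
  rw [h1, X.presheaf.map_id]
  rfl

theorem appLE_map_apply {X Y : Scheme.{u}} (f : X ⟶ Y) (U : Y.Opens) (V V' : X.Opens)
    (e : V ≤ f ⁻¹ᵁ U) (h : V' ≤ V) (r : Γ(Y, U)) :
    (X.presheaf.map (homOfLE h).op).hom ((f.appLE U V e).hom r) =
      (f.appLE U V' (h.trans e)).hom r := by
  have := Scheme.Hom.appLE_map f e (homOfLE h).op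
  exact congr(($this).hom r)

theorem map_appLE_apply {X Y : Scheme.{u}} (f : X ⟶ Y) (U U' : Y.Opens) (V : X.Opens)
    (e : V ≤ f ⁻¹ᵁ U) (h : U ≤ U') (r : Γ(Y, U')) :
    (f.appLE U V e).hom ((Y.presheaf.map (homOfLE h).op).hom r) =
      (f.appLE U' V (e.trans (f.preimage_mono h))).hom r := by
  have := Scheme.Hom.map_appLE f e (homOfLE h).op
  exact congr(($this).hom r)

theorem app_apply_eq {X Y : Scheme.{u}} (f : X ⟶ Y) (U : Y.Opens) (V : X.Opens)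
    (e : V ≤ f ⁻¹ᵁ U) (r : Γ(Y, U)) :
    (f.appLE U V e).hom r = (X.presheaf.map (homOfLE e).op).hom ((f.app U).hom r) := rfl

theorem presheaf_map_map {X : Scheme.{u}} {U V W : X.Opens} (h₁ : V ≤ U) (h₂ : W ≤ V)
    (r : Γ(X, U)) :
    (X.presheaf.map (homOfLE h₂).op).hom ((X.presheaf.map (homOfLE h₁).op).hom r) =
      (X.presheaf.map (homOfLE (h₂.trans h₁)).op).hom r := by
  rw [← CommRingCat.comp_apply, ← Functor.map_comp]
  rfl

theorem presheaf_map_self {X : Scheme.{u}} {U : X.Opens} (h : U ≤ U) (r : Γ(X, U)) :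
    (X.presheaf.map (homOfLE h).op).hom r = r := by
  have : (homOfLE h).op = 𝟙 (op U) := rfl
  rw [this, X.presheaf.map_id]
  rfl

theorem ppMap_congr {T' T S₀ : Scheme.{u}} {a a' : T' ⟶ T} (ha : a = a') (b : T ⟶ S₀)
    (c : T' ⟶ S₀) (h : a ≫ b = c) (h' : a' ≫ b = c) (G₀ : S₀.Modules) :
    ppMap a b c h G₀ = ppMap a' b c h' G₀ := by
  subst ha
  rfl

section Directed

variable {α : Type u} [Preorder α]
  (D : αᵒᵖ ⥤ Scheme.{u}) (c : Cone D)
  {S₀ : Scheme.{u}} (s : ∀ a, D.obj (op a) ⟶ S₀)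
  (hs : ∀ a b (h : a ≤ b), D.map (homOfLE h).op ≫ s a = s b)
  (π : c.pt ⟶ S₀) (hπ : ∀ a, c.π.app (op a) ≫ s a = π)

/-- the transition ring maps on sections over the preimages of `U` -/
noncomputable def gU (U : S₀.Opens) (a b : α) (h : a ≤ b) :
    Γ(D.obj (op a), s a ⁻¹ᵁ U) →+* Γ(D.obj (op b), s b ⁻¹ᵁ U) :=
  ((D.map (homOfLE h).op).appLE (s a ⁻¹ᵁ U) (s b ⁻¹ᵁ U) (preimage_le _ _ _ (hs a b h) U)).hom

/-- the ring maps to the sections of the limit -/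
noncomputable def ρU (U : S₀.Opens) (a : α) :
    Γ(D.obj (op a), s a ⁻¹ᵁ U) →+* Γ(c.pt, π ⁻¹ᵁ U) :=
  ((c.π.app (op a)).appLE (s a ⁻¹ᵁ U) (π ⁻¹ᵁ U) (preimage_le _ _ _ (hπ a) U)).hom

theorem gU_id (U : S₀.Opens) (a : α) : gU D s hs U a a le_rfl = RingHom.id _ := by
  ext r
  refine appLE_of_eq_id _ ?_ _ _ r
  have : (homOfLE (le_refl a)).op = 𝟙 (op a) := rfl
  rw [this, D.map_id]

theorem gU_comp (U : S₀.Opens) (a b d : α) (hab : a ≤ b) (hbd : b ≤ d) :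
    (gU D s hs U b d hbd).comp (gU D s hs U a b hab) = gU D s hs U a d (hab.trans hbd) := by
  have hcomp : D.map (homOfLE hbd).op ≫ D.map (homOfLE hab).op =
      D.map (homOfLE (hab.trans hbd)).op := by
    rw [← D.map_comp]
    exact congrArg D.map (Subsingleton.elim _ _)
  ext r
  exact appLE_comp_of_eq (D.map (homOfLE hbd).op) (D.map (homOfLE hab).op)
    (D.map (homOfLE (hab.trans hbd)).op) hcomp (s a ⁻¹ᵁ U) (s b ⁻¹ᵁ U) (s d ⁻¹ᵁ U)
    (preimage_le _ _ _ (hs a b hab) U) (preimage_le _ _ _ (hs b d hbd) U)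
    (preimage_le _ _ _ (hs a d (hab.trans hbd)) U) r

theorem ρU_gU (U : S₀.Opens) (a b : α) (h : a ≤ b) :
    (ρU D c s π hπ U b).comp (gU D s hs U a b h) = ρU D c s π hπ U a := by
  ext r
  exact appLE_comp_of_eq _ _ _ (c.w (homOfLE h).op) _ _ _ _ _ _ r

variable [IsDirectedOrder α] [Nonempty α] (hc : IsLimit c)
  [hD : ∀ {i j : αᵒᵖ} (f : i ⟶ j), IsAffineHom (D.map f)] [hsaff : ∀ a, IsAffineHom (s a)]

include hc hs in
theorem ρU_surj {U : S₀.Opens} (hU : IsAffineOpen U) (x : Γ(c.pt, π ⁻¹ᵁ U)) :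
    ∃ a, ∃ y : Γ(D.obj (op a), s a ⁻¹ᵁ U), ρU D c s π hπ U a y = x := by
  let a₀ : α := Classical.arbitrary α
  have hV : IsAffineOpen (s a₀ ⁻¹ᵁ U) := hU.preimage (s a₀)
  have e1 : c.π.app (op a₀) ⁻¹ᵁ (s a₀ ⁻¹ᵁ U) = π ⁻¹ᵁ U := by
    rw [← Scheme.Hom.comp_preimage, hπ a₀]
  obtain ⟨j, y₀, hy₀⟩ := exists_appLE_π_eq D c hc (op a₀) (s a₀ ⁻¹ᵁ U) hV
    ((c.pt.presheaf.map (homOfLE e1.le).op).hom x)
  have hab : a₀ ≤ j.left.unop := leOfHom j.hom.unop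
  have hjhom : j.hom = (homOfLE hab).op := Quiver.Hom.unop_inj (Subsingleton.elim _ _)
  have e2 : s j.left.unop ⁻¹ᵁ U ≤ D.map j.hom ⁻¹ᵁ (s a₀ ⁻¹ᵁ U) := by
    rw [← Scheme.Hom.comp_preimage, hjhom, hs a₀ _ hab]
  refine ⟨j.left.unop, ((D.obj j.left).presheaf.map (homOfLE e2).op).hom y₀, ?_⟩
  show ((c.π.app j.left).appLE (s j.left.unop ⁻¹ᵁ U) (π ⁻¹ᵁ U) (preimage_le _ _ _ (hπ _) U)).hom
    (((D.obj j.left).presheaf.map (homOfLE e2).op).hom y₀) = x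
  rw [map_appLE_apply]
  have h3 := congrArg (fun w => (c.pt.presheaf.map (homOfLE e1.ge).op).hom w) hy₀
  simp only [appLE_map_apply, presheaf_map_map, presheaf_map_self] at h3
  exact h3

include hc in
theorem ρU_inj {U : S₀.Opens} (hU : IsAffineOpen U) (a : α) (y : Γ(D.obj (op a), s a ⁻¹ᵁ U))
    (hy : ρU D c s π hπ U a y = 0) : ∃ b, ∃ h : a ≤ b, gU D s hs U a b h y = 0 := by
  have e1 : c.π.app (op a) ⁻¹ᵁ (s a ⁻¹ᵁ U) = π ⁻¹ᵁ U := by
    rw [← Scheme.Hom.comp_preimage, hπ a]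
  have hy' : ((c.π.app (op a)).appLE (s a ⁻¹ᵁ U) (π ⁻¹ᵁ U) (preimage_le _ _ _ (hπ a) U)).hom y = 0 :=
    hy
  have h2 : ((c.π.app (op a)).app (s a ⁻¹ᵁ U)).hom y = 0 := by
    have h3 := congrArg (fun w => (c.pt.presheaf.map (homOfLE e1.le).op).hom w) hy'
    simp only [appLE_map_apply, map_zero] at h3
    rw [Scheme.Hom.app_eq_appLE]
    exact h3
  obtain ⟨j, f, hf⟩ := exists_app_map_eq_zero_of_isLimit D c hc
    (hU.preimage (s a)).isCompact y h2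
  have hab : a ≤ j.unop := leOfHom f.unop
  have hf' : f = (homOfLE hab).op := Quiver.Hom.unop_inj (Subsingleton.elim _ _)
  subst hf'
  refine ⟨j.unop, hab, ?_⟩
  show ((D.map (homOfLE hab).op).appLE (s a ⁻¹ᵁ U) (s j.unop ⁻¹ᵁ U) _).hom y = 0
  rw [app_apply_eq]
  erw [hf]
  rw [map_zero]

variable (G₀ : S₀.Modules) [G₀.IsQuasicoherent]

/-- the transition maps of the directed system `PP (s a) G₀` -/
noncomputable def tQ (a b : α) (h : a ≤ b) : PP (s a) G₀ ⟶ PP (s b) G₀ :=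
  ppMap (D.map (homOfLE h).op) (s a) (s b) (hs a b h) G₀

/-- the maps to `PP π G₀` -/
noncomputable def pQ (a : α) : PP (s a) G₀ ⟶ PP π G₀ :=
  ppMap (c.π.app (op a)) (s a) π (hπ a) G₀

omit [IsDirectedOrder α] [Nonempty α] hD in
theorem tQ_comp (a b d : α) (hab : a ≤ b) (hbd : b ≤ d) :
    tQ D s hs G₀ a b hab ≫ tQ D s hs G₀ b d hbd = tQ D s hs G₀ a d (hab.trans hbd) := by
  have hcomp : D.map (homOfLE hbd).op ≫ D.map (homOfLE hab).op =
      D.map (homOfLE (hab.trans hbd)).op := by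
    rw [← D.map_comp]
    exact congrArg D.map (Subsingleton.elim _ _)
  unfold tQ
  rw [ppMap_comp]
  exact ppMap_congr hcomp _ _ _ _ _

omit [IsDirectedOrder α] [Nonempty α] hD in
theorem tQ_pQ (a b : α) (h : a ≤ b) :
    tQ D s hs G₀ a b h ≫ pQ D c s π hπ G₀ b = pQ D c s π hπ G₀ a := by
  unfold tQ pQ
  rw [ppMap_comp]
  exact ppMap_congr (c.w (homOfLE h).op) _ _ _ _ _

include hc hπ in
theorem isAffineHom_π : IsAffineHom π := by
  let a₀ : α := Classical.arbitrary α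
  haveI : IsAffineHom (c.π.app (op a₀)) := isAffineHom_π_app D c hc (op a₀)
  rw [← hπ a₀]
  infer_instance

include hc hs in
theorem pQ_surj {U : S₀.Opens} (hU : IsAffineOpen U) (x : Γ(PP π G₀, U)) :
    ∃ a, ∃ y : Γ(PP (s a) G₀, U), ((pQ D c s π hπ G₀ a).app U).hom y = x := by
  haveI := isAffineHom_π D c s π hπ hc
  exact Groth.Agent.Lib.helper11.HomDescBC.exists_stage_of_sec
    (fun a => Γ(D.obj (op a), s a ⁻¹ᵁ U)) (fun a => ((s a).app U).hom) (gU D s hs U)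
    Γ(c.pt, π ⁻¹ᵁ U) (π.app U).hom (ρU D c s π hπ U)
    (ρU_gU D c s hs π hπ U) (ρU_surj D c s hs π hπ hc hU)
    (fun a => Γ((Scheme.Modules.pullback (s a)).obj G₀, s a ⁻¹ᵁ U)) (fun a => unitSec (s a) G₀ U)
    (fun a => isBC_unitSec (s a) G₀ hU (hU.preimage (s a)))
    Γ((Scheme.Modules.pullback π).obj G₀, π ⁻¹ᵁ U) (unitSec π G₀ U) (isBC_unitSec π G₀ hU (hU.preimage π))
    (fun a b h => ppSec (D.map (homOfLE h).op) (s a) (s b) (hs a b h) G₀ U)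
    (fun a b h r x => ppSec_smul _ _ _ _ G₀ U r x)
    (fun a b h n => ppSec_unitSec _ _ _ _ G₀ U n)
    (fun a => ppSec (c.π.app (op a)) (s a) π (hπ a) G₀ U)
    (fun a r x => ppSec_smul _ _ _ _ G₀ U r x)
    (fun a n => ppSec_unitSec _ _ _ _ G₀ U n) x

include hc in
theorem pQ_inj {U : S₀.Opens} (hU : IsAffineOpen U) (a : α) (y : Γ(PP (s a) G₀, U))
    (hy : ((pQ D c s π hπ G₀ a).app U).hom y = 0) :
    ∃ b, ∃ h : a ≤ b, ((tQ D s hs G₀ a b h).app U).hom y = 0 := by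
  haveI := isAffineHom_π D c s π hπ hc
  exact Groth.Agent.Lib.helper11.HomDescBC.exists_stage_zero
    (fun a => Γ(D.obj (op a), s a ⁻¹ᵁ U)) (fun a => ((s a).app U).hom) (gU D s hs U)
    (fun a b h => RingHom.ext fun r => appLE_triangle _ _ _ (hs a b h) U r)
    Γ(c.pt, π ⁻¹ᵁ U) (π.app U).hom (ρU D c s π hπ U)
    (fun a => RingHom.ext fun r => appLE_triangle _ _ _ (hπ a) U r)
    (gU_id D s hs U) (gU_comp D s hs U)
    (ρU_gU D c s hs π hπ U) (ρU_surj D c s hs π hπ hc hU) (ρU_inj D c s hs π hπ hc hU)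
    (fun a => Γ((Scheme.Modules.pullback (s a)).obj G₀, s a ⁻¹ᵁ U)) (fun a => unitSec (s a) G₀ U)
    (fun a => isBC_unitSec (s a) G₀ hU (hU.preimage (s a)))
    Γ((Scheme.Modules.pullback π).obj G₀, π ⁻¹ᵁ U) (unitSec π G₀ U) (isBC_unitSec π G₀ hU (hU.preimage π))
    (fun a b h => ppSec (D.map (homOfLE h).op) (s a) (s b) (hs a b h) G₀ U)
    (fun a b h r x => ppSec_smul _ _ _ _ G₀ U r x)
    (fun a b h n => ppSec_unitSec _ _ _ _ G₀ U n)
    (fun a => ppSec (c.π.app (op a)) (s a) π (hπ a) G₀ U)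
    (fun a r x => ppSec_smul _ _ _ _ G₀ U r x)
    (fun a n => ppSec_unitSec _ _ _ _ G₀ U n) a y hy

variable [CompactSpace S₀] [QuasiSeparatedSpace S₀] (F₀ : S₀.Modules) [F₀.IsQuasicoherent]

include hc hs in
theorem exists_stage_hom
    (hfp : ∀ U : S₀.Opens, IsAffineOpen U → Module.FinitePresentation Γ(S₀, U) Γ(F₀, U))
    (y : F₀ ⟶ PP π G₀) : ∃ a, ∃ z : F₀ ⟶ PP (s a) G₀, z ≫ pQ D c s π hπ G₀ a = y :=
  Groth.Agent.Lib.helper11.HomDescGlue.exists_factor (fun a => PP (s a) G₀) (tQ D s hs G₀)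
    (tQ_comp D s hs G₀) (PP π G₀) (pQ D c s π hπ G₀) (tQ_pQ D c s hs π hπ G₀)
    (fun _ hU x => pQ_surj D c s hs π hπ hc G₀ hU x)
    (fun _ hU a y hy => pQ_inj D c s hs π hπ hc G₀ hU a y hy) F₀ hfp y

include hc hs in
/-- **Descent of homomorphisms** (existence part) for a directed limit over `S₀`. -/
theorem exists_stage_conjPull
    (hfp : ∀ U : S₀.Opens, IsAffineOpen U → Module.FinitePresentation Γ(S₀, U) Γ(F₀, U))
    (x : (Scheme.Modules.pullback π).obj F₀ ⟶ (Scheme.Modules.pullback π).obj G₀) :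
    ∃ a, ∃ xa : (Scheme.Modules.pullback (s a)).obj F₀ ⟶ (Scheme.Modules.pullback (s a)).obj G₀,
      conjPull (c.π.app (op a)) (s a) π (hπ a) xa = x := by
  obtain ⟨a, z, hz⟩ := exists_stage_hom D c s hs π hπ hc G₀ F₀ hfp (transp π x)
  obtain ⟨xa, rfl⟩ := transp_surjective (s a) z
  refine ⟨a, xa, transp_injective π ?_⟩
  rw [transp_conjPull]
  exact hz

end Directed

end Groth.Agent.Lib.helper11.HomDescLim
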