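import Mathlib
import Groth.Prelude.Def_CohB1
import Groth.Agent.Lib.Helper11.HomDescLim
import Groth.Agent.Lib.Helper16.CohFP

/-!
# Descent of homomorphisms of modules along a cofiltered limit of schemes (helper11)

`exists_hom_stage` (EGA IV 8.5.2 (i), surjectivity): `S = lim S_i` cofiltered with affine transition
maps, `S_{i₀}` quasi-compact quasi-separated, `F₀` quasi-coherent of finite presentation and `G₀`
quasi-coherent on `S_{i₀}`: every homomorphism between the pullbacks to `S` is induced by a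
homomorphism between the pullbacks to some `S_j`.
-/

set_option autoImplicit false
universe u
open CategoryTheory CategoryTheory.Limits AlgebraicGeometry TopologicalSpace Opposite

namespace Groth.Agent.Lib.helper11.HomDescMain

open Scheme.Modules Groth.Agent.Lib.helper11.HomDescPP Groth.Agent.Lib.helper11.HomDescLim

set_option maxHeartbeats 1600000 in
theorem exists_hom_stage {I : Type u} [SmallCategory I] [IsCofiltered I]
    (D : I ⥤ Scheme.{u}) (c : Cone D) (hc : IsLimit c)
    [hD : ∀ (i j : I) (f : i ⟶ j), IsAffineHom (D.map f)] (i₀ : I)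
    [CompactSpace (D.obj i₀)] [QuasiSeparatedSpace (D.obj i₀)]
    (F₀ G₀ : (D.obj i₀).Modules) [F₀.IsQuasicoherent] (hF₀ : CohB1.IsFP F₀) [G₀.IsQuasicoherent]
    (h : (Scheme.Modules.pullback (c.π.app i₀)).obj F₀ ⟶
      (Scheme.Modules.pullback (c.π.app i₀)).obj G₀) :
    ∃ (j : I) (φ : j ⟶ i₀) (hj : (Scheme.Modules.pullback (D.map φ)).obj F₀ ⟶
        (Scheme.Modules.pullback (D.map φ)).obj G₀),
      conjPull (c.π.app j) (D.map φ) (c.π.app i₀) (c.w φ) hj = h := by
  classical
  obtain ⟨α, _, hdir, hne, F, hF⟩ := IsFiltered.exists_directed (Over i₀)ᵒᵖ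
  haveI := hdir
  haveI := hne
  haveI := hF
  let Ψ : αᵒᵖ ⥤ I := F.leftOp ⋙ Over.forget i₀
  haveI : Ψ.Initial := inferInstance
  let D' : αᵒᵖ ⥤ Scheme.{u} := Ψ ⋙ D
  let c' : Cone D' := c.whisker Ψ
  have hc' : IsLimit c' := (Functor.Initial.isLimitWhiskerEquiv Ψ _).symm hc
  haveI hD' : ∀ {i j : αᵒᵖ} (f : i ⟶ j), IsAffineHom (D'.map f) := fun f => hD _ _ _
  let s : ∀ a : α, D'.obj (op a) ⟶ D.obj i₀ := fun a => D.map (F.obj a).unop.hom
  haveI : ∀ a, IsAffineHom (s a) := fun a => hD _ _ _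
  have hs : ∀ a b (hab : a ≤ b), D'.map (homOfLE hab).op ≫ s a = s b := fun a b hab => by
    show D.map ((F.map (homOfLE hab)).unop.left) ≫ D.map (F.obj a).unop.hom =
      D.map (F.obj b).unop.hom
    rw [← D.map_comp, Over.w]
  have hπ : ∀ a, c'.π.app (op a) ≫ s a = c.π.app i₀ := fun a => c.w _
  have hfp : ∀ U : (D.obj i₀).Opens, IsAffineOpen U →
      Module.FinitePresentation Γ(D.obj i₀, U) Γ(F₀, U) := fun U hU =>
    Groth.Agent.Lib.helper16.CohFP.fp_sections_of_isFinitePresentation F₀ hF₀ hU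
  obtain ⟨a, xa, hxa⟩ := exists_stage_conjPull D' c' s hs (c.π.app i₀) hπ hc' G₀ F₀ hfp h
  exact ⟨(F.obj a).unop.left, (F.obj a).unop.hom, xa, hxa⟩

end Groth.Agent.Lib.helper11.HomDescMain
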