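import Mathlib
import Groth.Agent.Lib.Helper16.CohFinite
import Groth.Agent.Lib.Helper16.CohFP
import Groth.Agent.Lib.Helper16.QCohEpi
import Groth.Agent.Lib.Helper7.KerSections
import Groth.Agent.Lib.Helper7.CohKer

/-!
# Kernel of an epimorphism from a finite type module onto a finitely presented module is of
finite type (helper11); factorisation through an epimorphism via its kernel
-/

set_option autoImplicit false
set_option linter.style.haveILetI false
universe u
open CategoryTheory CategoryTheory.Limits AlgebraicGeometry TopologicalSpace Opposite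

namespace Groth.Agent.Lib.helper11.KerFT

open Scheme.Modules

theorem isFT_kernel {X : Scheme.{u}}
    (G H : X.Modules) [G.IsQuasicoherent] [H.IsQuasicoherent] (hG : CohB1.IsFT G)
    (hH : CohB1.IsFP H) (p : G ⟶ H) [Epi p] :
    CohB1.IsFT (kernel p) := by
  haveI : (kernel p).IsQuasicoherent := Groth.Agent.Lib.helper7.CohKer.isQuasicoherent_kernel p
  have hch : ∀ x : X, ∃ (U : X.Opens), IsAffineOpen U ∧ x ∈ U := by
    intro x
    obtain ⟨_, ⟨U, hU : IsAffineOpen U, rfl⟩, hxU, -⟩ :=
      X.isBasis_affineOpens.exists_subset_of_mem_open (Set.mem_univ x) isOpen_univ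
    exact ⟨U, hU, hxU⟩
  choose U hU hxU using hch
  refine Groth.Agent.Lib.helper16.CohFinite.isFiniteType_of_finite_sections (kernel p) U hU ?_
    (fun x => ?_)
  · rw [eq_top_iff]
    intro x _
    exact Opens.mem_iSup.mpr ⟨x, hxU x⟩
  · haveI : Module.Finite Γ(X, U x) Γ(G, U x) :=
      Groth.Agent.Lib.helper16.CohFinite.finite_sections_of_isFiniteType G hG (hU x)
    haveI : Module.FinitePresentation Γ(X, U x) Γ(H, U x) :=
      Groth.Agent.Lib.helper16.CohFP.fp_sections_of_isFinitePresentation H hH (hU x)
    let pl : Γ(G, U x) →ₗ[Γ(X, U x)] Γ(H, U x) :=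
      { toFun := (p.app (U x)).hom
        map_add' := fun a b => map_add _ a b
        map_smul' := fun r m => Scheme.Modules.Hom.app_smul p r m }
    let il : Γ(kernel p, U x) →ₗ[Γ(X, U x)] Γ(G, U x) :=
      { toFun := ((kernel.ι p).app (U x)).hom
        map_add' := fun a b => map_add _ a b
        map_smul' := fun r m => Scheme.Modules.Hom.app_smul (kernel.ι p) r m }
    have hpl : Function.Surjective pl :=
      Groth.Agent.Lib.helper16.QCohEpi.surjective_app_of_epi p (hU x)
    have hfg : (LinearMap.ker pl).FG := Module.FinitePresentation.fg_ker pl hpl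
    have hι : Function.Injective il :=
      Groth.Agent.Lib.helper7.KerSections.kernel_ι_app_injective p (U x)
    have hr : LinearMap.range il = LinearMap.ker pl := by
      ext s
      have := Groth.Agent.Lib.helper7.KerSections.range_kernel_ι_app p (U x)
      exact Set.ext_iff.mp this s
    haveI : Module.Finite Γ(X, U x) (LinearMap.ker pl) := Module.Finite.iff_fg.mpr hfg
    exact Module.Finite.equiv
      ((LinearEquiv.ofInjective il hι).trans (LinearEquiv.ofEq _ _ hr)).symm

end Groth.Agent.Lib.helper11.KerFT
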