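import Groth.Agent.Lib.Helper11.LocKer

/-!
# Cokernels of maps from finite type to finitely presented modules (helper11)
-/

set_option autoImplicit false
universe u
open CategoryTheory CategoryTheory.Limits TopologicalSpace Opposite

namespace Groth.Agent.Lib.helper11.LocCoker

open Groth.Agent.Lib.helper11.OverGen Groth.Agent.Lib.helper11.LocGen
  Groth.Agent.Lib.helper11.LocPres Groth.Agent.Lib.helper11.LocGenExt
  Groth.Agent.Lib.helper11.LocKer

variable {T : TopCat.{u}} {R : Sheaf (Opens.grothendieckTopology T) RingCat.{u}}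

theorem resR_sub {U D : Opens T} (hD : D ≤ U) (r s : R.obj.obj (op U)) :
    resR hD (r - s) = resR hD r - resR hD s := map_sub (R.obj.map (homOfLE hD).op).hom r s

theorem π_φ {G F : SheafOfModules.{u} R} (φ : G ⟶ F) (D : Opens T) (w : G.val.obj (op D)) :
    ((cokernel.π φ).val.app (op D)).hom ((φ.val.app (op D)).hom w) = 0 :=
  congrArg (fun ψ => (ψ.val.app (op D)).hom w) (cokernel.condition φ)

/-- a section killed by `cokernel.π φ` is locally in the image of `φ` -/
theorem exists_local_preimage_of_π_eq_zero {G F : SheafOfModules.{u} R} (φ : G ⟶ F) (D : Opens T)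
    (z : F.val.obj (op D)) (hz : ((cokernel.π φ).val.app (op D)).hom z = 0) (x : T) (hx : x ∈ D) :
    ∃ (D' : Opens T) (hD' : D' ≤ D), x ∈ D' ∧ ∃ w : G.val.obj (op D'),
      (φ.val.app (op D')).hom w = resM F hD' z := by
  obtain ⟨zt, hzt⟩ := kerι_lift (cokernel.π φ) D z hz
  obtain ⟨D', hD', hxD', w, hw⟩ := exists_local_preimage (Abelian.factorThruImage φ) D zt x hx
  refine ⟨D', hD', hxD', w, ?_⟩
  have h1 : Abelian.factorThruImage φ ≫ kernel.ι (cokernel.π φ) = φ := Abelian.image.fac φ
  have h2 : (φ.val.app (op D')).hom w = ((kernel.ι (cokernel.π φ)).val.app (op D')).hom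
      (((Abelian.factorThruImage φ).val.app (op D')).hom w) :=
    congrArg (fun ψ => (ψ.val.app (op D')).hom w) h1.symm
  rw [h2, hw, app_resM, hzt]

/-- the cokernel of a map from a finite type module to a finitely presented module is finitely
presented -/
theorem isFinitePresentation_cokernel {G F : SheafOfModules.{u} R} (φ : G ⟶ F)
    [SheafOfModules.IsFiniteType (R := R) G] [SheafOfModules.IsFinitePresentation (R := R) F] :
    SheafOfModules.IsFinitePresentation (R := R) (cokernel φ) := by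
  classical
  apply isFinitePresentation_of_locPres
  intro x
  obtain ⟨U_F, hxF, I, K, hI, hK, f₀, a₀, hf₀, ha₀⟩ := exists_locPres_of_isFinitePresentation F x
  obtain ⟨U_G, hxG, J, hJ, g₀, hg₀⟩ := exists_locSpan_of_isFiniteType G x
  haveI := Fintype.ofFinite J
  -- express the images of the generators of `G`
  obtain ⟨V, hVW, hxV, hV⟩ := exists_common_nhd x (U_F ⊓ U_G) ⟨hxF, hxG⟩
    (fun (j : J) (V : Opens T) => ∃ (hG : V ≤ U_G) (hF : V ≤ U_F) (b : I → R.obj.obj (op V)),
      (φ.val.app (op V)).hom (resM G hG (g₀ j)) = ∑ i, b i • resM F hF (f₀ i))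
    (fun j => by
      obtain ⟨D', hD', hxD', hy⟩ := hf₀ (U_F ⊓ U_G) inf_le_left
        ((φ.val.app (op (U_F ⊓ U_G))).hom (resM G inf_le_right (g₀ j))) x ⟨hxF, hxG⟩
      obtain ⟨b, hb⟩ := (Submodule.mem_span_range_iff_exists_fun _).mp hy
      refine ⟨D', hD', hxD', hD'.trans inf_le_right, hD'.trans inf_le_left, b, ?_⟩
      rw [hb, ← app_resM, resM_resM])
    (fun j V V' hV' hP => by
      obtain ⟨hG, hF, b, hb⟩ := hP
      refine ⟨hV'.trans hG, hV'.trans hF, fun i => resR hV' (b i), ?_⟩
      have := congrArg (resM F hV') hb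
      rw [← app_resM, resM_resM, resM_sum_smul] at this
      rw [this]
      refine Finset.sum_congr rfl (fun i _ => ?_)
      rw [resM_resM])
  choose hVG hVF b hb using hV
  have hVG : V ≤ U_G := hVW.trans inf_le_right
  have hVF : V ≤ U_F := hVW.trans inf_le_left
  let q := cokernel.π φ
  let g : J → G.val.obj (op V) := fun j => resM G hVG (g₀ j)
  let f : I → F.val.obj (op V) := fun i => resM F hVF (f₀ i)
  let a : K → I → R.obj.obj (op V) := fun k i => resR hVF (a₀ k i)
  have hg : LocSpan G V g := LocSpan.mono hVG (m := g₀) hg₀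
  have hf : LocSpan F V f := LocSpan.mono hVF (m := f₀) hf₀
  have ha : LocSyz F V f a := LocSyz.mono hVF (m := f₀) (a := a₀) ha₀
  have hφg : ∀ j, (φ.val.app (op V)).hom (g j) = ∑ i, b j i • f i := fun j => hb j
  refine ⟨V, hxV, I, K ⊕ J, inferInstance, inferInstance,
    fun i => (q.val.app (op V)).hom (f i), Sum.elim a b, ?_, ⟨?_, ?_⟩⟩
  · -- generation
    intro D hD y x' hx'
    obtain ⟨D₁, hD₁, hx'D₁, z, hz⟩ := exists_local_preimage q D y x' hx'
    obtain ⟨D₂, hD₂, hx'D₂, hz2⟩ := hf D₁ (hD₁.trans hD) z x' hx'D₁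
    refine ⟨D₂, hD₂.trans hD₁, hx'D₂, ?_⟩
    have h1 := map_mem_span q _ hz2
    rw [app_resM, hz, resM_resM] at h1
    refine Submodule.span_mono ?_ h1
    rintro _ ⟨i, rfl⟩
    exact ⟨i, (app_resM q _ (f i)).symm⟩
  · -- the relations hold
    rintro (k | j)
    · change ∑ i, a k i • (q.val.app (op V)).hom (f i) = 0
      rw [← app_sum_smul, ha.1 k, map_zero]
    · change ∑ i, b j i • (q.val.app (op V)).hom (f i) = 0
      rw [← app_sum_smul, ← hφg j]
      exact π_φ φ V (g j)
  · -- the relations generate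
    intro D hD c hc x' hx'
    have hc' : (q.val.app (op D)).hom (∑ i, c i • resM F hD (f i)) = 0 := by
      rw [app_sum_smul]
      refine Eq.trans ?_ hc
      refine Finset.sum_congr rfl (fun i _ => ?_)
      rw [app_resM]
    obtain ⟨D₁, hD₁, hx'D₁, w, hw⟩ := exists_local_preimage_of_π_eq_zero φ D _ hc' x' hx'
    obtain ⟨D₂, hD₂, hx'D₂, hw2⟩ := hg D₁ (hD₁.trans hD) w x' hx'D₁
    obtain ⟨d, hd⟩ := (Submodule.mem_span_range_iff_exists_fun _).mp hw2
    have hV₂ : D₂ ≤ V := (hD₂.trans hD₁).trans hD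
    have hsyz : ∑ i, (resR (hD₂.trans hD₁) (c i) - ∑ j, d j * resR hV₂ (b j i)) •
        resM F hV₂ (f i) = 0 := by
      have h1 : (φ.val.app (op D₂)).hom (∑ j, d j • resM G hV₂ (g j)) =
          resM F (hD₂.trans hD₁) (∑ i, c i • resM F hD (f i)) := by
        rw [hd, app_resM, hw, resM_resM]
      rw [app_sum_smul, resM_sum_smul] at h1
      simp only [sub_smul, Finset.sum_sub_distrib, Finset.sum_smul]
      rw [sub_eq_zero]
      refine Eq.trans ?_ (Eq.trans h1.symm ?_)
      · refine Finset.sum_congr rfl (fun i _ => ?_)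
        rw [resM_resM hD]
      · simp only [app_resM, hφg, resM_sum_smul, Finset.smul_sum, smul_smul]
        exact Finset.sum_comm
    obtain ⟨D₃, hD₃, hx'D₃, e, he⟩ := ha.2 D₂ hV₂ _ hsyz x' hx'D₂
    refine ⟨D₃, hD₃.trans (hD₂.trans hD₁), hx'D₃, Sum.elim e (fun j => resR hD₃ (d j)), fun i => ?_⟩
    rw [Fintype.sum_sum_type]
    simp only [Sum.elim_inl, Sum.elim_inr]
    have h2 := he i
    rw [resR_sub, resR_resR, resR_sum] at h2
    simp only [resR_mul, resR_resR] at h2
    rw [← h2, sub_add_cancel]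

end Groth.Agent.Lib.helper11.LocCoker
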