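import Groth.Agent.Lib.Helper11.FPQuot3
import Groth.Agent.Lib.Helper11.HomDescMain
import Groth.Agent.Lib.Helper11.KerFT
import Groth.Agent.Lib.Helper11.LocCoker
import Groth.Agent.Lib.Helper16.QCohPullback2

/-!
# Descent of finitely presented modules and quotients along a limit of schemes (helper11)

* `exists_quot_stage` (EGA IV 8.5.2 (ii), quotient form): every finitely presented quotient of the
  pullback of a finitely presented module `F₀` on a qcqs stage comes from a finitely presented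
  quotient at some stage.
* `exists_fp_stage` (EGA IV 8.5.2 (ii)): every finitely presented module on the limit comes from some
  stage.
-/

set_option autoImplicit false
set_option linter.style.haveILetI false
universe u
open CategoryTheory CategoryTheory.Limits AlgebraicGeometry TopologicalSpace Opposite

namespace Groth.Agent.Lib.helper11.FPDesc

open Scheme.Modules Groth.Agent.Lib.helper11.HomDescPP Groth.Agent.Lib.helper11.FPExt

section Abelian

variable {A : Type*} [Category A] [Abelian A]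

/-- if `p₁` is an epimorphism onto the kernel of an epimorphism `p`, then `p` is the cokernel of
`p₁ ≫ kernel.ι p` -/
noncomputable def cokernelIsoOfEpiKernel {X Y Z : A} (p : Y ⟶ Z) [Epi p] (p₁ : X ⟶ kernel p)
    [Epi p₁] : cokernel (p₁ ≫ kernel.ι p) ≅ Z :=
  cokernelEpiComp p₁ (kernel.ι p) ≪≫
    IsColimit.coconePointUniqueUpToIso (colimit.isColimit _)
      (Abelian.epiIsCokernelOfKernel (KernelFork.ofι (kernel.ι p) (kernel.condition p))
        (kernelIsKernel p))

theorem π_cokernelIsoOfEpiKernel_hom {X Y Z : A} (p : Y ⟶ Z) [Epi p] (p₁ : X ⟶ kernel p)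
    [Epi p₁] : cokernel.π (p₁ ≫ kernel.ι p) ≫ (cokernelIsoOfEpiKernel p p₁).hom = p := by
  unfold cokernelIsoOfEpiKernel
  rw [Iso.trans_hom, ← Category.assoc]
  have h1 : cokernel.π (p₁ ≫ kernel.ι p) ≫ (cokernelEpiComp p₁ (kernel.ι p)).hom =
      cokernel.π (kernel.ι p) := by
    simp [cokernelEpiComp]
  rw [h1]
  exact IsColimit.comp_coconePointUniqueUpToIso_hom (colimit.isColimit _)
    (Abelian.epiIsCokernelOfKernel (KernelFork.ofι (kernel.ι p) (kernel.condition p))
      (kernelIsKernel p)) WalkingParallelPair.one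

end Abelian

variable {I : Type u} [SmallCategory I] [IsCofiltered I]
  (D : I ⥤ Scheme.{u}) (c : Cone D) (hc : IsLimit c)
  [hD : ∀ (i j : I) (f : i ⟶ j), IsAffineHom (D.map f)] (i₀ : I)
  [CompactSpace (D.obj i₀)] [QuasiSeparatedSpace (D.obj i₀)]

include hc in
theorem exists_quot_stage (F₀ : (D.obj i₀).Modules) [F₀.IsQuasicoherent] (hF₀ : CohB1.IsFP F₀)
    {G : c.pt.Modules} [G.IsQuasicoherent] (hG : CohB1.IsFP G)
    (p : (Scheme.Modules.pullback (c.π.app i₀)).obj F₀ ⟶ G) [Epi p] :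
    ∃ (j : I) (φ : j ⟶ i₀) (Gj : (D.obj j).Modules) (_ : Gj.IsQuasicoherent)
      (pj : (Scheme.Modules.pullback (D.map φ)).obj F₀ ⟶ Gj)
      (e : (Scheme.Modules.pullback (c.π.app j)).obj Gj ≅ G),
      CohB1.IsFP Gj ∧ Epi pj ∧
        ((ηcomp (c.π.app j) (D.map φ) (c.π.app i₀) (c.w φ)).app F₀).inv ≫
          (Scheme.Modules.pullback (c.π.app j)).map pj ≫ e.hom = p := by
  haveI : IsAffineHom (c.π.app i₀) := isAffineHom_π_app D c hc i₀
  let π := c.π.app i₀
  haveI hq0 : ((Scheme.Modules.pullback π).obj F₀).IsQuasicoherent :=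
    Groth.Agent.Lib.helper16.QCohPullback.isQuasicoherent_pullback π F₀
  have hft0 : CohB1.IsFT ((Scheme.Modules.pullback π).obj F₀) := by
    haveI : SheafOfModules.IsFinitePresentation (R := (D.obj i₀).ringCatSheaf) F₀ := hF₀
    exact Groth.Agent.Lib.helper16.QCohPullback2.isFiniteType_pullback π F₀ inferInstance
  have hker : CohB1.IsFT (kernel p) :=
    Groth.Agent.Lib.helper11.KerFT.isFT_kernel _ _ hft0 hG p
  haveI : (kernel p).IsQuasicoherent := Groth.Agent.Lib.helper7.CohKer.isQuasicoherent_kernel p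
  obtain ⟨H₁, p₁, hq₁, hfp₁, hepi₁⟩ := exists_fp_pullback_epi π (kernel p) hker
  haveI := hq₁
  haveI := hepi₁
  let ψ : (Scheme.Modules.pullback π).obj H₁ ⟶ (Scheme.Modules.pullback π).obj F₀ :=
    p₁ ≫ kernel.ι p
  obtain ⟨j, φ, ψj, hψj⟩ :=
    Groth.Agent.Lib.helper11.HomDescMain.exists_hom_stage D c hc i₀ H₁ F₀ hfp₁ ψ
  let a := c.π.app j
  let b := D.map φ
  let η := ηcomp a b π (c.w φ)
  -- the stage module
  haveI hqa : ((Scheme.Modules.pullback b).obj H₁).IsQuasicoherent :=
    Groth.Agent.Lib.helper16.QCohPullback.isQuasicoherent_pullback b H₁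
  haveI hqb : ((Scheme.Modules.pullback b).obj F₀).IsQuasicoherent :=
    Groth.Agent.Lib.helper16.QCohPullback.isQuasicoherent_pullback b F₀
  haveI hGjq : (cokernel ψj).IsQuasicoherent :=
    Groth.Agent.Lib.helper7.CohKer.isQuasicoherent_cokernel ψj
  have hGjfp : CohB1.IsFP (cokernel ψj) := by
    haveI : SheafOfModules.IsFinitePresentation (R := (D.obj j).ringCatSheaf)
        ((Scheme.Modules.pullback b).obj H₁) :=
      Groth.Agent.Lib.helper16.QCohPullback2.isFinitePresentation_pullback b H₁ hfp₁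
    haveI : SheafOfModules.IsFinitePresentation (R := (D.obj j).ringCatSheaf)
        ((Scheme.Modules.pullback b).obj F₀) :=
      Groth.Agent.Lib.helper16.QCohPullback2.isFinitePresentation_pullback b F₀ hF₀
    haveI : SheafOfModules.IsFiniteType (R := (D.obj j).ringCatSheaf)
        ((Scheme.Modules.pullback b).obj H₁) := inferInstance
    exact Groth.Agent.Lib.helper11.LocCoker.isFinitePresentation_cokernel ψj
  -- the comparison isomorphism
  have hsq : (Scheme.Modules.pullback a).map ψj ≫ η.hom.app F₀ = η.hom.app H₁ ≫ ψ := by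
    rw [← hψj]
    unfold conjPull
    exact (Iso.hom_inv_id_app_assoc η H₁ _).symm
  let e1 : (Scheme.Modules.pullback a).obj (cokernel ψj) ≅
      cokernel ((Scheme.Modules.pullback a).map ψj) :=
    PreservesCokernel.iso (Scheme.Modules.pullback a) ψj
  let e2 : cokernel ((Scheme.Modules.pullback a).map ψj) ≅ cokernel ψ :=
    cokernel.mapIso _ _ (η.app H₁) (η.app F₀) hsq
  let e3 : cokernel ψ ≅ G := cokernelIsoOfEpiKernel p p₁
  refine ⟨j, φ, cokernel ψj, hGjq, cokernel.π ψj, e1 ≪≫ e2 ≪≫ e3, hGjfp, inferInstance, ?_⟩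
  have h1 : (Scheme.Modules.pullback a).map (cokernel.π ψj) ≫ e1.hom =
      cokernel.π ((Scheme.Modules.pullback a).map ψj) :=
    PreservesCokernel.π_iso_hom (Scheme.Modules.pullback a) ψj
  have h2 : cokernel.π ((Scheme.Modules.pullback a).map ψj) ≫ e2.hom =
      η.hom.app F₀ ≫ cokernel.π ψ := by
    simp [e2, cokernel.mapIso]
  have h3 : cokernel.π ψ ≫ e3.hom = p := π_cokernelIsoOfEpiKernel_hom p p₁
  simp only [Iso.trans_hom, Iso.app_inv]
  rw [reassoc_of% h1, reassoc_of% h2, h3]
  exact Iso.inv_hom_id_app_assoc η F₀ p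

include hc in
theorem exists_fp_stage (F : c.pt.Modules) [F.IsQuasicoherent] (hF : CohB1.IsFP F) :
    ∃ (i : I) (_ : i ⟶ i₀) (Fi : (D.obj i).Modules), Fi.IsQuasicoherent ∧ CohB1.IsFP Fi ∧
      Nonempty ((Scheme.Modules.pullback (c.π.app i)).obj Fi ≅ F) := by
  haveI : IsAffineHom (c.π.app i₀) := isAffineHom_π_app D c hc i₀
  have hFt : CohB1.IsFT F := by
    haveI : SheafOfModules.IsFinitePresentation (R := c.pt.ringCatSheaf) F := hF
    exact (inferInstance : SheafOfModules.IsFiniteType (R := c.pt.ringCatSheaf) F)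
  obtain ⟨H₀, p₀, hq₀, hfp₀, hepi₀⟩ := exists_fp_pullback_epi (c.π.app i₀) F hFt
  haveI := hq₀
  haveI := hepi₀
  obtain ⟨j, φ, Gj, hGjq, pj, e, hGjfp, -, -⟩ := exists_quot_stage D c hc i₀ H₀ hfp₀ hF p₀
  exact ⟨j, φ, Gj, hGjq, hGjfp, ⟨e⟩⟩

end Groth.Agent.Lib.helper11.FPDesc
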