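import Groth.Agent.Lib.Helper11.ConsMod2
import Groth.Agent.S3403

/-!
# Loci of constructible relations with a module are locally constructible (EGA IV 9.2.3, 9.2.4, 9.3.3)
(helper11)

Module analogue of helper5's `ConsApprox4/5`.
-/

set_option autoImplicit false
set_option backward.isDefEq.respectTransparency false
set_option linter.style.haveILetI false
universe u
open CategoryTheory CategoryTheory.Limits AlgebraicGeometry Topology TopologicalSpace

namespace Groth.Agent.Lib.helper11.ConsMod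

open Groth.Agent.Lib.helper5.ConsFibre Groth.Agent.Lib.helper5.ConsApprox
  Groth.Agent.Lib.helper5.FGLimit

attribute [local instance] ULift.algebra'

theorem isCoh_of_isFP {X : Scheme.{u}} (F : X.Modules) (hF : CohB1.IsFP F) : Coh.IsCoh F := by
  haveI : SheafOfModules.IsFinitePresentation (R := X.ringCatSheaf) F := hF
  exact ⟨inferInstance, inferInstance⟩

theorem exists_noetherian_mod_model {T X : Scheme.{u}} [IsAffine T] (u : X ⟶ T)
    [LocallyOfFinitePresentation u] [QuasiCompact u] [QuasiSeparated u]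
    (F : X.Modules) [F.IsQuasicoherent] (hF : CohB1.IsFP F) :
    ∃ (S₀ X₀ : Scheme.{u}) (_ : IsNoetherian S₀) (h : T ⟶ S₀) (u₀ : X₀ ⟶ S₀) (e : X ⟶ X₀)
      (F₀ : X₀.Modules),
      LocallyOfFiniteType u₀ ∧ QuasiCompact u₀ ∧ IsPullback e u u₀ h ∧ Coh.IsCoh F₀ ∧
      Nonempty (F ≅ (Scheme.Modules.pullback e).obj F₀) := by
  let K : Type u := Γ(T, ⊤)
  let ε : T ≅ Spec (CommRingCat.of K) := T.isoSpec
  let u' : X ⟶ (specCone (ULift.{u} ℤ) K).pt := u ≫ ε.hom
  haveI : LocallyOfFinitePresentation u' :=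
    inferInstanceAs (LocallyOfFinitePresentation (u ≫ ε.hom))
  haveI : QuasiCompact u' := inferInstanceAs (QuasiCompact (u ≫ ε.hom))
  haveI : QuasiSeparated u' := inferInstanceAs (QuasiSeparated (u ≫ ε.hom))
  obtain ⟨k, Xk, uk, e, Fk, h1, h2, -, sq, hq, hfp, hiso⟩ :=
    exists_mod_model (specDiagram (ULift.{u} ℤ) K) (specCone (ULift.{u} ℤ) K)
      (isLimitSpecCone (ULift.{u} ℤ) K) u' F hF
  haveI := h1
  refine ⟨_, Xk, isNoetherian_specDiagram_obj K k,
    ε.hom ≫ (specCone (ULift.{u} ℤ) K).π.app k, uk, e, Fk, inferInstance, h2, ?_,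
    isCoh_of_isFP Fk hfp, hiso⟩
  have := (IsPullback.of_horiz_isIso (fst := 𝟙 X) (snd := u) (f := u') (g := ε.hom)
    ⟨by simp [u']⟩).paste_horiz sq
  rwa [Category.id_comp] at this

variable {P : ∀ ⦃Y T : Scheme.{u}⦄, (Y ⟶ T) → Y.Modules → Prop}

theorem exists_mod_affine_model (hP : ConsProp.IsFieldStableMod P)
    {X S : Scheme.{u}} (u : X ⟶ S)
    [LocallyOfFinitePresentation u] [QuasiCompact u] [QuasiSeparated u]
    (F : X.Modules) [F.IsQuasicoherent] (hF : CohB1.IsFP F)
    (U : S.Opens) (hU : IsAffineOpen U) :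
    ∃ (S₀ X₀ : Scheme.{u}) (_ : IsNoetherian S₀) (h : (U : Scheme.{u}) ⟶ S₀) (u₀ : X₀ ⟶ S₀)
      (F₀ : X₀.Modules),
      LocallyOfFiniteType u₀ ∧ QuasiCompact u₀ ∧ Coh.IsCoh F₀ ∧
      U.ι ⁻¹' ConsProp.locusMod P u F = h ⁻¹' ConsProp.locusMod P u₀ F₀ := by
  haveI : IsAffine (U : Scheme.{u}) := hU
  have sq := IsPullback.of_hasPullback u U.ι
  haveI : LocallyOfFinitePresentation (pullback.snd u U.ι) :=
    MorphismProperty.pullback_snd (P := @LocallyOfFinitePresentation) _ _ inferInstance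
  haveI : QuasiCompact (pullback.snd u U.ι) :=
    MorphismProperty.pullback_snd (P := @QuasiCompact) _ _ inferInstance
  haveI : QuasiSeparated (pullback.snd u U.ι) :=
    MorphismProperty.pullback_snd (P := @QuasiSeparated) _ _ inferInstance
  let FU := (Scheme.Modules.pullback (pullback.fst u U.ι)).obj F
  haveI : FU.IsQuasicoherent :=
    Groth.Agent.Lib.helper16.QCohPullback.isQuasicoherent_pullback _ F
  have hFU : CohB1.IsFP FU :=
    Groth.Agent.Lib.helper16.QCohPullback2.isFinitePresentation_pullback _ F hF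
  obtain ⟨S₀, X₀, hS₀, h, u₀, e, F₀, h1, h2, sq₀, hcoh, ⟨iso⟩⟩ :=
    exists_noetherian_mod_model (pullback.snd u U.ι) FU hFU
  haveI := h1; haveI := h2
  refine ⟨S₀, X₀, hS₀, h, u₀, F₀, h1, h2, hcoh, ?_⟩
  rw [← locusMod_eq_preimage hP sq F (isCoh_of_isFP F hF) FU (Iso.refl _),
    locusMod_eq_preimage hP sq₀ F₀ hcoh FU iso]

/-- EGA IV 9.2.3 for relations with a module, constructible case. -/
theorem isLocallyConstructible_locusMod (hP : ConsProp.IsConsMod P)
    {X S : Scheme.{u}} (u : X ⟶ S)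
    [LocallyOfFinitePresentation u] [QuasiCompact u] [QuasiSeparated u]
    (F : X.Modules) [F.IsQuasicoherent] (hF : CohB1.IsFP F) :
    IsLocallyConstructible (ConsProp.locusMod P u F) := by
  refine isLocallyConstructible_of_affine_models _ fun U hU => ?_
  obtain ⟨S₀, X₀, hS₀, h, u₀, F₀, h1, h2, hcoh, heq⟩ :=
    exists_mod_affine_model hP.1 u F hF U hU
  haveI := hS₀; haveI := h1; haveI := h2
  exact ⟨S₀, h, ConsProp.locusMod P u₀ F₀,
    (isConstructible_locusMod hP u₀ F₀ hcoh).isLocallyConstructible, heq⟩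

/-- EGA IV 9.2.3 for relations with a module, ind-constructible case. -/
theorem isIndConstructible_locusMod' (hP : ConsProp.IsIndConsMod P)
    {X S : Scheme.{u}} (u : X ⟶ S)
    [LocallyOfFinitePresentation u] [QuasiCompact u] [QuasiSeparated u]
    (F : X.Modules) [F.IsQuasicoherent] (hF : CohB1.IsFP F) :
    ProCons.IsIndConstructible (ConsProp.locusMod P u F) := by
  refine isIndConstructible_of_affine_models _ fun U hU => ?_
  obtain ⟨S₀, X₀, hS₀, h, u₀, F₀, h1, h2, hcoh, heq⟩ :=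
    exists_mod_affine_model hP.1 u F hF U hU
  haveI := hS₀; haveI := h1; haveI := h2
  exact ⟨S₀, h, ConsProp.locusMod P u₀ F₀, isIndConstructible_locusMod hP u₀ F₀ hcoh, heq⟩

end Groth.Agent.Lib.helper11.ConsMod
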