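import Groth.Agent.Lib.Helper11.FibFlat5
import Groth.Agent.Lib.Helper11.ConsMod3
import Groth.Agent.Lib.Helper5.ConsApprox4

/-!
# The fibrewise flat locus is locally constructible: affine base, qcqs case (helper11)

* `exists_triple_model`: `S = lim S_i`; a morphism `f : X ⟶ Y` of finitely presented `S`-schemes
  with a finitely presented module on `X` comes from a stage.
* `exists_noetherian_triple_model`: over an affine base, a Noetherian model.
* `isLocallyConstructible_setOf_QF_of_isAffine`.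
-/

set_option autoImplicit false
set_option backward.isDefEq.respectTransparency false
set_option linter.style.haveILetI false
universe u
open CategoryTheory CategoryTheory.Limits AlgebraicGeometry TopologicalSpace Topology

namespace Groth.Agent.Lib.helper11.FibFlat

open Groth.Agent.Lib.helper5.ConsFibre Groth.Agent.Lib.helper5.ConsApprox
  Groth.Agent.Lib.helper11.ConsMod Groth.Agent.Lib.helper5.FGLimit

section Model

variable {I : Type u} [SmallCategory I] [IsCofiltered I] (D : I ⥤ Scheme.{u}) (c : Cone D)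
  (hc : IsLimit c) [hD : ∀ (i j : I) (f : i ⟶ j), IsAffineHom (D.map f)]
  [hcomp : ∀ i, CompactSpace (D.obj i)] [hqs : ∀ i, QuasiSeparatedSpace (D.obj i)]

include hc in
theorem exists_triple_model {X Y : Scheme.{u}} (f : X ⟶ Y) (g : Y ⟶ c.pt)
    [LocallyOfFinitePresentation g] [QuasiCompact g] [QuasiSeparated g]
    [LocallyOfFinitePresentation (f ≫ g)] [QuasiCompact (f ≫ g)] [QuasiSeparated (f ≫ g)]
    (F : X.Modules) [F.IsQuasicoherent] (hF : CohB1.IsFP F) :
    ∃ (k : I) (Xk Yk : Scheme.{u}) (fk : Xk ⟶ Yk) (gk : Yk ⟶ D.obj k)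
      (eX : X ⟶ Xk) (eY : Y ⟶ Yk) (Fk : Xk.Modules),
      LocallyOfFinitePresentation gk ∧ QuasiCompact gk ∧
      LocallyOfFinitePresentation (fk ≫ gk) ∧ QuasiCompact (fk ≫ gk) ∧
      IsPullback eY g gk (c.π.app k) ∧ IsPullback eX f fk eY ∧ Fk.IsQuasicoherent ∧
      CohB1.IsFP Fk ∧ Nonempty (F ≅ (Scheme.Modules.pullback eX).obj Fk) := by
  obtain ⟨k₁, X₁, u₁, e₁, F₁, h1, h2, h3, sq₁, hq₁, hfp₁, ⟨iso₁⟩⟩ :=
    exists_mod_model D c hc (f ≫ g) F hF
  obtain ⟨k₂, Y₂, v₂, gY, h4, h5, h6, sq₂⟩ := Groth.Agent.S0591.result D c hc Y g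
  haveI := h1; haveI := h2; haveI := h3; haveI := h4; haveI := h5; haveI := h6
  haveI := hq₁
  -- common stage
  let i := IsCofiltered.min k₁ k₂
  let a₁ : i ⟶ k₁ := IsCofiltered.minToLeft k₁ k₂
  let a₂ : i ⟶ k₂ := IsCofiltered.minToRight k₁ k₂
  let xi : pullback u₁ (D.map a₁) ⟶ D.obj i := pullback.snd _ _
  let yi : pullback v₂ (D.map a₂) ⟶ D.obj i := pullback.snd _ _
  obtain ⟨qX, hX, hqX⟩ : ∃ qX : X ⟶ pullback u₁ (D.map a₁),
      IsPullback qX (f ≫ g) xi (c.π.app i) ∧ qX ≫ pullback.fst u₁ (D.map a₁) = e₁ :=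
    ⟨_, isPullback_stage_change D c a₁ sq₁, pullback.lift_fst _ _ _⟩
  obtain ⟨qY, hY⟩ : ∃ qY : Y ⟶ pullback v₂ (D.map a₂), IsPullback qY g yi (c.π.app i) :=
    ⟨_, isPullback_stage_change D c a₂ sq₂⟩
  haveI : LocallyOfFinitePresentation xi :=
    MorphismProperty.pullback_snd (P := @LocallyOfFinitePresentation) _ _ h1
  haveI : QuasiCompact xi := MorphismProperty.pullback_snd (P := @QuasiCompact) _ _ h2
  haveI : QuasiSeparated xi := MorphismProperty.pullback_snd (P := @QuasiSeparated) _ _ h3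
  haveI : LocallyOfFinitePresentation yi :=
    MorphismProperty.pullback_snd (P := @LocallyOfFinitePresentation) _ _ h4
  haveI : QuasiCompact yi := MorphismProperty.pullback_snd (P := @QuasiCompact) _ _ h5
  haveI : QuasiSeparated yi := MorphismProperty.pullback_snd (P := @QuasiSeparated) _ _ h6
  haveI : CompactSpace ↥(pullback u₁ (D.map a₁)) := QuasiCompact.compactSpace_of_compactSpace xi
  haveI : CompactSpace ↥(pullback v₂ (D.map a₂)) := QuasiCompact.compactSpace_of_compactSpace yi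
  haveI : QuasiSeparatedSpace ↥(pullback u₁ (D.map a₁)) := quasiSeparatedSpace_of_quasiSeparated xi
  haveI : QuasiSeparatedSpace ↥(pullback v₂ (D.map a₂)) := quasiSeparatedSpace_of_quasiSeparated yi
  obtain ⟨j, φ, fj, sX, sY, e1, e2, e3, e4, e5, e6⟩ :=
    Groth.Agent.S9218.result D c hc i xi yi qX (f ≫ g) hX qY g hY f rfl
  have sqY : IsPullback sY g (pullback.snd yi (D.map φ)) (c.π.app j) := by
    refine IsPullback.of_right ?_ e5 (IsPullback.of_hasPullback yi (D.map φ))
    rw [e4, Cone.w]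
    exact hY
  have sqXbig : IsPullback sX (f ≫ g) (pullback.snd xi (D.map φ)) (c.π.app j) := by
    refine IsPullback.of_right ?_ e3 (IsPullback.of_hasPullback xi (D.map φ))
    rw [e2, Cone.w]
    exact hX
  have sqX : IsPullback sX f fj sY := by
    refine IsPullback.of_bot ?_ e6 sqY
    rw [e1]
    exact sqXbig
  -- the module
  let p : pullback xi (D.map φ) ⟶ X₁ := pullback.fst xi (D.map φ) ≫ pullback.fst u₁ (D.map a₁)
  have hp : sX ≫ p = e₁ := by
    simp only [p]
    rw [← Category.assoc, e2, hqX]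
  refine ⟨j, _, _, fj, pullback.snd yi (D.map φ), sX, sY, (Scheme.Modules.pullback p).obj F₁,
    ?_, ?_, ?_, ?_, sqY, sqX, ?_, ?_, ⟨?_⟩⟩
  · exact MorphismProperty.pullback_snd (P := @LocallyOfFinitePresentation) _ _ inferInstance
  · exact MorphismProperty.pullback_snd (P := @QuasiCompact) _ _ inferInstance
  · rw [e1]
    exact MorphismProperty.pullback_snd (P := @LocallyOfFinitePresentation) _ _ inferInstance
  · rw [e1]
    exact MorphismProperty.pullback_snd (P := @QuasiCompact) _ _ inferInstance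
  · exact Groth.Agent.Lib.helper16.QCohPullback.isQuasicoherent_pullback p F₁
  · exact Groth.Agent.Lib.helper16.QCohPullback2.isFinitePresentation_pullback p F₁ hfp₁
  · exact iso₁ ≪≫ pullbackIsoOfComp sX p e₁ hp F₁

end Model

attribute [local instance] ULift.algebra'

theorem exists_noetherian_triple_model {T X Y : Scheme.{u}} [IsAffine T] (f : X ⟶ Y) (g : Y ⟶ T)
    [LocallyOfFinitePresentation g] [QuasiCompact g] [QuasiSeparated g]
    [LocallyOfFinitePresentation (f ≫ g)] [QuasiCompact (f ≫ g)] [QuasiSeparated (f ≫ g)]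
    (F : X.Modules) [F.IsQuasicoherent] (hF : CohB1.IsFP F) :
    ∃ (S₀ X₀ Y₀ : Scheme.{u}) (_ : IsNoetherian S₀) (b : T ⟶ S₀) (f₀ : X₀ ⟶ Y₀) (g₀ : Y₀ ⟶ S₀)
      (eX : X ⟶ X₀) (eY : Y ⟶ Y₀) (F₀ : X₀.Modules),
      LocallyOfFiniteType g₀ ∧ QuasiCompact g₀ ∧ LocallyOfFiniteType (f₀ ≫ g₀) ∧
      QuasiCompact (f₀ ≫ g₀) ∧ IsPullback eY g g₀ b ∧ IsPullback eX f f₀ eY ∧
      F₀.IsQuasicoherent ∧ CohB1.IsFP F₀ ∧
      Nonempty (F ≅ (Scheme.Modules.pullback eX).obj F₀) := by
  let K : Type u := Γ(T, ⊤)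
  let e : T ≅ Spec (CommRingCat.of K) := T.isoSpec
  let g' : Y ⟶ (specCone (ULift.{u} ℤ) K).pt := g ≫ e.hom
  have hfg : f ≫ g' = (f ≫ g) ≫ e.hom := (Category.assoc _ _ _).symm
  haveI : LocallyOfFinitePresentation g' :=
    inferInstanceAs (LocallyOfFinitePresentation (g ≫ e.hom))
  haveI : QuasiCompact g' := inferInstanceAs (QuasiCompact (g ≫ e.hom))
  haveI : QuasiSeparated g' := inferInstanceAs (QuasiSeparated (g ≫ e.hom))
  haveI : LocallyOfFinitePresentation (f ≫ g') := by rw [hfg]; infer_instance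
  haveI : QuasiCompact (f ≫ g') := by rw [hfg]; infer_instance
  haveI : QuasiSeparated (f ≫ g') := by rw [hfg]; infer_instance
  obtain ⟨k, Xk, Yk, fk, gk, eX, eY, Fk, h1, h2, h3, h4, sqY, sqX, hq, hfp, hiso⟩ :=
    exists_triple_model (specDiagram (ULift.{u} ℤ) K) (specCone (ULift.{u} ℤ) K)
      (isLimitSpecCone (ULift.{u} ℤ) K) f g' F hF
  haveI := h1; haveI := h3
  refine ⟨_, Xk, Yk, isNoetherian_specDiagram_obj K k,
    e.hom ≫ (specCone (ULift.{u} ℤ) K).π.app k, fk, gk, eX, eY, Fk, inferInstance, h2,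
    inferInstance, h4, ?_, sqX, hq, hfp, hiso⟩
  have := (IsPullback.of_horiz_isIso (fst := 𝟙 Y) (snd := g) (f := g') (g := e.hom)
    ⟨by simp [g']⟩).paste_horiz sqY
  rwa [Category.id_comp] at this

/-- **The fibrewise flat locus is locally constructible**, base affine, `X` and `Y` of finite
presentation over the base. -/
theorem isLocallyConstructible_setOf_QF_of_isAffine {T X Y : Scheme.{u}} [IsAffine T]
    (f : X ⟶ Y) (g : Y ⟶ T)
    [LocallyOfFinitePresentation g] [QuasiCompact g] [QuasiSeparated g]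
    [LocallyOfFinitePresentation (f ≫ g)] [QuasiCompact (f ≫ g)] [QuasiSeparated (f ≫ g)]
    (F : X.Modules) [F.IsQuasicoherent] (hF : CohB1.IsFP F) :
    IsLocallyConstructible {x : X | QF f g F x} := by
  obtain ⟨S₀, X₀, Y₀, hS₀, b, f₀, g₀, eX, eY, F₀, h1, h2, h3, h4, sqY, sqX, hq, hfp, ⟨iso⟩⟩ :=
    exists_noetherian_triple_model f g F hF
  haveI := hS₀; haveI := h1; haveI := h2; haveI := h3; haveI := h4; haveI := hq
  have heq : {x : X | QF f g F x} = eX ⁻¹' {x : X₀ | QF f₀ g₀ F₀ x} := by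
    ext x
    exact QF_baseChange sqY sqX F₀ F iso x
  rw [heq]
  exact isLocallyConstructible_preimage eX
    (isConstructible_setOf_QF f₀ g₀ F₀ hfp).isLocallyConstructible

end Groth.Agent.Lib.helper11.FibFlat
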