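import Mathlib
import Groth.Prelude.Def_FlatFun
import Groth.Prelude.Def_QuotSh
import Groth.Prelude.Def_FGA
import Groth.Agent.Lib.Helper14.SigSheaf

/-!
# fpqc sheaf condition for the subsingleton-valued functors `genPSp S P` (helper11)

`isSheaf_fpqc_genPSp`: for `f : X ⟶ S`, a property `P` of schemes over `S`, stable under morphisms,
which can be checked on affine charts of `X_T` (`hCP`) and such that the chart condition descends
along faithfully flat charts (`hdesc`), the functor `genPSp S P` is an fpqc sheaf.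
-/

set_option autoImplicit false
set_option linter.style.haveILetI false
universe w u
open CategoryTheory CategoryTheory.Limits AlgebraicGeometry TopologicalSpace Opposite

namespace Groth.Agent.Lib.helper11.FpqcGen

open Groth.Agent.Lib.Helper14

theorem isSheafFor_of_subsingleton {C : Type*} [Category C] (G : Cᵒᵖ ⥤ Type w)
    (hG : ∀ X, Subsingleton (G.obj X)) {X : C} (R : Presieve X)
    (h : (∀ ⦃Y : C⦄ (f : Y ⟶ X), R f → Nonempty (G.obj (op Y))) → Nonempty (G.obj (op X))) :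
    Presieve.IsSheafFor G R := by
  intro x _
  obtain ⟨y⟩ := h (fun Y f hf => ⟨x f hf⟩)
  exact ⟨y, fun _ _ _ => Subsingleton.elim _ _, fun _ _ => Subsingleton.elim _ _⟩

/-- a flat morphism mapping an affine open `UT` onto an affine open `US` induces a faithfully flat
ring map on sections -/
theorem ff_appLE {Y Z : Scheme.{u}} (g : Y ⟶ Z) [Flat g] {US : Z.Opens} {UT : Y.Opens}
    (hUS : IsAffineOpen US) (hUT : IsAffineOpen UT) (e : UT ≤ g ⁻¹ᵁ US)
    (hsurj : ∀ z ∈ US, ∃ y ∈ UT, g y = z) : (g.appLE US UT e).hom.FaithfullyFlat := by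
  rw [RingHom.FaithfullyFlat.iff_flat_and_comap_surjective]
  constructor
  · exact HasRingHomProperty.appLE (P := @Flat) g inferInstance ⟨US, hUS⟩ ⟨UT, hUT⟩ e
  · intro q
    have hcomm := IsAffineOpen.SpecMap_appLE_fromSpec g hUS hUT e
    have hx : hUS.fromSpec q ∈ US := by
      have : hUS.fromSpec q ∈ Set.range hUS.fromSpec := ⟨q, rfl⟩
      rwa [hUS.range_fromSpec] at this
    obtain ⟨y, hyU, hy⟩ := hsurj _ hx
    have hyr : y ∈ Set.range hUT.fromSpec := by
      rw [hUT.range_fromSpec]; exact hyU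
    obtain ⟨w', rfl⟩ := hyr
    refine ⟨w', ?_⟩
    apply hUS.fromSpec.isOpenEmbedding.injective
    have h2 := congr($(hcomm) w')
    rw [Scheme.Hom.comp_apply, Scheme.Hom.comp_apply] at h2
    exact h2.trans hy

section Main

variable {X S : Scheme.{u}} (f : X ⟶ S) (P : Over S → Prop)
  (hP : ∀ ⦃T T₀ : Over S⦄ (_ : T ⟶ T₀), P T₀ → P T)
  (C : ∀ T : Over S, (PicF.XT f T).Opens → Prop)
  (hCP : ∀ T : Over S, (∀ x : PicF.XT f T, ∃ UX : (PicF.XT f T).Opens,
    IsAffineOpen UX ∧ x ∈ UX ∧ C T UX) → P T)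
  (hdesc : ∀ (T T' : Over S) (k : T' ⟶ T) (US : T.left.Opens) (UT : T'.left.Opens)
    (UX : (PicF.XT f T).Opens) (hUST : UT ≤ k.left ⁻¹ᵁ US)
    (_ : UX ≤ (PicF.XTproj f T) ⁻¹ᵁ US), IsAffineOpen US → IsAffineOpen UT → IsAffineOpen UX →
    (k.left.appLE US UT hUST).hom.FaithfullyFlat → P T' → C T UX)

include hCP hdesc in
theorem zariski_local (T : Over S) (𝒰 : T.left.OpenCover)
    (h𝒰 : ∀ i, P (Over.mk (𝒰.f i ≫ T.hom))) : P T := by
  apply hCP
  intro x
  obtain ⟨i, y, hy⟩ := 𝒰.exists_eq ((PicF.XTproj f T) x)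
  obtain ⟨UT, hUT, hyUT, -⟩ := Opens.isBasis_iff_nbhd.mp (𝒰.X i).isBasis_affineOpens
    (show y ∈ (⊤ : (𝒰.X i).Opens) from trivial)
  haveI : IsOpenImmersion (𝒰.f i) := 𝒰.map_prop i
  have hUS : IsAffineOpen ((𝒰.f i) ''ᵁ UT) := hUT.image_of_isOpenImmersion (𝒰.f i)
  have hxUS : (PicF.XTproj f T) x ∈ (𝒰.f i) ''ᵁ UT := ⟨y, hyUT, hy⟩
  obtain ⟨UX, hUX, hxUX, hUXle⟩ := Opens.isBasis_iff_nbhd.mp
    (PicF.XT f T).isBasis_affineOpens
    (show x ∈ (PicF.XTproj f T) ⁻¹ᵁ ((𝒰.f i) ''ᵁ UT) from hxUS)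
  refine ⟨UX, hUX, hxUX, ?_⟩
  have hUST : UT ≤ (𝒰.f i) ⁻¹ᵁ ((𝒰.f i) ''ᵁ UT) := fun z hz => ⟨z, hz, rfl⟩
  refine hdesc T (Over.mk (𝒰.f i ≫ T.hom)) (Over.homMk (𝒰.f i) rfl) ((𝒰.f i) ''ᵁ UT) UT UX
    hUST hUXle hUS hUT hUX ?_ (h𝒰 i)
  exact ff_appLE (𝒰.f i) hUS hUT hUST (fun z ⟨y', hy', hz⟩ => ⟨y', hy', hz⟩)

include hCP hdesc in
theorem ff_local {R R' : CommRingCat.{u}} (φ : R ⟶ R') (g : Spec R ⟶ S) (hφ : Flat (Spec.map φ))
    (hs : Surjective (Spec.map φ)) (h : P (Over.mk (Spec.map φ ≫ g))) : P (Over.mk g) := by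
  apply hCP
  intro x
  obtain ⟨UX, hUX, hxUX, -⟩ := Opens.isBasis_iff_nbhd.mp
    (PicF.XT f (Over.mk g)).isBasis_affineOpens
    (show x ∈ (⊤ : (PicF.XT f (Over.mk g)).Opens) from trivial)
  refine ⟨UX, hUX, hxUX, ?_⟩
  refine hdesc (Over.mk g) (Over.mk (Spec.map φ ≫ g)) (Over.homMk (Spec.map φ) rfl) ⊤ ⊤ UX
    le_top le_top (isAffineOpen_top (Spec R)) (isAffineOpen_top (Spec R')) hUX ?_ h
  exact ff_appLE (Spec.map φ) (isAffineOpen_top (Spec R)) (isAffineOpen_top (Spec R')) le_top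
    (fun z _ => by
      obtain ⟨y, hy⟩ := hs.surj z
      exact ⟨y, trivial, hy⟩)

include hP hCP hdesc in
theorem isSheaf_fpqc_sig :
    Presieve.IsSheaf Scheme.fpqcTopology (SigSheaf.sig (FlatFun.genPSp S P)) := by
  rw [Scheme.fpqcTopology_eq_propQCTopology, isSheaf_type_propQCTopology_iff]
  refine ⟨?_, ?_⟩
  · intro X' R hR
    apply SigSheaf.isSheafFor_sig
    · exact GrothendieckTopology.Subcanonical.isSheaf_of_isRepresentable
        (J := Scheme.zariskiTopology) (yoneda.obj S) _ hR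
    · intro g
      apply isSheafFor_of_subsingleton _ (fun T => FlatFun.genPSp_subsingleton S P T)
      intro hfam
      obtain ⟨𝒰, h𝒰⟩ := Scheme.mem_grothendieckTopology_iff.mp hR
      apply FlatFun.genPSp_nonempty_of
      apply zariski_local f P C hCP hdesc (Over.mk g) 𝒰
      intro i
      have h1 := hfam (Over.homMk (𝒰.f i) rfl : Over.mk (𝒰.f i ≫ g) ⟶ Over.mk g)
        (by
          change ((Sieve.overEquiv (Over.mk g)).symm R) _
          rw [Sieve.overEquiv_symm_iff]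
          exact h𝒰 _ _ (Presieve.ofArrows.mk i))
      exact (FlatFun.genPSp_nonempty_iff_of_stable P hP _).mp h1
  · intro R R' φ hφ hs
    rw [Presieve.isSheafFor_iff_generate]
    apply SigSheaf.isSheafFor_sig
    · have hmem : Sieve.generate (Presieve.singleton (Spec.map φ)) ∈
          Scheme.fpqcTopology (Spec R) := by
        apply Precoverage.generate_mem_toGrothendieck
        haveI := hφ
        haveI := hs
        exact Scheme.Hom.singleton_mem_fpqcPrecoverage _
      exact GrothendieckTopology.Subcanonical.isSheaf_of_isRepresentable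
        (J := Scheme.fpqcTopology) (yoneda.obj S) _ hmem
    · intro g
      rw [SigSheaf.overEquiv_symm_generate_singleton, ← Presieve.isSheafFor_iff_generate]
      apply isSheafFor_of_subsingleton _ (fun T => FlatFun.genPSp_subsingleton S P T)
      intro hfam
      have h1 := hfam (Over.homMk (Spec.map φ) rfl : Over.mk (Spec.map φ ≫ g) ⟶ Over.mk g)
        Presieve.singleton.mk
      apply FlatFun.genPSp_nonempty_of
      exact ff_local f P C hCP hdesc φ g hφ hs
        ((FlatFun.genPSp_nonempty_iff_of_stable P hP _).mp h1)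

include hP hCP hdesc in
theorem isSheaf_fpqc_genPSp :
    Presheaf.IsSheaf (QuotSh.J Scheme.fpqcPrecoverage S) (FlatFun.genPSp S P) := by
  rw [isSheaf_iff_isSheaf_of_type]
  intro Y T hT
  rw [GrothendieckTopology.mem_over_iff] at hT
  apply SigSheaf.isSheafFor_of_sig
  · exact isSheaf_fpqc_sig f P hP C hCP hdesc _ hT
  · intro g g' hgg
    have hsep := (GrothendieckTopology.Subcanonical.isSheaf_of_isRepresentable
      (J := Scheme.fpqcTopology) (yoneda.obj S) _ hT).isSeparatedFor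
    exact hsep.ext (fun W h hh => hgg h hh)

end Main

end Groth.Agent.Lib.helper11.FpqcGen
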