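import Mathlib
import Groth.Prelude.Def_FlatMod2
import Groth.Agent.Lib.Helper17.FlatOver6
import Groth.Agent.Lib.Helper21.RelFPSch4

/-!
# Flatness of a pulled back module on charts of a fibre product (helper11)

`forall_isFlatOverAt_pullback_iff`: for a cartesian square `X' = X ×_S S'`, affine opens
`US`, `UT ≤ g⁻¹US`, `UX ≤ f⁻¹US`, and `F` qcoh on `X`: `g'^*F` is flat over `S'` at all points of
`g'⁻¹UX ⊓ f'⁻¹UT` iff `Γ(S',UT) ⊗[Γ(S,US)] Γ(F,UX)` is flat over `Γ(S',UT)`.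
-/

set_option autoImplicit false
set_option linter.style.haveILetI false
universe u
open CategoryTheory CategoryTheory.Limits AlgebraicGeometry TopologicalSpace Opposite TensorProduct

namespace Groth.Agent.Lib.helper11.FlatIdealSch

open Scheme.Modules Groth.Agent.Lib.helper17.FlatOver1 Groth.Agent.Lib.helper21.RelFPSch

variable {X S X' S' : Scheme.{u}} {f : X ⟶ S} {f' : X' ⟶ S'} {g' : X' ⟶ X} {g : S' ⟶ S}

theorem forall_isFlatOverAt_pullback_iff (hc : IsPullback g' f' f g) (F : X.Modules)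
    [F.IsQuasicoherent] {US : S.Opens} {UT : S'.Opens} {UX : X.Opens} (hUST : UT ≤ g ⁻¹ᵁ US)
    (hUSX : UX ≤ f ⁻¹ᵁ US) (hUS : IsAffineOpen US) (hUT : IsAffineOpen UT)
    (hUX : IsAffineOpen UX) :
    letI := (g.appLE US UT hUST).hom.toAlgebra
    letI := modSecBase f F hUSX
    (∀ x' ∈ g' ⁻¹ᵁ UX ⊓ f' ⁻¹ᵁ UT,
        FlatMod.IsFlatOverAt f' ((Scheme.Modules.pullback g').obj F) x') ↔
      Module.Flat Γ(S', UT) (Γ(S', UT) ⊗[Γ(S, US)] Γ(F, UX)) := by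
  letI algAA' : Algebra Γ(S, US) Γ(S', UT) := (g.appLE US UT hUST).hom.toAlgebra
  letI mAM : Module Γ(S, US) Γ(F, UX) := modSecBase f F hUSX
  set UY : X'.Opens := g' ⁻¹ᵁ UX ⊓ f' ⁻¹ᵁ UT with hUYdef
  have hUYX : UY ≤ g' ⁻¹ᵁ UX := inf_le_left
  have hUYT : UY ≤ f' ⁻¹ᵁ UT := inf_le_right
  have hUY : IsAffineOpen UY := by
    haveI : IsAffine (US : Scheme) := hUS
    haveI : IsAffine (UT : Scheme) := hUT
    haveI : IsAffine (UX : Scheme) := hUX
    exact .of_isIso (Scheme.Hom.isPullback_resLE hc hUST hUSX rfl).isoPullback.hom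
  have hpo : IsPushout (f.appLE US UX hUSX) (g.appLE US UT hUST) (g'.appLE UX UY hUYX)
      (f'.appLE UT UY hUYT) := by
    haveI := isIso_pushoutSection_of_isAffineOpen hc hUST hUSX rfl hUS hUT hUX
    exact (isIso_pushoutSection_iff hc hUST hUSX rfl).mp inferInstance
  set P := (Scheme.Modules.pullback g').obj F with hP
  haveI : P.IsQuasicoherent :=
    Groth.Agent.Lib.helper16.QCohPullback.isQuasicoherent_pullback g' F
  rw [forall_mem_isFlatOverAt_iff f' P hUYT hUY hUT]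
  -- section rings
  letI algAB : Algebra Γ(S, US) Γ(X, UX) := (f.appLE US UX hUSX).hom.toAlgebra
  letI algBB' : Algebra Γ(X, UX) Γ(X', UY) := (g'.appLE UX UY hUYX).hom.toAlgebra
  letI algA'B' : Algebra Γ(S', UT) Γ(X', UY) := (f'.appLE UT UY hUYT).hom.toAlgebra
  letI algAB' : Algebra Γ(S, US) Γ(X', UY) :=
    ((g'.appLE UX UY hUYX).hom.comp (f.appLE US UX hUSX).hom).toAlgebra
  haveI : IsScalarTower Γ(S, US) Γ(X, UX) Γ(X', UY) :=
    IsScalarTower.of_algebraMap_eq (fun _ => rfl)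
  have hsq : ∀ a : Γ(S, US), (g'.appLE UX UY hUYX).hom ((f.appLE US UX hUSX).hom a) =
      (f'.appLE UT UY hUYT).hom ((g.appLE US UT hUST).hom a) := fun a =>
    congrArg (fun φ => φ.hom a) hpo.w
  haveI : IsScalarTower Γ(S, US) Γ(S', UT) Γ(X', UY) :=
    IsScalarTower.of_algebraMap_eq (fun a => hsq a)
  haveI hpush : Algebra.IsPushout Γ(S, US) Γ(X, UX) Γ(S', UT) Γ(X', UY) :=
    CommRingCat.isPushout_iff_isPushout.mp hpo
  haveI hpush' : Algebra.IsPushout Γ(S, US) Γ(S', UT) Γ(X, UX) Γ(X', UY) := hpush.symm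
  haveI : IsScalarTower Γ(S, US) Γ(X, UX) Γ(F, UX) := isScalarTower_sections f F hUSX
  -- modules
  letI mA'P : Module Γ(S', UT) Γ(P, UY) := modSecBase f' P hUYT
  haveI : IsScalarTower Γ(S', UT) Γ(X', UY) Γ(P, UY) := isScalarTower_sections f' P hUYT
  letI mBP : Module Γ(X, UX) Γ(P, UY) := modPull g' hUYX F
  haveI : IsScalarTower Γ(X, UX) Γ(X', UY) Γ(P, UY) := isScalarTower_modPull g' hUYX F
  obtain ⟨k, hk⟩ := exists_isBaseChange_pull g' hUX hUY hUYX F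
  have e1 : Γ(X', UY) ⊗[Γ(X, UX)] Γ(F, UX) ≃ₗ[Γ(S', UT)] Γ(P, UY) :=
    hk.equiv.restrictScalars Γ(S', UT)
  have e2 : Γ(X', UY) ⊗[Γ(X, UX)] Γ(F, UX) ≃ₗ[Γ(S', UT)] Γ(S', UT) ⊗[Γ(S, US)] Γ(F, UX) :=
    Algebra.IsPushout.cancelBaseChange Γ(S, US) Γ(S', UT) Γ(X, UX) Γ(X', UY) Γ(F, UX)
  exact Module.Flat.equiv_iff (e1.symm ≪≫ₗ e2)

end Groth.Agent.Lib.helper11.FlatIdealSch
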