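import Mathlib
import Groth.Agent.Lib.Helper3.GrobFree5

/-!
# Stratification by free loci (helper11)

* `free_of_tower` : freeness of `A₁ ⊗[A] M` over `A₁` passes to any `A₁`-algebra `C`.
* `exists_free_away_of_reduced` : relative generic freeness over a reduced `A`-algebra `R'`.
* `UFree`, `Good` : universal form of "free on the stratum `D(f) ∩ V(K)`", and the existence of a
  principal stratification relative to an ideal.
* `good_of_isNoetherianRing` : over a Noetherian ring, principal stratifications exist.
-/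

set_option autoImplicit false
universe u
open TensorProduct

namespace Groth.Agent.Lib.helper11.FreeStrat

theorem free_of_tower (A A1 C M : Type*) [CommRing A] [CommRing A1] [CommRing C] [Algebra A A1]
    [Algebra A C] [Algebra A1 C] [IsScalarTower A A1 C] [AddCommGroup M] [Module A M]
    [Module.Free A1 (A1 ⊗[A] M)] : Module.Free C (C ⊗[A] M) :=
  Module.Free.of_equiv (AlgebraTensorModule.cancelBaseChange A A1 C C M)

attribute [local instance] Algebra.TensorProduct.rightAlgebra in
/-- relative generic freeness over a reduced base -/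
theorem exists_free_away_of_reduced (A B M : Type u) [CommRing A] [CommRing B] [Algebra A B]
    [Algebra.FiniteType A B] [AddCommGroup M] [Module B M] [Module A M] [IsScalarTower A B M]
    [Module.Finite B M] (R' : Type u) [CommRing R'] [Algebra A R'] [IsReduced R'] [Nontrivial R'] :
    ∃ f : R', ¬ IsNilpotent f ∧
      Module.Free (Localization.Away f) (Localization.Away f ⊗[A] M) := by
  obtain ⟨U, -, hUd, hU⟩ := Groth.Agent.Lib.helper3.GrobFree.generic_freeness_reduced R'
    (R' ⊗[A] B) ((R' ⊗[A] B) ⊗[B] M)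
  obtain ⟨u, hu⟩ := hUd.nonempty
  obtain ⟨f, hfu, -, hfree, -⟩ := hU u hu
  refine ⟨f, fun hnil => hfu ?_, ?_⟩
  · obtain ⟨n, hn⟩ := hnil
    exact u.isPrime.mem_of_pow_mem n (hn ▸ u.asIdeal.zero_mem)
  · let N := (R' ⊗[A] B) ⊗[B] M
    let L := Localization.Away f
    have hbc : IsBaseChange L (LocalizedModule.mkLinearMap (Submonoid.powers f) N) :=
      IsLocalizedModule.isBaseChange (Submonoid.powers f) L _
    have h1 : Module.Free L (L ⊗[R'] N) := Module.Free.of_equiv hbc.equiv.symm
    let e : N ≃ₗ[R'] R' ⊗[A] M := Algebra.IsPushout.cancelBaseChange A R' B (R' ⊗[A] B) M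
    have h2 : Module.Free L (L ⊗[R'] (R' ⊗[A] M)) :=
      Module.Free.of_equiv (AlgebraTensorModule.congr (LinearEquiv.refl L L) e)
    exact Module.Free.of_equiv (AlgebraTensorModule.cancelBaseChange A R' L L M)

/-- universal form of: `M` is free on the stratum `D(f) ∩ V(K)`. -/
def UFree (A : Type u) [CommRing A] (M : Type u) [AddCommGroup M] [Module A M] (f : A)
    (K : Ideal A) : Prop :=
  ∀ (C : Type u) [CommRing C] [Algebra A C], IsUnit (algebraMap A C f) →
    (∀ x ∈ K, algebraMap A C x = 0) → Module.Free C (C ⊗[A] M)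

theorem UFree.of_eq {A : Type u} [CommRing A] {M : Type u} [AddCommGroup M] [Module A M] {f : A}
    {K K' : Ideal A} (h : UFree A M f K) (hK : K = K') : UFree A M f K' := hK ▸ h

/-- for every proper ideal `I` there is `f ∉ I` with `M` free on `D(f) ∩ V(I)`. -/
theorem exists_uFree (A B M : Type u) [CommRing A] [CommRing B] [Algebra A B]
    [Algebra.FiniteType A B] [AddCommGroup M] [Module B M] [Module A M] [IsScalarTower A B M]
    [Module.Finite B M] (I : Ideal A) (hI : I ≠ ⊤) : ∃ f, f ∉ I ∧ UFree A M f I := by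
  by_cases hrad : I.IsRadical
  · haveI : IsReduced (A ⧸ I) := (Ideal.isRadical_iff_quotient_reduced I).mp hrad
    haveI : Nontrivial (A ⧸ I) := Ideal.Quotient.nontrivial_iff.mpr hI
    obtain ⟨fbar, hnil, hfree⟩ := exists_free_away_of_reduced A B M (A ⧸ I)
    obtain ⟨f, rfl⟩ := Ideal.Quotient.mk_surjective fbar
    refine ⟨f, fun hf => hnil ?_, ?_⟩
    · rw [Ideal.Quotient.eq_zero_iff_mem.mpr hf]
      exact IsNilpotent.zero
    · intro C _ _ hu hK
      letI : Algebra (A ⧸ I) C := (Ideal.Quotient.lift I (algebraMap A C) hK).toAlgebra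
      haveI : IsScalarTower A (A ⧸ I) C := IsScalarTower.of_algebraMap_eq (fun x => rfl)
      have hu' : IsUnit (algebraMap (A ⧸ I) C (Ideal.Quotient.mk I f)) := hu
      letI : Algebra (Localization.Away (Ideal.Quotient.mk I f)) C :=
        (IsLocalization.Away.lift _ hu').toAlgebra
      haveI : IsScalarTower (A ⧸ I) (Localization.Away (Ideal.Quotient.mk I f)) C :=
        IsScalarTower.of_algebraMap_eq (fun x => (IsLocalization.Away.lift_eq _ hu' x).symm)
      haveI : IsScalarTower A (Localization.Away (Ideal.Quotient.mk I f)) C :=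
        IsScalarTower.of_algebraMap_eq (fun x => by
          rw [IsScalarTower.algebraMap_apply A (A ⧸ I) C,
            IsScalarTower.algebraMap_apply A (A ⧸ I) (Localization.Away (Ideal.Quotient.mk I f)),
            ← IsScalarTower.algebraMap_apply (A ⧸ I) (Localization.Away (Ideal.Quotient.mk I f)) C])
      exact free_of_tower A (Localization.Away (Ideal.Quotient.mk I f)) C M
  · obtain ⟨f, hfrad, hfI⟩ : ∃ f, f ∈ I.radical ∧ f ∉ I := by
      by_contra! h
      exact hrad (fun x hx => h x hx)
    refine ⟨f, hfI, ?_⟩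
    intro C _ _ hu hK
    obtain ⟨n, hn⟩ := hfrad
    have h0 : IsUnit (0 : C) := by
      have := hu.pow n
      rwa [← map_pow, hK _ hn] at this
    haveI : Subsingleton C := subsingleton_of_zero_eq_one (isUnit_zero_iff.mp h0)
    exact Module.Free.of_subsingleton' C _

/-- a principal stratification of `V(I)` by free loci (universal form). -/
def Good (A : Type u) [CommRing A] (M : Type u) [AddCommGroup M] [Module A M] (I : Ideal A) :
    Prop :=
  ∃ l : List A, I ⊔ Ideal.span {a | a ∈ l} = ⊤ ∧
    ∀ (i : ℕ) (hi : i < l.length), UFree A M l[i] (I ⊔ Ideal.span {a | a ∈ l.take i})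

theorem Good.cons {A : Type u} [CommRing A] {M : Type u} [AddCommGroup M] [Module A M]
    {I : Ideal A} {f : A} (hf : UFree A M f I) (h : Good A M (I ⊔ Ideal.span {f})) :
    Good A M I := by
  obtain ⟨l, hl, hfree⟩ := h
  refine ⟨f :: l, ?_, ?_⟩
  · rw [← hl]
    have : {a | a ∈ f :: l} = {f} ∪ {a | a ∈ l} := by
      ext a
      simp
    rw [this, Ideal.span_union, sup_assoc]
  · intro i hi
    cases i with
    | zero =>
      refine hf.of_eq ?_
      simp
    | succ i =>
      have h1 := hfree i (by simpa using hi)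
      simp only [List.getElem_cons_succ, List.take_succ_cons]
      refine h1.of_eq ?_
      have : {a | a ∈ f :: List.take i l} = {f} ∪ {a | a ∈ List.take i l} := by
        ext a
        simp
      rw [this, Ideal.span_union, sup_assoc]

/-- **Principal stratification by free loci** over a Noetherian ring. -/
theorem good_of_isNoetherianRing (A B M : Type u) [CommRing A] [IsNoetherianRing A] [CommRing B]
    [Algebra A B] [Algebra.FiniteType A B] [AddCommGroup M] [Module B M] [Module A M]
    [IsScalarTower A B M] [Module.Finite B M] (I : Ideal A) : Good A M I := by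
  refine IsNoetherian.induction (P := fun I : Ideal A => Good A M I) (fun I ih => ?_) I
  by_cases hI : I = ⊤
  · exact ⟨[], by simp [hI], fun i hi => absurd hi (by simp)⟩
  · obtain ⟨f, hfI, hf⟩ := exists_uFree A B M I hI
    refine Good.cons hf (ih _ ?_)
    exact SetLike.lt_iff_le_and_exists.mpr
      ⟨le_sup_left, f, Ideal.mem_sup_right (Ideal.subset_span rfl), hfI⟩

theorem free_stratum_of_model_aux {A₀ A L : Type u} [CommRing A₀] [CommRing A] [CommRing L]
    [Algebra A₀ A] [Algebra A L] [Algebra A₀ L] [IsScalarTower A₀ A L]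
    {M₀ M : Type u} [AddCommGroup M₀] [Module A₀ M₀] [AddCommGroup M] [Module A M]
    (eM : M ≃ₗ[A] A ⊗[A₀] M₀) {f₀ : A₀} {K₀ : Ideal A₀} (h : UFree A₀ M₀ f₀ K₀)
    (hunit : IsUnit (algebraMap A L (algebraMap A₀ A f₀)))
    (K : Ideal A) (hK : K₀.map (algebraMap A₀ A) ≤ K) :
    Module.Free (L ⧸ K.map (algebraMap A L)) ((L ⧸ K.map (algebraMap A L)) ⊗[A] M) := by
  have h1 : Module.Free (L ⧸ K.map (algebraMap A L)) ((L ⧸ K.map (algebraMap A L)) ⊗[A₀] M₀) := by
    refine h _ ?_ ?_
    · rw [IsScalarTower.algebraMap_apply A₀ A (L ⧸ K.map (algebraMap A L)),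
        IsScalarTower.algebraMap_apply A L (L ⧸ K.map (algebraMap A L))]
      exact hunit.map _
    · intro x hx
      rw [IsScalarTower.algebraMap_apply A₀ A (L ⧸ K.map (algebraMap A L)),
        IsScalarTower.algebraMap_apply A L (L ⧸ K.map (algebraMap A L)),
        Ideal.Quotient.algebraMap_eq, Ideal.Quotient.eq_zero_iff_mem]
      exact Ideal.mem_map_of_mem _ (hK (Ideal.mem_map_of_mem _ hx))
  exact Module.Free.of_equiv ((AlgebraTensorModule.congr (LinearEquiv.refl _ _) eM) ≪≫ₗ
    AlgebraTensorModule.cancelBaseChange A₀ A _ _ M₀).symm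

/-- a stratum of a model base changes to a free stratum. -/
theorem free_stratum_of_model {A₀ A : Type u} [CommRing A₀] [CommRing A] [Algebra A₀ A]
    {M₀ M : Type u} [AddCommGroup M₀] [Module A₀ M₀] [AddCommGroup M] [Module A M]
    (eM : M ≃ₗ[A] A ⊗[A₀] M₀) {f₀ : A₀} {K₀ : Ideal A₀} (h : UFree A₀ M₀ f₀ K₀) (f : A)
    (hf : f = algebraMap A₀ A f₀) (K : Ideal A) (hK : K₀.map (algebraMap A₀ A) ≤ K) :
    Module.Free (Localization.Away f ⧸ K.map (algebraMap A (Localization.Away f)))
      ((Localization.Away f ⧸ K.map (algebraMap A (Localization.Away f))) ⊗[A] M) := by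
  subst hf
  exact free_stratum_of_model_aux eM h (IsLocalization.Away.algebraMap_isUnit _) K hK

end Groth.Agent.Lib.helper11.FreeStrat
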