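import Mathlib
import Groth.Agent.Lib.Helper11.FreeStrat
import Groth.Agent.Lib.Helper3.FlatDescQ
import Groth.Agent.S4853

/-!
# Generic flattening ideal: algebra (helper11)
-/

set_option autoImplicit false
universe u
open TensorProduct

namespace Groth.Agent.Lib.helper11.FlatIdeal

open Groth.Agent.Lib.helper3.FlatDesc Groth.Agent.Lib.helper11.FreeStrat

section Model

variable {A B M : Type u} [CommRing A] [CommRing B] [Algebra A B] [AddCommGroup M] [Module B M]
  [Module A M] [IsScalarTower A B M]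

/-- Noetherian model of `(A, B, M)` (no flatness). -/
theorem exists_fg_model_module [Algebra.FinitePresentation A B]
    [Module.FinitePresentation B M] :
    ∃ (A₀ : Type u) (_ : CommRing A₀) (_ : Algebra A₀ A) (_ : Algebra A₀ B)
      (_ : IsScalarTower A₀ A B),
      Algebra.FiniteType ℤ A₀ ∧ Function.Injective (algebraMap A₀ A) ∧
    ∃ (B₀ : Type u) (_ : CommRing B₀) (_ : Algebra A₀ B₀) (_ : Algebra B₀ B)
      (_ : IsScalarTower A₀ B₀ B),
      Algebra.FinitePresentation A₀ B₀ ∧ Algebra.IsPushout A₀ A B₀ B ∧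
    ∃ (M₀ : Type u) (_ : AddCommGroup M₀) (_ : Module A₀ M₀) (_ : Module B₀ M₀)
      (_ : IsScalarTower A₀ B₀ M₀),
      Module.Finite B₀ M₀ ∧ Nonempty (B ⊗[B₀] M₀ ≃ₗ[B] M) := by
  obtain ⟨n, d, b, c, π, w, v, hπ, hw, hk, e, he⟩ := exists_presentation (A := A) (B := B) (M := M)
  obtain ⟨R0, hR0, -, w0, v0, rfl, rfl, hk0⟩ := exists_model_data w v hk ∅
  obtain ⟨hft, algB, towB, hfp, hpo, halg, modM, towM, hfin, hmk, hiso⟩ :=
    exists_package (M := M) hR0 hk0 π hπ hw e he (⊥ : Subalgebra R0 A) Subalgebra.fg_bot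
  exact ⟨(⊥ : Subalgebra R0 A), inferInstance, inferInstance, inferInstance, inferInstance, hft,
    Subtype.val_injective, B0 w0 (⊥ : Subalgebra R0 A), inferInstance, inferInstance, algB, towB,
    hfp, hpo, M0 v0 (⊥ : Subalgebra R0 A), inferInstance, inferInstance, modM, towM, hfin, hiso⟩

end Model

section Chart

/-- freeness over `(A/I)_f` passes to every `A`-algebra killing `I` and inverting `f`. -/
theorem free_of_free_away_quotient (A M : Type u) [CommRing A] [AddCommGroup M] [Module A M]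
    (I : Ideal A) (f : A)
    [Module.Free (Localization.Away (Ideal.Quotient.mk I f))
      (Localization.Away (Ideal.Quotient.mk I f) ⊗[A] M)]
    (C : Type u) [CommRing C] [Algebra A C] (hu : IsUnit (algebraMap A C f))
    (hK : ∀ x ∈ I, algebraMap A C x = 0) : Module.Free C (C ⊗[A] M) := by
  letI : Algebra (A ⧸ I) C := (Ideal.Quotient.lift I (algebraMap A C) hK).toAlgebra
  haveI : IsScalarTower A (A ⧸ I) C := IsScalarTower.of_algebraMap_eq (fun x => rfl)
  have hu' : IsUnit (algebraMap (A ⧸ I) C (Ideal.Quotient.mk I f)) := hu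
  letI : Algebra (Localization.Away (Ideal.Quotient.mk I f)) C :=
    (IsLocalization.Away.lift _ hu').toAlgebra
  haveI : IsScalarTower (A ⧸ I) (Localization.Away (Ideal.Quotient.mk I f)) C :=
    IsScalarTower.of_algebraMap_eq (fun x => (IsLocalization.Away.lift_eq _ hu' x).symm)
  haveI : IsScalarTower A (Localization.Away (Ideal.Quotient.mk I f)) C :=
    IsScalarTower.of_algebraMap_eq (fun x => by
      rw [IsScalarTower.algebraMap_apply A (A ⧸ I) C,
        IsScalarTower.algebraMap_apply A (A ⧸ I) (Localization.Away (Ideal.Quotient.mk I f)),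
        ← IsScalarTower.algebraMap_apply (A ⧸ I) (Localization.Away (Ideal.Quotient.mk I f)) C])
  exact free_of_tower A (Localization.Away (Ideal.Quotient.mk I f)) C M

/-- flatness of `C ⊗[R] (R ⊗[A₀] M₀)` vs `C ⊗[A₀] M₀`. -/
theorem flat_tower_iff (A₀ R C M₀ : Type*) [CommRing A₀] [CommRing R] [CommRing C] [Algebra A₀ R]
    [Algebra A₀ C] [Algebra R C] [IsScalarTower A₀ R C] [AddCommGroup M₀] [Module A₀ M₀] :
    Module.Flat C (C ⊗[R] (R ⊗[A₀] M₀)) ↔ Module.Flat C (C ⊗[A₀] M₀) :=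
  Module.Flat.equiv_iff (AlgebraTensorModule.cancelBaseChange A₀ R C C M₀)

/-- **Noetherian chart**: over a Noetherian ring with prime nilradical, the flattening ideal of a
finite module over a finite type algebra, after inverting a non-nilpotent element, is generated by
finitely many nilpotent elements. -/
theorem exists_flattening_chart_noeth (A₀ B₀ M₀ : Type u) [CommRing A₀] [IsNoetherianRing A₀]
    [CommRing B₀] [Algebra A₀ B₀] [Algebra.FiniteType A₀ B₀] [AddCommGroup M₀] [Module B₀ M₀]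
    [Module A₀ M₀] [IsScalarTower A₀ B₀ M₀] [Module.Finite B₀ M₀]
    (hprime : (nilradical A₀).IsPrime) :
    ∃ (h₀ : A₀) (s₀ : Finset A₀), ¬ IsNilpotent h₀ ∧ (∀ a ∈ s₀, IsNilpotent a) ∧
      ∀ (C : Type u) [CommRing C] [Algebra A₀ C], IsUnit (algebraMap A₀ C h₀) →
        (Module.Flat C (C ⊗[A₀] M₀) ↔ ∀ a ∈ s₀, algebraMap A₀ C a = 0) := by
  classical
  haveI : IsDomain (A₀ ⧸ nilradical A₀) := Ideal.Quotient.isDomain _
  obtain ⟨fbar, hnil, hfree⟩ := exists_free_away_of_reduced A₀ B₀ M₀ (A₀ ⧸ nilradical A₀)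
  obtain ⟨h₀, rfl⟩ := Ideal.Quotient.mk_surjective fbar
  have hh₀ : ¬ IsNilpotent h₀ := fun h => hnil (h.map (Ideal.Quotient.mk _))
  have hdisj : Disjoint (Submonoid.powers h₀ : Set A₀) (nilradical A₀ : Set A₀) := by
    rw [Set.disjoint_left]
    rintro _ ⟨n, rfl⟩ hn
    obtain ⟨k, hk⟩ := (mem_nilradical.mp hn)
    exact hh₀ ⟨n * k, by rw [pow_mul, hk]⟩
  -- the localization and its nilpotent ideal
  have key : ∀ (R : Type u) [CommRing R] [Algebra A₀ R] [IsLocalization.Away h₀ R],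
      ∃ I₀ : Ideal A₀, I₀ ≤ nilradical A₀ ∧ ∀ (C : Type u) [CommRing C] [Algebra A₀ C] [Algebra R C]
        [IsScalarTower A₀ R C], (Module.Flat C (C ⊗[A₀] M₀) ↔ I₀.map (algebraMap A₀ C) = ⊥) := by
    intro R _ _ _
    have hnilp : IsNilpotent ((nilradical A₀).map (algebraMap A₀ R)) := by
      obtain ⟨n, hn⟩ := IsNoetherianRing.isNilpotent_nilradical A₀
      exact ⟨n, by rw [← Ideal.map_pow, hn]; exact Ideal.map_bot⟩
    have hfreeQ : Module.Free (R ⧸ (nilradical A₀).map (algebraMap A₀ R))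
        ((R ⧸ (nilradical A₀).map (algebraMap A₀ R)) ⊗[A₀] M₀) := by
      refine free_of_free_away_quotient A₀ M₀ (nilradical A₀) h₀ _ ?_ ?_
      · rw [IsScalarTower.algebraMap_apply A₀ R (R ⧸ (nilradical A₀).map (algebraMap A₀ R))]
        exact (IsLocalization.Away.algebraMap_isUnit h₀).map _
      · intro x hx
        rw [IsScalarTower.algebraMap_apply A₀ R (R ⧸ (nilradical A₀).map (algebraMap A₀ R)),
          Ideal.Quotient.algebraMap_eq, Ideal.Quotient.eq_zero_iff_mem]
        exact Ideal.mem_map_of_mem _ hx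
    have hfreeQ' : Module.Free (R ⧸ (nilradical A₀).map (algebraMap A₀ R))
        ((R ⧸ (nilradical A₀).map (algebraMap A₀ R)) ⊗[R] (R ⊗[A₀] M₀)) :=
      Module.Free.of_equiv (AlgebraTensorModule.cancelBaseChange A₀ R
        (R ⧸ (nilradical A₀).map (algebraMap A₀ R))
        (R ⧸ (nilradical A₀).map (algebraMap A₀ R)) M₀).symm
    obtain ⟨R₀, hleast, -, hR₀⟩ := Groth.Agent.S4853.result (A := R) (R ⊗[A₀] M₀)
      ((nilradical A₀).map (algebraMap A₀ R)) hnilp hfreeQ'
    have hR₀le : R₀ ≤ (nilradical A₀).map (algebraMap A₀ R) := hleast.2 hfreeQ'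
    refine ⟨R₀.comap (algebraMap A₀ R), ?_, ?_⟩
    · refine (Ideal.comap_mono hR₀le).trans (le_of_eq ?_)
      exact IsLocalization.under_map_of_isPrime_disjoint (Submonoid.powers h₀) R hprime hdisj
    · intro C _ _ _ _
      rw [← flat_tower_iff A₀ R C M₀, (hR₀ C).2,
        ← IsLocalization.map_comap (Submonoid.powers h₀) R R₀, Ideal.map_map,
        ← IsScalarTower.algebraMap_eq, IsLocalization.map_comap (Submonoid.powers h₀) R R₀]
  obtain ⟨I₀, hI₀le, hI₀⟩ := key (Localization.Away h₀)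
  obtain ⟨s₀, hs₀⟩ := (isNoetherianRing_iff_ideal_fg A₀).mp inferInstance I₀
  refine ⟨h₀, s₀, hh₀, fun a ha => mem_nilradical.mp (hI₀le (hs₀ ▸ Ideal.subset_span ha)), ?_⟩
  intro C _ _ hu
  letI : Algebra (Localization.Away h₀) C := (IsLocalization.Away.lift h₀ hu).toAlgebra
  haveI : IsScalarTower A₀ (Localization.Away h₀) C :=
    IsScalarTower.of_algebraMap_eq (fun x => (IsLocalization.Away.lift_eq h₀ hu x).symm)
  rw [hI₀ C, ← hs₀, Ideal.map_span, Ideal.span_eq_bot]
  constructor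
  · intro h a ha
    exact h _ ⟨a, ha, rfl⟩
  · rintro h _ ⟨a, ha, rfl⟩
    exact h a ha

/-- flatness of a base change computed on a model. -/
theorem flat_iff_of_model {A₀ A : Type*} [CommRing A₀] [CommRing A] [Algebra A₀ A]
    {M₀ M : Type*} [AddCommGroup M₀] [Module A₀ M₀] [AddCommGroup M] [Module A M]
    (eM : M ≃ₗ[A] A ⊗[A₀] M₀) (C : Type*) [CommRing C] [Algebra A C] [Algebra A₀ C]
    [IsScalarTower A₀ A C] :
    Module.Flat C (C ⊗[A] M) ↔ Module.Flat C (C ⊗[A₀] M₀) :=
  Module.Flat.equiv_iff ((AlgebraTensorModule.congr (LinearEquiv.refl C C) eM) ≪≫ₗ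
    AlgebraTensorModule.cancelBaseChange A₀ A C C M₀)

/-- **General chart**: `A` with prime nilradical, `B` f.p. over `A`, `M` f.p. over `B`. After
inverting a non-nilpotent `h`, the flattening ideal of `M` is generated by finitely many nilpotent
elements of `A`. -/
theorem exists_flattening_chart {A B : Type u} [CommRing A] [CommRing B] [Algebra A B]
    [Algebra.FinitePresentation A B] (hprime : (nilradical A).IsPrime)
    (M : Type u) [AddCommGroup M] [Module B M] [Module A M] [IsScalarTower A B M]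
    [Module.FinitePresentation B M] :
    ∃ (h : A) (s : Finset A), ¬ IsNilpotent h ∧ (∀ a ∈ s, IsNilpotent a) ∧
      ∀ (C : Type u) [CommRing C] [Algebra A C], IsUnit (algebraMap A C h) →
        (Module.Flat C (C ⊗[A] M) ↔ ∀ a ∈ s, algebraMap A C a = 0) := by
  classical
  obtain ⟨A₀, _, _, _, _, hft, hinj, B₀, _, _, _, _, hfp, hpo, M₀, _, _, _, _, hfin, ⟨e⟩⟩ :=
    exists_fg_model_module (A := A) (B := B) (M := M)
  haveI : IsNoetherianRing A₀ := Algebra.FiniteType.isNoetherianRing ℤ A₀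
  haveI : Algebra.FiniteType A₀ B₀ := inferInstance
  have eM : M ≃ₗ[A] A ⊗[A₀] M₀ :=
    (e.symm.restrictScalars A) ≪≫ₗ (Algebra.IsPushout.cancelBaseChange A₀ A B₀ B M₀)
  have hnilrad : nilradical A₀ = (nilradical A).comap (algebraMap A₀ A) := by
    ext x
    rw [Ideal.mem_comap, mem_nilradical, mem_nilradical, IsNilpotent.map_iff hinj]
  have hprime₀ : (nilradical A₀).IsPrime := by
    rw [hnilrad]
    exact Ideal.IsPrime.comap _
  obtain ⟨h₀, s₀, hh₀, hs₀, hC⟩ := exists_flattening_chart_noeth A₀ B₀ M₀ hprime₀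
  refine ⟨algebraMap A₀ A h₀, s₀.image (algebraMap A₀ A), ?_, ?_, ?_⟩
  · rwa [IsNilpotent.map_iff hinj]
  · intro a ha
    obtain ⟨a₀, ha₀, rfl⟩ := Finset.mem_image.mp ha
    exact (hs₀ a₀ ha₀).map _
  · intro C _ _ hu
    letI : Algebra A₀ C := Algebra.compHom C (algebraMap A₀ A)
    haveI : IsScalarTower A₀ A C := IsScalarTower.of_algebraMap_eq (fun x => rfl)
    rw [flat_iff_of_model eM C, hC C hu]
    simp only [Finset.mem_image, forall_exists_index, and_imp]
    constructor
    · rintro h _ a₀ ha₀ rfl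
      exact h a₀ ha₀
    · intro h a₀ ha₀
      exact h _ a₀ ha₀ rfl

end Chart

end Groth.Agent.Lib.helper11.FlatIdeal
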