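import Mathlib
import Groth.Prelude.Def_FlatMod2
import Groth.Prelude.Def_CohB1
import Groth.Agent.Lib.Helper11.FlatIdeal
import Groth.Agent.Lib.Helper11.FlatIdealSch
import Groth.Agent.Lib.Helper16.CohFP

/-!
# Generic flattening ideal over an irreducible affine base (helper11)
-/

set_option autoImplicit false
set_option linter.style.haveILetI false
universe u
open CategoryTheory CategoryTheory.Limits AlgebraicGeometry TopologicalSpace Opposite TensorProduct

namespace Groth.Agent.Lib.helper11.FlatIdealMain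

open Scheme.Modules Groth.Agent.Lib.helper17.FlatOver1 Groth.Agent.Lib.helper11.FlatIdeal
  Groth.Agent.Lib.helper11.FlatIdealSch

theorem exists_finite_affine_cover (Z : Scheme.{u}) [CompactSpace Z] :
    ∃ s : Finset Z.affineOpens, ∀ x : Z, ∃ W ∈ s, x ∈ W.1 := by
  have hcover : (Set.univ : Set Z) ⊆ ⋃ U : Z.affineOpens, (U.1 : Set Z) := by
    intro x _
    have : x ∈ (⨆ U : Z.affineOpens, (U.1 : Z.Opens)) := by
      rw [iSup_affineOpens_eq_top]; trivial
    obtain ⟨U, hU⟩ := Opens.mem_iSup.1 this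
    exact Set.mem_iUnion.2 ⟨U, hU⟩
  obtain ⟨s, hs⟩ := isCompact_univ.elim_finite_subcover (fun U : Z.affineOpens => (U.1 : Set Z))
    (fun U => U.1.2) hcover
  refine ⟨s, fun x => ?_⟩
  obtain ⟨W, hW, hx⟩ := Set.mem_iUnion₂.mp (hs (Set.mem_univ x))
  exact ⟨W, hW, hx⟩

theorem key {A : Type u} [CommRing A] [IrreducibleSpace (PrimeSpectrum A)]
    {X : Scheme.{u}} (f : X ⟶ Spec (CommRingCat.of A))
    [LocallyOfFinitePresentation f] [QuasiCompact f]
    (F : X.Modules) [F.IsQuasicoherent] (hF : CohB1.IsFP F) :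
    ∃ (h : A) (s : Finset A), ¬ IsNilpotent h ∧ (∀ a ∈ s, IsNilpotent a) ∧
      ∀ (A' : Type u) [CommRing A'] (φ : A →+* A'), IsUnit (φ h) →
        (FlatMod.IsFlatOver (pullback.snd f (Spec.map (CommRingCat.ofHom φ)))
          ((Scheme.Modules.pullback (pullback.fst f (Spec.map (CommRingCat.ofHom φ)))).obj F) ↔
          ∀ a ∈ s, φ a = 0) := by
  classical
  let e : Γ(Spec (CommRingCat.of A), ⊤) ≃+* A := (Scheme.ΓSpecIso (CommRingCat.of A)).commRingCatIsoToRingEquiv
  have hprimeA : (nilradical A).IsPrime :=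
    PrimeSpectrum.irreducibleSpace_iff_isPrime_nilradical.mp inferInstance
  have hprime : (nilradical Γ(Spec (CommRingCat.of A), ⊤)).IsPrime := by
    have : nilradical Γ(Spec (CommRingCat.of A), ⊤) = (nilradical A).comap (e : Γ(Spec (CommRingCat.of A), ⊤) →+* A) := by
      ext x
      rw [Ideal.mem_comap, mem_nilradical, mem_nilradical]
      exact (IsNilpotent.map_iff e.injective).symm
    rw [this]
    exact Ideal.IsPrime.comap _
  haveI : CompactSpace X := QuasiCompact.compactSpace_of_compactSpace f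
  obtain ⟨𝒲, h𝒲⟩ := exists_finite_affine_cover X
  have hW : ∀ W : X.affineOpens,
      letI := modSecBase f F (show W.1 ≤ f ⁻¹ᵁ ⊤ from le_top)
      ∃ (hb : Γ(Spec (CommRingCat.of A), ⊤)) (sb : Finset Γ(Spec (CommRingCat.of A), ⊤)), ¬ IsNilpotent hb ∧ (∀ a ∈ sb, IsNilpotent a) ∧
        ∀ (C : Type u) [CommRing C] [Algebra Γ(Spec (CommRingCat.of A), ⊤) C], IsUnit (algebraMap Γ(Spec (CommRingCat.of A), ⊤) C hb) →
          (Module.Flat C (C ⊗[Γ(Spec (CommRingCat.of A), ⊤)] Γ(F, W.1)) ↔ ∀ a ∈ sb, algebraMap Γ(Spec (CommRingCat.of A), ⊤) C a = 0) := by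
    intro W
    letI := modSecBase f F (show W.1 ≤ f ⁻¹ᵁ ⊤ from le_top)
    letI : Algebra Γ(Spec (CommRingCat.of A), ⊤) Γ(X, W.1) := (f.appLE ⊤ W.1 le_top).hom.toAlgebra
    haveI : Algebra.FinitePresentation Γ(Spec (CommRingCat.of A), ⊤) Γ(X, W.1) :=
      f.finitePresentation_appLE (isAffineOpen_top (Spec (CommRingCat.of A))) W.2 le_top
    haveI : IsScalarTower Γ(Spec (CommRingCat.of A), ⊤) Γ(X, W.1) Γ(F, W.1) := isScalarTower_sections f F le_top
    haveI : Module.FinitePresentation Γ(X, W.1) Γ(F, W.1) :=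
      Groth.Agent.Lib.helper16.CohFP.fp_sections_of_isFinitePresentation (F := F) hF W.2
    exact exists_flattening_chart (A := Γ(Spec (CommRingCat.of A), ⊤)) (B := Γ(X, W.1)) hprime Γ(F, W.1)
  choose hb sb hb1 hb2 hb3 using hW
  refine ⟨e (∏ W ∈ 𝒲, hb W), (𝒲.biUnion sb).image e, ?_, ?_, ?_⟩
  · rw [IsNilpotent.map_iff e.injective]
    intro hn
    obtain ⟨W, -, hWn⟩ := (Ideal.IsPrime.prod_mem_iff (hp := hprime)).mp (mem_nilradical.mpr hn)
    exact hb1 W (mem_nilradical.mp hWn)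
  · intro a ha
    obtain ⟨a', ha', rfl⟩ := Finset.mem_image.mp ha
    obtain ⟨W, -, haW⟩ := Finset.mem_biUnion.mp ha'
    exact (hb2 W a' haW).map e
  · intro A' _ φ hu
    have hc : IsPullback (pullback.fst f (Spec.map (CommRingCat.ofHom φ))) (pullback.snd f (Spec.map (CommRingCat.ofHom φ))) f (Spec.map (CommRingCat.ofHom φ)) := IsPullback.of_hasPullback f (Spec.map (CommRingCat.ofHom φ))
    let e' : Γ(Spec (CommRingCat.of A'), ⊤) ≃+* A' := (Scheme.ΓSpecIso (CommRingCat.of A')).commRingCatIsoToRingEquiv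
    letI algC : Algebra Γ(Spec (CommRingCat.of A), ⊤) Γ(Spec (CommRingCat.of A'), ⊤) := ((Spec.map (CommRingCat.ofHom φ)).appLE ⊤ ⊤ le_top).hom.toAlgebra
    have hnat : ∀ x : Γ(Spec (CommRingCat.of A), ⊤), e' (algebraMap Γ(Spec (CommRingCat.of A), ⊤) Γ(Spec (CommRingCat.of A'), ⊤) x) = φ (e x) := by
      intro x
      have h1 := Scheme.ΓSpecIso_naturality (CommRingCat.ofHom φ)
      have h2 := congrArg (fun ψ => ψ.hom x) h1
      have h3 : (Spec.map (CommRingCat.ofHom φ)).appLE ⊤ ⊤ le_top = (Spec.map (CommRingCat.ofHom φ)).appTop := by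
        simp [Scheme.Hom.appLE, Scheme.Hom.appTop]
      change (Scheme.ΓSpecIso (CommRingCat.of A')).hom.hom
        (((Spec.map (CommRingCat.ofHom φ)).appLE ⊤ ⊤ le_top).hom x) = _
      rw [h3]
      simp only [CommRingCat.hom_comp, RingHom.comp_apply, CommRingCat.hom_ofHom] at h2
      exact h2
    have hunit : ∀ W ∈ 𝒲, IsUnit (algebraMap Γ(Spec (CommRingCat.of A), ⊤) Γ(Spec (CommRingCat.of A'), ⊤) (hb W)) := by
      intro W hW𝒲
      have h1 : IsUnit (algebraMap Γ(Spec (CommRingCat.of A), ⊤) Γ(Spec (CommRingCat.of A'), ⊤) (∏ W ∈ 𝒲, hb W)) := by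
        have : IsUnit (e' (algebraMap Γ(Spec (CommRingCat.of A), ⊤) Γ(Spec (CommRingCat.of A'), ⊤) (∏ W ∈ 𝒲, hb W))) := by
          rw [hnat]; exact hu
        exact (isUnit_map_iff e' _).mp this
      exact isUnit_of_dvd_unit (map_dvd _ (Finset.dvd_prod_of_mem hb hW𝒲)) h1
    have step1 : FlatMod.IsFlatOver (pullback.snd f (Spec.map (CommRingCat.ofHom φ)))
          ((Scheme.Modules.pullback (pullback.fst f (Spec.map (CommRingCat.ofHom φ)))).obj F) ↔
        ∀ W ∈ 𝒲, ∀ x' ∈ (pullback.fst f (Spec.map (CommRingCat.ofHom φ))) ⁻¹ᵁ W.1 ⊓ (pullback.snd f (Spec.map (CommRingCat.ofHom φ))) ⁻¹ᵁ ⊤,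
          FlatMod.IsFlatOverAt (pullback.snd f (Spec.map (CommRingCat.ofHom φ)))
            ((Scheme.Modules.pullback (pullback.fst f (Spec.map (CommRingCat.ofHom φ)))).obj F) x' := by
      constructor
      · intro h W _ x' _
        exact h x'
      · intro h x'
        obtain ⟨W, hW𝒲, hx⟩ := h𝒲 ((pullback.fst f (Spec.map (CommRingCat.ofHom φ))).base x')
        exact h W hW𝒲 x' ⟨hx, trivial⟩
    rw [step1]
    have step2 : ∀ W ∈ 𝒲, ((∀ x' ∈ (pullback.fst f (Spec.map (CommRingCat.ofHom φ))) ⁻¹ᵁ W.1 ⊓ (pullback.snd f (Spec.map (CommRingCat.ofHom φ))) ⁻¹ᵁ ⊤,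
          FlatMod.IsFlatOverAt (pullback.snd f (Spec.map (CommRingCat.ofHom φ)))
            ((Scheme.Modules.pullback (pullback.fst f (Spec.map (CommRingCat.ofHom φ)))).obj F) x') ↔
        ∀ a ∈ sb W, algebraMap Γ(Spec (CommRingCat.of A), ⊤) Γ(Spec (CommRingCat.of A'), ⊤) a = 0) := by
      intro W hW𝒲
      rw [forall_isFlatOverAt_pullback_iff hc F (US := ⊤) (UT := ⊤) (UX := W.1) le_top le_top
        (isAffineOpen_top (Spec (CommRingCat.of A))) (isAffineOpen_top (Spec (CommRingCat.of A'))) W.2]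
      exact hb3 W Γ(Spec (CommRingCat.of A'), ⊤) (hunit W hW𝒲)
    constructor
    · intro h a ha
      obtain ⟨a', ha', rfl⟩ := Finset.mem_image.mp ha
      obtain ⟨W, hW𝒲, haW⟩ := Finset.mem_biUnion.mp ha'
      rw [← hnat, (step2 W hW𝒲).mp (h W hW𝒲) a' haW, map_zero]
    · intro h W hW𝒲
      refine (step2 W hW𝒲).mpr fun a ha => ?_
      apply e'.injective
      rw [hnat, map_zero]
      exact h _ (Finset.mem_image.mpr ⟨a, Finset.mem_biUnion.mpr ⟨W, hW𝒲, ha⟩, rfl⟩)

/-- **Generic flattening ideal** over an irreducible affine base (S4898). -/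
theorem main {A : Type u} [CommRing A] [IrreducibleSpace (PrimeSpectrum A)]
    {X : Scheme.{u}} (f : X ⟶ Spec (CommRingCat.of A))
    [LocallyOfFinitePresentation f] [QuasiCompact f]
    (F : X.Modules) [F.IsQuasicoherent] (hF : CohB1.IsFP F) :
    ∃ (h : A) (_ : ¬ IsNilpotent h) (J : Ideal (Localization.Away h)) (_ : J.FG)
      (_ : J ≤ nilradical (Localization.Away h)),
      ∀ (A' : Type u) [CommRing A'] [Algebra (Localization.Away h) A'],
        (FlatMod.IsFlatOver
          (pullback.snd f (Spec.map (CommRingCat.ofHom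
            ((algebraMap (Localization.Away h) A').comp (algebraMap A (Localization.Away h))))))
          ((Scheme.Modules.pullback (pullback.fst f (Spec.map (CommRingCat.ofHom
            ((algebraMap (Localization.Away h) A').comp
              (algebraMap A (Localization.Away h))))))).obj F) ↔
          Ideal.map (algebraMap (Localization.Away h) A') J = ⊥) := by
  classical
  obtain ⟨h, s, hh, hs, hkey⟩ := key f F hF
  refine ⟨h, hh, Ideal.span ((algebraMap A (Localization.Away h)) '' (s : Set A)), ?_, ?_, ?_⟩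
  · exact ⟨s.image (algebraMap A (Localization.Away h)), by simp⟩
  · rw [Ideal.span_le]
    rintro _ ⟨a, ha, rfl⟩
    exact mem_nilradical.mpr ((hs a ha).map _)
  · intro A' _ _
    rw [hkey A' ((algebraMap (Localization.Away h) A').comp (algebraMap A (Localization.Away h)))
      ((IsLocalization.Away.algebraMap_isUnit (S := Localization.Away h) h).map
        (algebraMap (Localization.Away h) A')), Ideal.map_span, Ideal.span_eq_bot]
    constructor
    · rintro H _ ⟨_, ⟨a, ha, rfl⟩, rfl⟩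
      exact H a ha
    · intro H a ha
      exact H _ ⟨_, ⟨a, ha, rfl⟩, rfl⟩

end Groth.Agent.Lib.helper11.FlatIdealMain
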