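import Mathlib
import Groth.Agent.Lib.Helper8.PullbackUnit2

/-!
# Functoriality properties of the base change map `ρ` (helper11)

`ρ g e A : Γ(A, U) → Γ(g^* A, V)` (helper8): naturality in `A` (`ρ_natural`), compatibility with
`pullbackCongr` (`ρ_congr`) and with `pullbackComp` (`ρ_comp`).
-/

set_option autoImplicit false
universe u
open CategoryTheory AlgebraicGeometry TopologicalSpace Opposite Scheme.Modules
open Groth.Agent.Lib.helper8.PullbackUnit

namespace Groth.Agent.Lib.helper11.RhoComp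

variable {X Y Z : Scheme.{u}}

/-- naturality of `ρ` in the module -/
theorem ρ_natural (g : Y ⟶ X) {U : X.Opens} {V : Y.Opens} (e : V ≤ g ⁻¹ᵁ U) {A B : X.Modules}
    (φ : A ⟶ B) (a : Γ(A, U)) :
    (((pullback g).map φ).app V).hom (ρ g e A a) = ρ g e B ((φ.app U).hom a) := by
  rw [ρ_apply, ρ_apply, Groth.Agent.Lib.helper16.QCohEpi.app_map ((pullback g).map φ) e]
  congr 1
  have h1 := (pullbackPushforwardAdjunction g).unit.naturality φ
  have h2 := congrArg (fun ψ => (ψ.app U).hom a) h1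
  exact h2.symm

/-- `ρ` along equal morphisms -/
theorem ρ_congr {f f' : Y ⟶ X} (hf : f = f') (A : X.Modules) {U : X.Opens} {V : Y.Opens}
    (e : V ≤ f ⁻¹ᵁ U) (e' : V ≤ f' ⁻¹ᵁ U) (a : Γ(A, U)) :
    (((pullbackCongr hf).hom.app A).app V).hom (ρ f e A a) = ρ f' e' A a := by
  subst hf
  have : (pullbackCongr (rfl : f = f)).hom.app A = 𝟙 _ := by
    unfold pullbackCongr
    simp
  rw [this]
  rfl

theorem unit_comp (f : Z ⟶ Y) (g : Y ⟶ X) (A : X.Modules) (U : X.Opens) (a : Γ(A, U)) :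
    (((pullbackComp f g).inv.app A).app ((f ≫ g) ⁻¹ᵁ U)).hom
      ((((pullbackPushforwardAdjunction (f ≫ g)).unit.app A).app U).hom a) =
    (((pullbackPushforwardAdjunction f).unit.app ((pullback g).obj A)).app (g ⁻¹ᵁ U)).hom
      ((((pullbackPushforwardAdjunction g).unit.app A).app U).hom a) := by
  have h1 := unit_conjugateEquiv
    ((pullbackPushforwardAdjunction g).comp (pullbackPushforwardAdjunction f))
    (pullbackPushforwardAdjunction (f ≫ g)) (pullbackComp f g).inv A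
  rw [conjugateEquiv_pullbackComp_inv] at h1
  have h2 := congrArg (fun ψ => (ψ.app U).hom a) h1
  exact h2.symm

/-- `ρ` of a composite -/
theorem ρ_comp (f : Z ⟶ Y) (g : Y ⟶ X) (A : X.Modules) {U : X.Opens} {V : Y.Opens} {W : Z.Opens}
    (e1 : V ≤ g ⁻¹ᵁ U) (e2 : W ≤ f ⁻¹ᵁ V) (e3 : W ≤ (f ≫ g) ⁻¹ᵁ U) (a : Γ(A, U)) :
    (((pullbackComp f g).hom.app A).app W).hom (ρ f e2 ((pullback g).obj A) (ρ g e1 A a)) =
      ρ (f ≫ g) e3 A a := by
  have key : ρ f e2 ((pullback g).obj A) (ρ g e1 A a) =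
      (((pullbackComp f g).inv.app A).app W).hom (ρ (f ≫ g) e3 A a) := by
    rw [ρ_apply (f ≫ g), Groth.Agent.Lib.helper16.QCohEpi.app_map ((pullbackComp f g).inv.app A) e3,
      unit_comp, ρ_apply, ρ_apply]
    have h1 := Groth.Agent.Lib.helper16.QCohEpi.app_map
      ((pullbackPushforwardAdjunction f).unit.app ((pullback g).obj A)) e1
      ((((pullbackPushforwardAdjunction g).unit.app A).app U).hom a)
    refine (congrArg (fun t => ((pullback f).obj ((pullback g).obj A)).presheaf.map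
      (homOfLE e2).op t) h1).trans ?_
    generalize (((pullbackPushforwardAdjunction f).unit.app ((pullback g).obj A)).app (g ⁻¹ᵁ U)).hom
      ((((pullbackPushforwardAdjunction g).unit.app A).app U).hom a) = x
    change ((pullback f).obj ((pullback g).obj A)).presheaf.map _
      (((pullback f).obj ((pullback g).obj A)).presheaf.map _ x) = _
    rw [← ConcreteCategory.comp_apply, ← Functor.map_comp]
    rfl
  rw [key]
  have h3 : ((pullbackComp f g).inv.app A) ≫ ((pullbackComp f g).hom.app A) = 𝟙 _ :=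
    (pullbackComp f g).inv_hom_id_app A
  have h4 := congrArg (fun ψ => (ψ.app W).hom (ρ (f ≫ g) e3 A a)) h3
  exact h4

/-- `ρ` of a composite, followed by `pullbackCongr` -/
theorem ρ_comp_congr (f : Z ⟶ Y) (g : Y ⟶ X) (p : Z ⟶ X) (hp : f ≫ g = p) (A : X.Modules)
    {U : X.Opens} {V : Y.Opens} {W : Z.Opens} (e1 : V ≤ g ⁻¹ᵁ U) (e2 : W ≤ f ⁻¹ᵁ V)
    (e3 : W ≤ p ⁻¹ᵁ U) (a : Γ(A, U)) :
    (((pullbackComp f g).hom.app A ≫ (pullbackCongr hp).hom.app A).app W).hom
      (ρ f e2 ((pullback g).obj A) (ρ g e1 A a)) = ρ p e3 A a := by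
  have e3' : W ≤ (f ≫ g) ⁻¹ᵁ U := by rw [hp]; exact e3
  rw [Hom.comp_app, AddCommGrpCat.hom_comp, AddMonoidHom.comp_apply, ρ_comp f g A e1 e2 e3' a]
  exact ρ_congr hp A e3' e3 a

/-- `ρ_comp_congr` with the comparison morphism abstracted -/
theorem ρ_comp_congr' (f : Z ⟶ Y) (g : Y ⟶ X) (p : Z ⟶ X) (hp : f ≫ g = p) (A : X.Modules)
    {U : X.Opens} {V : Y.Opens} {W : Z.Opens} (e1 : V ≤ g ⁻¹ᵁ U) (e2 : W ≤ f ⁻¹ᵁ V)
    (e3 : W ≤ p ⁻¹ᵁ U) (E : (pullback f).obj ((pullback g).obj A) ⟶ (pullback p).obj A)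
    (hE : E = (pullbackComp f g).hom.app A ≫ (pullbackCongr hp).hom.app A) (a : Γ(A, U)) :
    (E.app W).hom (ρ f e2 ((pullback g).obj A) (ρ g e1 A a)) = ρ p e3 A a := by
  subst hE
  exact ρ_comp_congr f g p hp A e1 e2 e3 a

end Groth.Agent.Lib.helper11.RhoComp
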