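import Mathlib
import Groth.Agent.Lib.Helper17.FlatOver1
import Groth.Agent.Lib.Helper8.PullbackUnit2
import Groth.Agent.Lib.Helper11.RhoComp
import Groth.Agent.Lib.Helper11.LimPresRing
import Groth.Agent.Lib.Helper16.QCohPullback

/-!
# Sections of a pulled back morphism of modules on charts of a fibre product (helper11)

For a cartesian square `X' = X ×_S S'`, affine opens `US`, `UT ≤ g⁻¹US`, `UX ≤ f⁻¹US`, and
`u : F ⟶ G` a morphism of quasi-coherent modules on `X`: the map of sections of `g'^* u` over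
`g'⁻¹UX ⊓ f'⁻¹UT` is the base change `Γ(S',UT) ⊗[Γ(S,US)] u(UX)` (`chart_square`).
-/

set_option autoImplicit false
set_option linter.style.haveILetI false
universe u
open CategoryTheory CategoryTheory.Limits AlgebraicGeometry TopologicalSpace Opposite TensorProduct

namespace Groth.Agent.Lib.helper11.LimPresChart

open Scheme.Modules Groth.Agent.Lib.helper17.FlatOver1 Groth.Agent.Lib.helper8.PullbackUnit

variable {X S X' S' : Scheme.{u}} {f : X ⟶ S} {f' : X' ⟶ S'} {g' : X' ⟶ X} {g : S' ⟶ S}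

variable (f) in
/-- the map on sections of a morphism of modules, as a linear map over sections of the base -/
noncomputable def appLinBase {F G : X.Modules} (u : F ⟶ G) {UX : X.Opens} {US : S.Opens}
    (hUSX : UX ≤ f ⁻¹ᵁ US) :
    letI := modSecBase f F hUSX
    letI := modSecBase f G hUSX
    Γ(F, UX) →ₗ[Γ(S, US)] Γ(G, UX) :=
  letI := modSecBase f F hUSX
  letI := modSecBase f G hUSX
  { toFun := (u.app UX).hom
    map_add' := fun a b => map_add _ a b
    map_smul' := fun r x => Scheme.Modules.Hom.app_smul u ((f.appLE US UX hUSX).hom r) x }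

theorem appLinBase_apply {F G : X.Modules} (u : F ⟶ G) {UX : X.Opens} {US : S.Opens}
    (hUSX : UX ≤ f ⁻¹ᵁ US) (x : Γ(F, UX)) :
    letI := modSecBase f F hUSX
    letI := modSecBase f G hUSX
    appLinBase f u hUSX x = (u.app UX).hom x := rfl

variable (f) in
/-- the base change to `A'` of the map on sections of a morphism of modules -/
noncomputable def tensorApp {F G : X.Modules} (u : F ⟶ G) {UX : X.Opens} {US : S.Opens}
    (hUSX : UX ≤ f ⁻¹ᵁ US) (A' : Type u) [CommRing A'] [Algebra Γ(S, US) A'] :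
    letI := modSecBase f F hUSX
    letI := modSecBase f G hUSX
    A' ⊗[Γ(S, US)] Γ(F, UX) →ₗ[Γ(S, US)] A' ⊗[Γ(S, US)] Γ(G, UX) :=
  letI := modSecBase f F hUSX
  letI := modSecBase f G hUSX
  LinearMap.lTensor A' (appLinBase f u hUSX)

theorem chart_square (hc : IsPullback g' f' f g) {F G : X.Modules}
    [F.IsQuasicoherent] [G.IsQuasicoherent] (u : F ⟶ G)
    {US : S.Opens} {UT : S'.Opens} {UX : X.Opens} (hUST : UT ≤ g ⁻¹ᵁ US)
    (hUSX : UX ≤ f ⁻¹ᵁ US) (hUS : IsAffineOpen US) (hUT : IsAffineOpen UT)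
    (hUX : IsAffineOpen UX) (φ : Γ(S, US) ⟶ Γ(S', UT)) (hφ : φ = g.appLE US UT hUST) :
    letI := φ.hom.toAlgebra
    letI := modSecBase f F hUSX
    letI := modSecBase f G hUSX
    ∃ (eF : Γ(S', UT) ⊗[Γ(S, US)] Γ(F, UX) ≃+
        Γ((Scheme.Modules.pullback g').obj F, g' ⁻¹ᵁ UX ⊓ f' ⁻¹ᵁ UT))
      (eG : Γ(S', UT) ⊗[Γ(S, US)] Γ(G, UX) ≃+
        Γ((Scheme.Modules.pullback g').obj G, g' ⁻¹ᵁ UX ⊓ f' ⁻¹ᵁ UT)),
      ∀ x, (((Scheme.Modules.pullback g').map u).app (g' ⁻¹ᵁ UX ⊓ f' ⁻¹ᵁ UT)).hom (eF x) =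
        eG (tensorApp f u hUSX Γ(S', UT) x) := by
  subst hφ
  letI algAA' : Algebra Γ(S, US) Γ(S', UT) := (g.appLE US UT hUST).hom.toAlgebra
  letI mAM : Module Γ(S, US) Γ(F, UX) := modSecBase f F hUSX
  letI mAN : Module Γ(S, US) Γ(G, UX) := modSecBase f G hUSX
  set UY : X'.Opens := g' ⁻¹ᵁ UX ⊓ f' ⁻¹ᵁ UT with hUYdef
  have hUYX : UY ≤ g' ⁻¹ᵁ UX := inf_le_left
  have hUYT : UY ≤ f' ⁻¹ᵁ UT := inf_le_right
  have hUY : IsAffineOpen UY := by
    haveI : IsAffine (US : Scheme) := hUS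
    haveI : IsAffine (UT : Scheme) := hUT
    haveI : IsAffine (UX : Scheme) := hUX
    exact .of_isIso (Scheme.Hom.isPullback_resLE hc hUST hUSX rfl).isoPullback.hom
  have hpo : IsPushout (f.appLE US UX hUSX) (g.appLE US UT hUST) (g'.appLE UX UY hUYX)
      (f'.appLE UT UY hUYT) := by
    haveI := isIso_pushoutSection_of_isAffineOpen hc hUST hUSX rfl hUS hUT hUX
    exact (isIso_pushoutSection_iff hc hUST hUSX rfl).mp inferInstance
  have hpo' : IsPushout (CommRingCat.ofHom (g.appLE US UT hUST).hom)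
      (CommRingCat.ofHom (f.appLE US UX hUSX).hom) (CommRingCat.ofHom (f'.appLE UT UY hUYT).hom)
      (CommRingCat.ofHom (g'.appLE UX UY hUYX).hom) := hpo.flip
  set PF := (Scheme.Modules.pullback g').obj F with hPF
  set PG := (Scheme.Modules.pullback g').obj G with hPG
  -- modules over the base rings
  letI mA'PF : Module Γ(S', UT) Γ(PF, UY) := modSecBase f' PF hUYT
  letI mA'PG : Module Γ(S', UT) Γ(PG, UY) := modSecBase f' PG hUYT
  letI mAPF : Module Γ(S, US) Γ(PF, UY) := Module.compHom _ (algebraMap Γ(S, US) Γ(S', UT))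
  letI mAPG : Module Γ(S, US) Γ(PG, UY) := Module.compHom _ (algebraMap Γ(S, US) Γ(S', UT))
  haveI : IsScalarTower Γ(S, US) Γ(S', UT) Γ(PF, UY) :=
    IsScalarTower.of_algebraMap_smul (fun r x => rfl)
  haveI : IsScalarTower Γ(S, US) Γ(S', UT) Γ(PG, UY) :=
    IsScalarTower.of_algebraMap_smul (fun r x => rfl)
  have hbcF : IsBC (g.appLE US UT hUST).hom (ρ g' hUYX F) :=
    IsBC.cancel hpo' (isBC_ρ g' hUX hUY hUYX F)
  have hbcG : IsBC (g.appLE US UT hUST).hom (ρ g' hUYX G) :=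
    IsBC.cancel hpo' (isBC_ρ g' hUX hUY hUYX G)
  let kF : Γ(F, UX) →ₗ[Γ(S, US)] Γ(PF, UY) :=
    { toFun := ρ g' hUYX F
      map_add' := fun a b => map_add _ a b
      map_smul' := fun r m => hbcF.map_smul r m }
  let kG : Γ(G, UX) →ₗ[Γ(S, US)] Γ(PG, UY) :=
    { toFun := ρ g' hUYX G
      map_add' := fun a b => map_add _ a b
      map_smul' := fun r m => hbcG.map_smul r m }
  have hkF : IsBaseChange Γ(S', UT) kF := IsBC.isBaseChange kF hbcF
  have hkG : IsBaseChange Γ(S', UT) kG := IsBC.isBaseChange kG hbcG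
  let ψ' : Γ(PF, UY) →ₗ[Γ(S', UT)] Γ(PG, UY) :=
    appLinBase f' ((Scheme.Modules.pullback g').map u) hUYT
  have hsq : ∀ m, ψ' (kF m) = kG (appLinBase f u hUSX m) := fun m =>
    Groth.Agent.Lib.helper11.RhoComp.ρ_natural g' hUYX u m
  refine ⟨hkF.equiv.toAddEquiv, hkG.equiv.toAddEquiv, fun x => ?_⟩
  exact Groth.Agent.Lib.helper11.LimPresRing.baseChange_square hkF hkG
    (appLinBase f u hUSX) ψ' hsq x

end Groth.Agent.Lib.helper11.LimPresChart
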