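import Mathlib
import Groth.Agent.Lib.Helper11.LimPresChart
import Groth.Agent.Lib.Helper7.KerSections
import Groth.Agent.Lib.Helper16.QCohEpi
import Groth.Agent.Lib.Helper21.RelFPSch4

/-!
# Zero / epi / iso of a pulled back morphism of modules via charts (helper11)

In a cartesian square `X' = X ×_S S'` with `S`, `S'` affine and an affine open cover `W` of `X`:
`g'^* u` is zero / epi / iso iff `Γ(S') ⊗[Γ(S)] u(W w)` is zero / surjective / bijective for all
`w`.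
-/

set_option autoImplicit false
set_option linter.style.haveILetI false
universe u
open CategoryTheory CategoryTheory.Limits AlgebraicGeometry TopologicalSpace Opposite TensorProduct

namespace Groth.Agent.Lib.helper11.LimPresCover

open Scheme.Modules Groth.Agent.Lib.helper17.FlatOver1 Groth.Agent.Lib.helper11.LimPresChart

/-- a morphism of quasi-coherent modules vanishing on sections over an affine cover is zero -/
theorem eq_zero_of_cover {Y : Scheme.{u}} {A B : Y.Modules} [A.IsQuasicoherent]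
    [B.IsQuasicoherent] (φ : A ⟶ B) {ι : Type*} (𝒰 : ι → Y.Opens)
    (h𝒰 : ∀ i, IsAffineOpen (𝒰 i)) (hcov : ∀ y : Y, ∃ i, y ∈ 𝒰 i)
    (h : ∀ i (s : Γ(A, 𝒰 i)), (φ.app (𝒰 i)).hom s = 0) : φ = 0 := by
  haveI : (kernel φ).IsQuasicoherent := Groth.Agent.Lib.helper7.CohKer.isQuasicoherent_kernel φ
  haveI : Epi (kernel.ι φ) :=
    Groth.Agent.Lib.helper7.KerSections.epi_of_surjective_cover (kernel.ι φ) 𝒰 h𝒰 hcov
      (fun i s => Groth.Agent.Lib.helper7.KerSections.exists_kernel_section φ (𝒰 i) s (h i s))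
  rw [← cancel_epi (kernel.ι φ), kernel.condition, comp_zero]

section Square

variable {X S X' S' : Scheme.{u}} {f : X ⟶ S} {f' : X' ⟶ S'} {g' : X' ⟶ X} {g : S' ⟶ S}
  (hc : IsPullback g' f' f g) [IsAffine S] [IsAffine S'] {K : Type*} (W : K → X.Opens)
  (hW : ∀ w, IsAffineOpen (W w)) (hcov : ∀ x : X, ∃ w, x ∈ W w) {F G : X.Modules}
  [F.IsQuasicoherent] [G.IsQuasicoherent] (u : F ⟶ G)
  (φ : Γ(S, ⊤) ⟶ Γ(S', ⊤)) (hφ : φ = g.appLE ⊤ ⊤ le_top)

include hc hW in
theorem isAffineOpen_chart (w : K) : IsAffineOpen (g' ⁻¹ᵁ (W w) ⊓ f' ⁻¹ᵁ ⊤) :=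
  Groth.Agent.Lib.helper21.RelFPSch.isAffineOpen_inf_of_isPullback f g f' g' hc
    (isAffineOpen_top S) (isAffineOpen_top S') (hW w) le_top le_top

include hcov in
omit [IsAffine S] [IsAffine S'] in
theorem chart_cover (x' : X') : ∃ w, x' ∈ g' ⁻¹ᵁ (W w) ⊓ f' ⁻¹ᵁ ⊤ := by
  obtain ⟨w, hw⟩ := hcov (g' x')
  exact ⟨w, hw, trivial⟩

include hc hW hcov hφ in
theorem pull_zero_iff :
    letI := φ.hom.toAlgebra
    (Scheme.Modules.pullback g').map u = 0 ↔
      ∀ w, tensorApp f u (UX := W w) (US := ⊤) le_top Γ(S', ⊤) = 0 := by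
  letI := φ.hom.toAlgebra
  haveI := Groth.Agent.Lib.helper16.QCohPullback.isQuasicoherent_pullback g' F
  haveI := Groth.Agent.Lib.helper16.QCohPullback.isQuasicoherent_pullback g' G
  constructor
  · intro h w
    obtain ⟨eF, eG, hsq⟩ := chart_square hc u (le_top : (⊤ : S'.Opens) ≤ g ⁻¹ᵁ ⊤)
      (le_top : W w ≤ f ⁻¹ᵁ ⊤) (isAffineOpen_top S) (isAffineOpen_top S') (hW w) φ hφ
    apply LinearMap.ext
    intro x
    apply eG.injective
    have h1 : (((Scheme.Modules.pullback g').map u).app (g' ⁻¹ᵁ (W w) ⊓ f' ⁻¹ᵁ ⊤)).hom (eF x) =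
        0 := by
      rw [h]
      rfl
    rw [← hsq x, h1, LinearMap.zero_apply, map_zero]
  · intro h
    refine eq_zero_of_cover _ (fun w => g' ⁻¹ᵁ (W w) ⊓ f' ⁻¹ᵁ ⊤)
      (isAffineOpen_chart hc W hW) (chart_cover W hcov) (fun w s => ?_)
    obtain ⟨eF, eG, hsq⟩ := chart_square hc u (le_top : (⊤ : S'.Opens) ≤ g ⁻¹ᵁ ⊤)
      (le_top : W w ≤ f ⁻¹ᵁ ⊤) (isAffineOpen_top S) (isAffineOpen_top S') (hW w) φ hφ
    obtain ⟨x, rfl⟩ := eF.surjective s
    rw [hsq x, h w, LinearMap.zero_apply, map_zero]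

include hc hW hcov hφ in
theorem pull_epi_iff :
    letI := φ.hom.toAlgebra
    Epi ((Scheme.Modules.pullback g').map u) ↔
      ∀ w, Function.Surjective (tensorApp f u (UX := W w) (US := ⊤) le_top Γ(S', ⊤)) := by
  letI := φ.hom.toAlgebra
  haveI := Groth.Agent.Lib.helper16.QCohPullback.isQuasicoherent_pullback g' F
  haveI := Groth.Agent.Lib.helper16.QCohPullback.isQuasicoherent_pullback g' G
  constructor
  · intro h w
    obtain ⟨eF, eG, hsq⟩ := chart_square hc u (le_top : (⊤ : S'.Opens) ≤ g ⁻¹ᵁ ⊤)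
      (le_top : W w ≤ f ⁻¹ᵁ ⊤) (isAffineOpen_top S) (isAffineOpen_top S') (hW w) φ hφ
    intro y
    obtain ⟨s, hs⟩ := Groth.Agent.Lib.helper16.QCohEpi.surjective_app_of_epi
      ((Scheme.Modules.pullback g').map u) (isAffineOpen_chart hc W hW w) (eG y)
    obtain ⟨x, rfl⟩ := eF.surjective s
    refine ⟨x, eG.injective ?_⟩
    rw [← hsq x, hs]
  · intro h
    refine Groth.Agent.Lib.helper7.KerSections.epi_of_surjective_cover _
      (fun w => g' ⁻¹ᵁ (W w) ⊓ f' ⁻¹ᵁ ⊤) (isAffineOpen_chart hc W hW) (chart_cover W hcov)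
      (fun w s => ?_)
    obtain ⟨eF, eG, hsq⟩ := chart_square hc u (le_top : (⊤ : S'.Opens) ≤ g ⁻¹ᵁ ⊤)
      (le_top : W w ≤ f ⁻¹ᵁ ⊤) (isAffineOpen_top S) (isAffineOpen_top S') (hW w) φ hφ
    obtain ⟨y, rfl⟩ := eG.surjective s
    obtain ⟨x, rfl⟩ := h w y
    exact ⟨eF x, hsq x⟩

include hc hW hcov hφ in
theorem pull_isIso_iff :
    letI := φ.hom.toAlgebra
    IsIso ((Scheme.Modules.pullback g').map u) ↔
      ∀ w, Function.Bijective (tensorApp f u (UX := W w) (US := ⊤) le_top Γ(S', ⊤)) := by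
  letI := φ.hom.toAlgebra
  haveI := Groth.Agent.Lib.helper16.QCohPullback.isQuasicoherent_pullback g' F
  haveI := Groth.Agent.Lib.helper16.QCohPullback.isQuasicoherent_pullback g' G
  constructor
  · intro h w
    obtain ⟨eF, eG, hsq⟩ := chart_square hc u (le_top : (⊤ : S'.Opens) ≤ g ⁻¹ᵁ ⊤)
      (le_top : W w ≤ f ⁻¹ᵁ ⊤) (isAffineOpen_top S) (isAffineOpen_top S') (hW w) φ hφ
    have hbij : Function.Bijective
        (((Scheme.Modules.pullback g').map u).app (g' ⁻¹ᵁ (W w) ⊓ f' ⁻¹ᵁ ⊤)).hom := by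
      have : IsIso (((Scheme.Modules.pullback g').map u).app (g' ⁻¹ᵁ (W w) ⊓ f' ⁻¹ᵁ ⊤)) :=
        inferInstance
      exact (ConcreteCategory.isIso_iff_bijective _).mp this
    constructor
    · intro x y hxy
      apply eF.injective
      apply hbij.1
      rw [hsq x, hsq y, hxy]
    · intro y
      obtain ⟨s, hs⟩ := hbij.2 (eG y)
      obtain ⟨x, rfl⟩ := eF.surjective s
      refine ⟨x, eG.injective ?_⟩
      rw [← hsq x, hs]
  · intro h
    refine Groth.Agent.Lib.helper7.KerSections.isIso_of_bijective_cover _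
      (fun w => g' ⁻¹ᵁ (W w) ⊓ f' ⁻¹ᵁ ⊤) (isAffineOpen_chart hc W hW) (chart_cover W hcov)
      (fun w => ?_)
    obtain ⟨eF, eG, hsq⟩ := chart_square hc u (le_top : (⊤ : S'.Opens) ≤ g ⁻¹ᵁ ⊤)
      (le_top : W w ≤ f ⁻¹ᵁ ⊤) (isAffineOpen_top S) (isAffineOpen_top S') (hW w) φ hφ
    constructor
    · intro s t hst
      obtain ⟨x, rfl⟩ := eF.surjective s
      obtain ⟨y, rfl⟩ := eF.surjective t
      rw [hsq x, hsq y] at hst
      rw [(h w).1 (eG.injective hst)]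
    · intro s
      obtain ⟨y, rfl⟩ := eG.surjective s
      obtain ⟨x, rfl⟩ := (h w).2 y
      exact ⟨eF x, hsq x⟩

end Square

end Groth.Agent.Lib.helper11.LimPresCover
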