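import Mathlib
import Groth.Prelude.Def_FlatFun
import Groth.Prelude.Def_FlatCA
import Groth.Prelude.Def_AlgSpRep

/-!
# Framework for limit preservation of subsingleton-valued functors `genPSp S P` (helper11)

* `isLimitPreserving_genPSp`: reduce `AlgSp.IsLimitPreserving (genPSp S P)` to a `Prop`-level
  statement.
* `RingLP`, `RingMono`: ring-level limit preservation / monotonicity of a property of algebras.
* `exists_stage_of_charts`: if over a base stage `i₀` the property `P` of affine schemes over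
  `D.obj i₀` is a finite conjunction of ring-level properties `Q w` of `Γ(T', ⊤)` which are
  limit preserving and monotone, then `P (lim) → ∃ i, P (D.obj i)`.
-/

set_option autoImplicit false
set_option linter.style.haveILetI false
universe u

open CategoryTheory CategoryTheory.Limits AlgebraicGeometry Opposite

namespace Groth.Agent.Lib.helper11.LimPresFW

theorem isLimitPreserving_genPSp {S : Scheme.{u}} (P : Over S → Prop)
    (H : ∀ ⦃I : Type u⦄ [SmallCategory I] [IsCofiltered I] (D : I ⥤ Over S) (c : Cone D),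
      IsLimit ((Over.forget S).mapCone c) → (∀ i, IsAffine (D.obj i).left) →
      IsAffine c.pt.left →
      (∃ (T₀ : Over S) (_ : c.pt ⟶ T₀), P T₀) → ∃ i, ∃ (T₀ : Over S) (_ : D.obj i ⟶ T₀), P T₀) :
    AlgSp.IsLimitPreserving (FlatFun.genPSp S P) := by
  intro I _ _ D c hc hD hT
  refine ⟨Types.FilteredColimit.isColimitOf' _ _ ?_ ?_⟩
  · intro x
    obtain ⟨i, hi⟩ := H D c hc hD hT x.down.down
    exact ⟨op i, ⟨⟨hi⟩⟩, @Subsingleton.elim _ (FlatFun.genPSp_subsingleton S P (op c.pt)) _ _⟩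
  · intro i x y _
    exact ⟨i, 𝟙 i, @Subsingleton.elim _ (FlatFun.genPSp_subsingleton S P (op (D.obj i.unop))) _ _⟩

/-- for a property stable under morphisms -/
theorem isLimitPreserving_genPSp_of_stable {S : Scheme.{u}} (P : Over S → Prop)
    (hP : ∀ ⦃T T₀ : Over S⦄ (_ : T ⟶ T₀), P T₀ → P T)
    (H : ∀ ⦃I : Type u⦄ [SmallCategory I] [IsCofiltered I] (D : I ⥤ Over S) (c : Cone D),
      IsLimit ((Over.forget S).mapCone c) → (∀ i, IsAffine (D.obj i).left) →
      IsAffine c.pt.left → P c.pt → ∃ i, P (D.obj i)) :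
    AlgSp.IsLimitPreserving (FlatFun.genPSp S P) := by
  refine isLimitPreserving_genPSp P ?_
  intro I _ _ D c hc hD hT ⟨T₀, k, hk⟩
  obtain ⟨i, hi⟩ := H D c hc hD hT (hP k hk)
  exact ⟨i, D.obj i, 𝟙 _, hi⟩

theorem appTop_comp_apply {S : Scheme.{u}} {T1 T2 T3 : Over S} (p : T1 ⟶ T2) (q : T2 ⟶ T3)
    (pq : T1 ⟶ T3) (h : p ≫ q = pq) (r : Γ(T3.left, ⊤)) :
    p.left.appTop.hom (q.left.appTop.hom r) = pq.left.appTop.hom r := by
  subst h
  simp

/-- ring-level limit preservation -/
structure RingLP {R : Type u} [CommRing R]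
    (Q : ∀ (A' : Type u) [CommRing A'] [Algebra R A'], Prop) : Prop where
  out : ∀ {ι : Type u} [Preorder ι] (G : ι → Type u) [∀ i, CommRing (G i)] [∀ i, Algebra R (G i)]
    (g : ∀ i j, i ≤ j → G i →ₐ[R] G j) (A : Type u) [CommRing A] [Algebra R A]
    [∀ i, Algebra (G i) A] [∀ i, IsScalarTower R (G i) A],
    FlatCA.IsDirectedColimitRing G (fun i j h => (g i j h).toRingHom) A → Q A → ∃ i, Q (G i)

/-- ring-level monotonicity -/
structure RingMono {R : Type u} [CommRing R]
    (Q : ∀ (A' : Type u) [CommRing A'] [Algebra R A'], Prop) : Prop where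
  out : ∀ (A' A'' : Type u) [CommRing A'] [CommRing A''] [Algebra R A'] [Algebra R A'']
    (_ : A' →ₐ[R] A''), Q A' → Q A''

set_option maxHeartbeats 1600000 in
theorem exists_stage_of_charts {S : Scheme.{u}} (P : Over S → Prop)
    {I : Type u} [SmallCategory I] [IsCofiltered I] (D : I ⥤ Over S) (c : Cone D)
    (hc : IsLimit ((Over.forget S).mapCone c)) (hD : ∀ i, IsAffine (D.obj i).left)
    (hT : IsAffine c.pt.left) (i₀ : I) {K : Type*} [Finite K]
    (Q : K → ∀ (A' : Type u) [CommRing A'] [Algebra Γ((D.obj i₀).left, ⊤) A'], Prop)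
    (hQ : ∀ w, RingLP (Q w)) (hQmono : ∀ w, RingMono (Q w))
    (hPQ : ∀ (T' : Over S) (k : T' ⟶ D.obj i₀), IsAffine T'.left →
      (P T' ↔ ∀ w, @Q w Γ(T'.left, ⊤) _ (k.left.appTop.hom.toAlgebra)))
    (h : P c.pt) : ∃ i, P (D.obj i) := by
  classical
  obtain ⟨α, _, hdir, hne, F, hF⟩ := IsFiltered.exists_directed (Over i₀)ᵒᵖ
  haveI := hdir
  haveI := hne
  haveI := hF
  let obj : α → I := fun a => (F.obj a).unop.left
  let str : ∀ a, obj a ⟶ i₀ := fun a => (F.obj a).unop.hom
  let tr : ∀ a b, a ≤ b → (obj b ⟶ obj a) := fun a b h => (F.map (homOfLE h)).unop.left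
  have htr : ∀ a b h, tr a b h ≫ str a = str b := fun a b h => Over.w (F.map (homOfLE h)).unop
  have htr_id : ∀ a, tr a a le_rfl = 𝟙 _ := fun a => by
    have : homOfLE (le_refl a) = 𝟙 a := Subsingleton.elim _ _
    change (F.map (homOfLE (le_refl a))).unop.left = 𝟙 _
    rw [this, F.map_id]
    rfl
  have htr_comp : ∀ a b d (hab : a ≤ b) (hbd : b ≤ d),
      tr b d hbd ≫ tr a b hab = tr a d (hab.trans hbd) := fun a b d hab hbd => by
    have : homOfLE (hab.trans hbd) = homOfLE hab ≫ homOfLE hbd := Subsingleton.elim _ _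
    change _ = (F.map (homOfLE (hab.trans hbd))).unop.left
    rw [this, F.map_comp]
    rfl
  let Ψ : αᵒᵖ ⥤ I := F.leftOp ⋙ Over.forget i₀
  haveI : Ψ.Initial := inferInstance
  let D' : αᵒᵖ ⥤ Scheme.{u} := Ψ ⋙ D ⋙ Over.forget S
  let c' : Cone D' := ((Over.forget S).mapCone c).whisker Ψ
  have hc' : IsLimit c' := (Functor.Initial.isLimitWhiskerEquiv Ψ _).symm hc
  haveI : ∀ i, IsAffine (D'.obj i) := fun i => hD _
  -- rings
  letI algG : ∀ a, Algebra Γ((D.obj i₀).left, ⊤) Γ((D.obj (obj a)).left, ⊤) :=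
    fun a => ((D.map (str a)).left.appTop).hom.toAlgebra
  letI algA : Algebra Γ((D.obj i₀).left, ⊤) Γ(c.pt.left, ⊤) :=
    ((c.π.app i₀).left.appTop).hom.toAlgebra
  letI algGA : ∀ a, Algebra Γ((D.obj (obj a)).left, ⊤) Γ(c.pt.left, ⊤) :=
    fun a => ((c.π.app (obj a)).left.appTop).hom.toAlgebra
  haveI : ∀ a, IsScalarTower Γ((D.obj i₀).left, ⊤) Γ((D.obj (obj a)).left, ⊤) Γ(c.pt.left, ⊤) :=
    fun a => IsScalarTower.of_algebraMap_eq (fun r => by
      exact (appTop_comp_apply (c.π.app (obj a)) (D.map (str a)) (c.π.app i₀) (c.w (str a)) r).symm)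
  let g : ∀ a b, a ≤ b → Γ((D.obj (obj a)).left, ⊤) →ₐ[Γ((D.obj i₀).left, ⊤)]
      Γ((D.obj (obj b)).left, ⊤) := fun a b h =>
    { toRingHom := ((D.map (tr a b h)).left.appTop).hom
      commutes' := fun r => by
        exact appTop_comp_apply (D.map (tr a b h)) (D.map (str a)) (D.map (str b))
          (by rw [← D.map_comp, htr a b h]) r }
  have hcolim : FlatCA.IsDirectedColimitRing (fun a => Γ((D.obj (obj a)).left, ⊤))
      (fun a b h => (g a b h).toRingHom) Γ(c.pt.left, ⊤) := by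
    refine ⟨hdir, hne, ?_, ?_, ?_, ?_, ?_⟩
    · intro a
      ext r
      change ((D.map (tr a a le_rfl)).left.appTop).hom r = r
      rw [htr_id]
      simp
    · intro a b d hab hbd
      ext r
      exact appTop_comp_apply (D.map (tr b d hbd)) (D.map (tr a b hab))
        (D.map (tr a d (hab.trans hbd))) (by rw [← D.map_comp, htr_comp a b d hab hbd]) r
    · intro a b hab
      ext r
      exact appTop_comp_apply (c.π.app (obj b)) (D.map (tr a b hab)) (c.π.app (obj a))
        (c.w (tr a b hab)) r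
    · intro s
      obtain ⟨i, t, ht⟩ := exists_appTop_π_eq_of_isAffine_of_isLimit D' c' hc' s
      exact ⟨i.unop, t, ht⟩
    · intro a s hs
      obtain ⟨j, f, hf⟩ := exists_appTop_map_eq_zero_of_isAffine_of_isLimit D' c' hc' (op a) s hs
      refine ⟨j.unop, leOfHom f.unop, ?_⟩
      have : f.unop = homOfLE (leOfHom f.unop) := Subsingleton.elim _ _
      change ((D.map (F.map (homOfLE (leOfHom f.unop))).unop.left).left.appTop).hom s = 0
      rw [← this]
      exact hf
  have hA : ∀ w, Q w Γ(c.pt.left, ⊤) := (hPQ c.pt (c.π.app i₀) hT).mp h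
  have hstage : ∀ w, ∃ a, Q w Γ((D.obj (obj a)).left, ⊤) := fun w =>
    (hQ w).out (fun a => Γ((D.obj (obj a)).left, ⊤)) g Γ(c.pt.left, ⊤) hcolim (hA w)
  choose aw haw using hstage
  obtain ⟨b, hb⟩ := Finite.exists_le aw
  refine ⟨obj b, (hPQ (D.obj (obj b)) (D.map (str b)) (hD _)).mpr (fun w => ?_)⟩
  exact (hQmono w).out _ _ (g (aw w) b (hb w)) (haw w)

end Groth.Agent.Lib.helper11.LimPresFW
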