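import Mathlib
import Groth.Agent.Lib.Helper11.LimPresRing
import Groth.Agent.Lib.Helper11.LimPresFW

/-!
# `RingLP` / `RingMono` for vanishing, surjectivity, injectivity of base changed maps (helper11)
-/

set_option autoImplicit false
set_option linter.style.haveILetI false
universe u

open TensorProduct

namespace Groth.Agent.Lib.helper11.LimPresRing

open Groth.Agent.Lib.helper11.LimPresFW

variable {R : Type u} [CommRing R] {B : Type u} [CommRing B] [Algebra R B]
  {M N : Type u} [AddCommGroup M] [Module B M] [Module R M] [IsScalarTower R B M]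
  [AddCommGroup N] [Module B N] [Module R N] [IsScalarTower R B N]

theorem ringLP_zero [Module.Finite B M] (φ : M →ₗ[B] N) :
    RingLP (R := R) (fun A' _ _ => LinearMap.lTensor A' (φ.restrictScalars R) = 0) := by
  refine ⟨?_⟩
  intro ι _ G _ _ g A _ _ _ _ hcolim h
  exact lTensor_eq_zero_of_colim G g A hcolim φ h

theorem ringMono_zero (φ : M →ₗ[B] N) :
    RingMono (R := R) (fun A' _ _ => LinearMap.lTensor A' (φ.restrictScalars R) = 0) := by
  refine ⟨?_⟩
  intro A' A'' _ _ _ _ h hA'
  exact lTensor_eq_zero_of_algHom h _ hA'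

/-- surjectivity of `A' ⊗ φ` in terms of vanishing of `A' ⊗ (N → coker φ)`, `B`-linear form -/
theorem lTensor_surjective_iff' (A' : Type u) [CommRing A'] [Algebra R A'] (φ : M →ₗ[B] N) :
    Function.Surjective (LinearMap.lTensor A' (φ.restrictScalars R)) ↔
      LinearMap.lTensor A' ((LinearMap.range φ).mkQ.restrictScalars R) = 0 := by
  have hex : Function.Exact (φ.restrictScalars R) ((LinearMap.range φ).mkQ.restrictScalars R) := by
    intro n
    change (LinearMap.range φ).mkQ n = 0 ↔ n ∈ Set.range φ
    rw [Submodule.mkQ_apply, Submodule.Quotient.mk_eq_zero]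
    rfl
  have hex' := lTensor_exact A' hex (Submodule.mkQ_surjective _)
  constructor
  · intro h
    apply LinearMap.ext
    intro y
    obtain ⟨x, rfl⟩ := h y
    rw [LinearMap.zero_apply]
    exact (hex' _).mpr ⟨x, rfl⟩
  · intro h y
    exact (hex' y).mp (by rw [h, LinearMap.zero_apply])

/-- injectivity of `A' ⊗ φ` for surjective `φ` in terms of vanishing of `A' ⊗ (ker φ → M)` -/
theorem lTensor_injective_iff' (A' : Type u) [CommRing A'] [Algebra R A'] (φ : M →ₗ[B] N)
    (hφ : Function.Surjective φ) :
    Function.Injective (LinearMap.lTensor A' (φ.restrictScalars R)) ↔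
      LinearMap.lTensor A' ((LinearMap.ker φ).subtype.restrictScalars R) = 0 := by
  have hex : Function.Exact ((LinearMap.ker φ).subtype.restrictScalars R)
      (φ.restrictScalars R) := by
    intro m
    constructor
    · intro h
      exact ⟨⟨m, h⟩, rfl⟩
    · rintro ⟨x, rfl⟩
      exact x.2
  have hex' := lTensor_exact A' hex hφ
  constructor
  · intro h
    apply LinearMap.ext
    intro y
    rw [LinearMap.zero_apply]
    apply h
    rw [map_zero]
    exact (hex' _).mpr ⟨y, rfl⟩
  · intro h
    rw [← LinearMap.ker_eq_bot, LinearMap.ker_eq_bot']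
    intro y hy
    obtain ⟨x, rfl⟩ := (hex' y).mp hy
    rw [h, LinearMap.zero_apply]

theorem ringLP_surjective [Module.Finite B N] (φ : M →ₗ[B] N) :
    RingLP (R := R)
      (fun A' _ _ => Function.Surjective (LinearMap.lTensor A' (φ.restrictScalars R))) := by
  refine ⟨?_⟩
  intro ι _ G _ _ g A _ _ _ _ hcolim h
  rw [lTensor_surjective_iff'] at h
  obtain ⟨j, hj⟩ := lTensor_eq_zero_of_colim G g A hcolim (LinearMap.range φ).mkQ h
  exact ⟨j, (lTensor_surjective_iff' (G j) φ).mpr hj⟩

theorem ringMono_surjective (φ : M →ₗ[B] N) :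
    RingMono (R := R)
      (fun A' _ _ => Function.Surjective (LinearMap.lTensor A' (φ.restrictScalars R))) := by
  refine ⟨?_⟩
  intro A' A'' _ _ _ _ h hA'
  rw [lTensor_surjective_iff'] at hA' ⊢
  exact lTensor_eq_zero_of_algHom h _ hA'

theorem ringLP_injective [Module.Finite B M] [Module.FinitePresentation B N] (φ : M →ₗ[B] N)
    (hφ : Function.Surjective φ) :
    RingLP (R := R)
      (fun A' _ _ => Function.Injective (LinearMap.lTensor A' (φ.restrictScalars R))) := by
  refine ⟨?_⟩
  intro ι _ G _ _ g A _ _ _ _ hcolim h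
  rw [lTensor_injective_iff' _ _ hφ] at h
  haveI : Module.Finite B (LinearMap.ker φ) :=
    Module.Finite.iff_fg.mpr (Module.FinitePresentation.fg_ker φ hφ)
  obtain ⟨j, hj⟩ := lTensor_eq_zero_of_colim G g A hcolim (LinearMap.ker φ).subtype h
  exact ⟨j, (lTensor_injective_iff' (G j) φ hφ).mpr hj⟩

theorem ringMono_injective (φ : M →ₗ[B] N) (hφ : Function.Surjective φ) :
    RingMono (R := R)
      (fun A' _ _ => Function.Injective (LinearMap.lTensor A' (φ.restrictScalars R))) := by
  refine ⟨?_⟩
  intro A' A'' _ _ _ _ h hA'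
  rw [lTensor_injective_iff' _ _ hφ] at hA' ⊢
  exact lTensor_eq_zero_of_algHom h _ hA'

end Groth.Agent.Lib.helper11.LimPresRing
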