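import Mathlib
import Groth.Prelude.Def_FGA
import Groth.Prelude.Def_CohB1
import Groth.Agent.Lib.Helper11.LimPresCover
import Groth.Agent.Lib.Helper11.LimPresRing2
import Groth.Agent.Lib.Helper11.FlatIdealMain
import Groth.Agent.Lib.Helper14.HilbSep1
import Groth.Agent.Lib.Helper16.QCohPullback2
import Groth.Agent.Lib.Helper16.CohFP

/-!
# Limit preservation of the functors `F_zero`, `F_surj`, `F_iso` (helper11)
-/

set_option autoImplicit false
set_option linter.style.haveILetI false
universe u
open CategoryTheory CategoryTheory.Limits AlgebraicGeometry TopologicalSpace Opposite TensorProduct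

namespace Groth.Agent.Lib.helper11.LimPresMain

open Scheme.Modules Groth.Agent.Lib.helper17.FlatOver1 Groth.Agent.Lib.helper11.LimPresChart
  Groth.Agent.Lib.helper11.LimPresCover Groth.Agent.Lib.helper11.LimPresFW
  Groth.Agent.Lib.helper11.LimPresRing

section NatIso

variable {C D : Type*} [Category C] [Category D] {G₁ G₂ : C ⥤ D} {A B : C}

theorem map_eq_conj (η : G₁ ≅ G₂) (u : A ⟶ B) :
    G₂.map u = η.inv.app A ≫ G₁.map u ≫ η.hom.app B :=
  (NatIso.naturality_1 η u).symm

theorem map_eq_zero_iff [HasZeroMorphisms D] (η : G₁ ≅ G₂) (u : A ⟶ B) :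
    G₂.map u = 0 ↔ G₁.map u = 0 := by
  constructor
  · intro h
    rw [map_eq_conj η.symm u, Iso.symm_inv, Iso.symm_hom, h, zero_comp, comp_zero]
  · intro h
    rw [map_eq_conj η u, h, zero_comp, comp_zero]

theorem epi_map_iff (η : G₁ ≅ G₂) (u : A ⟶ B) : Epi (G₂.map u) ↔ Epi (G₁.map u) := by
  constructor
  · intro h
    rw [map_eq_conj η.symm u]
    infer_instance
  · intro h
    rw [map_eq_conj η u]
    infer_instance

theorem isIso_map_iff (η : G₁ ≅ G₂) (u : A ⟶ B) : IsIso (G₂.map u) ↔ IsIso (G₁.map u) := by
  constructor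
  · intro h
    rw [map_eq_conj η.symm u]
    infer_instance
  · intro h
    rw [map_eq_conj η u]
    infer_instance

end NatIso

section Bridge

variable {X S : Scheme.{u}} (f : X ⟶ S) {F G : X.Modules} (u : F ⟶ G) {UX : X.Opens}
  {US : S.Opens} (hUSX : UX ≤ f ⁻¹ᵁ US)

/-- the map on sections as a linear map over the sections of the structure sheaf -/
noncomputable def appLin : Γ(F, UX) →ₗ[Γ(X, UX)] Γ(G, UX) where
  toFun := (u.app UX).hom
  map_add' := fun a b => map_add _ a b
  map_smul' := fun r x => Scheme.Modules.Hom.app_smul u r x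

theorem ringLP_tensorApp_zero (hfin : Module.Finite Γ(X, UX) Γ(F, UX)) :
    RingLP (R := Γ(S, US)) (fun A' _ _ => tensorApp f u hUSX A' = 0) := by
  letI := (f.appLE US UX hUSX).hom.toAlgebra
  letI := modSecBase f F hUSX
  letI := modSecBase f G hUSX
  haveI := isScalarTower_sections f F hUSX
  haveI := isScalarTower_sections f G hUSX
  exact ringLP_zero (R := Γ(S, US)) (appLin u (UX := UX))

theorem ringMono_tensorApp_zero :
    RingMono (R := Γ(S, US)) (fun A' _ _ => tensorApp f u hUSX A' = 0) := by
  letI := (f.appLE US UX hUSX).hom.toAlgebra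
  letI := modSecBase f F hUSX
  letI := modSecBase f G hUSX
  haveI := isScalarTower_sections f F hUSX
  haveI := isScalarTower_sections f G hUSX
  exact ringMono_zero (R := Γ(S, US)) (appLin u (UX := UX))

theorem ringLP_tensorApp_surjective (hfin : Module.Finite Γ(X, UX) Γ(G, UX)) :
    RingLP (R := Γ(S, US)) (fun A' _ _ => Function.Surjective (tensorApp f u hUSX A')) := by
  letI := (f.appLE US UX hUSX).hom.toAlgebra
  letI := modSecBase f F hUSX
  letI := modSecBase f G hUSX
  haveI := isScalarTower_sections f F hUSX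
  haveI := isScalarTower_sections f G hUSX
  exact ringLP_surjective (R := Γ(S, US)) (appLin u (UX := UX))

theorem ringMono_tensorApp_surjective :
    RingMono (R := Γ(S, US)) (fun A' _ _ => Function.Surjective (tensorApp f u hUSX A')) := by
  letI := (f.appLE US UX hUSX).hom.toAlgebra
  letI := modSecBase f F hUSX
  letI := modSecBase f G hUSX
  haveI := isScalarTower_sections f F hUSX
  haveI := isScalarTower_sections f G hUSX
  exact ringMono_surjective (R := Γ(S, US)) (appLin u (UX := UX))

theorem ringLP_tensorApp_bijective (hfinF : Module.Finite Γ(X, UX) Γ(F, UX))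
    (hfpG : Module.FinitePresentation Γ(X, UX) Γ(G, UX))
    (hsurj : Function.Surjective (u.app UX).hom) :
    RingLP (R := Γ(S, US)) (fun A' _ _ => Function.Bijective (tensorApp f u hUSX A')) := by
  letI := (f.appLE US UX hUSX).hom.toAlgebra
  letI := modSecBase f F hUSX
  letI := modSecBase f G hUSX
  haveI := isScalarTower_sections f F hUSX
  haveI := isScalarTower_sections f G hUSX
  have h1 := ringLP_injective (R := Γ(S, US)) (appLin u (UX := UX)) hsurj
  refine ⟨?_⟩
  intro ι _ Gr _ _ g A _ _ _ _ hcolim h
  obtain ⟨j, hj⟩ := h1.out Gr g A hcolim h.1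
  exact ⟨j, hj, LinearMap.lTensor_surjective (Gr j)
    (g := (appLin u (UX := UX)).restrictScalars Γ(S, US)) hsurj⟩

theorem ringMono_tensorApp_bijective (hsurj : Function.Surjective (u.app UX).hom) :
    RingMono (R := Γ(S, US)) (fun A' _ _ => Function.Bijective (tensorApp f u hUSX A')) := by
  letI := (f.appLE US UX hUSX).hom.toAlgebra
  letI := modSecBase f F hUSX
  letI := modSecBase f G hUSX
  haveI := isScalarTower_sections f F hUSX
  haveI := isScalarTower_sections f G hUSX
  have h1 := ringMono_injective (R := Γ(S, US)) (appLin u (UX := UX)) hsurj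
  refine ⟨?_⟩
  intro A' A'' _ _ _ _ h hA'
  exact ⟨h1.out A' A'' h hA'.1, LinearMap.lTensor_surjective A''
    (g := (appLin u (UX := UX)).restrictScalars Γ(S, US)) hsurj⟩

end Bridge

end Groth.Agent.Lib.helper11.LimPresMain
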