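import Mathlib
import Groth.Agent.Lib.Helper11.LimPresMain

/-!
# Limit preservation of the functors `F_zero`, `F_surj`, `F_iso`: core statements (helper11)
-/

set_option autoImplicit false
set_option linter.style.haveILetI false
universe u
open CategoryTheory CategoryTheory.Limits AlgebraicGeometry TopologicalSpace Opposite TensorProduct

namespace Groth.Agent.Lib.helper11.LimPresMain

open Scheme.Modules Groth.Agent.Lib.helper17.FlatOver1 Groth.Agent.Lib.helper11.LimPresChart
  Groth.Agent.Lib.helper11.LimPresCover Groth.Agent.Lib.helper11.LimPresFW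
  Groth.Agent.Lib.helper11.LimPresRing

variable {X S : Scheme.{u}} (f : X ⟶ S)

/-- the comparison isomorphism `X_k^* ∘ pr₀^* ≅ pr'^*` -/
noncomputable def ηT {T₀ T' : Over S} (k : T' ⟶ T₀) :
    Scheme.Modules.pullback (pullback.fst f T₀.hom) ⋙ Scheme.Modules.pullback (PicF.XTmap f k) ≅
      Scheme.Modules.pullback (pullback.fst f T'.hom) :=
  Scheme.Modules.pullbackComp (PicF.XTmap f k) (pullback.fst f T₀.hom) ≪≫
    Scheme.Modules.pullbackCongr (FGA.XTmap_fst f k)

theorem appTop_eq_appLE {Y Z : Scheme.{u}} (g : Y ⟶ Z) : g.appTop = g.appLE ⊤ ⊤ le_top :=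
  Scheme.Hom.app_eq_appLE g

variable {F G : X.Modules} (u : F ⟶ G)

theorem zero_stable {T T₀ : Over S} (k : T ⟶ T₀)
    (h : (Scheme.Modules.pullback (pullback.fst f T₀.hom)).map u = 0) :
    (Scheme.Modules.pullback (pullback.fst f T.hom)).map u = 0 := by
  rw [map_eq_zero_iff (ηT f k) u]
  change (Scheme.Modules.pullback (PicF.XTmap f k)).map
    ((Scheme.Modules.pullback (pullback.fst f T₀.hom)).map u) = 0
  rw [h, Functor.map_zero]

theorem epi_stable {T T₀ : Over S} (k : T ⟶ T₀)
    (h : Epi ((Scheme.Modules.pullback (pullback.fst f T₀.hom)).map u)) :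
    Epi ((Scheme.Modules.pullback (pullback.fst f T.hom)).map u) := by
  rw [epi_map_iff (ηT f k) u]
  change Epi ((Scheme.Modules.pullback (PicF.XTmap f k)).map
    ((Scheme.Modules.pullback (pullback.fst f T₀.hom)).map u))
  infer_instance

theorem isIso_stable {T T₀ : Over S} (k : T ⟶ T₀)
    (h : IsIso ((Scheme.Modules.pullback (pullback.fst f T₀.hom)).map u)) :
    IsIso ((Scheme.Modules.pullback (pullback.fst f T.hom)).map u) := by
  rw [isIso_map_iff (ηT f k) u]
  change IsIso ((Scheme.Modules.pullback (PicF.XTmap f k)).map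
    ((Scheme.Modules.pullback (pullback.fst f T₀.hom)).map u))
  infer_instance

section Stage

variable [QuasiCompact f] [F.IsQuasicoherent] [G.IsQuasicoherent]
  {I : Type u} [SmallCategory I] [IsCofiltered I] (D : I ⥤ Over S) (c : Cone D)
  (hc : IsLimit ((Over.forget S).mapCone c)) (hD : ∀ i, IsAffine (D.obj i).left)
  (hT : IsAffine c.pt.left)

include hc hD hT in
theorem exists_stage_zero (hF : CohB1.IsFT F)
    (h : (Scheme.Modules.pullback (pullback.fst f c.pt.hom)).map u = 0) :
    ∃ i, (Scheme.Modules.pullback (pullback.fst f (D.obj i).hom)).map u = 0 := by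
  obtain ⟨i₀⟩ := IsCofiltered.nonempty (C := I)
  haveI : IsAffine (D.obj i₀).left := hD i₀
  haveI : CompactSpace (PicF.XT f (D.obj i₀)) :=
    QuasiCompact.compactSpace_of_compactSpace (pullback.snd f (D.obj i₀).hom)
  obtain ⟨s, hs⟩ := Groth.Agent.Lib.helper11.FlatIdealMain.exists_finite_affine_cover
    (PicF.XT f (D.obj i₀))
  let W : s → (PicF.XT f (D.obj i₀)).Opens := fun w => w.1.1
  have hW : ∀ w, IsAffineOpen (W w) := fun w => w.1.2
  have hcov : ∀ x, ∃ w, x ∈ W w := fun x => by
    obtain ⟨U, hU, hx⟩ := hs x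
    exact ⟨⟨U, hU⟩, hx⟩
  haveI := Groth.Agent.Lib.helper16.QCohPullback.isQuasicoherent_pullback
    (pullback.fst f (D.obj i₀).hom) F
  haveI := Groth.Agent.Lib.helper16.QCohPullback.isQuasicoherent_pullback
    (pullback.fst f (D.obj i₀).hom) G
  have hF₀ := Groth.Agent.Lib.helper16.QCohPullback2.isFiniteType_pullback
    (pullback.fst f (D.obj i₀).hom) F hF
  refine exists_stage_of_charts
    (fun T => (Scheme.Modules.pullback (pullback.fst f T.hom)).map u = 0) D c hc hD hT i₀
    (fun w A' _ _ => tensorApp (PicF.XTproj f (D.obj i₀))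
      ((Scheme.Modules.pullback (pullback.fst f (D.obj i₀).hom)).map u)
      (UX := W w) (US := ⊤) le_top A' = 0) ?_ ?_ ?_ h
  · intro w
    exact ringLP_tensorApp_zero _ _ _
      (Groth.Agent.Lib.helper16.CohFinite.finite_sections_of_isFiniteType _ hF₀ (hW w))
  · intro w
    exact ringMono_tensorApp_zero _ _ _
  · intro T' k hT'
    haveI := hT'
    rw [map_eq_zero_iff (ηT f k) u]
    exact pull_zero_iff (Groth.Agent.Lib.Helper14.HilbSep.isPullback_XTmap f k) W hW hcov
      ((Scheme.Modules.pullback (pullback.fst f (D.obj i₀).hom)).map u) k.left.appTop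
      (appTop_eq_appLE _)

include hc hD hT in
theorem exists_stage_epi (hG : CohB1.IsFT G)
    (h : Epi ((Scheme.Modules.pullback (pullback.fst f c.pt.hom)).map u)) :
    ∃ i, Epi ((Scheme.Modules.pullback (pullback.fst f (D.obj i).hom)).map u) := by
  obtain ⟨i₀⟩ := IsCofiltered.nonempty (C := I)
  haveI : IsAffine (D.obj i₀).left := hD i₀
  haveI : CompactSpace (PicF.XT f (D.obj i₀)) :=
    QuasiCompact.compactSpace_of_compactSpace (pullback.snd f (D.obj i₀).hom)
  obtain ⟨s, hs⟩ := Groth.Agent.Lib.helper11.FlatIdealMain.exists_finite_affine_cover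
    (PicF.XT f (D.obj i₀))
  let W : s → (PicF.XT f (D.obj i₀)).Opens := fun w => w.1.1
  have hW : ∀ w, IsAffineOpen (W w) := fun w => w.1.2
  have hcov : ∀ x, ∃ w, x ∈ W w := fun x => by
    obtain ⟨U, hU, hx⟩ := hs x
    exact ⟨⟨U, hU⟩, hx⟩
  haveI := Groth.Agent.Lib.helper16.QCohPullback.isQuasicoherent_pullback
    (pullback.fst f (D.obj i₀).hom) F
  haveI := Groth.Agent.Lib.helper16.QCohPullback.isQuasicoherent_pullback
    (pullback.fst f (D.obj i₀).hom) G
  have hG₀ := Groth.Agent.Lib.helper16.QCohPullback2.isFiniteType_pullback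
    (pullback.fst f (D.obj i₀).hom) G hG
  refine exists_stage_of_charts
    (fun T => Epi ((Scheme.Modules.pullback (pullback.fst f T.hom)).map u)) D c hc hD hT i₀
    (fun w A' _ _ => Function.Surjective (tensorApp (PicF.XTproj f (D.obj i₀))
      ((Scheme.Modules.pullback (pullback.fst f (D.obj i₀).hom)).map u)
      (UX := W w) (US := ⊤) le_top A')) ?_ ?_ ?_ h
  · intro w
    exact ringLP_tensorApp_surjective _ _ _
      (Groth.Agent.Lib.helper16.CohFinite.finite_sections_of_isFiniteType _ hG₀ (hW w))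
  · intro w
    exact ringMono_tensorApp_surjective _ _ _
  · intro T' k hT'
    haveI := hT'
    rw [epi_map_iff (ηT f k) u]
    exact pull_epi_iff (Groth.Agent.Lib.Helper14.HilbSep.isPullback_XTmap f k) W hW hcov
      ((Scheme.Modules.pullback (pullback.fst f (D.obj i₀).hom)).map u) k.left.appTop
      (appTop_eq_appLE _)

include hc hD hT in
theorem exists_stage_isIso (hF : CohB1.IsFT F) (hG : CohB1.IsFP G)
    (h : IsIso ((Scheme.Modules.pullback (pullback.fst f c.pt.hom)).map u)) :
    ∃ i, IsIso ((Scheme.Modules.pullback (pullback.fst f (D.obj i).hom)).map u) := by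
  have hGft : CohB1.IsFT G := by
    haveI : SheafOfModules.IsFinitePresentation (R := X.ringCatSheaf) G := hG
    exact inferInstance
  obtain ⟨i₀, hi₀⟩ := exists_stage_epi f u D c hc hD hT hGft inferInstance
  haveI : IsAffine (D.obj i₀).left := hD i₀
  haveI : CompactSpace (PicF.XT f (D.obj i₀)) :=
    QuasiCompact.compactSpace_of_compactSpace (pullback.snd f (D.obj i₀).hom)
  obtain ⟨s, hs⟩ := Groth.Agent.Lib.helper11.FlatIdealMain.exists_finite_affine_cover
    (PicF.XT f (D.obj i₀))
  let W : s → (PicF.XT f (D.obj i₀)).Opens := fun w => w.1.1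
  have hW : ∀ w, IsAffineOpen (W w) := fun w => w.1.2
  have hcov : ∀ x, ∃ w, x ∈ W w := fun x => by
    obtain ⟨U, hU, hx⟩ := hs x
    exact ⟨⟨U, hU⟩, hx⟩
  haveI := Groth.Agent.Lib.helper16.QCohPullback.isQuasicoherent_pullback
    (pullback.fst f (D.obj i₀).hom) F
  haveI := Groth.Agent.Lib.helper16.QCohPullback.isQuasicoherent_pullback
    (pullback.fst f (D.obj i₀).hom) G
  have hF₀ := Groth.Agent.Lib.helper16.QCohPullback2.isFiniteType_pullback
    (pullback.fst f (D.obj i₀).hom) F hF
  have hG₀ := Groth.Agent.Lib.helper16.QCohPullback2.isFinitePresentation_pullback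
    (pullback.fst f (D.obj i₀).hom) G hG
  have hsurj : ∀ w, Function.Surjective
      (((Scheme.Modules.pullback (pullback.fst f (D.obj i₀).hom)).map u).app (W w)).hom :=
    fun w => Groth.Agent.Lib.helper16.QCohEpi.surjective_app_of_epi _ (hW w)
  refine exists_stage_of_charts
    (fun T => IsIso ((Scheme.Modules.pullback (pullback.fst f T.hom)).map u)) D c hc hD hT i₀
    (fun w A' _ _ => Function.Bijective (tensorApp (PicF.XTproj f (D.obj i₀))
      ((Scheme.Modules.pullback (pullback.fst f (D.obj i₀).hom)).map u)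
      (UX := W w) (US := ⊤) le_top A')) ?_ ?_ ?_ h
  · intro w
    exact ringLP_tensorApp_bijective _ _ _
      (Groth.Agent.Lib.helper16.CohFinite.finite_sections_of_isFiniteType _ hF₀ (hW w))
      (Groth.Agent.Lib.helper16.CohFP.fp_sections_of_isFinitePresentation _ hG₀ (hW w))
      (hsurj w)
  · intro w
    exact ringMono_tensorApp_bijective _ _ _ (hsurj w)
  · intro T' k hT'
    haveI := hT'
    rw [isIso_map_iff (ηT f k) u]
    exact pull_isIso_iff (Groth.Agent.Lib.Helper14.HilbSep.isPullback_XTmap f k) W hW hcov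
      ((Scheme.Modules.pullback (pullback.fst f (D.obj i₀).hom)).map u) k.left.appTop
      (appTop_eq_appLE _)

end Stage

end Groth.Agent.Lib.helper11.LimPresMain
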