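import Mathlib
import Groth.Agent.Lib.Helper11.LimPresMain2
import Groth.Agent.Lib.Helper11.FlatIdealSch
import Groth.Agent.Lib.Helper3.FlatDescN
import Groth.Agent.Lib.Helper17.FlatOver7

/-!
# Limit preservation of the flatness functor (helper11)
-/

set_option autoImplicit false
set_option linter.style.haveILetI false
universe u
open CategoryTheory CategoryTheory.Limits AlgebraicGeometry TopologicalSpace Opposite TensorProduct

namespace Groth.Agent.Lib.helper11.LimPresFlat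

open Scheme.Modules Groth.Agent.Lib.helper17.FlatOver1 Groth.Agent.Lib.helper11.LimPresFW
  Groth.Agent.Lib.helper11.LimPresMain

section Ring

variable {A₀ : Type u} [CommRing A₀] (M₀ : Type u) [AddCommGroup M₀] [Module A₀ M₀]

theorem ringLP_flat (B₀ : Type u) [CommRing B₀] [Algebra A₀ B₀]
    [Algebra.FinitePresentation A₀ B₀] [Module B₀ M₀] [IsScalarTower A₀ B₀ M₀]
    [Module.FinitePresentation B₀ M₀] :
    RingLP (R := A₀) (fun A' _ _ => Module.Flat A' (A' ⊗[A₀] M₀)) := by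
  refine ⟨?_⟩
  intro ι _ G _ _ g A _ _ _ _ hcolim h
  exact (Groth.Agent.Lib.helper3.FlatDesc.flat_colimit_iff G g A hcolim (B₀ := B₀) M₀).mp h

theorem ringMono_flat : RingMono (R := A₀) (fun A' _ _ => Module.Flat A' (A' ⊗[A₀] M₀)) := by
  refine ⟨?_⟩
  intro A' A'' _ _ _ _ h hA'
  letI := h.toRingHom.toAlgebra
  haveI : IsScalarTower A₀ A' A'' := IsScalarTower.of_algebraMap_eq (fun r => (h.commutes r).symm)
  haveI := hA'
  have e : A'' ⊗[A'] (A' ⊗[A₀] M₀) ≃ₗ[A''] A'' ⊗[A₀] M₀ :=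
    TensorProduct.AlgebraTensorModule.cancelBaseChange A₀ A' A'' A'' M₀
  exact Module.Flat.of_linearEquiv e.symm

end Ring

variable {X S : Scheme.{u}} (f : X ⟶ S) (F : X.Modules) [F.IsQuasicoherent]

theorem flat_stable {T T₀ : Over S} (k : T ⟶ T₀)
    (h : FlatMod.IsFlatOver (PicF.XTproj f T₀) (FGA.ET f F T₀)) :
    FlatMod.IsFlatOver (PicF.XTproj f T) (FGA.ET f F T) := by
  haveI := Groth.Agent.Lib.helper16.QCohPullback.isQuasicoherent_pullback
    (pullback.fst f T₀.hom) F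
  rw [← Groth.Agent.Lib.helper17.FlatOver7.isFlatOver_iff_of_iso (PicF.XTproj f T)
    (FGA.ETiso f F k)]
  intro x'
  exact (Groth.Agent.Lib.helper17.FlatOver6.isFlatOverAt_baseChange_both
    (Groth.Agent.Lib.Helper14.HilbSep.isPullback_XTmap f k) (FGA.ET f F T₀) x').1 (h _)

section Stage

variable [QuasiCompact f] [LocallyOfFinitePresentation f]
  {I : Type u} [SmallCategory I] [IsCofiltered I] (D : I ⥤ Over S) (c : Cone D)
  (hc : IsLimit ((Over.forget S).mapCone c)) (hD : ∀ i, IsAffine (D.obj i).left)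
  (hT : IsAffine c.pt.left)

include hc hD hT in
theorem exists_stage_flat (hF : CohB1.IsFP F)
    (h : FlatMod.IsFlatOver (PicF.XTproj f c.pt) (FGA.ET f F c.pt)) :
    ∃ i, FlatMod.IsFlatOver (PicF.XTproj f (D.obj i)) (FGA.ET f F (D.obj i)) := by
  obtain ⟨i₀⟩ := IsCofiltered.nonempty (C := I)
  haveI : IsAffine (D.obj i₀).left := hD i₀
  haveI : CompactSpace (PicF.XT f (D.obj i₀)) :=
    QuasiCompact.compactSpace_of_compactSpace (pullback.snd f (D.obj i₀).hom)
  obtain ⟨s, hs⟩ := Groth.Agent.Lib.helper11.FlatIdealMain.exists_finite_affine_cover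
    (PicF.XT f (D.obj i₀))
  let W : s → (PicF.XT f (D.obj i₀)).Opens := fun w => w.1.1
  have hW : ∀ w, IsAffineOpen (W w) := fun w => w.1.2
  have hcov : ∀ x, ∃ w, x ∈ W w := fun x => by
    obtain ⟨U, hU, hx⟩ := hs x
    exact ⟨⟨U, hU⟩, hx⟩
  haveI hq₀ : (FGA.ET f F (D.obj i₀)).IsQuasicoherent :=
    Groth.Agent.Lib.helper16.QCohPullback.isQuasicoherent_pullback
      (pullback.fst f (D.obj i₀).hom) F
  have hF₀ : CohB1.IsFP (FGA.ET f F (D.obj i₀)) :=
    Groth.Agent.Lib.helper16.QCohPullback2.isFinitePresentation_pullback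
      (pullback.fst f (D.obj i₀).hom) F hF
  refine exists_stage_of_charts
    (fun T => FlatMod.IsFlatOver (PicF.XTproj f T) (FGA.ET f F T)) D c hc hD hT i₀
    (fun w A' _ _ =>
      letI := modSecBase (PicF.XTproj f (D.obj i₀)) (FGA.ET f F (D.obj i₀))
        (show W w ≤ (PicF.XTproj f (D.obj i₀)) ⁻¹ᵁ ⊤ from le_top)
      Module.Flat A' (A' ⊗[Γ((D.obj i₀).left, ⊤)] Γ(FGA.ET f F (D.obj i₀), W w))) ?_ ?_ ?_ h
  · intro w
    letI := modSecBase (PicF.XTproj f (D.obj i₀)) (FGA.ET f F (D.obj i₀))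
      (show W w ≤ (PicF.XTproj f (D.obj i₀)) ⁻¹ᵁ ⊤ from le_top)
    letI : Algebra Γ((D.obj i₀).left, ⊤) Γ(PicF.XT f (D.obj i₀), W w) :=
      ((PicF.XTproj f (D.obj i₀)).appLE ⊤ (W w) le_top).hom.toAlgebra
    haveI : Algebra.FinitePresentation Γ((D.obj i₀).left, ⊤) Γ(PicF.XT f (D.obj i₀), W w) :=
      (PicF.XTproj f (D.obj i₀)).finitePresentation_appLE (isAffineOpen_top _) (hW w) le_top
    haveI : IsScalarTower Γ((D.obj i₀).left, ⊤) Γ(PicF.XT f (D.obj i₀), W w)
        Γ(FGA.ET f F (D.obj i₀), W w) :=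
      isScalarTower_sections (PicF.XTproj f (D.obj i₀)) (FGA.ET f F (D.obj i₀)) le_top
    haveI : Module.FinitePresentation Γ(PicF.XT f (D.obj i₀), W w)
        Γ(FGA.ET f F (D.obj i₀), W w) :=
      Groth.Agent.Lib.helper16.CohFP.fp_sections_of_isFinitePresentation _ hF₀ (hW w)
    exact ringLP_flat Γ(FGA.ET f F (D.obj i₀), W w) Γ(PicF.XT f (D.obj i₀), W w)
  · intro w
    letI := modSecBase (PicF.XTproj f (D.obj i₀)) (FGA.ET f F (D.obj i₀))
      (show W w ≤ (PicF.XTproj f (D.obj i₀)) ⁻¹ᵁ ⊤ from le_top)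
    exact ringMono_flat Γ(FGA.ET f F (D.obj i₀), W w)
  · intro T' k hT'
    haveI := hT'
    have key : ∀ (φ : Γ((D.obj i₀).left, ⊤) ⟶ Γ(T'.left, ⊤)), φ = k.left.appLE ⊤ ⊤ le_top →
        (FlatMod.IsFlatOver (PicF.XTproj f T') (FGA.ET f F T') ↔
          ∀ w, (letI := φ.hom.toAlgebra
            letI := modSecBase (PicF.XTproj f (D.obj i₀)) (FGA.ET f F (D.obj i₀))
              (show W w ≤ (PicF.XTproj f (D.obj i₀)) ⁻¹ᵁ ⊤ from le_top)
            Module.Flat Γ(T'.left, ⊤)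
              (Γ(T'.left, ⊤) ⊗[Γ((D.obj i₀).left, ⊤)] Γ(FGA.ET f F (D.obj i₀), W w)))) := by
      rintro φ rfl
      rw [← Groth.Agent.Lib.helper17.FlatOver7.isFlatOver_iff_of_iso (PicF.XTproj f T')
        (FGA.ETiso f F k)]
      have hiff := fun w => Groth.Agent.Lib.helper11.FlatIdealSch.forall_isFlatOverAt_pullback_iff
        (Groth.Agent.Lib.Helper14.HilbSep.isPullback_XTmap f k) (FGA.ET f F (D.obj i₀))
        (US := ⊤) (UT := ⊤) (UX := W w) le_top le_top (isAffineOpen_top _) (isAffineOpen_top _)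
        (hW w)
      constructor
      · intro h w
        exact (hiff w).mp (fun x' _ => h x')
      · intro h x'
        obtain ⟨w, hw⟩ := hcov ((PicF.XTmap f k).base x')
        exact (hiff w).mpr (h w) x' ⟨hw, trivial⟩
    exact key _ (appTop_eq_appLE _)

end Stage

end Groth.Agent.Lib.helper11.LimPresFlat
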