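import Mathlib
import Groth.Agent.Lib.Helper11.FpqcGen
import Groth.Agent.Lib.Helper11.LimPresFlat

/-!
# fpqc sheaf condition for `F_zero`, `F_surj`, `F_iso`, `F_flat` (helper11)
-/

set_option autoImplicit false
set_option linter.style.haveILetI false
universe u
open CategoryTheory CategoryTheory.Limits AlgebraicGeometry TopologicalSpace Opposite TensorProduct

namespace Groth.Agent.Lib.helper11.FpqcProps

open Scheme.Modules Groth.Agent.Lib.helper17.FlatOver1 Groth.Agent.Lib.helper11.LimPresChart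
  Groth.Agent.Lib.helper11.LimPresCover Groth.Agent.Lib.helper11.LimPresMain
  Groth.Agent.Lib.helper11.FpqcGen

variable {X S : Scheme.{u}} (f : X ⟶ S)

section Maps

variable {F G : X.Modules} [F.IsQuasicoherent] [G.IsQuasicoherent] (u : F ⟶ G)

/-- the chart square for the base change `T' ⟶ T`, in terms of `u_T` -/
theorem chart_square_XT {T T' : Over S} (k : T' ⟶ T) {US : T.left.Opens} {UT : T'.left.Opens}
    {UX : (PicF.XT f T).Opens} (hUST : UT ≤ k.left ⁻¹ᵁ US)
    (hUSX : UX ≤ (PicF.XTproj f T) ⁻¹ᵁ US) (hUS : IsAffineOpen US) (hUT : IsAffineOpen UT)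
    (hUX : IsAffineOpen UX) :
    letI := (k.left.appLE US UT hUST).hom.toAlgebra
    letI := modSecBase (PicF.XTproj f T) ((Scheme.Modules.pullback (pullback.fst f T.hom)).obj F)
      hUSX
    letI := modSecBase (PicF.XTproj f T) ((Scheme.Modules.pullback (pullback.fst f T.hom)).obj G)
      hUSX
    ∃ (eF : Γ(T'.left, UT) ⊗[Γ(T.left, US)]
          Γ((Scheme.Modules.pullback (pullback.fst f T.hom)).obj F, UX) ≃+
        Γ((Scheme.Modules.pullback (PicF.XTmap f k)).obj
          ((Scheme.Modules.pullback (pullback.fst f T.hom)).obj F),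
          (PicF.XTmap f k) ⁻¹ᵁ UX ⊓ (PicF.XTproj f T') ⁻¹ᵁ UT))
      (eG : Γ(T'.left, UT) ⊗[Γ(T.left, US)]
          Γ((Scheme.Modules.pullback (pullback.fst f T.hom)).obj G, UX) ≃+
        Γ((Scheme.Modules.pullback (PicF.XTmap f k)).obj
          ((Scheme.Modules.pullback (pullback.fst f T.hom)).obj G),
          (PicF.XTmap f k) ⁻¹ᵁ UX ⊓ (PicF.XTproj f T') ⁻¹ᵁ UT)),
      ∀ x, (((Scheme.Modules.pullback (PicF.XTmap f k)).map
        ((Scheme.Modules.pullback (pullback.fst f T.hom)).map u)).app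
          ((PicF.XTmap f k) ⁻¹ᵁ UX ⊓ (PicF.XTproj f T') ⁻¹ᵁ UT)).hom (eF x) =
        eG (tensorApp (PicF.XTproj f T)
          ((Scheme.Modules.pullback (pullback.fst f T.hom)).map u) hUSX Γ(T'.left, UT) x) := by
  haveI := Groth.Agent.Lib.helper16.QCohPullback.isQuasicoherent_pullback
    (pullback.fst f T.hom) F
  haveI := Groth.Agent.Lib.helper16.QCohPullback.isQuasicoherent_pullback
    (pullback.fst f T.hom) G
  exact chart_square (Groth.Agent.Lib.Helper14.HilbSep.isPullback_XTmap f k)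
    ((Scheme.Modules.pullback (pullback.fst f T.hom)).map u) hUST hUSX hUS hUT hUX
    (k.left.appLE US UT hUST) rfl

theorem isAffineOpen_chart_XT {T T' : Over S} (k : T' ⟶ T) {US : T.left.Opens}
    {UT : T'.left.Opens} {UX : (PicF.XT f T).Opens} (hUST : UT ≤ k.left ⁻¹ᵁ US)
    (hUSX : UX ≤ (PicF.XTproj f T) ⁻¹ᵁ US) (hUS : IsAffineOpen US) (hUT : IsAffineOpen UT)
    (hUX : IsAffineOpen UX) :
    IsAffineOpen ((PicF.XTmap f k) ⁻¹ᵁ UX ⊓ (PicF.XTproj f T') ⁻¹ᵁ UT) :=
  Groth.Agent.Lib.helper21.RelFPSch.isAffineOpen_inf_of_isPullback _ _ _ _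
    (Groth.Agent.Lib.Helper14.HilbSep.isPullback_XTmap f k) hUS hUT hUX hUST hUSX

/-! ### zero -/

theorem zero_hCP (T : Over S)
    (h : ∀ x : PicF.XT f T, ∃ UX : (PicF.XT f T).Opens, IsAffineOpen UX ∧ x ∈ UX ∧
      ∀ s, (((Scheme.Modules.pullback (pullback.fst f T.hom)).map u).app UX).hom s = 0) :
    (Scheme.Modules.pullback (pullback.fst f T.hom)).map u = 0 := by
  haveI := Groth.Agent.Lib.helper16.QCohPullback.isQuasicoherent_pullback
    (pullback.fst f T.hom) F
  haveI := Groth.Agent.Lib.helper16.QCohPullback.isQuasicoherent_pullback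
    (pullback.fst f T.hom) G
  choose UXf h1 h2 h3 using h
  exact eq_zero_of_cover _ UXf h1 (fun y => ⟨y, h2 y⟩) h3

theorem zero_hdesc (T T' : Over S) (k : T' ⟶ T) (US : T.left.Opens) (UT : T'.left.Opens)
    (UX : (PicF.XT f T).Opens) (hUST : UT ≤ k.left ⁻¹ᵁ US)
    (hUSX : UX ≤ (PicF.XTproj f T) ⁻¹ᵁ US) (hUS : IsAffineOpen US) (hUT : IsAffineOpen UT)
    (hUX : IsAffineOpen UX) (hff : (k.left.appLE US UT hUST).hom.FaithfullyFlat)
    (h : (Scheme.Modules.pullback (pullback.fst f T'.hom)).map u = 0) :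
    ∀ s, (((Scheme.Modules.pullback (pullback.fst f T.hom)).map u).app UX).hom s = 0 := by
  have h1 := (map_eq_zero_iff (ηT f k) u).mp h
  obtain ⟨eF, eG, hsq⟩ := chart_square_XT f u k hUST hUSX hUS hUT hUX
  letI := (k.left.appLE US UT hUST).hom.toAlgebra
  letI := modSecBase (PicF.XTproj f T) ((Scheme.Modules.pullback (pullback.fst f T.hom)).obj F)
    hUSX
  letI := modSecBase (PicF.XTproj f T) ((Scheme.Modules.pullback (pullback.fst f T.hom)).obj G)
    hUSX
  haveI : Module.FaithfullyFlat Γ(T.left, US) Γ(T'.left, UT) := hff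
  have h2 : LinearMap.lTensor Γ(T'.left, UT) (appLinBase (PicF.XTproj f T)
      ((Scheme.Modules.pullback (pullback.fst f T.hom)).map u) hUSX) = 0 := by
    apply LinearMap.ext
    intro x
    apply eG.injective
    have h3 := hsq x
    change (Scheme.Modules.Hom.app ((Scheme.Modules.pullback (pullback.fst f T.hom) ⋙
      Scheme.Modules.pullback (PicF.XTmap f k)).map u) _).hom (eF x) = _ at h3
    rw [h1] at h3
    rw [LinearMap.zero_apply, map_zero]
    exact h3.symm.trans rfl
  have h4 := (Module.FaithfullyFlat.zero_iff_lTensor_zero Γ(T.left, US) Γ(T'.left, UT) _).mpr h2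
  intro s
  exact LinearMap.congr_fun h4 s

/-! ### epi -/

theorem epi_hCP (T : Over S)
    (h : ∀ x : PicF.XT f T, ∃ UX : (PicF.XT f T).Opens, IsAffineOpen UX ∧ x ∈ UX ∧
      Function.Surjective (((Scheme.Modules.pullback (pullback.fst f T.hom)).map u).app UX).hom) :
    Epi ((Scheme.Modules.pullback (pullback.fst f T.hom)).map u) := by
  haveI := Groth.Agent.Lib.helper16.QCohPullback.isQuasicoherent_pullback
    (pullback.fst f T.hom) F
  haveI := Groth.Agent.Lib.helper16.QCohPullback.isQuasicoherent_pullback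
    (pullback.fst f T.hom) G
  choose UXf h1 h2 h3 using h
  exact Groth.Agent.Lib.helper7.KerSections.epi_of_surjective_cover _ UXf h1
    (fun y => ⟨y, h2 y⟩) h3

theorem epi_hdesc (T T' : Over S) (k : T' ⟶ T) (US : T.left.Opens) (UT : T'.left.Opens)
    (UX : (PicF.XT f T).Opens) (hUST : UT ≤ k.left ⁻¹ᵁ US)
    (hUSX : UX ≤ (PicF.XTproj f T) ⁻¹ᵁ US) (hUS : IsAffineOpen US) (hUT : IsAffineOpen UT)
    (hUX : IsAffineOpen UX) (hff : (k.left.appLE US UT hUST).hom.FaithfullyFlat)
    (h : Epi ((Scheme.Modules.pullback (pullback.fst f T'.hom)).map u)) :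
    Function.Surjective (((Scheme.Modules.pullback (pullback.fst f T.hom)).map u).app UX).hom := by
  haveI h1 : Epi ((Scheme.Modules.pullback (PicF.XTmap f k)).map
      ((Scheme.Modules.pullback (pullback.fst f T.hom)).map u)) := (epi_map_iff (ηT f k) u).mp h
  obtain ⟨eF, eG, hsq⟩ := chart_square_XT f u k hUST hUSX hUS hUT hUX
  haveI := Groth.Agent.Lib.helper16.QCohPullback.isQuasicoherent_pullback
    (pullback.fst f T.hom) F
  haveI := Groth.Agent.Lib.helper16.QCohPullback.isQuasicoherent_pullback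
    (pullback.fst f T.hom) G
  haveI := Groth.Agent.Lib.helper16.QCohPullback.isQuasicoherent_pullback
    (PicF.XTmap f k) ((Scheme.Modules.pullback (pullback.fst f T.hom)).obj F)
  haveI := Groth.Agent.Lib.helper16.QCohPullback.isQuasicoherent_pullback
    (PicF.XTmap f k) ((Scheme.Modules.pullback (pullback.fst f T.hom)).obj G)
  have hs := Groth.Agent.Lib.helper16.QCohEpi.surjective_app_of_epi
    ((Scheme.Modules.pullback (PicF.XTmap f k)).map
      ((Scheme.Modules.pullback (pullback.fst f T.hom)).map u))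
    (isAffineOpen_chart_XT f k hUST hUSX hUS hUT hUX)
  letI := (k.left.appLE US UT hUST).hom.toAlgebra
  letI := modSecBase (PicF.XTproj f T) ((Scheme.Modules.pullback (pullback.fst f T.hom)).obj F)
    hUSX
  letI := modSecBase (PicF.XTproj f T) ((Scheme.Modules.pullback (pullback.fst f T.hom)).obj G)
    hUSX
  haveI : Module.FaithfullyFlat Γ(T.left, US) Γ(T'.left, UT) := hff
  have h2 : Function.Surjective (LinearMap.lTensor Γ(T'.left, UT) (appLinBase (PicF.XTproj f T)
      ((Scheme.Modules.pullback (pullback.fst f T.hom)).map u) hUSX)) := by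
    intro y
    obtain ⟨s, hs'⟩ := hs (eG y)
    obtain ⟨x, rfl⟩ := eF.surjective s
    refine ⟨x, eG.injective ?_⟩
    exact (hsq x).symm.trans hs'
  exact (Module.FaithfullyFlat.lTensor_surjective_iff_surjective Γ(T.left, US) Γ(T'.left, UT)
    _).mp h2

/-! ### iso -/

theorem isIso_hCP (T : Over S)
    (h : ∀ x : PicF.XT f T, ∃ UX : (PicF.XT f T).Opens, IsAffineOpen UX ∧ x ∈ UX ∧
      Function.Bijective (((Scheme.Modules.pullback (pullback.fst f T.hom)).map u).app UX).hom) :
    IsIso ((Scheme.Modules.pullback (pullback.fst f T.hom)).map u) := by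
  haveI := Groth.Agent.Lib.helper16.QCohPullback.isQuasicoherent_pullback
    (pullback.fst f T.hom) F
  haveI := Groth.Agent.Lib.helper16.QCohPullback.isQuasicoherent_pullback
    (pullback.fst f T.hom) G
  choose UXf h1 h2 h3 using h
  exact Groth.Agent.Lib.helper7.KerSections.isIso_of_bijective_cover _ UXf h1
    (fun y => ⟨y, h2 y⟩) h3

theorem isIso_hdesc (T T' : Over S) (k : T' ⟶ T) (US : T.left.Opens) (UT : T'.left.Opens)
    (UX : (PicF.XT f T).Opens) (hUST : UT ≤ k.left ⁻¹ᵁ US)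
    (hUSX : UX ≤ (PicF.XTproj f T) ⁻¹ᵁ US) (hUS : IsAffineOpen US) (hUT : IsAffineOpen UT)
    (hUX : IsAffineOpen UX) (hff : (k.left.appLE US UT hUST).hom.FaithfullyFlat)
    (h : IsIso ((Scheme.Modules.pullback (pullback.fst f T'.hom)).map u)) :
    Function.Bijective (((Scheme.Modules.pullback (pullback.fst f T.hom)).map u).app UX).hom := by
  haveI h1 : IsIso ((Scheme.Modules.pullback (PicF.XTmap f k)).map
      ((Scheme.Modules.pullback (pullback.fst f T.hom)).map u)) := (isIso_map_iff (ηT f k) u).mp h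
  obtain ⟨eF, eG, hsq⟩ := chart_square_XT f u k hUST hUSX hUS hUT hUX
  have hbij : Function.Bijective (((Scheme.Modules.pullback (PicF.XTmap f k)).map
      ((Scheme.Modules.pullback (pullback.fst f T.hom)).map u)).app
        ((PicF.XTmap f k) ⁻¹ᵁ UX ⊓ (PicF.XTproj f T') ⁻¹ᵁ UT)).hom := by
    have : IsIso (((Scheme.Modules.pullback (PicF.XTmap f k)).map
      ((Scheme.Modules.pullback (pullback.fst f T.hom)).map u)).app
        ((PicF.XTmap f k) ⁻¹ᵁ UX ⊓ (PicF.XTproj f T') ⁻¹ᵁ UT)) := inferInstance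
    exact (ConcreteCategory.isIso_iff_bijective _).mp this
  letI := (k.left.appLE US UT hUST).hom.toAlgebra
  letI := modSecBase (PicF.XTproj f T) ((Scheme.Modules.pullback (pullback.fst f T.hom)).obj F)
    hUSX
  letI := modSecBase (PicF.XTproj f T) ((Scheme.Modules.pullback (pullback.fst f T.hom)).obj G)
    hUSX
  haveI : Module.FaithfullyFlat Γ(T.left, US) Γ(T'.left, UT) := hff
  have h2 : Function.Bijective (LinearMap.lTensor Γ(T'.left, UT) (appLinBase (PicF.XTproj f T)
      ((Scheme.Modules.pullback (pullback.fst f T.hom)).map u) hUSX)) := by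
    constructor
    · intro x y hxy
      apply eF.injective
      apply hbij.1
      exact (hsq x).trans ((congrArg eG hxy).trans (hsq y).symm)
    · intro y
      obtain ⟨s, hs'⟩ := hbij.2 (eG y)
      obtain ⟨x, rfl⟩ := eF.surjective s
      refine ⟨x, eG.injective ?_⟩
      exact (hsq x).symm.trans hs'
  exact (Module.FaithfullyFlat.lTensor_bijective_iff_bijective Γ(T.left, US) Γ(T'.left, UT)
    _).mp h2

end Maps

section Flat

variable (F : X.Modules) [F.IsQuasicoherent]

theorem flat_hdesc (T T' : Over S) (k : T' ⟶ T) (US : T.left.Opens) (UT : T'.left.Opens)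
    (UX : (PicF.XT f T).Opens) (hUST : UT ≤ k.left ⁻¹ᵁ US)
    (hUSX : UX ≤ (PicF.XTproj f T) ⁻¹ᵁ US) (hUS : IsAffineOpen US) (hUT : IsAffineOpen UT)
    (hUX : IsAffineOpen UX) (hff : (k.left.appLE US UT hUST).hom.FaithfullyFlat)
    (h : FlatMod.IsFlatOver (PicF.XTproj f T') (FGA.ET f F T')) :
    ∀ x ∈ UX, FlatMod.IsFlatOverAt (PicF.XTproj f T) (FGA.ET f F T) x := by
  haveI hq : (FGA.ET f F T).IsQuasicoherent :=
    Groth.Agent.Lib.helper16.QCohPullback.isQuasicoherent_pullback (pullback.fst f T.hom) F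
  rw [← Groth.Agent.Lib.helper17.FlatOver7.isFlatOver_iff_of_iso (PicF.XTproj f T')
    (FGA.ETiso f F k)] at h
  have h1 := (Groth.Agent.Lib.helper11.FlatIdealSch.forall_isFlatOverAt_pullback_iff
    (Groth.Agent.Lib.Helper14.HilbSep.isPullback_XTmap f k) (FGA.ET f F T)
    hUST hUSX hUS hUT hUX).mp (fun x' _ => h x')
  letI := (k.left.appLE US UT hUST).hom.toAlgebra
  letI := modSecBase (PicF.XTproj f T) (FGA.ET f F T) hUSX
  haveI : Module.FaithfullyFlat Γ(T.left, US) Γ(T'.left, UT) := hff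
  have h2 : Module.Flat Γ(T.left, US) Γ(FGA.ET f F T, UX) :=
    (Module.Flat.iff_flat_tensorProduct Γ(T.left, US) Γ(FGA.ET f F T, UX) Γ(T'.left, UT)).mp h1
  intro x hx
  exact isFlatOverAt_of_flat_sections (PicF.XTproj f T) (FGA.ET f F T) hUSX hUX hUS h2 x hx

end Flat

end Groth.Agent.Lib.helper11.FpqcProps
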