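import Mathlib
import Groth.Agent.Lib.Helper11.LimPresFlat
import Groth.Agent.Lib.Helper11.FpqcProps
import Groth.Agent.Lib.Helper9.LimBaseChange
import Groth.Agent.Lib.Helper7.LfpOfComp

/-!
# EGA IV 11.2.6, scheme form: flatness descends to a stage of a limit (helper11)
-/

set_option autoImplicit false
set_option linter.style.haveILetI false
universe u
open CategoryTheory CategoryTheory.Limits AlgebraicGeometry

namespace Groth.Agent.Lib.helper11.LimFlatSch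

open Groth.Agent.Lib.helper9

/-- flatness of a pulled-back module is stable under base change (any cartesian square) -/
theorem isFlatOver_of_isPullback {X' X S' S X₀ : Scheme.{u}} {g' : X' ⟶ X} {f' : X' ⟶ S'}
    {f : X ⟶ S} {g : S' ⟶ S} (hc : IsPullback g' f' f g) (F₀ : X₀.Modules) [F₀.IsQuasicoherent]
    (q : X ⟶ X₀) (q' : X' ⟶ X₀) (hq : g' ≫ q = q')
    (h : FlatMod.IsFlatOver f ((Scheme.Modules.pullback q).obj F₀)) :
    FlatMod.IsFlatOver f' ((Scheme.Modules.pullback q').obj F₀) := by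
  subst hq
  haveI := Groth.Agent.Lib.helper16.QCohPullback.isQuasicoherent_pullback q F₀
  rw [← Groth.Agent.Lib.helper17.FlatOver7.isFlatOver_iff_of_iso f'
    ((Scheme.Modules.pullbackComp g' q).app F₀)]
  intro x'
  exact (Groth.Agent.Lib.helper17.FlatOver6.isFlatOverAt_baseChange_both hc _ x').1 (h _)

section Stage

variable {I : Type u} [SmallCategory I] [IsCofiltered I] (D : I ⥤ Scheme.{u}) (c : Cone D)
  (hc : IsLimit c) [hD : ∀ (i j : I) (φ : i ⟶ j), IsAffineHom (D.map φ)] (i₀ : I)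
  {X₀ Y₀ : Scheme.{u}} (f₀ : X₀ ⟶ Y₀) (g₀ : Y₀ ⟶ D.obj i₀) (F₀ : X₀.Modules)
  [F₀.IsQuasicoherent]

/-- the structure maps to `Y₀` of the base-changed diagram restricted to `v : V ⟶ Y₀` -/
noncomputable def sV {V : Scheme.{u}} (v : V ⟶ Y₀) :
    bcDiagram D i₀ (v ≫ g₀) ⟶ (Functor.const (Over i₀)).obj Y₀ where
  app j := pullback.snd (D.map j.hom) (v ≫ g₀) ≫ v
  naturality j j' t := by
    have e : (bcDiagram D i₀ (v ≫ g₀)).map t ≫ pullback.snd (D.map j'.hom) (v ≫ g₀) =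
        pullback.snd (D.map j.hom) (v ≫ g₀) := pullback.lift_snd _ _ _
    exact ((Category.assoc _ _ _).symm.trans (congrArg (· ≫ v) e)).trans (Category.comp_id _).symm

/-- the base-changed diagram restricted to `v : V ⟶ Y₀`, as a diagram over `Y₀` -/
noncomputable def DV {V : Scheme.{u}} (v : V ⟶ Y₀) : Over i₀ ⥤ Over Y₀ :=
  Over.lift (bcDiagram D i₀ (v ≫ g₀)) (sV D i₀ g₀ v)

/-- the limit cone of `DV` -/
noncomputable def cV {V : Scheme.{u}} (v : V ⟶ Y₀) : Cone (DV D i₀ g₀ v) :=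
  Over.liftCone _ (sV D i₀ g₀ v) (bcCone D c i₀ (v ≫ g₀))
    (pullback.snd (c.π.app i₀) (v ≫ g₀) ≫ v) (by
      intro j
      have e : (bcCone D c i₀ (v ≫ g₀)).π.app j ≫ pullback.snd (D.map j.hom) (v ≫ g₀) =
        pullback.snd (c.π.app i₀) (v ≫ g₀) := pullback.lift_snd _ _ _
      exact (Category.assoc _ _ _).symm.trans (congrArg (· ≫ v) e))

/-- the flatness predicate on `Over Y₀` -/
abbrev P (T : Over Y₀) : Prop := FlatMod.IsFlatOver (PicF.XTproj f₀ T) (FGA.ET f₀ F₀ T)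

include hc in
theorem exists_stage_affine [QuasiCompact f₀] [LocallyOfFinitePresentation f₀]
    (hF : CohB1.IsFP F₀) {V : Scheme.{u}} (v : V ⟶ Y₀) [IsAffine V]
    (h : P f₀ F₀ (Over.mk (pullback.snd (c.π.app i₀) g₀))) :
    ∃ j : Over i₀, P f₀ F₀ ((DV D i₀ g₀ v).obj j) := by
  haveI : ∀ {i j : I} (φ : i ⟶ j), IsAffineHom (D.map φ) := fun φ => hD _ _ φ
  haveI := isAffineHom_π_app D c hc i₀
  refine LimPresFlat.exists_stage_flat f₀ F₀ (DV D i₀ g₀ v) (cV D c i₀ g₀ v) ?_ ?_ ?_ hF ?_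
  · exact isLimitBcCone D c i₀ (v ≫ g₀) hc
  · intro j
    show IsAffine (pullback (D.map j.hom) (v ≫ g₀))
    haveI : IsAffineHom (D.map j.hom) := hD _ _ _
    exact isAffine_of_isAffineHom (pullback.snd (D.map j.hom) (v ≫ g₀))
  · show IsAffine (pullback (c.π.app i₀) (v ≫ g₀))
    exact isAffine_of_isAffineHom (pullback.snd _ _)
  · refine LimPresFlat.flat_stable f₀ F₀ (T := (cV D c i₀ g₀ v).pt)
      (T₀ := Over.mk (pullback.snd (c.π.app i₀) g₀))
      (Over.homMk (pullback.map _ _ _ _ (𝟙 _) v (𝟙 _) (by simp) (by simp)) ?_) h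
    exact pullback.lift_snd _ _ _

theorem P_DV_mono {V : Scheme.{u}} (v : V ⟶ Y₀) {j j' : Over i₀} (t : j' ⟶ j)
    (h : P f₀ F₀ ((DV D i₀ g₀ v).obj j)) : P f₀ F₀ ((DV D i₀ g₀ v).obj j') :=
  LimPresFlat.flat_stable f₀ F₀ ((DV D i₀ g₀ v).map t) h

include hc in
theorem exists_stage [CompactSpace Y₀] [QuasiCompact f₀] [LocallyOfFinitePresentation f₀]
    (hF : CohB1.IsFP F₀) (h : P f₀ F₀ (Over.mk (pullback.snd (c.π.app i₀) g₀))) :
    ∃ j : Over i₀, P f₀ F₀ (Over.mk (pullback.snd (D.map j.hom) g₀)) := by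
  classical
  let 𝒱 := Y₀.affineCover.finiteSubcover
  haveI : ∀ a, IsAffine (𝒱.X a) := fun a => by
    dsimp [𝒱, Scheme.OpenCover.finiteSubcover]; infer_instance
  choose ja hja using fun a => exists_stage_affine D c hc i₀ f₀ g₀ F₀ hF (𝒱.f a) h
  obtain ⟨j, hj⟩ := IsCofiltered.inf_objs_exists (Finset.univ.image ja)
  refine ⟨j, ?_⟩
  refine FpqcGen.zariski_local f₀ (P f₀ F₀)
    (fun T UX => ∀ x ∈ UX, FlatMod.IsFlatOverAt (PicF.XTproj f₀ T) (FGA.ET f₀ F₀ T) x)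
    (fun T h x => by obtain ⟨UX, -, hx, hC⟩ := h x; exact hC x hx)
    (FpqcProps.flat_hdesc f₀ F₀) (Over.mk (pullback.snd (D.map j.hom) g₀))
    (𝒱.pullback₁ (pullback.snd (D.map j.hom) g₀)) ?_
  intro (a : 𝒱.I₀)
  obtain ⟨t⟩ := hj (Finset.mem_image_of_mem ja (Finset.mem_univ a))
  have h1 := P_DV_mono D i₀ f₀ g₀ F₀ (𝒱.f a) t (hja a)
  let k : pullback (pullback.snd (D.map j.hom) g₀) (𝒱.f a) ⟶ pullback (D.map j.hom) (𝒱.f a ≫ g₀) :=
    pullback.lift (pullback.fst _ _ ≫ pullback.fst _ _) (pullback.snd _ _) (by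
      rw [Category.assoc, pullback.condition, ← Category.assoc, pullback.condition,
        Category.assoc])
  have hk : k ≫ pullback.snd (D.map j.hom) (𝒱.f a ≫ g₀) =
    pullback.snd (pullback.snd (D.map j.hom) g₀) (𝒱.f a) := pullback.lift_snd _ _ _
  refine LimPresFlat.flat_stable f₀ F₀ (T₀ := (DV D i₀ g₀ (𝒱.f a)).obj j) (Over.homMk k ?_) h1
  change k ≫ pullback.snd (D.map j.hom) (𝒱.f a ≫ g₀) ≫ 𝒱.f a =
    pullback.fst (pullback.snd (D.map j.hom) g₀) (𝒱.f a) ≫ pullback.snd (D.map j.hom) g₀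
  rw [reassoc_of% hk, pullback.condition]

end Stage

/-- EGA IV 11.2.6 (scheme form) -/
theorem main {I : Type u} [SmallCategory I] [IsCofiltered I]
    (D : I ⥤ Scheme.{u}) (c : Limits.Cone D) (hc : Limits.IsLimit c)
    [∀ (i j : I) (φ : i ⟶ j), IsAffineHom (D.map φ)] (i₀ : I) [CompactSpace (D.obj i₀)]
    {X₀ Y₀ : Scheme.{u}} (f₀ : X₀ ⟶ Y₀) (g₀ : Y₀ ⟶ D.obj i₀)
    [LocallyOfFinitePresentation g₀] [QuasiCompact g₀] [QuasiSeparated g₀]
    [LocallyOfFinitePresentation (f₀ ≫ g₀)] [QuasiCompact (f₀ ≫ g₀)]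
    (F₀ : X₀.Modules) [F₀.IsQuasicoherent] (hF₀ : CohB1.IsFP F₀)
    {X Y : Scheme.{u}} (f : X ⟶ Y) (g : Y ⟶ c.pt) (qY : Y ⟶ Y₀) (qX : X ⟶ X₀)
    (hY : IsPullback qY g g₀ (c.π.app i₀)) (hX : IsPullback qX f f₀ qY) :
    FlatMod.IsFlatOver f ((Scheme.Modules.pullback qX).obj F₀) ↔
      ∃ (i : I) (φ : i ⟶ i₀) (Xi Yi : Scheme.{u}) (fi : Xi ⟶ Yi) (gi : Yi ⟶ D.obj i)
        (pY : Yi ⟶ Y₀) (pX : Xi ⟶ X₀),
        IsPullback pY gi g₀ (D.map φ) ∧ IsPullback pX fi f₀ pY ∧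
          FlatMod.IsFlatOver fi ((Scheme.Modules.pullback pX).obj F₀) := by
  haveI : CompactSpace Y₀ := QuasiCompact.compactSpace_of_compactSpace g₀
  haveI : QuasiCompact f₀ := QuasiCompact.of_comp f₀ g₀
  haveI : LocallyOfFinitePresentation f₀ :=
    Groth.Agent.Lib.helper7.locallyOfFinitePresentation_of_comp f₀ g₀
  constructor
  · intro h
    have h1 : P f₀ F₀ (Over.mk qY) := by
      refine isFlatOver_of_isPullback (g' := hX.isoPullback.inv) (g := 𝟙 Y)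
        (IsPullback.of_horiz_isIso ⟨hX.isoPullback_inv_snd.trans (Category.comp_id _).symm⟩) F₀ qX _
        hX.isoPullback_inv_fst h
    have h2 : P f₀ F₀ (Over.mk (pullback.snd (c.π.app i₀) g₀)) :=
      LimPresFlat.flat_stable f₀ F₀ (T₀ := Over.mk qY)
        (Over.homMk hY.flip.isoPullback.inv (by simp)) h1
    obtain ⟨j, hj⟩ := exists_stage D c hc i₀ f₀ g₀ F₀ hF₀ h2
    exact ⟨j.left, j.hom, _, _, pullback.snd f₀ (pullback.snd (D.map j.hom) g₀),
      pullback.fst (D.map j.hom) g₀, pullback.snd (D.map j.hom) g₀,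
      pullback.fst f₀ (pullback.snd (D.map j.hom) g₀), (IsPullback.of_hasPullback _ _).flip,
      IsPullback.of_hasPullback _ _, hj⟩
  · rintro ⟨i, φ, Xi, Yi, fi, gi, pY, pX, h1, h2, hfl⟩
    let a : Y ⟶ Yi := h1.lift qY (g ≫ c.π.app i) (by rw [hY.w, Category.assoc, c.w])
    have ha : a ≫ pY = qY := h1.lift_fst _ _ _
    let b : X ⟶ Xi := h2.lift qX (f ≫ a) (by rw [hX.w, Category.assoc, ha])
    have hb : b ≫ pX = qX := h2.lift_fst _ _ _
    have hb2 : b ≫ fi = f ≫ a := h2.lift_snd _ _ _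
    have hsq : IsPullback b f fi a := IsPullback.of_right (by rw [hb, ha]; exact hX) hb2 h2
    exact isFlatOver_of_isPullback hsq F₀ pX qX hb hfl

end Groth.Agent.Lib.helper11.LimFlatSch
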