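import Mathlib
import Groth.Agent.Lib.Helper11.LimFlatSch

/-!
# Descent of a property to a stage of a cofiltered limit with non-affine base (helper11)

Abstract version of `LimFlatSch.exists_stage`: a property `P` of objects over `Y₀` which is stable
under base change, descends to a stage for affine systems and is Zariski-local, descends to a stage
for the base change of `D` along `g₀ : Y₀ ⟶ D.obj i₀` with `Y₀` quasi-compact.
-/

set_option autoImplicit false
set_option linter.style.haveILetI false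
universe u
open CategoryTheory CategoryTheory.Limits AlgebraicGeometry

namespace Groth.Agent.Lib.helper11.LimStageGen

open Groth.Agent.Lib.helper9 Groth.Agent.Lib.helper11.LimFlatSch

variable {I : Type u} [SmallCategory I] [IsCofiltered I] (D : I ⥤ Scheme.{u}) (c : Cone D)
  (hc : IsLimit c) [hD : ∀ (i j : I) (φ : i ⟶ j), IsAffineHom (D.map φ)] (i₀ : I)

section General

variable {Y₀ : Scheme.{u}} (g₀ : Y₀ ⟶ D.obj i₀) (P : Over Y₀ → Prop)
  (hP : ∀ ⦃T T₀ : Over Y₀⦄ (_ : T ⟶ T₀), P T₀ → P T)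
  (hAff : ∀ (D' : Over i₀ ⥤ Over Y₀) (c' : Cone D'), IsLimit ((Over.forget Y₀).mapCone c') →
    (∀ j, IsAffine (D'.obj j).left) → IsAffine c'.pt.left → P c'.pt → ∃ j, P (D'.obj j))
  (hZar : ∀ (T : Over Y₀) (𝒰 : Scheme.OpenCover.{u} T.left),
    (∀ a, P (Over.mk (𝒰.f a ≫ T.hom))) → P T)

include hc hP hAff in
theorem exists_stage_affine {V : Scheme.{u}} (v : V ⟶ Y₀) [IsAffine V]
    (h : P (Over.mk (pullback.snd (c.π.app i₀) g₀))) :
    ∃ j : Over i₀, P ((DV D i₀ g₀ v).obj j) := by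
  haveI : ∀ {i j : I} (φ : i ⟶ j), IsAffineHom (D.map φ) := fun φ => hD _ _ φ
  haveI := isAffineHom_π_app D c hc i₀
  refine hAff (DV D i₀ g₀ v) (cV D c i₀ g₀ v) ?_ ?_ ?_ ?_
  · exact isLimitBcCone D c i₀ (v ≫ g₀) hc
  · intro j
    show IsAffine (pullback (D.map j.hom) (v ≫ g₀))
    haveI : IsAffineHom (D.map j.hom) := hD _ _ _
    exact isAffine_of_isAffineHom (pullback.snd (D.map j.hom) (v ≫ g₀))
  · show IsAffine (pullback (c.π.app i₀) (v ≫ g₀))
    exact isAffine_of_isAffineHom (pullback.snd _ _)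
  · refine hP (T := (cV D c i₀ g₀ v).pt) (T₀ := Over.mk (pullback.snd (c.π.app i₀) g₀))
      (Over.homMk (pullback.map _ _ _ _ (𝟙 _) v (𝟙 _) (by simp) (by simp)) ?_) h
    exact pullback.lift_snd _ _ _

include hc hP hAff hZar in
theorem exists_stage_gen [CompactSpace Y₀] (h : P (Over.mk (pullback.snd (c.π.app i₀) g₀))) :
    ∃ j : Over i₀, P (Over.mk (pullback.snd (D.map j.hom) g₀)) := by
  classical
  let 𝒱 := Y₀.affineCover.finiteSubcover
  haveI : ∀ a, IsAffine (𝒱.X a) := fun a => by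
    dsimp [𝒱, Scheme.OpenCover.finiteSubcover]; infer_instance
  choose ja hja using fun a => exists_stage_affine D c hc i₀ g₀ P hP hAff (𝒱.f a) h
  obtain ⟨j, hj⟩ := IsCofiltered.inf_objs_exists (Finset.univ.image ja)
  refine ⟨j, ?_⟩
  refine hZar (Over.mk (pullback.snd (D.map j.hom) g₀))
    (𝒱.pullback₁ (pullback.snd (D.map j.hom) g₀)) ?_
  intro (a : 𝒱.I₀)
  obtain ⟨t⟩ := hj (Finset.mem_image_of_mem ja (Finset.mem_univ a))
  have h1 : P ((DV D i₀ g₀ (𝒱.f a)).obj j) := hP ((DV D i₀ g₀ (𝒱.f a)).map t) (hja a)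
  let k : pullback (pullback.snd (D.map j.hom) g₀) (𝒱.f a) ⟶ pullback (D.map j.hom) (𝒱.f a ≫ g₀) :=
    pullback.lift (pullback.fst _ _ ≫ pullback.fst _ _) (pullback.snd _ _) (by
      rw [Category.assoc, pullback.condition, ← Category.assoc, pullback.condition,
        Category.assoc])
  have hk : k ≫ pullback.snd (D.map j.hom) (𝒱.f a ≫ g₀) =
    pullback.snd (pullback.snd (D.map j.hom) g₀) (𝒱.f a) := pullback.lift_snd _ _ _
  refine hP (T₀ := (DV D i₀ g₀ (𝒱.f a)).obj j) (Over.homMk k ?_) h1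
  change k ≫ pullback.snd (D.map j.hom) (𝒱.f a ≫ g₀) ≫ 𝒱.f a =
    pullback.fst (pullback.snd (D.map j.hom) g₀) (𝒱.f a) ≫ pullback.snd (D.map j.hom) g₀
  rw [reassoc_of% hk, pullback.condition]

end General

section Id

variable (P : Over (D.obj i₀) → Prop)
  (hP : ∀ ⦃T T₀ : Over (D.obj i₀)⦄ (_ : T ⟶ T₀), P T₀ → P T)
  (hAff : ∀ (D' : Over i₀ ⥤ Over (D.obj i₀)) (c' : Cone D'),
    IsLimit ((Over.forget (D.obj i₀)).mapCone c') →
    (∀ j, IsAffine (D'.obj j).left) → IsAffine c'.pt.left → P c'.pt → ∃ j, P (D'.obj j))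
  (hZar : ∀ (T : Over (D.obj i₀)) (𝒰 : Scheme.OpenCover.{u} T.left),
    (∀ a, P (Over.mk (𝒰.f a ≫ T.hom))) → P T)

include hc hP hAff hZar in
/-- the case `Y₀ = D.obj i₀` -/
theorem exists_stage_gen_id [CompactSpace (D.obj i₀)] (h : P (Over.mk (c.π.app i₀))) :
    ∃ j : Over i₀, P (Over.mk (D.map j.hom)) := by
  have h' : P (Over.mk (pullback.snd (c.π.app i₀) (𝟙 (D.obj i₀)))) :=
    hP (T₀ := Over.mk (c.π.app i₀))
      (Over.homMk (pullback.fst (c.π.app i₀) (𝟙 (D.obj i₀)))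
        (pullback.condition.trans (Category.comp_id _))) h
  obtain ⟨j, hj⟩ := exists_stage_gen D c hc i₀ (𝟙 (D.obj i₀)) P hP hAff hZar h'
  refine ⟨j, ?_⟩
  exact hP (T₀ := Over.mk (pullback.snd (D.map j.hom) (𝟙 (D.obj i₀))))
    (Over.homMk (pullback.lift (𝟙 _) (D.map j.hom) (by simp)) (pullback.lift_snd _ _ _)) hj

end Id

end Groth.Agent.Lib.helper11.LimStageGen
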