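import Mathlib
import Groth.Agent.Lib.Helper11.LimStageGen
import Groth.Agent.Lib.Helper11.LimPresMain2
import Groth.Agent.Lib.Helper11.FpqcProps

/-!
# EGA IV 8.5.2-type statements for modules on a stage of a limit (helper11)

`f₀ : F₀ ⟶ G₀` on `S_{i₀}`: the pullback to `S = lim S_i` is zero / epi / iso iff it is so at some
stage (with the usual finiteness hypotheses), for a quasi-compact (not nec. affine) stage `S_{i₀}`.
-/

set_option autoImplicit false
set_option linter.style.haveILetI false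
universe u
open CategoryTheory CategoryTheory.Limits AlgebraicGeometry

namespace Groth.Agent.Lib.helper11.LimStageMod

open Groth.Agent.Lib.helper11.LimPresMain Groth.Agent.Lib.helper11.LimStageGen

section Transfer

variable {T' T S₀ : Scheme.{u}} (a : T' ⟶ T) (b : T ⟶ S₀) (c : T' ⟶ S₀) (hac : a ≫ b = c)
  {F G : S₀.Modules} (φ : F ⟶ G)

/-- `a^* ∘ b^* ≅ c^*` for `a ≫ b = c` -/
noncomputable def ηcomp :
    Scheme.Modules.pullback b ⋙ Scheme.Modules.pullback a ≅ Scheme.Modules.pullback c :=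
  Scheme.Modules.pullbackComp a b ≪≫ Scheme.Modules.pullbackCongr hac

include hac in
theorem zero_of_comp (h : (Scheme.Modules.pullback b).map φ = 0) :
    (Scheme.Modules.pullback c).map φ = 0 := by
  rw [map_eq_zero_iff (ηcomp a b c hac) φ]
  change (Scheme.Modules.pullback a).map ((Scheme.Modules.pullback b).map φ) = 0
  rw [h, Functor.map_zero]

include hac in
theorem epi_of_comp (h : Epi ((Scheme.Modules.pullback b).map φ)) :
    Epi ((Scheme.Modules.pullback c).map φ) := by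
  rw [epi_map_iff (ηcomp a b c hac) φ]
  change Epi ((Scheme.Modules.pullback a).map ((Scheme.Modules.pullback b).map φ))
  infer_instance

include hac in
theorem isIso_of_comp (h : IsIso ((Scheme.Modules.pullback b).map φ)) :
    IsIso ((Scheme.Modules.pullback c).map φ) := by
  rw [isIso_map_iff (ηcomp a b c hac) φ]
  change IsIso ((Scheme.Modules.pullback a).map ((Scheme.Modules.pullback b).map φ))
  infer_instance

end Transfer

section Main

variable {I : Type u} [SmallCategory I] [IsCofiltered I] (D : I ⥤ Scheme.{u}) (c : Cone D)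
  (hc : IsLimit c) [hD : ∀ (i j : I) (φ : i ⟶ j), IsAffineHom (D.map φ)] (i₀ : I)
  [CompactSpace (D.obj i₀)] {F₀ G₀ : (D.obj i₀).Modules} [F₀.IsQuasicoherent]
  [G₀.IsQuasicoherent] (f₀ : F₀ ⟶ G₀)

/-- `snd ≫ t = fst` on `S₀ ×_{S₀} T` -/
theorem snd_comp {S₀ T : Scheme.{u}} (t : T ⟶ S₀) :
    pullback.snd (𝟙 S₀) t ≫ t = pullback.fst (𝟙 S₀) t :=
  (pullback.condition.symm).trans (Category.comp_id _)

include hc in
theorem epi_iff (hG : CohB1.IsFT G₀) :
    Epi ((Scheme.Modules.pullback (c.π.app i₀)).map f₀) ↔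
      ∃ (j : I) (φ : j ⟶ i₀), Epi ((Scheme.Modules.pullback (D.map φ)).map f₀) := by
  constructor
  · intro h
    obtain ⟨j, hj⟩ := exists_stage_gen_id D c hc i₀
      (fun T => Epi ((Scheme.Modules.pullback (pullback.fst (𝟙 (D.obj i₀)) T.hom)).map f₀))
      (fun T T₀ k h => epi_stable (𝟙 (D.obj i₀)) f₀ k h)
      (fun D' c' hc' hD' hT' h => exists_stage_epi (𝟙 (D.obj i₀)) f₀ D' c' hc' hD' hT' hG h)
      (fun T 𝒰 h𝒰 => Groth.Agent.Lib.helper11.FpqcGen.zariski_local (𝟙 (D.obj i₀)) _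
        (fun T UX => Function.Surjective (((Scheme.Modules.pullback
          (pullback.fst (𝟙 (D.obj i₀)) T.hom)).map f₀).app UX).hom)
        (Groth.Agent.Lib.helper11.FpqcProps.epi_hCP (𝟙 (D.obj i₀)) f₀)
        (Groth.Agent.Lib.helper11.FpqcProps.epi_hdesc (𝟙 (D.obj i₀)) f₀) T 𝒰 h𝒰)
      (epi_of_comp _ _ _ (snd_comp (c.π.app i₀)) f₀ h)
    exact ⟨j.left, j.hom, epi_of_comp (pullback.lift (D.map j.hom) (𝟙 _) (by simp)) _ _
      (pullback.lift_fst _ _ _) f₀ hj⟩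
  · rintro ⟨j, φ, h⟩
    exact epi_of_comp (c.π.app j) (D.map φ) _ (c.w φ) f₀ h

include hc in
theorem isIso_iff (hF : CohB1.IsFT F₀) (hG : CohB1.IsFP G₀) :
    IsIso ((Scheme.Modules.pullback (c.π.app i₀)).map f₀) ↔
      ∃ (j : I) (φ : j ⟶ i₀), IsIso ((Scheme.Modules.pullback (D.map φ)).map f₀) := by
  constructor
  · intro h
    obtain ⟨j, hj⟩ := exists_stage_gen_id D c hc i₀
      (fun T => IsIso ((Scheme.Modules.pullback (pullback.fst (𝟙 (D.obj i₀)) T.hom)).map f₀))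
      (fun T T₀ k h => isIso_stable (𝟙 (D.obj i₀)) f₀ k h)
      (fun D' c' hc' hD' hT' h =>
        exists_stage_isIso (𝟙 (D.obj i₀)) f₀ D' c' hc' hD' hT' hF hG h)
      (fun T 𝒰 h𝒰 => Groth.Agent.Lib.helper11.FpqcGen.zariski_local (𝟙 (D.obj i₀)) _
        (fun T UX => Function.Bijective (((Scheme.Modules.pullback
          (pullback.fst (𝟙 (D.obj i₀)) T.hom)).map f₀).app UX).hom)
        (Groth.Agent.Lib.helper11.FpqcProps.isIso_hCP (𝟙 (D.obj i₀)) f₀)
        (Groth.Agent.Lib.helper11.FpqcProps.isIso_hdesc (𝟙 (D.obj i₀)) f₀) T 𝒰 h𝒰)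
      (isIso_of_comp _ _ _ (snd_comp (c.π.app i₀)) f₀ h)
    exact ⟨j.left, j.hom, isIso_of_comp (pullback.lift (D.map j.hom) (𝟙 _) (by simp)) _ _
      (pullback.lift_fst _ _ _) f₀ hj⟩
  · rintro ⟨j, φ, h⟩
    exact isIso_of_comp (c.π.app j) (D.map φ) _ (c.w φ) f₀ h

include hc in
theorem zero_iff (hF : CohB1.IsFT F₀) :
    (Scheme.Modules.pullback (c.π.app i₀)).map f₀ = 0 ↔
      ∃ (j : I) (φ : j ⟶ i₀), (Scheme.Modules.pullback (D.map φ)).map f₀ = 0 := by
  constructor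
  · intro h
    obtain ⟨j, hj⟩ := exists_stage_gen_id D c hc i₀
      (fun T => (Scheme.Modules.pullback (pullback.fst (𝟙 (D.obj i₀)) T.hom)).map f₀ = 0)
      (fun T T₀ k h => zero_stable (𝟙 (D.obj i₀)) f₀ k h)
      (fun D' c' hc' hD' hT' h => exists_stage_zero (𝟙 (D.obj i₀)) f₀ D' c' hc' hD' hT' hF h)
      (fun T 𝒰 h𝒰 => Groth.Agent.Lib.helper11.FpqcGen.zariski_local (𝟙 (D.obj i₀)) _
        (fun T UX => ∀ s, (((Scheme.Modules.pullback
          (pullback.fst (𝟙 (D.obj i₀)) T.hom)).map f₀).app UX).hom s = 0)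
        (Groth.Agent.Lib.helper11.FpqcProps.zero_hCP (𝟙 (D.obj i₀)) f₀)
        (Groth.Agent.Lib.helper11.FpqcProps.zero_hdesc (𝟙 (D.obj i₀)) f₀) T 𝒰 h𝒰)
      (zero_of_comp _ _ _ (snd_comp (c.π.app i₀)) f₀ h)
    exact ⟨j.left, j.hom, zero_of_comp (pullback.lift (D.map j.hom) (𝟙 _) (by simp)) _ _
      (pullback.lift_fst _ _ _) f₀ hj⟩
  · rintro ⟨j, φ, h⟩
    exact zero_of_comp (c.π.app j) (D.map φ) _ (c.w φ) f₀ h

include hc in
theorem eq_iff (hF : CohB1.IsFT F₀) (φ₀ ψ₀ : F₀ ⟶ G₀) :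
    (Scheme.Modules.pullback (c.π.app i₀)).map φ₀ = (Scheme.Modules.pullback (c.π.app i₀)).map ψ₀ ↔
      ∃ (j : I) (φ : j ⟶ i₀),
        (Scheme.Modules.pullback (D.map φ)).map φ₀ = (Scheme.Modules.pullback (D.map φ)).map ψ₀ := by
  have key : ∀ {T : Scheme.{u}} (t : T ⟶ D.obj i₀),
      (Scheme.Modules.pullback t).map φ₀ = (Scheme.Modules.pullback t).map ψ₀ ↔
        (Scheme.Modules.pullback t).map (φ₀ - ψ₀) = 0 := by
    intro T t
    rw [Functor.map_sub, sub_eq_zero]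
  rw [key, zero_iff D c hc i₀ (φ₀ - ψ₀) hF]
  constructor
  · rintro ⟨j, φ, h⟩
    exact ⟨j, φ, (key _).mpr h⟩
  · rintro ⟨j, φ, h⟩
    exact ⟨j, φ, (key _).mp h⟩

end Main

end Groth.Agent.Lib.helper11.LimStageMod
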