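import Mathlib
import Groth.Agent.Lib.Helper11.LimStageMod
import Groth.Agent.Lib.Helper16.FLF3
import Groth.Agent.Lib.Helper16.FLF5

/-!
# Local freeness of a finitely presented module descends to a stage of a limit (helper11)
-/

set_option autoImplicit false
set_option linter.style.haveILetI false
universe u
open CategoryTheory CategoryTheory.Limits AlgebraicGeometry

namespace Groth.Agent.Lib.helper11.LimStageFLF

open Groth.Agent.Lib.helper11.LimStageGen Groth.Agent.Lib.helper11.LimStageMod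
  Groth.Agent.Lib.helper11.LimFlatSch

section Bridge

variable {S₀ T : Scheme.{u}} (t : T ⟶ S₀) (F₀ : S₀.Modules) [F₀.IsQuasicoherent]

/-- flatness of `t^*F₀` as an `O_T`-module in terms of the predicate on `Over S₀` -/
theorem P_of_isFlat (h : FlatMod.IsFlat ((Scheme.Modules.pullback t).obj F₀)) :
    P (𝟙 S₀) F₀ (Over.mk t) := by
  rw [← Groth.Agent.Lib.helper17.FlatOver7.isFlatOver_id_iff] at h
  exact isFlatOver_of_isPullback (g' := pullback.snd (𝟙 S₀) t) (f' := pullback.snd (𝟙 S₀) t)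
    (f := 𝟙 T) (g := 𝟙 T) (IsPullback.of_horiz_isIso ⟨rfl⟩) F₀ t _ (snd_comp t) h

theorem isFlat_of_P (h : P (𝟙 S₀) F₀ (Over.mk t)) :
    FlatMod.IsFlat ((Scheme.Modules.pullback t).obj F₀) := by
  rw [← Groth.Agent.Lib.helper17.FlatOver7.isFlatOver_id_iff]
  have hs : pullback.lift t (𝟙 T) (by simp) ≫ pullback.snd (𝟙 S₀) t = 𝟙 T :=
    pullback.lift_snd _ _ _
  haveI : IsIso (pullback.lift t (𝟙 T) (by simp) : T ⟶ pullback (𝟙 S₀) t) := by
    have : pullback.lift t (𝟙 T) (by simp) = inv (pullback.snd (𝟙 S₀) t) := by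
      rw [← cancel_mono (pullback.snd (𝟙 S₀) t), IsIso.inv_hom_id]
      exact hs
    rw [this]
    infer_instance
  exact isFlatOver_of_isPullback (g' := pullback.lift t (𝟙 T) _) (f' := 𝟙 T)
    (f := pullback.snd (𝟙 S₀) t) (g := 𝟙 T)
    (IsPullback.of_horiz_isIso ⟨by rw [hs, Category.id_comp]⟩) F₀ (pullback.fst (𝟙 S₀) t) t
    (pullback.lift_fst _ _ _) h

end Bridge

section Main

variable {I : Type u} [SmallCategory I] [IsCofiltered I] (D : I ⥤ Scheme.{u}) (c : Cone D)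
  (hc : IsLimit c) [hD : ∀ (i j : I) (φ : i ⟶ j), IsAffineHom (D.map φ)] (i₀ : I)
  [CompactSpace (D.obj i₀)] (F₀ : (D.obj i₀).Modules) [F₀.IsQuasicoherent]

include hc in
theorem isFinLocFree_iff (hF : CohB1.IsFP F₀) :
    FlatMod.IsFinLocFree ((Scheme.Modules.pullback (c.π.app i₀)).obj F₀) ↔
      ∃ (j : I) (φ : j ⟶ i₀), FlatMod.IsFinLocFree ((Scheme.Modules.pullback (D.map φ)).obj F₀) := by
  constructor
  · intro h
    have h1 : FlatMod.IsFlat ((Scheme.Modules.pullback (c.π.app i₀)).obj F₀) :=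
      Groth.Agent.Lib.helper16.FLF.isFlat_of_isFinLocFree _ h
    obtain ⟨j, hj⟩ := exists_stage_gen_id D c hc i₀ (P (𝟙 (D.obj i₀)) F₀)
      (fun T T₀ k h => Groth.Agent.Lib.helper11.LimPresFlat.flat_stable (𝟙 (D.obj i₀)) F₀ k h)
      (fun D' c' hc' hD' hT' h => Groth.Agent.Lib.helper11.LimPresFlat.exists_stage_flat
        (𝟙 (D.obj i₀)) F₀ D' c' hc' hD' hT' hF h)
      (fun T 𝒰 h𝒰 => Groth.Agent.Lib.helper11.FpqcGen.zariski_local (𝟙 (D.obj i₀)) _
        (fun T UX => ∀ x ∈ UX, FlatMod.IsFlatOverAt (PicF.XTproj (𝟙 (D.obj i₀)) T)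
          (FGA.ET (𝟙 (D.obj i₀)) F₀ T) x)
        (fun T h x => by obtain ⟨UX, -, hx, hC⟩ := h x; exact hC x hx)
        (Groth.Agent.Lib.helper11.FpqcProps.flat_hdesc (𝟙 (D.obj i₀)) F₀) T 𝒰 h𝒰)
      (P_of_isFlat (c.π.app i₀) F₀ h1)
    refine ⟨j.left, j.hom, ?_⟩
    haveI := Groth.Agent.Lib.helper16.QCohPullback.isQuasicoherent_pullback (D.map j.hom) F₀
    exact (Groth.Agent.Lib.helper16.FLF.isFinLocFree_iff_flat_fp _).mp
      ⟨isFlat_of_P (D.map j.hom) F₀ hj,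
        Groth.Agent.Lib.helper16.QCohPullback2.isFinitePresentation_pullback (D.map j.hom) F₀ hF⟩
  · rintro ⟨j, φ, h⟩
    have h1 := Groth.Agent.Lib.helper16.FLF.isFinLocFree_pullback (c.π.app j) h
    exact Groth.Agent.Lib.helper16.FLF.isFinLocFree_of_iso
      ((ηcomp (c.π.app j) (D.map φ) (c.π.app i₀) (c.w φ)).app F₀) h1

end Main

end Groth.Agent.Lib.helper11.LimStageFLF
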