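import Mathlib
import Groth.Agent.Lib.Helper11.LimStageFLF
import Groth.Agent.Lib.Helper16.FLF6

/-!
# Local freeness of rank `n` descends to a stage of a limit (helper11)
-/

set_option autoImplicit false
set_option linter.style.haveILetI false
universe u
open CategoryTheory CategoryTheory.Limits AlgebraicGeometry

namespace Groth.Agent.Lib.helper11.LimStageRank

open Groth.Agent.Lib.helper16.FLF Groth.Agent.Lib.helper11.LimStageMod

section Rank

variable {X Y : Scheme.{u}}

/-- the rank of the stalk -/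
noncomputable def srank (M : X.Modules) (x : X) : ℕ :=
  Module.finrank (X.presheaf.stalk x) (M.presheaf.stalk x)

theorem isOpen_srank_eq (M : X.Modules) [M.IsQuasicoherent] (hM : FlatMod.IsFinLocFree M)
    (n : ℕ) : IsOpen {x | srank M x = n} := by
  rw [isOpen_iff_forall_mem_open]
  intro x hx
  obtain ⟨V, m, hxV, ⟨iso⟩⟩ := hM x
  refine ⟨V, ?_, V.2, hxV⟩
  intro y hy
  have h1 := (free_stalk_of_restrict_iso_freeMod M m iso x hxV).2
  have h2 := (free_stalk_of_restrict_iso_freeMod M m iso y hy).2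
  change srank M y = n
  have hx' : srank M x = n := hx
  unfold srank at hx' ⊢
  rw [h2, ← h1]
  exact hx'

theorem srank_pullback (g : Y ⟶ X) (M : X.Modules) [M.IsQuasicoherent]
    (hM : FlatMod.IsFinLocFree M) (z : Y) :
    srank ((Scheme.Modules.pullback g).obj M) z = srank M (g z) := by
  obtain ⟨V, m, hzV, ⟨iso⟩⟩ := hM (g z)
  have h1 := (free_stalk_of_restrict_iso_freeMod M m iso (g z) hzV).2
  haveI := Groth.Agent.Lib.helper16.QCohPullback.isQuasicoherent_pullback g M
  have iso' : ((Scheme.Modules.pullback g).obj M).restrict (g ⁻¹ᵁ V).ι ≅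
      FlatMod.freeMod (↑(g ⁻¹ᵁ V)) m :=
    Groth.Agent.Lib.helper11.InvMod.pullbackRestrictIso g M V ≪≫
      (Scheme.Modules.pullback (g ∣_ V)).mapIso iso ≪≫
      pullbackFreeModIso (g ∣_ V) m
  have h2 := (free_stalk_of_restrict_iso_freeMod _ m iso' z hzV).2
  unfold srank
  rw [h1, h2]

theorem isFinLocFreeOfRank_iff_srank {n : ℕ} (M : X.Modules) (hM : FlatMod.IsFinLocFree M) :
    FlatMod.IsFinLocFreeOfRank n M ↔ ∀ x : X, srank M x = n :=
  isFinLocFreeOfRank_iff_finrank_stalk M hM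

end Rank

section Open

variable {I : Type u} [SmallCategory I] [IsCofiltered I] (D : I ⥤ Scheme.{u}) (c : Cone D)
  (hc : IsLimit c) [hD : ∀ (i j : I) (φ : i ⟶ j), IsAffineHom (D.map φ)]

include hc in
/-- `exists_map_eq_top` with only the stage `j` assumed quasi-compact -/
theorem exists_map_eq_top' (j : I) [CompactSpace (D.obj j)] (U : (D.obj j).Opens)
    (hU : c.π.app j ⁻¹ᵁ U = ⊤) : ∃ (k : I) (f : k ⟶ j), D.map f ⁻¹ᵁ U = ⊤ := by
  haveI : ∀ {i j : I} (φ : i ⟶ j), IsAffineHom (D.map φ) := fun φ => hD _ _ φ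
  by_contra! H
  obtain ⟨s, hs⟩ := exists_mem_of_isClosed_of_nonempty' D c hc (fun k f ↦ ((D.map f ⁻¹ᵁ U : (D.obj k).Opens) : Set (D.obj k))ᶜ)
    (fun k f ↦ (D.map f ⁻¹ᵁ U).2.isClosed_compl) (fun k f ↦ by
      simp only [Set.nonempty_compl, ne_eq]
      intro h
      exact H k f (SetLike.coe_injective (by rw [h]; rfl)))
    (fun k f ↦ by
      haveI : CompactSpace (D.obj k) := QuasiCompact.compactSpace_of_compactSpace (D.map f)
      exact (D.map f ⁻¹ᵁ U).2.isClosed_compl.isCompact)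
    (fun k k' fkj fji x (hx : _ ∉ U) ↦ by rwa [Functor.map_comp] at hx)
  have h1 := hs j (𝟙 j)
  have h2 : s ∈ c.π.app j ⁻¹ᵁ U := hU ▸ (show s ∈ (⊤ : c.pt.Opens) from trivial)
  apply h1
  simpa using h2

end Open

section Main

variable {I : Type u} [SmallCategory I] [IsCofiltered I] (D : I ⥤ Scheme.{u}) (c : Cone D)
  (hc : IsLimit c) [hD : ∀ (i j : I) (φ : i ⟶ j), IsAffineHom (D.map φ)] (i₀ : I)
  [CompactSpace (D.obj i₀)] (F₀ : (D.obj i₀).Modules) [F₀.IsQuasicoherent]

include hc in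
theorem isFinLocFreeOfRank_iff (hF : CohB1.IsFP F₀) (n : ℕ) :
    FlatMod.IsFinLocFreeOfRank n ((Scheme.Modules.pullback (c.π.app i₀)).obj F₀) ↔
      ∃ (j : I) (φ : j ⟶ i₀),
        FlatMod.IsFinLocFreeOfRank n ((Scheme.Modules.pullback (D.map φ)).obj F₀) := by
  constructor
  · intro h
    obtain ⟨j, φ, hE⟩ := (Groth.Agent.Lib.helper11.LimStageFLF.isFinLocFree_iff D c hc i₀ F₀ hF).mp
      (isFinLocFree_of_isFinLocFreeOfRank h)
    haveI : CompactSpace (D.obj j) := QuasiCompact.compactSpace_of_compactSpace (D.map φ)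
    haveI hEq := Groth.Agent.Lib.helper16.QCohPullback.isQuasicoherent_pullback (D.map φ) F₀
    set E := (Scheme.Modules.pullback (D.map φ)).obj F₀ with hEdef
    let U : (D.obj j).Opens := ⟨{y | srank E y = n}, isOpen_srank_eq E hE n⟩
    have hU : c.π.app j ⁻¹ᵁ U = ⊤ := by
      rw [eq_top_iff]
      intro s _
      change srank E (c.π.app j s) = n
      rw [← srank_pullback (c.π.app j) E hE s]
      have h1 : FlatMod.IsFinLocFreeOfRank n ((Scheme.Modules.pullback (c.π.app j)).obj E) :=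
        isFinLocFreeOfRank_of_iso
          ((ηcomp (c.π.app j) (D.map φ) (c.π.app i₀) (c.w φ)).app F₀).symm h
      exact finrank_stalk_of_isFinLocFreeOfRank _ h1 s
    obtain ⟨k, f, hk⟩ := exists_map_eq_top' D c hc j U hU
    refine ⟨k, f ≫ φ, ?_⟩
    have h2 : FlatMod.IsFinLocFreeOfRank n ((Scheme.Modules.pullback (D.map f)).obj E) := by
      rw [isFinLocFreeOfRank_iff_srank _ (isFinLocFree_pullback (D.map f) hE)]
      intro z
      rw [srank_pullback (D.map f) E hE z]
      have : z ∈ D.map f ⁻¹ᵁ U := hk ▸ (show z ∈ (⊤ : (D.obj k).Opens) from trivial)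
      exact this
    exact isFinLocFreeOfRank_of_iso
      ((ηcomp (D.map f) (D.map φ) (D.map (f ≫ φ)) (D.map_comp f φ).symm).app F₀) h2
  · rintro ⟨j, φ, h⟩
    have h1 := isFinLocFreeOfRank_pullback (c.π.app j) h
    exact isFinLocFreeOfRank_of_iso
      ((ηcomp (c.π.app j) (D.map φ) (c.π.app i₀) (c.w φ)).app F₀) h1

end Main

end Groth.Agent.Lib.helper11.LimStageRank
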