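import Mathlib
import Groth.Agent.Lib.Helper11.HomDescMain
import Groth.Agent.Lib.Helper11.InvPullback
import Groth.Agent.Lib.Helper12.PullAmple
import Groth.Agent.Lib.Helper12.AmplePow
import Groth.Agent.Lib.Helper16.FLF5

/-!
# Ampleness descends to a stage of a cofiltered limit of schemes (helper11, EGA IV 8.10.5.2)

* `isCompact_genLocus`: `X_s` is quasi-compact for a section of an invertible module on a
  quasi-compact scheme.
* `GoodOpen M U`: `U = X_s` is affine for a section `s` of a positive tensor power of `M`.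
* `exists_section_stage`: a section of `π^*(L₀)^{⊗ n}` on the limit descends to a stage, with
  compatible non-vanishing loci.
* `exists_isAmple_stage`: `S = lim S_i` qcqs with affine transition maps, `L₀` invertible on `S_{i₀}`
  with ample pullback to `S`: some pullback to a stage `S_i` is ample.
-/

set_option autoImplicit false
set_option linter.style.haveILetI false
universe u
open CategoryTheory CategoryTheory.Limits AlgebraicGeometry TopologicalSpace Opposite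

namespace Groth.Agent.Lib.helper11.AmpleLim

open Scheme.Modules Groth.Agent.Lib.helper11.HomDescPP Groth.Agent.Lib.helper11.HomDescMain
  Groth.Agent.Lib.helper11.IsoLocus Groth.Agent.Lib.helper11.InvMod
  Groth.Agent.Lib.helper11.GenLocus Groth.Agent.Lib.helper11.InvPullback
  Groth.Agent.Lib.helper12.PullAmple Groth.Agent.Lib.helper12.TensorInv
  Groth.Agent.Lib.helper12.AmpleBasis Groth.Agent.Lib.helper12.AmpleBasis2
  Groth.Agent.Lib.helper12.AmplePow

section Basic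

variable {X : Scheme.{u}}

/-- `X_s` is quasi-compact on a quasi-compact scheme. -/
theorem isCompact_genLocus [CompactSpace X] {M : X.Modules} (hM : PicF.IsInvertible M)
    (s : Coh.structureModule X ⟶ M) : IsCompact (CohB1.genLocus M s : Set X) := by
  choose A hA hxA _ hT using fun x : X => exists_affine_isTrivOn hM x ⊤ trivial
  obtain ⟨t, ht⟩ := isCompact_univ.elim_finite_subcover (fun x => (A x : Set X))
    (fun x => (A x).isOpen) (fun x _ => Set.mem_iUnion.mpr ⟨x, hxA x⟩)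
  have hEq : (CohB1.genLocus M s : Set X) = ⋃ x ∈ t, ((CohB1.genLocus M s ⊓ A x : X.Opens) : Set X) := by
    ext z
    simp only [Set.mem_iUnion, SetLike.mem_coe, exists_prop]
    constructor
    · intro hz
      obtain ⟨x, hxt, hzx⟩ := Set.mem_iUnion₂.mp (ht (Set.mem_univ z))
      exact ⟨x, hxt, hz, hzx⟩
    · rintro ⟨x, -, hz, -⟩
      exact hz
  rw [hEq]
  refine t.isCompact_biUnion (fun x _ => ?_)
  obtain ⟨f, hf⟩ := exists_genLocus_inf_eq_basicOpen s (hT x)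
  rw [hf]
  exact ((hA x).basicOpen f).isCompact

/-- `U` is an affine open of the form `X_s` for a section `s` of a positive tensor power of `M`. -/
def GoodOpen (M : X.Modules) (U : X.Opens) : Prop :=
  ∃ (n : ℕ) (s : Coh.structureModule X ⟶ CohB1.tensorPow M (n + 1)),
    U = CohB1.genLocus _ s ∧ IsAffineOpen U

theorem GoodOpen.of_iso {M M' : X.Modules} (e : M ≅ M') {U : X.Opens} (h : GoodOpen M U) :
    GoodOpen M' U := by
  obtain ⟨n, s, hU, haff⟩ := h
  refine ⟨n, s ≫ (tensorPowIso e (n + 1)).hom, ?_, haff⟩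
  rw [genLocus_comp_iso]
  exact hU

theorem GoodOpen.pullback {Y : Scheme.{u}} (g : Y ⟶ X) [IsAffineHom g] {M : X.Modules}
    (hM : PicF.IsInvertible M) {U : X.Opens} (h : GoodOpen M U) :
    GoodOpen ((Scheme.Modules.pullback g).obj M) (g ⁻¹ᵁ U) := by
  obtain ⟨n, s, hU, haff⟩ := h
  refine ⟨n, pullSec g hM (n + 1) s, ?_, haff.preimage g⟩
  rw [genLocus_pullSec, hU]

theorem isAmple_of_goodOpen_cover [CompactSpace X] {M : X.Modules} (hM : PicF.IsInvertible M)
    (h : ∀ x : X, ∃ U : X.Opens, x ∈ U ∧ GoodOpen M U) : CohB1.IsAmple M := by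
  refine ⟨hM, inferInstance, fun x => ?_⟩
  obtain ⟨U, hxU, n, s, hU, haff⟩ := h x
  exact ⟨n, s, hU ▸ hxU, hU ▸ haff⟩

end Basic

section Limit

variable {I : Type u} [SmallCategory I] [IsCofiltered I]
  (D : I ⥤ Scheme.{u}) (c : Cone D) (hc : IsLimit c)
  [hD : ∀ (i j : I) (f : i ⟶ j), IsAffineHom (D.map f)]
  [∀ i, CompactSpace (D.obj i)] [∀ i, QuasiSeparatedSpace (D.obj i)]

include hc in
/-- A section of `π^*(L₀)^{⊗ n}` on the limit comes from a stage, compatibly with `X_s`. -/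
theorem exists_section_stage (i₀ : I) (L₀ : (D.obj i₀).Modules) (hL₀ : PicF.IsInvertible L₀) (n : ℕ)
    (s : Coh.structureModule c.pt ⟶
      CohB1.tensorPow ((Scheme.Modules.pullback (c.π.app i₀)).obj L₀) n) :
    ∃ (j : I) (φ : j ⟶ i₀) (sj : Coh.structureModule (D.obj j) ⟶
        CohB1.tensorPow ((Scheme.Modules.pullback (D.map φ)).obj L₀) n),
      CohB1.genLocus _ s = (c.π.app j) ⁻¹ᵁ CohB1.genLocus _ sj := by
  let N₀ := CohB1.tensorPow L₀ n
  have hN₀ : PicF.IsInvertible N₀ := isInvertible_tensorPow hL₀ n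
  have hO : PicF.IsInvertible (Coh.structureModule (D.obj i₀)) := isInvertible_structureModule _
  haveI : (Coh.structureModule (D.obj i₀)).IsQuasicoherent := isQuasicoherent_of_isInvertible hO
  haveI : N₀.IsQuasicoherent := isQuasicoherent_of_isInvertible hN₀
  have hfp : CohB1.IsFP (Coh.structureModule (D.obj i₀)) :=
    Groth.Agent.Lib.helper16.FLF.isFinitePresentation_of_isFinLocFree _
      (Groth.Agent.Lib.helper16.FLF.isFinLocFree_of_isInvertible hO)
  let s' : (Scheme.Modules.pullback (c.π.app i₀)).obj (Coh.structureModule (D.obj i₀)) ⟶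
      (Scheme.Modules.pullback (c.π.app i₀)).obj N₀ :=
    (pullbackUnitIso (c.π.app i₀)).hom ≫ s ≫ (pullTensorPowIso (c.π.app i₀) hL₀ n).inv
  obtain ⟨j, φ, hj, hhj⟩ := exists_hom_stage D c hc i₀ (Coh.structureModule (D.obj i₀)) N₀ hfp s'
  refine ⟨j, φ, (pullbackUnitIso (D.map φ)).inv ≫ hj ≫ (pullTensorPowIso (D.map φ) hL₀ n).hom, ?_⟩
  have hMj : PicF.IsInvertible
      ((Scheme.Modules.pullback (D.map φ)).obj (Coh.structureModule (D.obj i₀))) :=
    isInvertible_pullback _ hO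
  have hNj : PicF.IsInvertible ((Scheme.Modules.pullback (D.map φ)).obj N₀) :=
    isInvertible_pullback _ hN₀
  have e1 : CohB1.genLocus _ s = isoLocus s' := by
    rw [genLocus_eq_isoLocus]
    show isoLocus s = isoLocus ((pullbackUnitIso (c.π.app i₀)).hom ≫ s ≫
      (pullTensorPowIso (c.π.app i₀) hL₀ n).inv)
    rw [isoLocus_comp_of_isIso_left, isoLocus_comp_of_isIso_right]
  have e2 : isoLocus s' = (c.π.app j) ⁻¹ᵁ isoLocus hj := by
    rw [← hhj]
    unfold conjPull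
    rw [isoLocus_comp_of_isIso_left, isoLocus_comp_of_isIso_right]
    exact isoLocus_pullback_map (c.π.app j) hMj hNj hj
  have e3 : CohB1.genLocus _ ((pullbackUnitIso (D.map φ)).inv ≫ hj ≫
      (pullTensorPowIso (D.map φ) hL₀ n).hom) = isoLocus hj := by
    rw [genLocus_eq_isoLocus, isoLocus_comp_of_isIso_left, isoLocus_comp_of_isIso_right]
  rw [e1, e2, e3]

omit [IsCofiltered I] [∀ i, CompactSpace (D.obj i)] [∀ i, QuasiSeparatedSpace (D.obj i)] in
theorem goodOpen_transport {i₀ j l : I} (L₀ : (D.obj i₀).Modules) (hL₀ : PicF.IsInvertible L₀)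
    (ψ : l ⟶ j) (φ : j ⟶ i₀) (Φ : l ⟶ i₀) (h : ψ ≫ φ = Φ) {U : (D.obj j).Opens}
    (hU : GoodOpen ((Scheme.Modules.pullback (D.map φ)).obj L₀) U) :
    GoodOpen ((Scheme.Modules.pullback (D.map Φ)).obj L₀) ((D.map ψ) ⁻¹ᵁ U) := by
  haveI : IsAffineHom (D.map ψ) := hD _ _ ψ
  exact (hU.pullback (D.map ψ) (isInvertible_pullback _ hL₀)).of_iso
    ((ηcomp (D.map ψ) (D.map φ) (D.map Φ) (by rw [← D.map_comp, h])).app L₀)

include hc in
/-- Near each point of the limit there is a good open at some stage. -/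
theorem exists_goodOpen_stage (i₀ : I) (L₀ : (D.obj i₀).Modules) (hL₀ : PicF.IsInvertible L₀)
    (h : CohB1.IsAmple ((Scheme.Modules.pullback (c.π.app i₀)).obj L₀)) (x : c.pt) :
    ∃ (l : I) (Φ : l ⟶ i₀) (V : (D.obj l).Opens), c.π.app l x ∈ V ∧
      GoodOpen ((Scheme.Modules.pullback (D.map Φ)).obj L₀) V := by
  haveI hD' : ∀ {i j : I} (f : i ⟶ j), IsAffineHom (D.map f) := fun f => hD _ _ f
  obtain ⟨A, hA, hxA, -, hT⟩ := exists_affine_isTrivOn hL₀ (c.π.app i₀ x) ⊤ trivial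
  have hB := isBasis_of_isAmple h
  obtain ⟨_, ⟨n, s, rfl⟩, hxs, hsA⟩ := Opens.isBasis_iff_nbhd.mp hB
    (show x ∈ (c.π.app i₀) ⁻¹ᵁ A from hxA)
  obtain ⟨j, φ, sj, hgl⟩ := exists_section_stage D c hc i₀ L₀ hL₀ (n + 1) s
  have hLj : PicF.IsInvertible ((Scheme.Modules.pullback (D.map φ)).obj L₀) :=
    isInvertible_pullback _ hL₀
  have hUc := isCompact_genLocus (isInvertible_tensorPow hLj (n + 1)) sj
  have hπ : c.π.app j ≫ D.map φ = c.π.app i₀ := c.w φ
  have H : c.π.app j ⁻¹ᵁ (CohB1.genLocus _ sj) ≤ c.π.app j ⁻¹ᵁ ((D.map φ) ⁻¹ᵁ A) := by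
    rw [← hgl, ← Scheme.Hom.comp_preimage, hπ]
    exact hsA
  obtain ⟨l, ψ, hle⟩ := exists_map_preimage_le_map_preimage D c hc hUc H
  refine ⟨l, ψ ≫ φ, (D.map ψ) ⁻¹ᵁ (CohB1.genLocus _ sj), ?_, ?_⟩
  · have hx2 : x ∈ c.π.app j ⁻¹ᵁ (CohB1.genLocus _ sj) := hgl ▸ hxs
    have hπ2 : c.π.app l ≫ D.map ψ = c.π.app j := c.w ψ
    rw [← hπ2, Scheme.Hom.comp_preimage] at hx2
    exact hx2
  · have hg : GoodOpen ((Scheme.Modules.pullback (D.map ψ)).obj
        ((Scheme.Modules.pullback (D.map φ)).obj L₀)) ((D.map ψ) ⁻¹ᵁ (CohB1.genLocus _ sj)) := by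
      have hgl2 := genLocus_pullSec (D.map ψ) hLj (n + 1) sj
      refine ⟨n, pullSec (D.map ψ) hLj (n + 1) sj, hgl2.symm, ?_⟩
      rw [← hgl2]
      have hAaff : IsAffineOpen ((D.map ψ) ⁻¹ᵁ ((D.map φ) ⁻¹ᵁ A)) := (hA.preimage _).preimage _
      have hTriv : IsTrivOn (CohB1.tensorPow ((Scheme.Modules.pullback (D.map ψ)).obj
          ((Scheme.Modules.pullback (D.map φ)).obj L₀)) (n + 1))
          ((D.map ψ) ⁻¹ᵁ ((D.map φ) ⁻¹ᵁ A)) :=
        isTrivOn_tensorPow ((hT.pullback (D.map φ)).pullback (D.map ψ)) (n + 1)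
      refine isAffineOpen_genLocus_of_le _ hAaff hTriv ?_
      rw [hgl2]
      exact hle
    exact hg.of_iso ((ηcomp (D.map ψ) (D.map φ) (D.map (ψ ≫ φ)) (by rw [← D.map_comp])).app L₀)

include hc in
/-- **Ampleness descends to a stage of a limit** (EGA IV 8.10.5.2 for ampleness). -/
theorem exists_isAmple_stage (i₀ : I) (L₀ : (D.obj i₀).Modules) (hL₀ : PicF.IsInvertible L₀)
    (h : CohB1.IsAmple ((Scheme.Modules.pullback (c.π.app i₀)).obj L₀)) :
    ∃ (i : I) (φ : i ⟶ i₀), CohB1.IsAmple ((Scheme.Modules.pullback (D.map φ)).obj L₀) := by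
  classical
  haveI hD' : ∀ {i j : I} (f : i ⟶ j), IsAffineHom (D.map f) := fun f => hD _ _ f
  choose l Φ V hxV hgood using fun x => exists_goodOpen_stage D c hc i₀ L₀ hL₀ h x
  haveI : CompactSpace c.pt := Scheme.compactSpace_of_isLimit D c hc
  obtain ⟨t, ht⟩ := isCompact_univ.elim_finite_subcover
    (fun x => ((c.π.app (l x) ⁻¹ᵁ V x : c.pt.Opens) : Set c.pt))
    (fun x => (c.π.app (l x) ⁻¹ᵁ V x).isOpen) (fun x _ => Set.mem_iUnion.mpr ⟨x, hxV x⟩)
  -- a common stage equalising all the `Φ x`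
  let O : Finset I := insert i₀ (t.image l)
  have hmemO : ∀ x ∈ t, l x ∈ O := fun x hx =>
    Finset.mem_insert_of_mem (Finset.mem_image_of_mem l hx)
  have hi₀O : i₀ ∈ O := Finset.mem_insert_self _ _
  let H : Finset (Σ' (X Y : I) (_ : X ∈ O) (_ : Y ∈ O), X ⟶ Y) :=
    t.attach.image (fun x => ⟨l x.1, i₀, hmemO x.1 x.2, hi₀O, Φ x.1⟩)
  obtain ⟨l', T, hT⟩ := IsCofiltered.inf_exists O H
  let Ψ : l' ⟶ i₀ := T hi₀O
  have hTΨ : ∀ (x : c.pt) (hx : x ∈ t), T (hmemO x hx) ≫ Φ x = Ψ := fun x hx =>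
    hT (hmemO x hx) hi₀O (Finset.mem_image.mpr ⟨⟨x, hx⟩, Finset.mem_attach _ _, rfl⟩)
  -- the good opens at stage `l'`
  let V' : t → (D.obj l').Opens := fun x => (D.map (T (hmemO x.1 x.2))) ⁻¹ᵁ V x.1
  have hgood' : ∀ x : t, GoodOpen ((Scheme.Modules.pullback (D.map Ψ)).obj L₀) (V' x) := fun x =>
    goodOpen_transport D L₀ hL₀ (T (hmemO x.1 x.2)) (Φ x.1) Ψ (hTΨ x.1 x.2) (hgood x.1)
  have hcov : c.π.app l' ⁻¹ᵁ (⨆ x : t, V' x) = ⊤ := by
    rw [eq_top_iff]
    intro z _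
    obtain ⟨x, hxt, hzx⟩ := Set.mem_iUnion₂.mp (ht (Set.mem_univ z))
    rw [Scheme.Hom.preimage_iSup]
    refine Opens.mem_iSup.mpr ⟨⟨x, hxt⟩, ?_⟩
    show z ∈ c.π.app l' ⁻¹ᵁ ((D.map (T (hmemO x hxt))) ⁻¹ᵁ V x)
    rw [← Scheme.Hom.comp_preimage, c.w]
    exact hzx
  obtain ⟨l'', f, hf⟩ := exists_map_eq_top D c hc (⨆ x : t, V' x) hcov
  refine ⟨l'', f ≫ Ψ, ?_⟩
  refine isAmple_of_goodOpen_cover (isInvertible_pullback _ hL₀) (fun z => ?_)
  have hz : z ∈ (D.map f) ⁻¹ᵁ (⨆ x : t, V' x) := hf ▸ (trivial : z ∈ (⊤ : (D.obj l'').Opens))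
  rw [Scheme.Hom.preimage_iSup] at hz
  obtain ⟨x, hzx⟩ := Opens.mem_iSup.mp hz
  exact ⟨_, hzx, goodOpen_transport D L₀ hL₀ f Ψ (f ≫ Ψ) rfl (hgood' x)⟩

end Limit

end Groth.Agent.Lib.helper11.AmpleLim
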