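import Mathlib
import Groth.Agent.Lib.Helper11.AmpleLim
import Groth.Agent.Lib.Helper9.LimBaseChange

/-!
# Ampleness descends to a stage of a base-changed limit (helper11)

`exists_isAmple_stage_bc`: `S = lim S_i` cofiltered with affine transition maps, `g : T ⟶ S_k` with
`T` quasi-compact quasi-separated, `N` invertible on `T`.  If the pullback of `N` to `S ×_{S_k} T` is
ample, then so is its pullback to `S_j ×_{S_k} T` for some `j ⟶ k`.
-/

set_option autoImplicit false
set_option linter.style.haveILetI false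
universe u
open CategoryTheory CategoryTheory.Limits AlgebraicGeometry TopologicalSpace Opposite

namespace Groth.Agent.Lib.helper11.AmpleLim

open Scheme.Modules Groth.Agent.Lib.helper11.HomDescPP Groth.Agent.Lib.helper9
  Groth.Agent.Lib.helper12.AmplePow Groth.Agent.Lib.helper11.InvMod

variable {I : Type u} [SmallCategory I] [IsCofiltered I]
  (D : I ⥤ Scheme.{u}) (c : Cone D) (hc : IsLimit c)
  [hD : ∀ (i j : I) (f : i ⟶ j), IsAffineHom (D.map f)]

include hc in
theorem exists_isAmple_stage_bc (k : I) {T : Scheme.{u}} [CompactSpace T] [QuasiSeparatedSpace T]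
    (g : T ⟶ D.obj k) (N : T.Modules) (hN : PicF.IsInvertible N)
    (h : CohB1.IsAmple ((Scheme.Modules.pullback (pullback.snd (c.π.app k) g)).obj N)) :
    ∃ (j : I) (φ : j ⟶ k),
      CohB1.IsAmple ((Scheme.Modules.pullback (pullback.snd (D.map φ) g)).obj N) := by
  let D₁ := bcDiagram D k g
  let c₁ := bcCone D c k g
  have hc₁ : IsLimit c₁ := isLimitBcCone D c k g hc
  haveI hD₁ : ∀ (j j' : Over k) (a : j ⟶ j'), IsAffineHom (D₁.map a) := fun j j' a =>
    inferInstance
  have haff : ∀ j : Over k, IsAffineHom (pullback.snd (D.map j.hom) g) := fun j =>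
    MorphismProperty.pullback_snd (P := @IsAffineHom) _ _ (hD _ _ j.hom)
  haveI : ∀ j : Over k, CompactSpace ↥(D₁.obj j) := fun j => by
    haveI h1 : IsAffineHom (pullback.snd (D.map j.hom) g) := haff j
    haveI h2 : QuasiCompact (pullback.snd (D.map j.hom) g) := inferInstance
    show CompactSpace ↥(pullback (D.map j.hom) g)
    exact @QuasiCompact.compactSpace_of_compactSpace _ _ (pullback.snd (D.map j.hom) g) h2 _
  haveI : ∀ j : Over k, QuasiSeparatedSpace ↥(D₁.obj j) := fun j => by
    haveI h1 : IsAffineHom (pullback.snd (D.map j.hom) g) := haff j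
    haveI h2 : QuasiSeparated (pullback.snd (D.map j.hom) g) := inferInstance
    show QuasiSeparatedSpace ↥(pullback (D.map j.hom) g)
    exact @quasiSeparatedSpace_of_quasiSeparated _ _ (pullback.snd (D.map j.hom) g) _ h2
  let i₀ : Over k := Over.mk (𝟙 k)
  let L₀ : (D₁.obj i₀).Modules :=
    (Scheme.Modules.pullback (pullback.snd (D.map i₀.hom) g)).obj N
  have hL₀ : PicF.IsInvertible L₀ := isInvertible_pullback _ hN
  have hπ : c₁.π.app i₀ ≫ pullback.snd (D.map i₀.hom) g = pullback.snd (c.π.app k) g := by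
    exact pullback.lift_snd _ _ _
  have h' : CohB1.IsAmple ((Scheme.Modules.pullback (c₁.π.app i₀)).obj L₀) :=
    isAmple_of_iso ((ηcomp (c₁.π.app i₀) (pullback.snd (D.map i₀.hom) g)
      (pullback.snd (c.π.app k) g) hπ).app N).symm h
  obtain ⟨j, φ, hj⟩ := exists_isAmple_stage D₁ c₁ hc₁ i₀ L₀ hL₀ h'
  refine ⟨j.left, j.hom, ?_⟩
  have hφ : D₁.map φ ≫ pullback.snd (D.map i₀.hom) g = pullback.snd (D.map j.hom) g := by
    exact pullback.lift_snd _ _ _
  exact isAmple_of_iso ((ηcomp (D₁.map φ) (pullback.snd (D.map i₀.hom) g)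
    (pullback.snd (D.map j.hom) g) hφ).app N) hj

end Groth.Agent.Lib.helper11.AmpleLim
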