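import Mathlib
import Groth.Agent.Lib.Helper11.ThickTower
import Groth.Agent.Lib.Helper27.FibreVan2
import Groth.Agent.Lib.Helper12.AmplePow
import Groth.Agent.Lib.Helper18.DegCalc

/-!
# An invertible module ample on a fibre kills the stalks of higher direct images (helper11, EGA III 4.7.1)

* `subsingleton_HH_of_modPow`: over a Noetherian local ring, `H^p(X, M) = 0` as soon as
  `H^p(X, M/𝔪^(n+1)M) = 0` for all `n` (formal functions + Krull);
* `exists_isZero_stalk`: `f : X ⟶ Y` proper, `Y` Noetherian, `L` invertible with `L|X_y` ample, `M` coherent: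
  `∃ d₀ ∀ d ≥ d₀ ∀ p > 0, (R^p f_*(M ⊗ L^d))_y = 0`.
-/

set_option autoImplicit false
set_option backward.isDefEq.respectTransparency false
universe u
open CategoryTheory CategoryTheory.Limits AlgebraicGeometry Opposite TopologicalSpace

namespace Groth.Agent.Lib.helper11.FibreAmple

open Scheme.Modules Groth.Agent.Lib.Lead.ModTensor Groth.Agent.Lib.helper27.FibreVan
  Groth.Agent.Lib.helper11.ThickTower

section Local

variable {A : Type u} [CommRing A] [IsLocalRing A] [IsNoetherianRing A]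
  {X : Scheme.{u}} [X.Over (Spec (CommRingCat.of A))] [IsProper (X ↘ Spec (CommRingCat.of A))]

theorem subsingleton_HH_of_modPow (M : X.Modules) (hM : Coh.IsCoh M) (p : ℕ)
    (h : ∀ n : ℕ, Subsingleton (Coh.HH X (Formal.modPow (IsLocalRing.maximalIdeal A) (n + 1) M) p)) :
    Subsingleton (Coh.HH X M p) := by
  obtain ⟨e⟩ := Groth.Agent.S0059.result A (IsLocalRing.maximalIdeal A) X M hM p
  have : Module.Finite A (Coh.HH X M p) := Groth.Agent.S0002.result A X M hM p
  have h1 : Subsingleton (Formal.HHlim (IsLocalRing.maximalIdeal A) M p) := by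
    refine ⟨fun x y => ?_⟩
    apply Subtype.ext
    funext n
    have := h n
    exact Subsingleton.elim _ _
  have h2 : Subsingleton (AdicCompletion (IsLocalRing.maximalIdeal A) (Coh.HH X M p)) :=
    e.toEquiv.subsingleton
  exact (AdicCompletion.of_injective (IsLocalRing.maximalIdeal A) (Coh.HH X M p)).subsingleton

end Local

section Fibre

variable {X Y : Scheme.{u}} (f : X ⟶ Y) (y : Y)

/-- `Spec (O_y/𝔪^(0+1)) ≅ Spec κ(y)` -/
noncomputable def specResIso :
    Spec (CommRingCat.of (Y.presheaf.stalk y ⧸ IsLocalRing.maximalIdeal (Y.presheaf.stalk y) ^ (0 + 1))) ≅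
      Spec (Y.residueField y) :=
  Scheme.Spec.mapIso (RingEquiv.toCommRingCatIso
    (Ideal.quotEquivOfEq (I := IsLocalRing.maximalIdeal (Y.presheaf.stalk y))
      (J := IsLocalRing.maximalIdeal (Y.presheaf.stalk y) ^ (0 + 1))
      (by rw [zero_add, pow_one]))).op

lemma specResIso_hom_comp :
    (specResIso y).hom ≫ Y.fromSpecResidueField y =
      CohB1.specQuot (IsLocalRing.maximalIdeal (Y.presheaf.stalk y)) 0 ≫ Y.fromSpecStalk y := by
  unfold Scheme.fromSpecResidueField CohB1.specQuot specResIso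
  rw [← Category.assoc]
  congr 1
  change Spec.map _ ≫ Spec.map _ = _
  rw [← Spec.map_comp]
  congr 1

/-- the closed fibre of `X ×_Y Spec O_y` is the fibre of `f` over `y` -/
theorem isPullback_thick_fibre :
    IsPullback
      (CohB1.thickι ((X₁ f y) ↘ Spec (CommRingCat.of (Y.presheaf.stalk y)))
        (IsLocalRing.maximalIdeal (Y.presheaf.stalk y)) 0 ≫ pullback.fst f (Y.fromSpecStalk y))
      (CohB1.thickToBase ((X₁ f y) ↘ Spec (CommRingCat.of (Y.presheaf.stalk y)))
        (IsLocalRing.maximalIdeal (Y.presheaf.stalk y)) 0 ≫ (specResIso y).hom)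
      f (Y.fromSpecResidueField y) := by
  have hL : IsPullback
      (CohB1.thickι ((X₁ f y) ↘ Spec (CommRingCat.of (Y.presheaf.stalk y)))
        (IsLocalRing.maximalIdeal (Y.presheaf.stalk y)) 0)
      (CohB1.thickToBase ((X₁ f y) ↘ Spec (CommRingCat.of (Y.presheaf.stalk y)))
        (IsLocalRing.maximalIdeal (Y.presheaf.stalk y)) 0)
      ((X₁ f y) ↘ Spec (CommRingCat.of (Y.presheaf.stalk y)))
      (CohB1.specQuot (IsLocalRing.maximalIdeal (Y.presheaf.stalk y)) 0) :=
    IsPullback.of_hasPullback _ _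
  have hR : IsPullback (pullback.fst f (Y.fromSpecStalk y))
      ((X₁ f y) ↘ Spec (CommRingCat.of (Y.presheaf.stalk y))) f (Y.fromSpecStalk y) :=
    IsPullback.of_hasPullback _ _
  have hbig := hL.paste_horiz hR
  refine IsPullback.of_iso hbig (Iso.refl _) (Iso.refl _) (specResIso y) (Iso.refl _) ?_ ?_ ?_ ?_
  · simp
  · simp
  · simp
  · rw [Iso.refl_hom, Category.comp_id, specResIso_hom_comp]

/-- the iso between the closed fibre of `X ×_Y Spec O_y` and the fibre of `f` -/
noncomputable def thickFibreIso :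
    CohB1.thick ((X₁ f y) ↘ Spec (CommRingCat.of (Y.presheaf.stalk y)))
      (IsLocalRing.maximalIdeal (Y.presheaf.stalk y)) 0 ≅ f.fiber y :=
  (isPullback_thick_fibre f y).isoPullback

lemma thickFibreIso_hom_ι :
    (thickFibreIso f y).hom ≫ f.fiberι y =
      CohB1.thickι ((X₁ f y) ↘ Spec (CommRingCat.of (Y.presheaf.stalk y)))
        (IsLocalRing.maximalIdeal (Y.presheaf.stalk y)) 0 ≫ pullback.fst f (Y.fromSpecStalk y) :=
  (isPullback_thick_fibre f y).isoPullback_hom_fst

theorem isAmple_thick_of_fibre {L : X.Modules}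
    (hy : CohB1.IsAmple ((Scheme.Modules.pullback (f.fiberι y)).obj L)) :
    CohB1.IsAmple ((Scheme.Modules.pullback
      (CohB1.thickι ((X₁ f y) ↘ Spec (CommRingCat.of (Y.presheaf.stalk y)))
        (IsLocalRing.maximalIdeal (Y.presheaf.stalk y)) 0)).obj
      ((Scheme.Modules.pullback (pullback.fst f (Y.fromSpecStalk y))).obj L)) := by
  have h1 := Groth.Agent.Lib.helper12.PullAmple.isAmple_pullback_of_isAffineHom
    (thickFibreIso f y).hom hy
  refine Groth.Agent.Lib.helper12.AmplePow.isAmple_of_iso ?_ h1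
  exact (pullbackComp (thickFibreIso f y).hom (f.fiberι y)).app L ≪≫
    (pullbackCongr (thickFibreIso_hom_ι f y)).app L ≪≫
    ((pullbackComp _ _).app L).symm

end Fibre

section Main

variable {X Y : Scheme.{u}} (f : X ⟶ Y) [IsProper f] [IsNoetherian Y]

theorem exists_isZero_stalk (L : X.Modules) (hL : PicF.IsInvertible L) (M : X.Modules)
    (hM : Coh.IsCoh M) (y : Y)
    (hy : CohB1.IsAmple ((Scheme.Modules.pullback (f.fiberι y)).obj L)) :
    ∃ d₀ : ℕ, ∀ d : ℕ, d₀ ≤ d → ∀ p : ℕ, 0 < p →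
      Limits.IsZero (TopCat.Presheaf.stalk
        ((Coh.RpushAb f p).obj (Coh.toAb (CohB1.tensorMod M (CohB1.tensorPow L d)))).obj y) := by
  haveI : M.IsQuasicoherent := hM.1
  let g := pullback.fst f (Y.fromSpecStalk y)
  have hsq : IsPullback g ((X₁ f y) ↘ Spec (CommRingCat.of (Y.presheaf.stalk y))) f
      (Y.fromSpecStalk y) := IsPullback.of_hasPullback _ _
  have hL₁ : PicF.IsInvertible ((Scheme.Modules.pullback g).obj L) :=
    Groth.Agent.Lib.helper11.InvMod.isInvertible_pullback _ hL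
  have hM₁ : Coh.IsCoh ((Scheme.Modules.pullback g).obj M) :=
    ⟨Groth.Agent.Lib.helper16.QCohPullback.isQuasicoherent_pullback g M,
      Groth.Agent.Lib.helper16.QCohPullback2.isFiniteType_pullback g M hM.2⟩
  obtain ⟨d₀, hd₀⟩ := exists_uniform_vanishing_modPow
    (IsLocalRing.maximalIdeal (Y.presheaf.stalk y)) ((Scheme.Modules.pullback g).obj L) hL₁
    (isAmple_thick_of_fibre f y hy) ((Scheme.Modules.pullback g).obj M) hM₁
  refine ⟨d₀, fun d hd p hp => ?_⟩
  have hLd := Groth.Agent.Lib.helper12.TensorInv.isInvertible_tensorPow hL d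
  have hLd₁ := Groth.Agent.Lib.helper12.TensorInv.isInvertible_tensorPow hL₁ d
  have hcoh : ∀ {Z : Scheme.{u}} {E : Z.Modules}, PicF.IsInvertible E → Coh.IsCoh E := fun hE =>
    ⟨Groth.Agent.Lib.helper12.AmpleBasis.isQuasicoherent_of_isInvertible hE,
      Groth.Agent.Lib.helper16.FLF.isFiniteType_of_isFinLocFree _
        (Groth.Agent.Lib.helper16.FLF.isFinLocFree_of_isInvertible hE)⟩
  have hN : Coh.IsCoh (CohB1.tensorMod M (CohB1.tensorPow L d)) :=
    Groth.Agent.Lib.Helper18.DegCalc.isCoh_tensorMod hM (hcoh hLd)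
  have hN₁ : Coh.IsCoh (CohB1.tensorMod ((Scheme.Modules.pullback g).obj M)
      (CohB1.tensorPow ((Scheme.Modules.pullback g).obj L) d)) :=
    Groth.Agent.Lib.Helper18.DegCalc.isCoh_tensorMod hM₁ (hcoh hLd₁)
  haveI : (CohB1.tensorMod M (CohB1.tensorPow L d)).IsQuasicoherent := hN.1
  have hsub₁ : Subsingleton (Coh.HH (X₁ f y) (CohB1.tensorMod ((Scheme.Modules.pullback g).obj M)
      (CohB1.tensorPow ((Scheme.Modules.pullback g).obj L) d)) p) :=
    subsingleton_HH_of_modPow _ hN₁ p (fun n => hd₀ d hd n p hp)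
  have hsub : Subsingleton (Coh.HH (X₁ f y)
      ((Scheme.Modules.pullback g).obj (CohB1.tensorMod M (CohB1.tensorPow L d))) p) := by
    let i2 := Groth.Agent.Lib.helper12.PullTensor.pullTensorIso g M (CohB1.tensorPow L d) hLd
    let i3 := tensorIso (Iso.refl ((Scheme.Modules.pullback g).obj M))
      (Groth.Agent.Lib.helper12.PullAmple.pullTensorPowIso g hL d)
    exact Groth.Agent.Lib.helper11.RelSerre.subsingleton_HH_of_iso (i2 ≪≫ i3).symm p hsub₁
  have hG : ((Coh.Rpush f p).obj (CohB1.tensorMod M (CohB1.tensorPow L d))).IsQuasicoherent :=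
    Groth.Agent.S0030.result f _ p
  obtain ⟨e, -⟩ := Groth.Agent.Lib.helper8.StalkBC.exists_stalk_equiv f
    (CohB1.tensorMod M (CohB1.tensorPow L d)) p hG y g hsq
  have h1 : Subsingleton (((Coh.Rpush f p).obj
      (CohB1.tensorMod M (CohB1.tensorPow L d))).presheaf.stalk y) := e.toEquiv.subsingleton
  obtain ⟨i⟩ := Groth.Agent.S11319.result f (CohB1.tensorMod M (CohB1.tensorPow L d)) p
  have i' := (TopCat.Presheaf.stalkFunctor AddCommGrpCat.{u} y).mapIso
    ((sheafToPresheaf _ _).mapIso i)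
  refine IsZero.of_iso ?_ i'.symm
  have h2 : Subsingleton ↑((TopCat.Presheaf.stalkFunctor AddCommGrpCat.{u} y).obj
      ((sheafToPresheaf (Opens.grothendieckTopology ↥Y) AddCommGrpCat.{u}).obj
        (Coh.toAb ((Coh.Rpush f p).obj (CohB1.tensorMod M (CohB1.tensorPow L d)))))) := h1
  exact AddCommGrpCat.isZero_of_subsingleton _

end Main

end Groth.Agent.Lib.helper11.FibreAmple
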