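import Mathlib
import Groth.Agent.Lib.Helper11.FibreAmple
import Groth.Agent.Lib.Helper11.AmpleLim2
import Groth.Agent.Lib.Helper9.LocLim1
import Groth.Agent.Lib.Helper12.AmpleLocal
import Groth.Agent.S0051

/-!
# An invertible module ample on a fibre of a proper morphism is ample near the fibre
(helper11, EGA III 4.7.1)

* `isAmple_X₁`: `f : X ⟶ Y` proper, `Y` Noetherian, `L|X_y` ample ⇒ `L` is ample on
  `X ×_Y Spec O_{Y,y}` (formal functions + cohomological criterion);
* `exists_nhd_isAmple`: then `L` is ample on `f⁻¹ V` for an open neighbourhood `V` of `y`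
  (limit argument);
* `exists_nhd_forall_isAmple`: the form of S0054.
-/

set_option autoImplicit false
set_option linter.style.haveILetI false
set_option backward.isDefEq.respectTransparency false
universe u
open CategoryTheory CategoryTheory.Limits AlgebraicGeometry Opposite TopologicalSpace

namespace Groth.Agent.Lib.helper11.FibreAmple

open Scheme.Modules Groth.Agent.Lib.Lead.ModTensor Groth.Agent.Lib.helper27.FibreVan
  Groth.Agent.Lib.helper11.ThickTower Groth.Agent.Lib.helper11.AmpleLim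
  Groth.Agent.Lib.helper11.HomDescPP Groth.Agent.Lib.helper11.InvMod
  Groth.Agent.Lib.helper9 Groth.Agent.Lib.helper9.LocLim
  Groth.Agent.Lib.helper12.AmplePow

variable {X Y : Scheme.{u}} (f : X ⟶ Y) [IsProper f] [IsNoetherian Y]

/-- `L` is ample on `X ×_Y Spec O_{Y,y}` as soon as it is ample on the fibre `X_y`. -/
theorem isAmple_X₁ (L : X.Modules) (hL : PicF.IsInvertible L) (y : Y)
    (hy : CohB1.IsAmple ((Scheme.Modules.pullback (f.fiberι y)).obj L)) :
    CohB1.IsAmple ((Scheme.Modules.pullback (pullback.fst f (Y.fromSpecStalk y))).obj L) := by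
  let g := pullback.fst f (Y.fromSpecStalk y)
  have hL₁ : PicF.IsInvertible ((Scheme.Modules.pullback g).obj L) := isInvertible_pullback _ hL
  rw [Groth.Agent.S0051.result (Y.presheaf.stalk y) (X₁ f y)
    ((X₁ f y) ↘ Spec (CommRingCat.of (Y.presheaf.stalk y))) _ hL₁]
  intro M hM
  obtain ⟨d₀, hd₀⟩ := exists_uniform_vanishing_modPow
    (IsLocalRing.maximalIdeal (Y.presheaf.stalk y)) ((Scheme.Modules.pullback g).obj L) hL₁
    (isAmple_thick_of_fibre f y hy) M hM
  refine ⟨d₀, fun d hd p hp => ?_⟩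
  have hLd₁ := Groth.Agent.Lib.helper12.TensorInv.isInvertible_tensorPow hL₁ d
  have hcoh : Coh.IsCoh (CohB1.tensorPow ((Scheme.Modules.pullback g).obj L) d) :=
    ⟨Groth.Agent.Lib.helper12.AmpleBasis.isQuasicoherent_of_isInvertible hLd₁,
      Groth.Agent.Lib.helper16.FLF.isFiniteType_of_isFinLocFree _
        (Groth.Agent.Lib.helper16.FLF.isFinLocFree_of_isInvertible hLd₁)⟩
  have hN₁ : Coh.IsCoh (CohB1.tensorMod M
      (CohB1.tensorPow ((Scheme.Modules.pullback g).obj L) d)) :=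
    Groth.Agent.Lib.Helper18.DegCalc.isCoh_tensorMod hM hcoh
  exact subsingleton_HH_of_modPow _ hN₁ p (fun n => hd₀ d hd n p hp)

/-- Composing both legs of a pullback square with a monomorphism gives a pullback square. -/
theorem isPullback_comp_mono' {C : Type*} [Category C] {P A B Z Z' : C} {fst : P ⟶ A} {snd : P ⟶ B}
    {f : A ⟶ Z} {g : B ⟶ Z} (i : Z ⟶ Z') [Mono i] (h : IsPullback fst snd f g) :
    IsPullback fst snd (f ≫ i) (g ≫ i) := by
  refine ⟨⟨by rw [reassoc_of% h.w]⟩, ⟨PullbackCone.IsLimit.mk _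
    (fun s => h.lift s.fst s.snd (by
      rw [← cancel_mono i, Category.assoc, Category.assoc, s.condition])) ?_ ?_ ?_⟩⟩
  · intro s
    exact h.lift_fst _ _ _
  · intro s
    exact h.lift_snd _ _ _
  · intro s m h1 h2
    apply h.hom_ext
    · rw [h.lift_fst, h1]
    · rw [h.lift_snd, h2]

set_option maxHeartbeats 1600000 in
/-- **EGA III 4.7.1**: `L` ample on the fibre `X_y` ⇒ `L` ample on `f⁻¹ V` for some open
neighbourhood `V` of `y`. -/
theorem exists_nhd_isAmple (L : X.Modules) (hL : PicF.IsInvertible L) (y : Y)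
    (hy : CohB1.IsAmple ((Scheme.Modules.pullback (f.fiberι y)).obj L)) :
    ∃ V : Y.Opens, y ∈ V ∧ CohB1.IsAmple (L.restrict (f ⁻¹ᵁ V).ι) := by
  obtain ⟨W, hW, hyW⟩ : ∃ W : Y.Opens, IsAffineOpen W ∧ y ∈ W := by
    obtain ⟨W, hW, hyW, -⟩ := TopologicalSpace.Opens.isBasis_iff_nbhd.mp
      Y.isBasis_affineOpens (TopologicalSpace.Opens.mem_top y)
    exact ⟨W, hW, hyW⟩
  -- the limit presentation of `Spec 𝒪_{Y,y}`
  letI : Algebra Γ(Y, W) (Y.presheaf.stalk y) := Y.presheaf.algebra_section_stalk ⟨y, hyW⟩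
  haveI hloc : IsLocalization.AtPrime (Y.presheaf.stalk y) (hW.primeIdealOf ⟨y, hyW⟩).asIdeal :=
    hW.isLocalization_stalk ⟨y, hyW⟩
  let M : Submonoid Γ(Y, W) := (hW.primeIdealOf ⟨y, hyW⟩).asIdeal.primeCompl
  let D := specDiagram M
  let c := specCone M (Y.presheaf.stalk y)
  have hc : IsLimit c := isLimitSpecCone M (Y.presheaf.stalk y)
  let k : (Idx M)ᵒᵖ := op Idx.one
  let β : D.obj k ⟶ Y := toBase M k ≫ hW.fromSpec
  let ℓ := Y.fromSpecStalk y
  have hβ : c.π.app k ≫ β = ℓ := by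
    show _ = Y.fromSpecStalk y
    rw [← hW.fromSpecStalk_eq_fromSpecStalk hyW, IsAffineOpen.fromSpecStalk]
    show (specCone M (Y.presheaf.stalk y)).π.app k ≫ toBase M k ≫ hW.fromSpec = _
    rw [← Category.assoc, specCone_π_toBase]
    rfl
  have hβrange : Set.range β = (W : Set Y) := by
    apply subset_antisymm
    · rintro _ ⟨z, rfl⟩
      rw [← hW.range_fromSpec]
      exact ⟨toBase M k z, rfl⟩
    · intro z hz
      rw [← hW.range_fromSpec] at hz
      obtain ⟨z', rfl⟩ := hz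
      have hz' : z' ∈ Set.range (toBase M k) := by
        rw [range_toBase]
        show z' ∈ (PrimeSpectrum.basicOpen (1 : Γ(Y, W)) : Set (PrimeSpectrum Γ(Y, W)))
        rw [PrimeSpectrum.basicOpen_one]
        trivial
      obtain ⟨z'', rfl⟩ := hz'
      exact ⟨z'', rfl⟩
  let XW := f ⁻¹ᵁ W
  have hrange : Set.range (XW.ι ≫ f) ⊆ Set.range β := by
    rintro _ ⟨z, rfl⟩
    rw [hβrange]
    exact z.2
  let g₁ : (XW : Scheme.{u}) ⟶ D.obj k := IsOpenImmersion.lift β (XW.ι ≫ f) hrange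
  have hg₁ : g₁ ≫ β = XW.ι ≫ f := IsOpenImmersion.lift_fac _ _ _
  haveI : IsAffine (W : Scheme.{u}) := hW
  haveI : CompactSpace ↥(XW : Scheme.{u}) := isCompact_iff_compactSpace.mp
    (QuasiCompact.isCompact_preimage (f := f) _ W.2 hW.isCompact)
  haveI : QuasiSeparatedSpace ↥(XW : Scheme.{u}) :=
    quasiSeparatedSpace_of_quasiSeparated (f ∣_ W)
  let N := L.restrict XW.ι
  have hN : PicF.IsInvertible N := isInvertible_restrict XW.ι hL
  haveI hD : ∀ (i j : (Idx M)ᵒᵖ) (a : i ⟶ j), IsAffineHom (D.map a) := fun i j a => inferInstance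
  -- ampleness on the limit
  let j₁ : pullback (c.π.app k) g₁ ⟶ pullback f ℓ :=
    pullback.lift (pullback.snd (c.π.app k) g₁ ≫ XW.ι) (pullback.fst (c.π.app k) g₁) (by
      rw [Category.assoc, ← hg₁, ← pullback.condition_assoc, hβ])
  have hj₁1 : j₁ ≫ pullback.fst f ℓ = pullback.snd (c.π.app k) g₁ ≫ XW.ι :=
    pullback.lift_fst _ _ _
  have hj₁2 : j₁ ≫ pullback.snd f ℓ = pullback.fst (c.π.app k) g₁ := pullback.lift_snd _ _ _
  have hα : IsPullback j₁ (pullback.snd (c.π.app k) g₁) (pullback.fst f ℓ) XW.ι := by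
    have h1 : IsPullback (pullback.fst (c.π.app k) g₁) (pullback.snd (c.π.app k) g₁)
        (c.π.app k ≫ β) (g₁ ≫ β) :=
      isPullback_comp_mono' β (IsPullback.of_hasPullback _ _)
    rw [hβ, hg₁, ← hj₁2] at h1
    exact IsPullback.of_right h1 hj₁1 (IsPullback.of_hasPullback f ℓ).flip
  haveI : IsOpenImmersion j₁ :=
    MorphismProperty.of_isPullback (P := @IsOpenImmersion) hα.flip inferInstance
  haveI : IsAffine c.pt := inferInstanceAs (IsAffine (Spec (CommRingCat.of (Y.presheaf.stalk y))))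
  haveI : IsAffine (((Functor.const (Idx M)ᵒᵖ).obj c.pt).obj k) :=
    inferInstanceAs (IsAffine (Spec (CommRingCat.of (Y.presheaf.stalk y))))
  haveI : IsAffineHom (c.π.app k) := isAffineHom_of_isAffine _
  haveI : CompactSpace ↥(pullback (c.π.app k) g₁) :=
    QuasiCompact.compactSpace_of_compactSpace (pullback.snd (c.π.app k) g₁)
  have hX₁ := isAmple_X₁ f L hL y hy
  have h1 := Groth.Agent.Lib.helper12.PullAmple.isAmple_pullback_of_isEmbedding j₁
    j₁.isOpenEmbedding.isEmbedding hX₁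
  have h : CohB1.IsAmple ((Scheme.Modules.pullback (pullback.snd (c.π.app k) g₁)).obj N) := by
    refine isAmple_of_iso ?_ h1
    exact (ηcomp j₁ (pullback.fst f ℓ) (pullback.snd (c.π.app k) g₁ ≫ XW.ι) hj₁1).app L ≪≫
      ((ηcomp (pullback.snd (c.π.app k) g₁) XW.ι _ rfl).app L).symm ≪≫
      (Scheme.Modules.pullback _).mapIso ((restrictFunctorIsoPullback XW.ι).app L).symm
  obtain ⟨j, φ, hj⟩ := exists_isAmple_stage_bc D c hc k g₁ N hN h
  -- back to an open of `Y`
  haveI : IsOpenImmersion (D.map φ) := by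
    haveI : IsOpenImmersion (D.map φ ≫ toBase M k) := by
      rw [specDiagram_map_toBase]
      infer_instance
    exact IsOpenImmersion.of_comp _ (toBase M k)
  let o : pullback (D.map φ) g₁ ⟶ (XW : Scheme.{u}) := pullback.snd (D.map φ) g₁
  haveI : IsOpenImmersion o := inferInstanceAs (IsOpenImmersion (pullback.snd (D.map φ) g₁))
  have hq : CohB1.IsAmple (L.restrict (o ≫ XW.ι)) :=
    (Groth.Agent.Lib.helper12.AmpleLocal.isAmple_restrict_restrict_iff XW.ι o L).mp
      (isAmple_of_iso ((restrictFunctorIsoPullback o).app N).symm hj)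
  let V : Y.Opens := (D.map φ ≫ β).opensRange
  have hyV : y ∈ V := by
    let z : c.pt := IsLocalRing.closedPoint (Y.presheaf.stalk y)
    have hz : ℓ z = y := Scheme.fromSpecStalk_closedPoint
    have hℓ : ℓ = c.π.app j ≫ D.map φ ≫ β := by
      rw [← hβ]
      exact ((congrArg (· ≫ β) (c.w φ)).symm.trans (Category.assoc _ _ _))
    refine ⟨c.π.app j z, ?_⟩
    rw [← hz, hℓ]
    rfl
  have hβinj : Function.Injective β := β.isOpenEmbedding.injective
  have hr : Set.range (o ≫ XW.ι) = Set.range (f ⁻¹ᵁ V).ι := by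
    rw [Scheme.Opens.range_ι]
    apply subset_antisymm
    · rintro _ ⟨z, rfl⟩
      show f ((o ≫ XW.ι) z) ∈ V
      refine ⟨pullback.fst (D.map φ) g₁ z, ?_⟩
      have e1 : (D.map φ ≫ β) (pullback.fst (D.map φ) g₁ z) =
          (pullback.fst (D.map φ) g₁ ≫ D.map φ ≫ β) z := rfl
      have e2 : f ((o ≫ XW.ι) z) = (pullback.snd (D.map φ) g₁ ≫ XW.ι ≫ f) z := rfl
      rw [e1, e2, ← hg₁, pullback.condition_assoc]
    · intro x hx
      obtain ⟨w, hw⟩ := hx
      have hxW : x ∈ XW := by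
        show f x ∈ (W : Set Y)
        rw [← hβrange, ← hw]
        exact ⟨D.map φ w, rfl⟩
      have hg : g₁ ⟨x, hxW⟩ = D.map φ w := by
        apply hβinj
        have e1 : β (g₁ ⟨x, hxW⟩) = (g₁ ≫ β) ⟨x, hxW⟩ := rfl
        rw [e1, hg₁]
        exact hw.symm
      obtain ⟨z, -, hz2⟩ := Scheme.Pullback.exists_preimage_pullback (f := D.map φ) (g := g₁)
        w ⟨x, hxW⟩ hg.symm
      refine ⟨z, ?_⟩
      show XW.ι (o z) = x
      rw [show o z = ⟨x, hxW⟩ from hz2]
      rfl
  exact ⟨V, hyV, (Groth.Agent.Lib.helper12.AmpleLocal.isAmple_restrict_iff_of_range_eq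
    (o ≫ XW.ι) (f ⁻¹ᵁ V).ι hr L).mp hq⟩

/-- The form of S0054. -/
theorem exists_nhd_forall_isAmple (L : X.Modules) (hL : PicF.IsInvertible L) (y : Y)
    (hy : CohB1.IsAmple ((Scheme.Modules.pullback (f.fiberι y)).obj L)) :
    ∃ V : Y.Opens, y ∈ V ∧ ∀ W : Y.Opens, W ≤ V → IsAffineOpen W →
      CohB1.IsAmple (L.restrict (f ⁻¹ᵁ W).ι) := by
  obtain ⟨V, hyV, hV⟩ := exists_nhd_isAmple f L hL y hy
  refine ⟨V, hyV, fun W hWV hW => ?_⟩
  have hle : f ⁻¹ᵁ W ≤ f ⁻¹ᵁ V := fun x hx => hWV hx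
  haveI : CompactSpace ↥(f ⁻¹ᵁ W : Scheme.{u}) := isCompact_iff_compactSpace.mp
    (QuasiCompact.isCompact_preimage (f := f) _ W.2 hW.isCompact)
  have h2 := Groth.Agent.Lib.helper12.AmpleRestrict.isAmple_restrict (X.homOfLE hle) hV
  exact (isAmple_iff_of_iso (restrictRestrictIso L hle)).mp h2

end Groth.Agent.Lib.helper11.FibreAmple
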