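import Mathlib
import Groth.Agent.Lib.Helper12.AmpleBasis2
import Groth.Agent.Lib.Helper12.AmpleQAff
import Groth.Agent.Lib.Helper12.AmpleRestrict
import Groth.Agent.Lib.Helper11.InvHom

/-!
# Finite sets of points lie in affine opens `X_s` (helper11)

EGA II 4.5.4: on a scheme with an ample invertible module `L`, a finite set of points contained in
an open `U` is contained in an affine open `X_s ⊆ U`, `s` a section of a positive power of `L`.
-/

set_option autoImplicit false
universe u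
open CategoryTheory CategoryTheory.Limits AlgebraicGeometry TopologicalSpace Opposite
open Scheme.Modules
open Groth.Agent.Lib.helper11.GenLocus Groth.Agent.Lib.helper11.IsoLocus
open Groth.Agent.Lib.helper11.InvMod Groth.Agent.Lib.helper11.InvHom
open Groth.Agent.Lib.helper12.AmpleBasis Groth.Agent.Lib.helper12.AmpleBasis2
open Groth.Agent.Lib.helper12.TensorInv Groth.Agent.Lib.helper12.TensorPowAdd
open Groth.Agent.Lib.helper12.AmplePow

namespace Groth.Agent.Lib.helper11.FiniteAffine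

variable {X : Scheme.{u}}

theorem localEnd_add {M N : X.Modules} (φ ψ : M ⟶ N) {U : X.Opens}
    (eM : M.restrict U.ι ≅ Coh.structureModule (↑U : Scheme.{u}))
    (eN : N.restrict U.ι ≅ Coh.structureModule (↑U : Scheme.{u})) :
    localEnd (φ + ψ) eM eN = localEnd φ eM eN + localEnd ψ eM eN := by
  simp [localEnd, Functor.map_add]

theorem localFn_add {M N : X.Modules} (φ ψ : M ⟶ N) {U : X.Opens}
    (eM : M.restrict U.ι ≅ Coh.structureModule (↑U : Scheme.{u}))
    (eN : N.restrict U.ι ≅ Coh.structureModule (↑U : Scheme.{u})) :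
    localFn (φ + ψ) eM eN = localFn φ eM eN + localFn ψ eM eN := by
  unfold localFn
  rw [localEnd_add, ← map_add]
  rfl

theorem localFn_zero {M N : X.Modules} {U : X.Opens}
    (eM : M.restrict U.ι ≅ Coh.structureModule (↑U : Scheme.{u}))
    (eN : N.restrict U.ι ≅ Coh.structureModule (↑U : Scheme.{u})) :
    localFn (0 : M ⟶ N) eM eN = 0 := by
  unfold localFn
  rw [localEnd_zero]
  exact map_zero _

/-- local description of `X_s`, `X_t`, `X_{s+t}` near a point in a common trivialisation -/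
theorem exists_local_fns {L : X.Modules} (hL : PicF.IsInvertible L)
    (s t : Coh.structureModule X ⟶ L) (x : X) :
    ∃ (A : X.Opens) (f g : Γ(X, A)), x ∈ A ∧ CohB1.genLocus L s ⊓ A = X.basicOpen f ∧
      CohB1.genLocus L t ⊓ A = X.basicOpen g ∧
      CohB1.genLocus L (s + t) ⊓ A = X.basicOpen (f + g) := by
  obtain ⟨A, hxA, ⟨eL⟩⟩ := hL x
  obtain ⟨eO⟩ := isTrivOn_structureModule (X := X) A
  refine ⟨A, localFn s eO eL, localFn t eO eL, hxA, ?_, ?_, ?_⟩
  · rw [genLocus_eq_isoLocus]; exact isoLocus_inf_eq_basicOpen_localFn s eO eL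
  · rw [genLocus_eq_isoLocus]; exact isoLocus_inf_eq_basicOpen_localFn t eO eL
  · rw [genLocus_eq_isoLocus, ← localFn_add]; exact isoLocus_inf_eq_basicOpen_localFn (s + t) eO eL

theorem genLocus_add_le {L : X.Modules} (hL : PicF.IsInvertible L)
    (s t : Coh.structureModule X ⟶ L) :
    CohB1.genLocus L (s + t) ≤ CohB1.genLocus L s ⊔ CohB1.genLocus L t := by
  intro x hx
  obtain ⟨A, f, g, hxA, hs, ht, hst⟩ := exists_local_fns hL s t x
  have h1 : x ∈ X.basicOpen (f + g) := by rw [← hst]; exact ⟨hx, hxA⟩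
  rcases X.basicOpen_add_le f g h1 with h2 | h2
  · left; rw [← hs] at h2; exact h2.1
  · right; rw [← ht] at h2; exact h2.1

theorem mem_genLocus_add {L : X.Modules} (hL : PicF.IsInvertible L)
    (s t : Coh.structureModule X ⟶ L) {x : X} (hs : x ∈ CohB1.genLocus L s)
    (ht : x ∉ CohB1.genLocus L t) : x ∈ CohB1.genLocus L (s + t) := by
  obtain ⟨A, f, g, hxA, hs', ht', hst⟩ := exists_local_fns hL s t x
  have hf : x ∈ X.basicOpen f := by rw [← hs']; exact ⟨hs, hxA⟩
  have hg : x ∉ X.basicOpen g := by rw [← ht']; exact fun h => ht h.1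
  have h1 : x ∈ X.basicOpen ((f + g) + (-g)) := by
    rw [add_neg_cancel_right]; exact hf
  rcases X.basicOpen_add_le (f + g) (-g) h1 with h2 | h2
  · rw [← hst] at h2; exact h2.1
  · exfalso
    have : X.basicOpen (-g) = X.basicOpen g := by
      have := X.basicOpen_mul (-1 : Γ(X, A)) g
      rw [neg_one_mul] at this
      rw [this, X.basicOpen_of_isUnit (isUnit_one.neg), inf_eq_right]
      exact X.basicOpen_le g
    rw [this] at h2
    exact hg h2

theorem genLocus_zero {L : X.Modules} (hL : PicF.IsInvertible L) :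
    CohB1.genLocus L (0 : Coh.structureModule X ⟶ L) = ⊥ := by
  rw [eq_bot_iff]
  intro x hx
  obtain ⟨A, hxA, ⟨eL⟩⟩ := hL x
  obtain ⟨eO⟩ := isTrivOn_structureModule (X := X) A
  have h1 : CohB1.genLocus L (0 : Coh.structureModule X ⟶ L) ⊓ A =
      X.basicOpen (localFn (0 : Coh.structureModule X ⟶ L) eO eL) := by
    rw [genLocus_eq_isoLocus]; exact isoLocus_inf_eq_basicOpen_localFn _ eO eL
  rw [localFn_zero, X.basicOpen_zero] at h1
  have : x ∈ CohB1.genLocus L (0 : Coh.structureModule X ⟶ L) ⊓ A := ⟨hx, hxA⟩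
  rw [h1] at this
  exact this

/-- the empty open is an `X_s` -/
theorem bot_mem_genLocusFamily {L : X.Modules} (hL : PicF.IsInvertible L) :
    (⊥ : X.Opens) ∈ genLocusFamily L :=
  ⟨0, 0, (genLocus_zero (isInvertible_tensorPow hL 1)).symm⟩

/-- **graded prime avoidance, one step**: for `X_s`, `X_t` there is `X_w ⊆ X_s ∪ X_t` containing the
symmetric difference. -/
theorem exists_mem_genLocusFamily_symmDiff {L : X.Modules} (hL : PicF.IsInvertible L)
    {W₁ W₂ : X.Opens} (h₁ : W₁ ∈ genLocusFamily L) (h₂ : W₂ ∈ genLocusFamily L) :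
    ∃ W ∈ genLocusFamily L, W ≤ W₁ ⊔ W₂ ∧
      (∀ x, x ∈ W₁ → x ∉ W₂ → x ∈ W) ∧ (∀ x, x ∈ W₂ → x ∉ W₁ → x ∈ W) := by
  obtain ⟨m, s, rfl⟩ := h₁
  obtain ⟨n, t, rfl⟩ := h₂
  let N := (m + 1) * (n + 1)
  have hN : N = (N - 1) + 1 := (Nat.sub_add_cancel (Nat.mul_pos (Nat.succ_pos m) (Nat.succ_pos n))).symm
  let s' : Coh.structureModule X ⟶ CohB1.tensorPow L N := powSec s (n + 1)
  let t' : Coh.structureModule X ⟶ CohB1.tensorPow L N :=
    castSec (Nat.mul_comm (n + 1) (m + 1)) (powSec t (m + 1))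
  have hs' : CohB1.genLocus _ s' = CohB1.genLocus _ s := genLocus_powSec hL s n
  have ht' : CohB1.genLocus _ t' = CohB1.genLocus _ t := by
    rw [genLocus_castSec]; exact genLocus_powSec hL t m
  have hLN : PicF.IsInvertible (CohB1.tensorPow L N) := isInvertible_tensorPow hL N
  refine ⟨CohB1.genLocus _ (castSec hN (s' + t')), ⟨N - 1, _, rfl⟩, ?_, ?_, ?_⟩
  · rw [genLocus_castSec, ← hs', ← ht']
    exact genLocus_add_le hLN s' t'
  · intro x hx hx'
    rw [genLocus_castSec]
    rw [← hs'] at hx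
    rw [← ht'] at hx'
    exact mem_genLocus_add hLN s' t' hx hx'
  · intro x hx hx'
    rw [genLocus_castSec, add_comm]
    rw [← ht'] at hx
    rw [← hs'] at hx'
    exact mem_genLocus_add hLN t' s' hx hx'

/-- **graded prime avoidance, geometric form**: if the `X_s` form a basis, every finite set of
points inside an open `U` lies in some `X_w ⊆ U`. -/
theorem exists_mem_genLocusFamily_of_finite {L : X.Modules} (hL : PicF.IsInvertible L)
    (hB : Opens.IsBasis (genLocusFamily L)) (Z : Finset X) :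
    ∀ (U : X.Opens), (↑Z : Set X) ⊆ U → ∃ W ∈ genLocusFamily L, (↑Z : Set X) ⊆ W ∧ W ≤ U := by
  classical
  induction Z using Finset.strongInduction with
  | H Z ih =>
    intro U hZU
    rcases Z.eq_empty_or_nonempty with rfl | hne
    · exact ⟨⊥, bot_mem_genLocusFamily hL, by simp, bot_le⟩
    · let _ := specializationPreorder X
      obtain ⟨z, hz⟩ := Z.exists_maximal hne
      have hzZ : z ∈ Z := hz.prop
      have hgen : ∀ y ∈ Z, y ≠ z → z ∉ closure ({y} : Set X) := by
        intro y hy hyz hmem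
        have h1 : y ⤳ z := specializes_iff_mem_closure.mpr hmem
        have h2 : z ⤳ y := hz.le_of_ge hy h1
        exact hyz (h1.antisymm h2).eq
      obtain ⟨W₀, hW₀, hZW₀, hW₀U⟩ := ih (Z.erase z) (Finset.erase_ssubset hzZ) U
        (fun y hy => hZU (Finset.mem_of_mem_erase (Finset.mem_coe.mp hy)))
      by_cases hzW₀ : z ∈ W₀
      · refine ⟨W₀, hW₀, fun y hy => ?_, hW₀U⟩
        by_cases hyz : y = z
        · rw [hyz]; exact hzW₀
        · exact hZW₀ (Finset.mem_coe.mpr (Finset.mem_erase.mpr ⟨hyz, Finset.mem_coe.mp hy⟩))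
      · let V : X.Opens := U ⊓ ⟨(⋃ y ∈ Z.erase z, closure ({y} : Set X))ᶜ,
          (isClosed_biUnion_finset fun y _ => isClosed_closure).isOpen_compl⟩
        have hzV : z ∈ V := by
          refine ⟨hZU (Finset.mem_coe.mpr hzZ), ?_⟩
          change z ∉ ⋃ y ∈ Z.erase z, closure ({y} : Set X)
          simp only [Set.mem_iUnion, not_exists]
          intro y hy
          exact hgen y (Finset.mem_of_mem_erase hy) (Finset.ne_of_mem_erase hy)
        obtain ⟨W₁, hW₁, hzW₁, hW₁V⟩ := Opens.isBasis_iff_nbhd.mp hB hzV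
        obtain ⟨W, hW, hWle, hW1, hW2⟩ := exists_mem_genLocusFamily_symmDiff hL hW₀ hW₁
        refine ⟨W, hW, fun y hy => ?_, hWle.trans (sup_le hW₀U (hW₁V.trans inf_le_left))⟩
        by_cases hyz : y = z
        · rw [hyz]; exact hW2 z hzW₁ hzW₀
        · have hye : y ∈ Z.erase z := Finset.mem_erase.mpr ⟨hyz, Finset.mem_coe.mp hy⟩
          refine hW1 y (hZW₀ (Finset.mem_coe.mpr hye)) (fun hyW₁ => ?_)
          have : y ∉ ⋃ y' ∈ Z.erase z, closure ({y'} : Set X) := (hW₁V hyW₁).2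
          apply this
          simp only [Set.mem_iUnion]
          exact ⟨y, hye, subset_closure rfl⟩

/-- **prime avoidance on a quasi-affine scheme**: a finite set of points of a quasi-affine scheme
lies in an affine basic open `D(g)`, `g` a global function. -/
theorem exists_basicOpen_of_finite_of_isQuasiAffine (Y : Scheme.{u}) [Y.IsQuasiAffine]
    (Z : Finset Y) :
    ∃ g : Γ(Y, ⊤), (↑Z : Set Y) ⊆ Y.basicOpen g ∧ IsAffineOpen (Y.basicOpen g) := by
  classical
  rcases Z.eq_empty_or_nonempty with rfl | ⟨z₀, hz₀⟩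
  · exact ⟨0, by simp, by rw [Y.basicOpen_zero]; exact isAffineOpen_bot Y⟩
  let j := Y.toSpecΓ
  let R : (Spec Γ(Y, ⊤)).Opens := j.opensRange
  let 𝔞 : Ideal Γ(Y, ⊤) := PrimeSpectrum.vanishingIdeal ((R : Set (Spec Γ(Y, ⊤)))ᶜ)
  have hzl : PrimeSpectrum.zeroLocus (𝔞 : Set Γ(Y, ⊤)) = (R : Set (Spec Γ(Y, ⊤)))ᶜ := by
    rw [PrimeSpectrum.zeroLocus_vanishingIdeal_eq_closure]
    exact R.isOpen.isClosed_compl.closure_eq
  have hnot : ∀ z ∈ Z, ¬ 𝔞 ≤ (j z).asIdeal := by
    intro z _ hle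
    have h1 : j z ∈ PrimeSpectrum.zeroLocus (𝔞 : Set Γ(Y, ⊤)) :=
      (PrimeSpectrum.mem_zeroLocus _ _).mpr hle
    rw [hzl] at h1
    exact h1 ⟨z, rfl⟩
  have havoid : ¬ ((𝔞 : Set Γ(Y, ⊤)) ⊆ ⋃ z ∈ (↑Z : Set Y), ((j z).asIdeal : Set Γ(Y, ⊤))) := by
    intro h
    rw [Ideal.subset_union_prime (s := Z) (f := fun z => (j z).asIdeal) z₀ z₀
      (fun z _ _ _ => (j z).isPrime)] at h
    obtain ⟨z, hz, hle⟩ := h
    exact hnot z hz hle
  obtain ⟨g, hg𝔞, hgnot⟩ := Set.not_subset.mp havoid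
  have hgz : ∀ z ∈ Z, g ∉ (j z).asIdeal := by
    intro z hz hmem
    apply hgnot
    simp only [Set.mem_iUnion]
    exact ⟨z, Finset.mem_coe.mpr hz, hmem⟩
  have hDR : PrimeSpectrum.basicOpen g ≤ R := by
    intro q hq
    by_contra hqR
    have : q ∈ PrimeSpectrum.zeroLocus (𝔞 : Set Γ(Y, ⊤)) := by rw [hzl]; exact hqR
    exact hq ((PrimeSpectrum.mem_zeroLocus _ _).mp this hg𝔞)
  refine ⟨g, ?_, ?_⟩
  · intro z hz
    rw [← Y.toSpecΓ_preimage_basicOpen g]
    exact hgz z (Finset.mem_coe.mp hz)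
  · rw [← Y.toSpecΓ_preimage_basicOpen g]
    exact (IsAffineOpen.Spec_basicOpen g).preimage_of_isOpenImmersion j hDR

theorem isCompact_genLocus [CompactSpace X] {L : X.Modules} (hL : PicF.IsInvertible L)
    (s : Coh.structureModule X ⟶ L) : IsCompact (CohB1.genLocus L s : Set X) := by
  have h : ∀ x : X, ∃ A : X.Opens, IsAffineOpen A ∧ x ∈ A ∧ IsTrivOn L A := by
    intro x
    obtain ⟨A, hA, hxA, -, hT⟩ := exists_affine_isTrivOn hL x ⊤ trivial
    exact ⟨A, hA, hxA, hT⟩
  choose A hA hxA hT using h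
  obtain ⟨t, ht⟩ := CompactSpace.elim_nhds_subcover (fun x => (A x : Set X))
    (fun x => (A x).isOpen.mem_nhds (hxA x))
  have h2 : (CohB1.genLocus L s : Set X) = ⋃ x ∈ t, ((CohB1.genLocus L s ⊓ A x : X.Opens) : Set X) := by
    ext y
    simp only [Set.mem_iUnion, exists_prop]
    constructor
    · intro hy
      have : y ∈ ⋃ x ∈ t, (A x : Set X) := by rw [ht]; trivial
      simp only [Set.mem_iUnion, exists_prop] at this
      obtain ⟨x, hxt, hyx⟩ := this
      exact ⟨x, hxt, hy, hyx⟩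
    · rintro ⟨x, -, hy, -⟩
      exact hy
  rw [h2]
  refine t.isCompact_biUnion fun x _ => ?_
  obtain ⟨f, hf⟩ := exists_genLocus_inf_eq_basicOpen s (hT x)
  rw [hf]
  exact ((hA x).basicOpen f).isCompact

/-- `X_s` is quasi-affine when `L` is ample. -/
theorem isQuasiAffine_genLocus {L : X.Modules} (hL : CohB1.IsAmple L)
    (s : Coh.structureModule X ⟶ L) : (CohB1.genLocus L s : Scheme.{u}).IsQuasiAffine := by
  have : CompactSpace X := hL.2.1
  have hc : IsCompact (CohB1.genLocus L s : Set X) := isCompact_genLocus hL.1 s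
  have : CompactSpace (CohB1.genLocus L s : Scheme.{u}) := isCompact_iff_compactSpace.mp hc
  have h1 : CohB1.IsAmple (L.restrict (CohB1.genLocus L s).ι) :=
    Groth.Agent.Lib.helper12.AmpleRestrict.isAmple_restrict_opens hL _ hc
  have h2 : IsIso ((restrictFunctor (CohB1.genLocus L s).ι).map s) := isIso_restrict_genLocus L s
  obtain ⟨eO⟩ := isTrivOn_structureModule (X := X) (CohB1.genLocus L s)
  let e : L.restrict (CohB1.genLocus L s).ι ≅ Coh.structureModule (CohB1.genLocus L s : Scheme.{u}) :=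
    (asIso ((restrictFunctor (CohB1.genLocus L s).ι).map s)).symm ≪≫ eO
  rw [Groth.Agent.Lib.helper12.AmpleQAff.isQuasiAffine_iff_isAmple_structureModule]
  exact isAmple_of_iso e h1

/-- **EGA II 4.5.4**: for `L` ample, a finite set of points inside an open `U` lies in an affine
`X_s ⊆ U`, `s` a section of a positive power of `L`. -/
theorem exists_affine_genLocus_of_finite {L : X.Modules} (hL : CohB1.IsAmple L)
    (Z : Set X) (hZ : Z.Finite) (U : X.Opens) (hZU : Z ⊆ U) :
    ∃ (n : ℕ) (s : Coh.structureModule X ⟶ CohB1.tensorPow L (n + 1)),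
      Z ⊆ CohB1.genLocus _ s ∧ (CohB1.genLocus _ s : Set X) ⊆ U ∧
        IsAffineOpen (CohB1.genLocus _ s) := by
  classical
  have hc : CompactSpace X := hL.2.1
  have hqs : QuasiSeparatedSpace X := quasiSeparatedSpace_of_hasAffineCover hL.1 hL.2.2
  have hB := isBasis_of_isAmple hL
  obtain ⟨W, ⟨n, s, rfl⟩, hZW, hWU⟩ :=
    exists_mem_genLocusFamily_of_finite hL.1 hB hZ.toFinset U (by simpa using hZU)
  have hZW' : Z ⊆ CohB1.genLocus _ s := by simpa using hZW
  have hL' : CohB1.IsAmple (CohB1.tensorPow L (n + 1)) :=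
    (isAmple_tensorPow_iff hL.1 (n + 1) (Nat.succ_pos n)).mp hL
  have hqa := isQuasiAffine_genLocus hL' s
  let W := CohB1.genLocus (CohB1.tensorPow L (n + 1)) s
  let Z' : Finset (W : Scheme.{u}) := hZ.toFinset.subtype (· ∈ W)
  obtain ⟨g, hZg, haff⟩ := exists_basicOpen_of_finite_of_isQuasiAffine (W : Scheme.{u}) Z'
  have himg : W.ι ''ᵁ (W : Scheme.{u}).basicOpen g = X.basicOpen (W.topIso.hom g) := by
    rw [Scheme.Opens.ι_image_basicOpen, Scheme.Opens.topIso_hom]
    have h2 := Scheme.basicOpen_res X (g : Γ(X, W.ι ''ᵁ ⊤)) (eqToHom W.ι_image_top.symm).op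
    refine Eq.trans ?_ h2.symm
    refine (inf_eq_right.mpr ?_).symm
    exact (X.basicOpen_le _).trans W.ι_image_top.le
  obtain ⟨m, w, hw⟩ := exists_genLocus_eq_basicOpen (isInvertible_tensorPow hL.1 (n + 1)) s
    (W.topIso.hom g)
  have hfam : X.basicOpen (W.topIso.hom g) ∈ genLocusFamily L :=
    genLocusFamily_tensorPow_subset L (n + 1) (Nat.succ_pos n) ⟨m, w, hw.symm⟩
  obtain ⟨k, v, hv⟩ := hfam
  refine ⟨k, v, ?_, ?_, ?_⟩
  · intro z hz
    rw [← hv, ← himg]
    have hzW : z ∈ W := hZW' hz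
    refine ⟨⟨z, hzW⟩, ?_, rfl⟩
    apply hZg
    exact Finset.mem_coe.mpr (Finset.mem_subtype.mpr (hZ.mem_toFinset.mpr hz))
  · rw [← hv]
    exact fun y hy => hWU (X.basicOpen_le _ hy)
  · rw [← hv, ← himg]
    exact haff.image_of_isOpenImmersion W.ι

end Groth.Agent.Lib.helper11.FiniteAffine
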