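import Mathlib
import Groth.Agent.Lib.Helper11.AmpleLim2
import Groth.Agent.Lib.Helper12.AmpleDescentRel
import Groth.Agent.Lib.Helper12.AmpleLocal
import Groth.Agent.Lib.Helper12.AmpleCoprod
import Groth.Agent.S2332

/-!
# Relative ampleness and cofiltered limits (helper11)

`isRelAmple_limit_iff_stage` : EGA IV 8.10.5.2 for relative ampleness.
-/

set_option autoImplicit false
set_option linter.style.haveILetI false
universe u
open CategoryTheory CategoryTheory.Limits AlgebraicGeometry TopologicalSpace Opposite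

namespace Groth.Agent.Lib.helper11.AmpleLim

open Scheme.Modules Groth.Agent.Lib.helper11.HomDescPP Groth.Agent.Lib.helper9
  Groth.Agent.Lib.helper12.AmplePow Groth.Agent.Lib.helper11.InvMod

/-- ampleness of a pullback along a morphism isomorphic to a given one (iff version of helper12's
`isAmple_restrict_of_iso_pullback`). -/
theorem isAmple_restrict_iff_of_iso_pullback {X Z X' : Scheme.{u}} (P : Z ⟶ X) (U : Z.Opens)
    (p : X' ⟶ X) (e : (U : Scheme.{u}) ≅ X') (he : e.hom ≫ p = U.ι ≫ P) {L : X.Modules} :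
    CohB1.IsAmple (((Scheme.Modules.pullback P).obj L).restrict U.ι) ↔
      CohB1.IsAmple ((Scheme.Modules.pullback p).obj L) := by
  let φ : ((Scheme.Modules.pullback P).obj L).restrict U.ι ≅
      (Scheme.Modules.pullback e.hom).obj ((Scheme.Modules.pullback p).obj L) :=
    (restrictFunctorIsoPullback U.ι).app _ ≪≫ (pullbackComp U.ι P).app L ≪≫
      (pullbackCongr he.symm).app L ≪≫ ((pullbackComp e.hom p).app L).symm
  constructor
  · intro h
    have h1 := isAmple_of_iso φ h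
    have h2 := Groth.Agent.Lib.helper12.PullAmple.isAmple_pullback_of_isAffineHom e.inv h1
    refine isAmple_of_iso ?_ h2
    exact (ηcomp e.inv e.hom (𝟙 _) e.inv_hom_id).app _ ≪≫ (pullbackId (X := X')).app _
  · exact Groth.Agent.Lib.helper12.AmpleDescentRel.isAmple_restrict_of_iso_pullback P U p e he

section square

variable {Z X₀ S' S₀ : Scheme.{u}} {P : Z ⟶ X₀} {h' : Z ⟶ S'} {h : X₀ ⟶ S₀} {s : S' ⟶ S₀}

theorem isPullback_restrict (sq : IsPullback P h' h s) (T : X₀.Opens) :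
    IsPullback (P ∣_ T) ((P ⁻¹ᵁ T).ι ≫ h') (T.ι ≫ h) s :=
  (isPullback_morphismRestrict P T).paste_vert sq

/-- For a cartesian square `Z = X₀ ×_{S₀} S'` and an open `T ⊆ X₀`, `(P^*L₀)|_{P⁻¹ T}` is ample iff the
pullback of `L₀|_T` to `S' ×_{S₀} T` is. -/
theorem isAmple_restrict_preimage_iff (sq : IsPullback P h' h s) (T : X₀.Opens) (L₀ : X₀.Modules) :
    CohB1.IsAmple (((Scheme.Modules.pullback P).obj L₀).restrict (P ⁻¹ᵁ T).ι) ↔
      CohB1.IsAmple ((Scheme.Modules.pullback (pullback.snd s (T.ι ≫ h))).obj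
        (L₀.restrict T.ι)) := by
  let e : ((P ⁻¹ᵁ T : Z.Opens) : Scheme.{u}) ≅ pullback s (T.ι ≫ h) :=
    (isPullback_restrict sq T).flip.isoPullback
  have he : e.hom ≫ (pullback.snd s (T.ι ≫ h) ≫ T.ι) = (P ⁻¹ᵁ T).ι ≫ P := by
    rw [← Category.assoc, IsPullback.isoPullback_hom_snd, morphismRestrict_ι]
  rw [isAmple_restrict_iff_of_iso_pullback P (P ⁻¹ᵁ T) (pullback.snd s (T.ι ≫ h) ≫ T.ι) e he]
  exact isAmple_iff_of_iso (((ηcomp (pullback.snd s (T.ι ≫ h)) T.ι _ rfl).app L₀).symm ≪≫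
    (Scheme.Modules.pullback _).mapIso ((restrictFunctorIsoPullback T.ι).app L₀).symm)

end square

section limit

variable {I : Type u} [SmallCategory I] [IsCofiltered I]
  (D : I ⥤ Scheme.{u}) (c : Cone D) (hc : IsLimit c)
  [hD : ∀ (i j : I) (f : i ⟶ j), IsAffineHom (D.map f)]

/-- ampleness at a stage persists at all later stages -/
theorem isAmple_stage_mono (k : I) {T : Scheme.{u}} (t : T ⟶ D.obj k) (N : T.Modules)
    {j j' : Over k} (a : j' ⟶ j)
    (h : CohB1.IsAmple ((Scheme.Modules.pullback (pullback.snd (D.map j.hom) t)).obj N)) :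
    CohB1.IsAmple ((Scheme.Modules.pullback (pullback.snd (D.map j'.hom) t)).obj N) := by
  let m := (bcDiagram D k t).map a
  have hm : m ≫ pullback.snd (D.map j.hom) t = pullback.snd (D.map j'.hom) t := by
    simp only [m, bcDiagram_map, pullback.map]
    exact pullback.lift_snd _ _ _
  have h1 := Groth.Agent.Lib.helper12.PullAmple.isAmple_pullback_of_isAffineHom m h
  exact isAmple_of_iso ((ηcomp m (pullback.snd (D.map j.hom) t) _ hm).app N) h1

include hc in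
/-- EGA IV 8.10.5.2 (relative ampleness), the descent direction. -/
theorem exists_isRelAmple_stage (i₀ : I) [CompactSpace (D.obj i₀)]
    {X₀ Y₀ : Scheme.{u}} (f₀ : X₀ ⟶ Y₀) (g₀ : Y₀ ⟶ D.obj i₀)
    [QuasiCompact g₀] [QuasiCompact f₀] [QuasiSeparated f₀]
    (L₀ : X₀.Modules) (hL₀ : PicF.IsInvertible L₀)
    {X Y : Scheme.{u}} (f : X ⟶ Y) (g : Y ⟶ c.pt) (qY : Y ⟶ Y₀) (qX : X ⟶ X₀)
    (hY : IsPullback qY g g₀ (c.π.app i₀)) (hX : IsPullback qX f f₀ qY)
    (h : RelAmple.IsRelAmple f ((Scheme.Modules.pullback qX).obj L₀)) :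
    ∃ (j : I) (φ : j ⟶ i₀), RelAmple.IsRelAmple (pullback.snd f₀ (pullback.fst g₀ (D.map φ)))
      ((Scheme.Modules.pullback (pullback.fst f₀ (pullback.fst g₀ (D.map φ)))).obj L₀) := by
  classical
  haveI : ∀ {i j : I} (φ : i ⟶ j), IsAffineHom (D.map φ) := fun φ => hD _ _ φ
  haveI haffπ : IsAffineHom (c.π.app i₀) := isAffineHom_π_app D c hc i₀
  haveI : IsAffineHom qY := MorphismProperty.of_isPullback (P := @IsAffineHom) hY.flip haffπ
  haveI : CompactSpace Y₀ := QuasiCompact.compactSpace_of_compactSpace g₀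
  obtain ⟨s, hs, es⟩ := isCompact_iff_finite_and_eq_biUnion_affineOpens.mp
    (show IsCompact ((⊤ : Y₀.Opens) : Set Y₀) from isCompact_univ)
  haveI : Finite s := hs.to_subtype
  haveI : Fintype s := Fintype.ofFinite s
  let T : s → X₀.Opens := fun V => f₀ ⁻¹ᵁ V.1.1
  let t : ∀ V : s, ((T V : X₀.Opens) : Scheme.{u}) ⟶ D.obj i₀ := fun V => (T V).ι ≫ f₀ ≫ g₀
  let N : ∀ V : s, ((T V : X₀.Opens) : Scheme.{u}).Modules := fun V => L₀.restrict (T V).ι
  have hN : ∀ V, PicF.IsInvertible (N V) := fun V => isInvertible_restrict (T V).ι hL₀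
  haveI hTc : ∀ V : s, CompactSpace ↥((T V : X₀.Opens) : Scheme.{u}) := fun V =>
    isCompact_iff_compactSpace.mp
      (QuasiCompact.isCompact_preimage (f := f₀) _ V.1.1.2 V.1.2.isCompact)
  haveI hTs : ∀ V : s, QuasiSeparatedSpace ↥((T V : X₀.Opens) : Scheme.{u}) := fun V => by
    haveI : IsAffine (V.1.1 : Scheme.{u}) := V.1.2
    exact quasiSeparatedSpace_of_quasiSeparated (f₀ ∣_ V.1.1)
  have sqX : IsPullback qX (f ≫ g) (f₀ ≫ g₀) (c.π.app i₀) := hX.paste_vert hY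
  have hstage : ∀ V : s, ∃ (j : I) (φ : j ⟶ i₀),
      CohB1.IsAmple ((Scheme.Modules.pullback (pullback.snd (D.map φ) (t V))).obj (N V)) := by
    intro V
    have hV' : IsAffineOpen (qY ⁻¹ᵁ V.1.1) := V.1.2.preimage qY
    have h1 := h.2 ⟨qY ⁻¹ᵁ V.1.1, hV'⟩
    have e1 : f ⁻¹ᵁ (qY ⁻¹ᵁ V.1.1) = qX ⁻¹ᵁ (T V) := by
      show f ⁻¹ᵁ (qY ⁻¹ᵁ V.1.1) = qX ⁻¹ᵁ (f₀ ⁻¹ᵁ V.1.1)
      rw [← Scheme.Hom.comp_preimage, ← Scheme.Hom.comp_preimage, hX.w]
    change CohB1.IsAmple (((Scheme.Modules.pullback qX).obj L₀).restrict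
      (f ⁻¹ᵁ (qY ⁻¹ᵁ V.1.1)).ι) at h1
    rw [e1] at h1
    have h2 := (isAmple_restrict_preimage_iff sqX (T V) L₀).mp h1
    exact exists_isAmple_stage_bc D c hc i₀ (t V) (N V) (hN V) h2
  choose jV φV hV using hstage
  obtain ⟨S, hS⟩ := IsCofiltered.inf_objs_exists
    (Finset.univ.image (fun V : s => Over.mk (φV V)))
  refine ⟨S.left, S.hom, ?_⟩
  have hSV : ∀ V : s,
      CohB1.IsAmple ((Scheme.Modules.pullback (pullback.snd (D.map S.hom) (t V))).obj (N V)) := by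
    intro V
    obtain ⟨a⟩ := hS (X := Over.mk (φV V)) (Finset.mem_image.mpr ⟨V, Finset.mem_univ _, rfl⟩)
    exact isAmple_stage_mono D i₀ (t V) (N V) a (hV V)
  set φ := S.hom with hφ
  let pY := pullback.fst g₀ (D.map φ)
  let gj := pullback.snd g₀ (D.map φ)
  let pX := pullback.fst f₀ pY
  let fj := pullback.snd f₀ pY
  have sqXj : IsPullback pX (fj ≫ gj) (f₀ ≫ g₀) (D.map φ) :=
    (IsPullback.of_hasPullback f₀ pY).paste_vert (IsPullback.of_hasPullback g₀ (D.map φ))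
  haveI : IsAffineHom pY :=
    MorphismProperty.pullback_fst (P := @IsAffineHom) _ _ (hD _ _ φ)
  haveI : QuasiCompact fj := MorphismProperty.pullback_snd (P := @QuasiCompact) _ _ inferInstance
  have hcov : ⨆ V : s, pY ⁻¹ᵁ V.1.1 = ⊤ := by
    rw [eq_top_iff]
    intro y _
    have hy : pY y ∈ (⊤ : Y₀.Opens) := trivial
    rw [es] at hy
    obtain ⟨V, hyV⟩ := Opens.mem_iSup.mp hy
    obtain ⟨hVs, hyV⟩ := Opens.mem_iSup.mp hyV
    exact Opens.mem_iSup.mpr ⟨⟨V, hVs⟩, hyV⟩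
  show RelAmple.IsRelAmple fj ((Scheme.Modules.pullback pX).obj L₀)
  rw [Groth.Agent.Lib.helper12.AmpleLocal.isRelAmple_iff_of_openCover fj _
    (fun V : s => pY ⁻¹ᵁ V.1.1) hcov]
  intro V
  haveI : IsAffine ((pY ⁻¹ᵁ V.1.1 : (pullback g₀ (D.map φ)).Opens) : Scheme.{u}) :=
    V.1.2.preimage pY
  rw [Groth.Agent.Lib.helper12.AmpleRestrict.isRelAmple_iff_isAmple_of_isAffine]
  have e2 : fj ⁻¹ᵁ (pY ⁻¹ᵁ V.1.1) = pX ⁻¹ᵁ (T V) := by
    show fj ⁻¹ᵁ (pY ⁻¹ᵁ V.1.1) = pX ⁻¹ᵁ (f₀ ⁻¹ᵁ V.1.1)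
    rw [← Scheme.Hom.comp_preimage, ← Scheme.Hom.comp_preimage, pullback.condition]
  rw [e2]
  exact (isAmple_restrict_preimage_iff sqXj (T V) L₀).mpr (hSV V)

/-- EGA IV 8.10.5.2 (relative ampleness), the easy direction. -/
theorem isRelAmple_of_stage {i₀ : I}
    {X₀ Y₀ : Scheme.{u}} (f₀ : X₀ ⟶ Y₀) (g₀ : Y₀ ⟶ D.obj i₀) [QuasiCompact f₀]
    (L₀ : X₀.Modules)
    {X Y : Scheme.{u}} (f : X ⟶ Y) (g : Y ⟶ c.pt) (qY : Y ⟶ Y₀) (qX : X ⟶ X₀)
    (hY : IsPullback qY g g₀ (c.π.app i₀)) (hX : IsPullback qX f f₀ qY)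
    {j : I} (φ : j ⟶ i₀) {Xj Yj : Scheme.{u}} (fj : Xj ⟶ Yj) (gj : Yj ⟶ D.obj j) (pY : Yj ⟶ Y₀)
    (pX : Xj ⟶ X₀) (hYj : IsPullback pY gj g₀ (D.map φ)) (hXj : IsPullback pX fj f₀ pY)
    (h : RelAmple.IsRelAmple fj ((Scheme.Modules.pullback pX).obj L₀)) :
    RelAmple.IsRelAmple f ((Scheme.Modules.pullback qX).obj L₀) := by
  let a : Y ⟶ Yj := hYj.lift qY (g ≫ c.π.app j) (by rw [hY.w, Category.assoc, c.w])
  have ha1 : a ≫ pY = qY := hYj.lift_fst _ _ _
  let b : X ⟶ Xj := hXj.lift qX (f ≫ a) (by rw [hX.w, Category.assoc, ha1])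
  have hb1 : b ≫ pX = qX := hXj.lift_fst _ _ _
  have hb2 : b ≫ fj = f ≫ a := hXj.lift_snd _ _ _
  have sq : IsPullback b f fj a := by
    refine IsPullback.of_right ?_ hb2 hXj
    rw [hb1, ha1]
    exact hX
  haveI : QuasiCompact fj := MorphismProperty.of_isPullback (P := @QuasiCompact) hXj inferInstance
  haveI : QuasiCompact f := MorphismProperty.of_isPullback (P := @QuasiCompact) hX inferInstance
  have h1 := Groth.Agent.S2332.result fj a _ h
  let e : X ≅ pullback fj a := sq.isoPullback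
  have he1 : e.hom ≫ pullback.fst fj a = b := sq.isoPullback_hom_fst
  have he2 : e.hom ≫ pullback.snd fj a = f := sq.isoPullback_hom_snd
  have h2 := Groth.Agent.Lib.helper12.AmpleCoprod.isRelAmple_pullback_openImmersion e.hom
    (pullback.snd fj a) f he2 h1
  refine Groth.Agent.Lib.helper12.AmpleCoprod.isRelAmple_of_iso f ?_ h2
  exact (ηcomp e.hom (pullback.fst fj a) b he1).app _ ≪≫ (ηcomp b pX qX hb1).app L₀

end limit

end Groth.Agent.Lib.helper11.AmpleLim
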