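import Mathlib
import Groth.Agent.Lib.Helper11.AmpleLim3

/-!
# Relative ampleness on the fibres of a family (helper11)

* `isRelAmple_of_isPullback`, `isRelAmple_of_isPullback_of_flat`: base change and fpqc descent of relative
  ampleness along arbitrary cartesian squares;
* `fibMap f g σ : X_σ ⟶ Y_σ`, `RA f g L σ`: `L_σ` is ample relative to `f_σ`;
* `RA_iff_of_squares`, `RA_comp_iff` (invariance under flat surjective quasi-compact base change),
  `RA_model`, `locus_eq_preimage`.
-/

set_option autoImplicit false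
set_option linter.style.haveILetI false
universe u
open CategoryTheory CategoryTheory.Limits AlgebraicGeometry TopologicalSpace Opposite

namespace Groth.Agent.Lib.helper11.RelAmpLocus

open Scheme.Modules Groth.Agent.Lib.helper11.HomDescPP
  Groth.Agent.Lib.helper12.AmplePow Groth.Agent.Lib.helper11.InvMod

section Squares

variable {X Y X' Y' : Scheme.{u}} {f : X ⟶ Y} {f' : X' ⟶ Y'} {b : X' ⟶ X} {a : Y' ⟶ Y}

/-- base change of relative ampleness along an arbitrary cartesian square -/
theorem isRelAmple_of_isPullback (sq : IsPullback b f' f a) [QuasiCompact f] {M : X.Modules}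
    (h : RelAmple.IsRelAmple f M) :
    RelAmple.IsRelAmple f' ((Scheme.Modules.pullback b).obj M) := by
  haveI : QuasiCompact f' := MorphismProperty.of_isPullback (P := @QuasiCompact) sq inferInstance
  have h1 := Groth.Agent.S2332.result f a _ h
  let e : X' ≅ pullback f a := sq.isoPullback
  have he1 : e.hom ≫ pullback.fst f a = b := sq.isoPullback_hom_fst
  have he2 : e.hom ≫ pullback.snd f a = f' := sq.isoPullback_hom_snd
  have h2 := Groth.Agent.Lib.helper12.AmpleCoprod.isRelAmple_pullback_openImmersion e.hom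
    (pullback.snd f a) f' he2 h1
  exact Groth.Agent.Lib.helper12.AmpleCoprod.isRelAmple_of_iso f'
    ((ηcomp e.hom (pullback.fst f a) b he1).app _) h2

/-- fpqc descent of relative ampleness along an arbitrary cartesian square -/
theorem isRelAmple_of_isPullback_of_flat (sq : IsPullback b f' f a) [Flat a] [Surjective a]
    [QuasiCompact a] {M : X.Modules} (hM : PicF.IsInvertible M)
    (h : RelAmple.IsRelAmple f' ((Scheme.Modules.pullback b).obj M)) :
    RelAmple.IsRelAmple f M := by
  haveI : QuasiCompact f' := h.1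
  let e : X' ≅ pullback f a := sq.isoPullback
  have he1 : e.inv ≫ b = pullback.fst f a := sq.isoPullback_inv_fst
  have he2 : e.inv ≫ f' = pullback.snd f a := sq.isoPullback_inv_snd
  haveI : QuasiCompact (pullback.snd f a) := by rw [← he2]; infer_instance
  have h2 := Groth.Agent.Lib.helper12.AmpleCoprod.isRelAmple_pullback_openImmersion e.inv
    f' (pullback.snd f a) he2 h
  refine Groth.Agent.Lib.helper12.AmpleDescentRel.isRelAmple_of_isRelAmple_baseChange f M hM a ?_
  exact Groth.Agent.Lib.helper12.AmpleCoprod.isRelAmple_of_iso _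
    ((ηcomp e.inv b (pullback.fst f a) he1).app _) h2

end Squares

section Fib

variable {X Y S : Scheme.{u}} (f : X ⟶ Y) (g : Y ⟶ S) (L : X.Modules)

/-- the morphism `X_σ ⟶ Y_σ` induced by `f` on the base changes along `σ : T ⟶ S` -/
noncomputable def fibMap {T : Scheme.{u}} (σ : T ⟶ S) : pullback (f ≫ g) σ ⟶ pullback g σ :=
  pullback.lift (pullback.fst (f ≫ g) σ ≫ f) (pullback.snd (f ≫ g) σ)
    ((Category.assoc _ _ _).trans pullback.condition)

theorem fibMap_fst {T : Scheme.{u}} (σ : T ⟶ S) :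
    fibMap f g σ ≫ pullback.fst g σ = pullback.fst (f ≫ g) σ ≫ f := pullback.lift_fst _ _ _

theorem fibMap_snd {T : Scheme.{u}} (σ : T ⟶ S) :
    fibMap f g σ ≫ pullback.snd g σ = pullback.snd (f ≫ g) σ := pullback.lift_snd _ _ _

theorem isPullback_fibMap {T : Scheme.{u}} (σ : T ⟶ S) :
    IsPullback (pullback.fst (f ≫ g) σ) (fibMap f g σ) f (pullback.fst g σ) := by
  refine IsPullback.of_bot ?_ (fibMap_fst f g σ).symm (IsPullback.of_hasPullback g σ)
  rw [fibMap_snd]
  exact IsPullback.of_hasPullback (f ≫ g) σ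

/-- `L_σ` is ample relative to `f_σ : X_σ ⟶ Y_σ` -/
def RA {T : Scheme.{u}} (σ : T ⟶ S) : Prop :=
  RelAmple.IsRelAmple (fibMap f g σ) ((Scheme.Modules.pullback (pullback.fst (f ≫ g) σ)).obj L)

variable {f g L}

/-- `RA` can be computed on any pair of stacked cartesian squares. -/
theorem RA_iff_of_squares [QuasiCompact f] {T X' Y' : Scheme.{u}} {σ : T ⟶ S} {f' : X' ⟶ Y'}
    {g' : Y' ⟶ T} {eX : X' ⟶ X} {eY : Y' ⟶ Y} (sqY : IsPullback eY g' g σ)
    (sqX : IsPullback eX f' f eY) :
    RA f g L σ ↔ RelAmple.IsRelAmple f' ((Scheme.Modules.pullback eX).obj L) := by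
  let εY : Y' ≅ pullback g σ := sqY.isoPullback
  have hεY1 : εY.hom ≫ pullback.fst g σ = eY := sqY.isoPullback_hom_fst
  have hεY2 : εY.hom ≫ pullback.snd g σ = g' := sqY.isoPullback_hom_snd
  have big := sqX.paste_vert sqY
  let εX : X' ≅ pullback (f ≫ g) σ := big.isoPullback
  have hεX1 : εX.hom ≫ pullback.fst (f ≫ g) σ = eX := big.isoPullback_hom_fst
  have hεX2 : εX.hom ≫ pullback.snd (f ≫ g) σ = f' ≫ g' := big.isoPullback_hom_snd
  have hcomm : εX.hom ≫ fibMap f g σ = f' ≫ εY.hom := by
    apply pullback.hom_ext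
    · rw [Category.assoc, fibMap_fst, ← Category.assoc, hεX1, Category.assoc, hεY1, sqX.w]
    · rw [Category.assoc, fibMap_snd, hεX2, Category.assoc, hεY2]
  have sq1 : IsPullback εX.hom f' (fibMap f g σ) εY.hom := IsPullback.of_horiz_isIso ⟨hcomm⟩
  have hcomm' : εX.inv ≫ f' = fibMap f g σ ≫ εY.inv := by
    rw [Iso.inv_comp_eq, ← Category.assoc, hcomm, Category.assoc, Iso.hom_inv_id, Category.comp_id]
  have sq2 : IsPullback εX.inv (fibMap f g σ) f' εY.inv := IsPullback.of_horiz_isIso ⟨hcomm'⟩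
  haveI : QuasiCompact f' := MorphismProperty.of_isPullback (P := @QuasiCompact) sqX inferInstance
  haveI : QuasiCompact (fibMap f g σ) :=
    MorphismProperty.of_isPullback (P := @QuasiCompact) (isPullback_fibMap f g σ) inferInstance
  constructor
  · intro h
    have h1 := isRelAmple_of_isPullback sq1 h
    exact Groth.Agent.Lib.helper12.AmpleCoprod.isRelAmple_of_iso f'
      ((ηcomp εX.hom (pullback.fst (f ≫ g) σ) eX hεX1).app L) h1
  · intro h
    have h1 := isRelAmple_of_isPullback sq2 h
    have hεX1' : εX.inv ≫ eX = pullback.fst (f ≫ g) σ := by rw [Iso.inv_comp_eq, hεX1]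
    exact Groth.Agent.Lib.helper12.AmpleCoprod.isRelAmple_of_iso _
      ((ηcomp εX.inv eX (pullback.fst (f ≫ g) σ) hεX1').app L) h1

/-- relative ampleness on the total family gives it on every base change -/
theorem RA_of_isRelAmple [QuasiCompact f] (h : RelAmple.IsRelAmple f L) {T : Scheme.{u}}
    (σ : T ⟶ S) : RA f g L σ :=
  isRelAmple_of_isPullback (isPullback_fibMap f g σ) h

/-- invariance of `RA` under flat surjective quasi-compact base change -/
theorem RA_comp_iff [QuasiCompact f] (hL : PicF.IsInvertible L) {T T' : Scheme.{u}} (σ : T ⟶ S)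
    (τ : T' ⟶ T) [Flat τ] [Surjective τ] [QuasiCompact τ] :
    RA f g L (τ ≫ σ) ↔ RA f g L σ := by
  let fσ := fibMap f g σ
  let eY' := pullback.fst (pullback.snd g σ) τ
  have sqY' : IsPullback (eY' ≫ pullback.fst g σ) (pullback.snd (pullback.snd g σ) τ) g (τ ≫ σ) :=
    (IsPullback.of_hasPullback (pullback.snd g σ) τ).paste_horiz (IsPullback.of_hasPullback g σ)
  have sqX' : IsPullback (pullback.fst fσ eY' ≫ pullback.fst (f ≫ g) σ) (pullback.snd fσ eY') f
      (eY' ≫ pullback.fst g σ) :=
    (IsPullback.of_hasPullback fσ eY').paste_horiz (isPullback_fibMap f g σ)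
  rw [RA_iff_of_squares sqY' sqX']
  haveI : Flat eY' := MorphismProperty.pullback_fst (P := @Flat) _ _ inferInstance
  haveI : Surjective eY' := MorphismProperty.pullback_fst (P := @Surjective) _ _ inferInstance
  haveI : QuasiCompact eY' := MorphismProperty.pullback_fst (P := @QuasiCompact) _ _ inferInstance
  haveI : QuasiCompact fσ :=
    MorphismProperty.of_isPullback (P := @QuasiCompact) (isPullback_fibMap f g σ) inferInstance
  have hLσ : PicF.IsInvertible ((Scheme.Modules.pullback (pullback.fst (f ≫ g) σ)).obj L) :=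
    isInvertible_pullback _ hL
  constructor
  · intro h
    refine isRelAmple_of_isPullback_of_flat (IsPullback.of_hasPullback fσ eY') hLσ ?_
    exact Groth.Agent.Lib.helper12.AmpleCoprod.isRelAmple_of_iso _
      ((ηcomp (pullback.fst fσ eY') (pullback.fst (f ≫ g) σ) _ rfl).app L).symm h
  · intro h
    have h1 := isRelAmple_of_isPullback (IsPullback.of_hasPullback fσ eY') h
    exact Groth.Agent.Lib.helper12.AmpleCoprod.isRelAmple_of_iso _
      ((ηcomp (pullback.fst fσ eY') (pullback.fst (f ≫ g) σ) _ rfl).app L) h1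

/-- `RA` for a base-changed family -/
theorem RA_model {X₀ Y₀ S₀ : Scheme.{u}} {f₀ : X₀ ⟶ Y₀} {g₀ : Y₀ ⟶ S₀} {L₀ : X₀.Modules}
    [QuasiCompact f₀] {b : S ⟶ S₀} {eX : X ⟶ X₀} {eY : Y ⟶ Y₀}
    (sqY : IsPullback eY g g₀ b) (sqX : IsPullback eX f f₀ eY)
    (iso : L ≅ (Scheme.Modules.pullback eX).obj L₀) {T : Scheme.{u}} (σ : T ⟶ S) :
    RA f g L σ ↔ RA f₀ g₀ L₀ (σ ≫ b) := by
  have sqY' : IsPullback (pullback.fst g σ ≫ eY) (pullback.snd g σ) g₀ (σ ≫ b) :=
    (IsPullback.of_hasPullback g σ).paste_horiz sqY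
  have sqX' : IsPullback (pullback.fst (f ≫ g) σ ≫ eX) (fibMap f g σ) f₀ (pullback.fst g σ ≫ eY) :=
    (isPullback_fibMap f g σ).paste_horiz sqX
  rw [RA_iff_of_squares sqY' sqX']
  refine ⟨fun h => ?_, fun h => ?_⟩
  · exact Groth.Agent.Lib.helper12.AmpleCoprod.isRelAmple_of_iso _
      ((Scheme.Modules.pullback _).mapIso iso ≪≫
        (ηcomp (pullback.fst (f ≫ g) σ) eX _ rfl).app L₀) h
  · exact Groth.Agent.Lib.helper12.AmpleCoprod.isRelAmple_of_iso _
      ((Scheme.Modules.pullback _).mapIso iso ≪≫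
        (ηcomp (pullback.fst (f ≫ g) σ) eX _ rfl).app L₀).symm h

end Fib

end Groth.Agent.Lib.helper11.RelAmpLocus
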