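import Mathlib
import Groth.Agent.Lib.Helper11.RelAmpSq
import Groth.Agent.Lib.Helper11.FibreAmple2

/-!
# The locus where an invertible module is relatively ample on the fibres (helper11)

* `locus f g L`: the set of `s ∈ S` with `L_s` ample relative to `f_s : X_s ⟶ Y_s`;
  `locus_eq_preimage`: compatibility with base change;
* `locA f L`: the set of `y ∈ Y` with `L|X_y` ample; `locA_eq_preimage`, `isOpen_locA`,
  `isRelAmple_iff_locA` (Noetherian base, `f` proper).
-/

set_option autoImplicit false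
set_option linter.style.haveILetI false
universe u
open CategoryTheory CategoryTheory.Limits AlgebraicGeometry TopologicalSpace Opposite

namespace Groth.Agent.Lib.helper11.RelAmpLocus

open Scheme.Modules Groth.Agent.Lib.helper11.HomDescPP
  Groth.Agent.Lib.helper12.AmplePow Groth.Agent.Lib.helper11.InvMod

theorem flat_SpecMap_residueFieldMap {S S₀ : Scheme.{u}} (b : S ⟶ S₀) (s : S) :
    Flat (Spec.map (b.residueFieldMap s)) := by
  rw [HasRingHomProperty.Spec_iff (P := @Flat)]
  letI := (b.residueFieldMap s).hom.toAlgebra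
  change Module.Flat _ _
  infer_instance

theorem surjective_SpecMap_residueFieldMap {S S₀ : Scheme.{u}} (b : S ⟶ S₀) (s : S) :
    Surjective (Spec.map (b.residueFieldMap s)) := by
  refine ⟨fun y => ?_⟩
  haveI : Subsingleton ↥(Spec (S₀.residueField (b s))) :=
    inferInstanceAs (Subsingleton (PrimeSpectrum (S₀.residueField (b s))))
  haveI : Nonempty ↥(Spec (S.residueField s)) :=
    inferInstanceAs (Nonempty (PrimeSpectrum (S.residueField s)))
  obtain ⟨x⟩ := ‹Nonempty ↥(Spec (S.residueField s))›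
  exact ⟨x, Subsingleton.elim _ _⟩

section Locus

variable {X Y S : Scheme.{u}} (f : X ⟶ Y) (g : Y ⟶ S) (L : X.Modules)

/-- the set of `s ∈ S` such that `L_s` is ample relative to `f_s` -/
def locus : Set S := {s | RA f g L (S.fromSpecResidueField s)}

variable {f g L}

theorem locus_eq_preimage {X₀ Y₀ S₀ : Scheme.{u}} {f₀ : X₀ ⟶ Y₀} {g₀ : Y₀ ⟶ S₀} {L₀ : X₀.Modules}
    [QuasiCompact f₀] (hL₀ : PicF.IsInvertible L₀) {b : S ⟶ S₀} {eX : X ⟶ X₀} {eY : Y ⟶ Y₀}
    (sqY : IsPullback eY g g₀ b) (sqX : IsPullback eX f f₀ eY)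
    (iso : L ≅ (Scheme.Modules.pullback eX).obj L₀) :
    locus f g L = b ⁻¹' locus f₀ g₀ L₀ := by
  ext s
  show RA f g L (S.fromSpecResidueField s) ↔ RA f₀ g₀ L₀ (S₀.fromSpecResidueField (b s))
  rw [RA_model sqY sqX iso, ← Scheme.Hom.SpecMap_residueFieldMap_fromSpecResidueField]
  haveI := flat_SpecMap_residueFieldMap b s
  haveI := surjective_SpecMap_residueFieldMap b s
  exact RA_comp_iff hL₀ _ (Spec.map (b.residueFieldMap s))

theorem locus_eq_univ [QuasiCompact f] (h : RelAmple.IsRelAmple f L) : locus f g L = Set.univ :=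
  Set.eq_univ_of_forall fun s => RA_of_isRelAmple h _

end Locus

section Abs

variable {X Y : Scheme.{u}} (f : X ⟶ Y) (L : X.Modules)

/-- the set of `y ∈ Y` such that `L` restricted to the fibre `X_y` is ample -/
def locA : Set Y := {y | CohB1.IsAmple ((Scheme.Modules.pullback (f.fiberι y)).obj L)}

variable {f L}

theorem RA_id_iff [QuasiCompact f] {T : Scheme.{u}} (σ : T ⟶ Y) :
    RA f (𝟙 Y) L σ ↔ RelAmple.IsRelAmple (pullback.snd f σ)
      ((Scheme.Modules.pullback (pullback.fst f σ)).obj L) := by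
  have sqY : IsPullback σ (𝟙 T) (𝟙 Y) σ := IsPullback.of_vert_isIso ⟨by simp⟩
  exact RA_iff_of_squares sqY (IsPullback.of_hasPullback f σ)

theorem RA_id_iff_isAmple [QuasiCompact f] {T : Scheme.{u}} [IsAffine T] (σ : T ⟶ Y) :
    RA f (𝟙 Y) L σ ↔ CohB1.IsAmple ((Scheme.Modules.pullback (pullback.fst f σ)).obj L) := by
  rw [RA_id_iff]
  haveI : QuasiCompact (pullback.snd f σ) :=
    MorphismProperty.pullback_snd (P := @QuasiCompact) _ _ inferInstance
  exact Groth.Agent.Lib.helper12.AmpleRestrict.isRelAmple_iff_isAmple_of_isAffine _ _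

theorem locA_eq_locus [QuasiCompact f] : locA f L = locus f (𝟙 Y) L := by
  ext y
  exact (RA_id_iff_isAmple (Y.fromSpecResidueField y)).symm

theorem locA_eq_preimage {X₀ Y₀ : Scheme.{u}} {f₀ : X₀ ⟶ Y₀} {L₀ : X₀.Modules}
    [QuasiCompact f₀] (hL₀ : PicF.IsInvertible L₀) {eX : X ⟶ X₀} {eY : Y ⟶ Y₀}
    (sqX : IsPullback eX f f₀ eY) (iso : L ≅ (Scheme.Modules.pullback eX).obj L₀) :
    locA f L = eY ⁻¹' locA f₀ L₀ := by
  haveI : QuasiCompact f := MorphismProperty.of_isPullback (P := @QuasiCompact) sqX inferInstance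
  rw [locA_eq_locus, locA_eq_locus]
  have sqY : IsPullback eY (𝟙 Y) (𝟙 Y₀) eY := IsPullback.of_vert_isIso ⟨by simp⟩
  exact locus_eq_preimage hL₀ sqY sqX iso

theorem locA_eq_univ [QuasiCompact f] (h : RelAmple.IsRelAmple f L) : locA f L = Set.univ := by
  rw [locA_eq_locus]
  exact locus_eq_univ h

/-- restriction to an open of the base -/
theorem locA_restrict [QuasiCompact f] (hL : PicF.IsInvertible L) (W : Y.Opens) :
    locA (f ∣_ W) (L.restrict (f ⁻¹ᵁ W).ι) = W.ι ⁻¹' locA f L :=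
  locA_eq_preimage hL (isPullback_morphismRestrict f W).flip
    ((restrictFunctorIsoPullback (f ⁻¹ᵁ W).ι).app L)

end Abs

end Groth.Agent.Lib.helper11.RelAmpLocus

namespace Groth.Agent.Lib.helper11.RelAmpLocus

open Scheme.Modules Groth.Agent.Lib.helper11.FibreAmple

section Noeth

variable {X Y : Scheme.{u}} (f : X ⟶ Y) [IsProper f] [IsNoetherian Y] (L : X.Modules)
  (hL : PicF.IsInvertible L)

include hL in
/-- EGA III 4.7.1: the set of points of the base over which `L` is ample on the fibre is open. -/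
theorem isOpen_locA : IsOpen (locA f L) := by
  rw [isOpen_iff_forall_mem_open]
  intro y hy
  obtain ⟨V, hyV, hV⟩ := exists_nhd_forall_isAmple f L hL y hy
  refine ⟨V, ?_, V.2, hyV⟩
  intro y' hy'
  obtain ⟨W, hW, hy'W, hWV⟩ := (Opens.isBasis_iff_nbhd.mp Y.isBasis_affineOpens) hy'
  have h1 := hV W hWV hW
  haveI : IsAffine (W : Scheme.{u}) := hW
  have h2 : RelAmple.IsRelAmple (f ∣_ W) (L.restrict (f ⁻¹ᵁ W).ι) :=
    (Groth.Agent.Lib.helper12.AmpleRestrict.isRelAmple_iff_isAmple_of_isAffine _ _).mpr h1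
  have h3 := locA_eq_univ h2
  rw [locA_restrict hL W] at h3
  have : (⟨y', hy'W⟩ : W) ∈ (Scheme.Opens.ι W) ⁻¹' locA f L := by rw [h3]; trivial
  exact this

include hL in
/-- EGA III 4.7.1 over a Noetherian base: `L` is `f`-ample iff it is ample on all fibres. -/
theorem isRelAmple_iff_locA : RelAmple.IsRelAmple f L ↔ locA f L = Set.univ := by
  refine ⟨locA_eq_univ, fun h => ⟨inferInstance, fun V₀ => ?_⟩⟩
  refine Groth.Agent.Lib.helper12.AmpleLocal.isAmple_restrict_preimage_of_cover f V₀.2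
    fun y hy => ?_
  have hyA : y ∈ locA f L := by rw [h]; trivial
  obtain ⟨V, hyV, hV⟩ := exists_nhd_forall_isAmple f L hL y hyA
  obtain ⟨r, hle, hyr⟩ := V₀.2.exists_basicOpen_le (V := V) ⟨y, hyV⟩ hy
  exact ⟨r, hyr, hV _ hle (V₀.2.basicOpen r)⟩

include hL in
theorem isRelAmple_restrict_of_le_locA (W : Y.Opens) (hW : (W : Set Y) ⊆ locA f L) :
    RelAmple.IsRelAmple (f ∣_ W) (L.restrict (f ⁻¹ᵁ W).ι) := by
  haveI : IsNoetherian (W : Scheme.{u}) :=
    { toIsLocallyNoetherian := inferInstance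
      toCompactSpace := isCompact_iff_compactSpace.mp (NoetherianSpace.isCompact _) }
  rw [isRelAmple_iff_locA (f ∣_ W) _ (Groth.Agent.Lib.helper11.InvMod.isInvertible_restrict _ hL),
    locA_restrict hL W]
  exact Set.eq_univ_of_forall fun y => hW y.2

end Noeth

end Groth.Agent.Lib.helper11.RelAmpLocus
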