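import Mathlib
import Groth.Agent.Lib.Helper11.RelAmpLocus
import Groth.Agent.Lib.Helper11.FibFlat6
import Groth.Agent.Lib.Helper11.LimStageRank
import Groth.Agent.Lib.Helper16.FLF5
import Groth.Agent.S2074

/-!
# Noetherian models of a morphism of finitely presented schemes with an invertible module (helper11)

* `exists_isInvertible_stage_bc`: invertibility of a finitely presented module descends to a stage;
* `exists_triple_model'`: `exists_triple_model` keeping quasi-separatedness;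
* `exists_triple_model_inv`: the module of the model may be taken invertible and, if `f` is proper,
  the model of `f` proper;
* `exists_noetherian_model_inv`: over an affine base, a Noetherian model.
-/

set_option autoImplicit false
set_option backward.isDefEq.respectTransparency false
set_option linter.style.haveILetI false
universe u
open CategoryTheory CategoryTheory.Limits AlgebraicGeometry TopologicalSpace Topology

namespace Groth.Agent.Lib.helper11.RelAmpLocus

open Scheme.Modules Groth.Agent.Lib.helper11.HomDescPP Groth.Agent.Lib.helper9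
  Groth.Agent.Lib.helper11.InvMod
  Groth.Agent.Lib.helper5.ConsFibre Groth.Agent.Lib.helper5.ConsApprox
  Groth.Agent.Lib.helper11.ConsMod Groth.Agent.Lib.helper5.FGLimit

theorem isQuasicoherent_of_isInvertible' {X : Scheme.{u}} {L : X.Modules}
    (hL : PicF.IsInvertible L) : L.IsQuasicoherent :=
  Groth.Agent.Lib.helper12.AmpleBasis.isQuasicoherent_of_isInvertible hL

theorem isFP_of_isInvertible {X : Scheme.{u}} {L : X.Modules}
    (hL : PicF.IsInvertible L) : CohB1.IsFP L :=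
  Groth.Agent.Lib.helper16.FLF.isFinitePresentation_of_isFinLocFree _
    (Groth.Agent.Lib.helper16.FLF.isFinLocFree_of_isInvertible hL)

section Stage

variable {I : Type u} [SmallCategory I] [IsCofiltered I] (D : I ⥤ Scheme.{u}) (c : Cone D)
  (hc : IsLimit c) [hD : ∀ (i j : I) (f : i ⟶ j), IsAffineHom (D.map f)]

include hc in
theorem exists_isInvertible_stage_bc (k : I) {T : Scheme.{u}} [CompactSpace T]
    (t : T ⟶ D.obj k) (N : T.Modules) [N.IsQuasicoherent] (hN : CohB1.IsFP N)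
    (h : PicF.IsInvertible ((Scheme.Modules.pullback (pullback.snd (c.π.app k) t)).obj N)) :
    ∃ (j : I) (φ : j ⟶ k),
      PicF.IsInvertible ((Scheme.Modules.pullback (pullback.snd (D.map φ) t)).obj N) := by
  let D₁ := bcDiagram D k t
  let c₁ := bcCone D c k t
  have hc₁ : IsLimit c₁ := isLimitBcCone D c k t hc
  haveI hD₁ : ∀ (j j' : Over k) (a : j ⟶ j'), IsAffineHom (D₁.map a) := fun j j' a =>
    inferInstance
  have haff : ∀ j : Over k, IsAffineHom (pullback.snd (D.map j.hom) t) := fun j =>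
    MorphismProperty.pullback_snd (P := @IsAffineHom) _ _ (hD _ _ j.hom)
  let i₀ : Over k := Over.mk (𝟙 k)
  haveI : CompactSpace ↥(D₁.obj i₀) := by
    haveI h1 : IsAffineHom (pullback.snd (D.map i₀.hom) t) := haff i₀
    haveI h2 : QuasiCompact (pullback.snd (D.map i₀.hom) t) := inferInstance
    show CompactSpace ↥(pullback (D.map i₀.hom) t)
    exact @QuasiCompact.compactSpace_of_compactSpace _ _ (pullback.snd (D.map i₀.hom) t) h2 _
  let L₀ : (D₁.obj i₀).Modules :=
    (Scheme.Modules.pullback (pullback.snd (D.map i₀.hom) t)).obj N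
  haveI hL₀q : L₀.IsQuasicoherent :=
    Groth.Agent.Lib.helper16.QCohPullback.isQuasicoherent_pullback _ N
  have hL₀fp : CohB1.IsFP L₀ :=
    Groth.Agent.Lib.helper16.QCohPullback2.isFinitePresentation_pullback _ N hN
  have hπ : c₁.π.app i₀ ≫ pullback.snd (D.map i₀.hom) t = pullback.snd (c.π.app k) t := by
    exact pullback.lift_snd _ _ _
  have h' : FlatMod.IsFinLocFreeOfRank 1 ((Scheme.Modules.pullback (c₁.π.app i₀)).obj L₀) := by
    rw [← Groth.Agent.Lib.helper16.FLF.isInvertible_iff_isFinLocFreeOfRank_one]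
    exact isInvertible_of_iso ((ηcomp (c₁.π.app i₀) (pullback.snd (D.map i₀.hom) t)
      (pullback.snd (c.π.app k) t) hπ).app N).symm h
  obtain ⟨j, φ, hj⟩ := (Groth.Agent.Lib.helper11.LimStageRank.isFinLocFreeOfRank_iff D₁ c₁ hc₁ i₀
    L₀ hL₀fp 1).mp h'
  refine ⟨j.left, j.hom, ?_⟩
  have hφ : D₁.map φ ≫ pullback.snd (D.map i₀.hom) t = pullback.snd (D.map j.hom) t := by
    exact pullback.lift_snd _ _ _
  rw [← Groth.Agent.Lib.helper16.FLF.isInvertible_iff_isFinLocFreeOfRank_one] at hj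
  exact isInvertible_of_iso ((ηcomp (D₁.map φ) (pullback.snd (D.map i₀.hom) t)
    (pullback.snd (D.map j.hom) t) hφ).app N) hj

end Stage

section Model

variable {I : Type u} [SmallCategory I] [IsCofiltered I] (D : I ⥤ Scheme.{u}) (c : Cone D)
  (hc : IsLimit c) [hD : ∀ (i j : I) (f : i ⟶ j), IsAffineHom (D.map f)]
  [hcomp : ∀ i, CompactSpace (D.obj i)] [hqs : ∀ i, QuasiSeparatedSpace (D.obj i)]

include hc in
/-- `FibFlat.exists_triple_model`, keeping quasi-separatedness. -/
theorem exists_triple_model' {X Y : Scheme.{u}} (f : X ⟶ Y) (g : Y ⟶ c.pt)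
    [LocallyOfFinitePresentation g] [QuasiCompact g] [QuasiSeparated g]
    [LocallyOfFinitePresentation (f ≫ g)] [QuasiCompact (f ≫ g)] [QuasiSeparated (f ≫ g)]
    (F : X.Modules) [F.IsQuasicoherent] (hF : CohB1.IsFP F) :
    ∃ (k : I) (Xk Yk : Scheme.{u}) (fk : Xk ⟶ Yk) (gk : Yk ⟶ D.obj k)
      (eX : X ⟶ Xk) (eY : Y ⟶ Yk) (Fk : Xk.Modules),
      LocallyOfFinitePresentation gk ∧ QuasiCompact gk ∧ QuasiSeparated gk ∧
      LocallyOfFinitePresentation (fk ≫ gk) ∧ QuasiCompact (fk ≫ gk) ∧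
      QuasiSeparated (fk ≫ gk) ∧
      IsPullback eY g gk (c.π.app k) ∧ IsPullback eX f fk eY ∧ Fk.IsQuasicoherent ∧
      CohB1.IsFP Fk ∧ Nonempty (F ≅ (Scheme.Modules.pullback eX).obj Fk) := by
  obtain ⟨k₁, X₁, u₁, e₁, F₁, h1, h2, h3, sq₁, hq₁, hfp₁, ⟨iso₁⟩⟩ :=
    exists_mod_model D c hc (f ≫ g) F hF
  obtain ⟨k₂, Y₂, v₂, gY, h4, h5, h6, sq₂⟩ := Groth.Agent.S0591.result D c hc Y g
  haveI := h1; haveI := h2; haveI := h3; haveI := h4; haveI := h5; haveI := h6
  haveI := hq₁
  -- common stage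
  let i := IsCofiltered.min k₁ k₂
  let a₁ : i ⟶ k₁ := IsCofiltered.minToLeft k₁ k₂
  let a₂ : i ⟶ k₂ := IsCofiltered.minToRight k₁ k₂
  let xi : pullback u₁ (D.map a₁) ⟶ D.obj i := pullback.snd _ _
  let yi : pullback v₂ (D.map a₂) ⟶ D.obj i := pullback.snd _ _
  obtain ⟨qX, hX, hqX⟩ : ∃ qX : X ⟶ pullback u₁ (D.map a₁),
      IsPullback qX (f ≫ g) xi (c.π.app i) ∧ qX ≫ pullback.fst u₁ (D.map a₁) = e₁ :=
    ⟨_, isPullback_stage_change D c a₁ sq₁, pullback.lift_fst _ _ _⟩
  obtain ⟨qY, hY⟩ : ∃ qY : Y ⟶ pullback v₂ (D.map a₂), IsPullback qY g yi (c.π.app i) :=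
    ⟨_, isPullback_stage_change D c a₂ sq₂⟩
  haveI : LocallyOfFinitePresentation xi :=
    MorphismProperty.pullback_snd (P := @LocallyOfFinitePresentation) _ _ h1
  haveI : QuasiCompact xi := MorphismProperty.pullback_snd (P := @QuasiCompact) _ _ h2
  haveI : QuasiSeparated xi := MorphismProperty.pullback_snd (P := @QuasiSeparated) _ _ h3
  haveI : LocallyOfFinitePresentation yi :=
    MorphismProperty.pullback_snd (P := @LocallyOfFinitePresentation) _ _ h4
  haveI : QuasiCompact yi := MorphismProperty.pullback_snd (P := @QuasiCompact) _ _ h5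
  haveI : QuasiSeparated yi := MorphismProperty.pullback_snd (P := @QuasiSeparated) _ _ h6
  haveI : CompactSpace ↥(pullback u₁ (D.map a₁)) := QuasiCompact.compactSpace_of_compactSpace xi
  haveI : CompactSpace ↥(pullback v₂ (D.map a₂)) := QuasiCompact.compactSpace_of_compactSpace yi
  haveI : QuasiSeparatedSpace ↥(pullback u₁ (D.map a₁)) := quasiSeparatedSpace_of_quasiSeparated xi
  haveI : QuasiSeparatedSpace ↥(pullback v₂ (D.map a₂)) := quasiSeparatedSpace_of_quasiSeparated yi
  obtain ⟨j, φ, fj, sX, sY, e1, e2, e3, e4, e5, e6⟩ :=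
    Groth.Agent.S9218.result D c hc i xi yi qX (f ≫ g) hX qY g hY f rfl
  have sqY : IsPullback sY g (pullback.snd yi (D.map φ)) (c.π.app j) := by
    refine IsPullback.of_right ?_ e5 (IsPullback.of_hasPullback yi (D.map φ))
    rw [e4, Cone.w]
    exact hY
  have sqXbig : IsPullback sX (f ≫ g) (pullback.snd xi (D.map φ)) (c.π.app j) := by
    refine IsPullback.of_right ?_ e3 (IsPullback.of_hasPullback xi (D.map φ))
    rw [e2, Cone.w]
    exact hX
  have sqX : IsPullback sX f fj sY := by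
    refine IsPullback.of_bot ?_ e6 sqY
    rw [e1]
    exact sqXbig
  -- the module
  let p : pullback xi (D.map φ) ⟶ X₁ := pullback.fst xi (D.map φ) ≫ pullback.fst u₁ (D.map a₁)
  have hp : sX ≫ p = e₁ := by
    simp only [p]
    rw [← Category.assoc, e2, hqX]
  refine ⟨j, _, _, fj, pullback.snd yi (D.map φ), sX, sY, (Scheme.Modules.pullback p).obj F₁,
    ?_, ?_, ?_, ?_, ?_, ?_, sqY, sqX, ?_, ?_, ⟨?_⟩⟩
  · exact MorphismProperty.pullback_snd (P := @LocallyOfFinitePresentation) _ _ inferInstance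
  · exact MorphismProperty.pullback_snd (P := @QuasiCompact) _ _ inferInstance
  · exact MorphismProperty.pullback_snd (P := @QuasiSeparated) _ _ inferInstance
  · rw [e1]
    exact MorphismProperty.pullback_snd (P := @LocallyOfFinitePresentation) _ _ inferInstance
  · rw [e1]
    exact MorphismProperty.pullback_snd (P := @QuasiCompact) _ _ inferInstance
  · rw [e1]
    exact MorphismProperty.pullback_snd (P := @QuasiSeparated) _ _ inferInstance
  · exact Groth.Agent.Lib.helper16.QCohPullback.isQuasicoherent_pullback p F₁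
  · exact Groth.Agent.Lib.helper16.QCohPullback2.isFinitePresentation_pullback p F₁ hfp₁
  · exact iso₁ ≪≫ pullbackIsoOfComp sX p e₁ hp F₁

include hc in
/-- A model at a stage, with invertible module and, if `f` is proper, proper model of `f`. -/
theorem exists_triple_model_inv {X Y : Scheme.{u}} (f : X ⟶ Y) (g : Y ⟶ c.pt)
    [LocallyOfFinitePresentation g] [QuasiCompact g] [QuasiSeparated g]
    [LocallyOfFinitePresentation (f ≫ g)] [QuasiCompact (f ≫ g)] [QuasiSeparated (f ≫ g)]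
    (L : X.Modules) (hL : PicF.IsInvertible L) :
    ∃ (k : I) (Xk Yk : Scheme.{u}) (fk : Xk ⟶ Yk) (gk : Yk ⟶ D.obj k)
      (eX : X ⟶ Xk) (eY : Y ⟶ Yk) (Lk : Xk.Modules),
      LocallyOfFinitePresentation gk ∧ QuasiCompact gk ∧ QuasiSeparated gk ∧
      LocallyOfFinitePresentation (fk ≫ gk) ∧ QuasiCompact (fk ≫ gk) ∧
      QuasiSeparated (fk ≫ gk) ∧
      IsPullback eY g gk (c.π.app k) ∧ IsPullback eX f fk eY ∧ PicF.IsInvertible Lk ∧
      Nonempty (L ≅ (Scheme.Modules.pullback eX).obj Lk) ∧ (IsProper f → IsProper fk) := by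
  haveI := isQuasicoherent_of_isInvertible' hL
  obtain ⟨k, Xk, Yk, fk, gk, eX, eY, Fk, h1, h2, h3, h4, h5, h6, sqY, sqX, hq, hfp, ⟨iso⟩⟩ :=
    exists_triple_model' D c hc f g L (isFP_of_isInvertible hL)
  haveI := h1; haveI := h2; haveI := h3; haveI := h4; haveI := h5; haveI := h6; haveI := hq
  haveI : CompactSpace Yk := QuasiCompact.compactSpace_of_compactSpace gk
  haveI : QuasiSeparatedSpace Yk := quasiSeparatedSpace_of_quasiSeparated gk
  haveI : CompactSpace Xk := QuasiCompact.compactSpace_of_compactSpace (fk ≫ gk)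
  haveI : QuasiSeparatedSpace Xk := quasiSeparatedSpace_of_quasiSeparated (fk ≫ gk)
  -- invertibility
  let t := fk ≫ gk
  have sqXS : IsPullback eX (f ≫ g) t (c.π.app k) := sqX.paste_vert sqY
  let ε : X ≅ pullback (c.π.app k) t := sqXS.flip.isoPullback
  have hε : ε.inv ≫ eX = pullback.snd (c.π.app k) t := sqXS.flip.isoPullback_inv_snd
  have hinv : PicF.IsInvertible
      ((Scheme.Modules.pullback (pullback.snd (c.π.app k) t)).obj Fk) := by
    have h0 : PicF.IsInvertible ((Scheme.Modules.pullback ε.inv).obj L) :=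
      isInvertible_pullback _ hL
    refine isInvertible_of_iso ?_ h0
    exact (Scheme.Modules.pullback ε.inv).mapIso iso ≪≫ (ηcomp ε.inv eX _ hε).app Fk
  obtain ⟨j₂, φ₂, h₂⟩ := exists_isInvertible_stage_bc D c hc k t Fk hfp hinv
  -- properness
  obtain ⟨i₁, φ₁, hprop⟩ : ∃ (i₁ : I) (φ₁ : i₁ ⟶ k), IsProper f → ∀ (j : I) (ψ : j ⟶ i₁),
      IsProper (pullback.snd fk (pullback.fst gk (D.map (ψ ≫ φ₁)))) := by
    by_cases hp : IsProper f
    · haveI := hp
      haveI : LocallyOfFiniteType (fk ≫ gk) := inferInstance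
      haveI : LocallyOfFiniteType fk := locallyOfFiniteType_of_comp fk gk
      obtain ⟨i₁, φ₁, Xi, Yi, fi, gi, pY, pX, sqYi, sqXi, hfi⟩ :=
        Groth.Agent.S2074.result D c hc k fk gk f g eY eX sqY sqX
      refine ⟨i₁, φ₁, fun _ j ψ => ?_⟩
      obtain ⟨eY', eX', -, hX'⟩ := exists_isPullback_mor_of_comp (D.map_comp ψ φ₁).symm sqYi sqXi
        (IsPullback.of_hasPullback gk (D.map (ψ ≫ φ₁)))
        (IsPullback.of_hasPullback fk (pullback.fst gk (D.map (ψ ≫ φ₁))))
      exact MorphismProperty.of_isPullback (P := @IsProper) hX' hfi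
    · exact ⟨k, 𝟙 k, fun h => absurd h hp⟩
  -- common stage
  let o₁ : Over k := Over.mk φ₁
  let o₂ : Over k := Over.mk φ₂
  let o := IsCofiltered.min o₁ o₂
  let ψ₁ : o ⟶ o₁ := IsCofiltered.minToLeft o₁ o₂
  let ψ₂ : o ⟶ o₂ := IsCofiltered.minToRight o₁ o₂
  obtain ⟨j, χ, a₁, a₂, hχ₁, hχ₂⟩ : ∃ (j : I) (χ : j ⟶ k) (a₁ : j ⟶ i₁) (a₂ : j ⟶ j₂),
      a₁ ≫ φ₁ = χ ∧ a₂ ≫ φ₂ = χ := ⟨o.left, o.hom, ψ₁.left, ψ₂.left, Over.w ψ₁, Over.w ψ₂⟩
  let pY := pullback.fst gk (D.map χ)
  let gj := pullback.snd gk (D.map χ)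
  let pX := pullback.fst fk pY
  let fj := pullback.snd fk pY
  have sqYj : IsPullback pY gj gk (D.map χ) := IsPullback.of_hasPullback _ _
  have sqXj : IsPullback pX fj fk pY := IsPullback.of_hasPullback _ _
  obtain ⟨eYj, heYj, sqY'⟩ := exists_isPullback_of_comp (c.w χ) sqYj sqY
  obtain ⟨eXj, heXj, sqX'⟩ := exists_isPullback_of_comp heYj sqXj sqX
  have sqXSj : IsPullback pX (fj ≫ gj) t (D.map χ) := sqXj.paste_vert sqYj
  let m : pullback fk pY ⟶ pullback (D.map φ₂) t :=
    pullback.lift (fj ≫ gj ≫ D.map a₂) pX (by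
      rw [Category.assoc, Category.assoc, ← D.map_comp, hχ₂, ← Category.assoc]
      exact sqXSj.w.symm)
  have hm : m ≫ pullback.snd (D.map φ₂) t = pX := pullback.lift_snd _ _ _
  have hLj : PicF.IsInvertible ((Scheme.Modules.pullback pX).obj Fk) :=
    isInvertible_of_iso ((ηcomp m (pullback.snd (D.map φ₂) t) pX hm).app Fk)
      (isInvertible_pullback m h₂)
  refine ⟨j, _, _, fj, gj, eXj, eYj, (Scheme.Modules.pullback pX).obj Fk, ?_, ?_, ?_, ?_, ?_, ?_,
    sqY', sqX', hLj, ⟨iso ≪≫ ((ηcomp eXj pX eX heXj).app Fk).symm⟩, fun hp => ?_⟩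
  · exact MorphismProperty.pullback_snd (P := @LocallyOfFinitePresentation) _ _ inferInstance
  · exact MorphismProperty.pullback_snd (P := @QuasiCompact) _ _ inferInstance
  · exact MorphismProperty.pullback_snd (P := @QuasiSeparated) _ _ inferInstance
  · exact MorphismProperty.of_isPullback (P := @LocallyOfFinitePresentation) sqXSj h4
  · exact MorphismProperty.of_isPullback (P := @QuasiCompact) sqXSj h5
  · exact MorphismProperty.of_isPullback (P := @QuasiSeparated) sqXSj h6
  · have := hprop hp j a₁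
    rw [hχ₁] at this
    exact this

end Model

attribute [local instance] ULift.algebra'

/-- Over an affine base: a Noetherian model, with invertible module and, if `f` is proper, proper
model of `f`. -/
theorem exists_noetherian_model_inv {T X Y : Scheme.{u}} [IsAffine T] (f : X ⟶ Y) (g : Y ⟶ T)
    [LocallyOfFinitePresentation g] [QuasiCompact g] [QuasiSeparated g]
    [LocallyOfFinitePresentation (f ≫ g)] [QuasiCompact (f ≫ g)] [QuasiSeparated (f ≫ g)]
    (L : X.Modules) (hL : PicF.IsInvertible L) :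
    ∃ (S₀ X₀ Y₀ : Scheme.{u}) (_ : IsNoetherian S₀) (b : T ⟶ S₀) (f₀ : X₀ ⟶ Y₀) (g₀ : Y₀ ⟶ S₀)
      (eX : X ⟶ X₀) (eY : Y ⟶ Y₀) (L₀ : X₀.Modules),
      LocallyOfFinitePresentation g₀ ∧ QuasiCompact g₀ ∧ QuasiSeparated g₀ ∧
      LocallyOfFinitePresentation (f₀ ≫ g₀) ∧ QuasiCompact (f₀ ≫ g₀) ∧
      QuasiSeparated (f₀ ≫ g₀) ∧ IsPullback eY g g₀ b ∧ IsPullback eX f f₀ eY ∧
      PicF.IsInvertible L₀ ∧ Nonempty (L ≅ (Scheme.Modules.pullback eX).obj L₀) ∧
      (IsProper f → IsProper f₀) := by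
  let K : Type u := Γ(T, ⊤)
  let e : T ≅ Spec (CommRingCat.of K) := T.isoSpec
  let g' : Y ⟶ (specCone (ULift.{u} ℤ) K).pt := g ≫ e.hom
  have hfg : f ≫ g' = (f ≫ g) ≫ e.hom := (Category.assoc _ _ _).symm
  haveI : LocallyOfFinitePresentation g' :=
    inferInstanceAs (LocallyOfFinitePresentation (g ≫ e.hom))
  haveI : QuasiCompact g' := inferInstanceAs (QuasiCompact (g ≫ e.hom))
  haveI : QuasiSeparated g' := inferInstanceAs (QuasiSeparated (g ≫ e.hom))
  haveI : LocallyOfFinitePresentation (f ≫ g') := by rw [hfg]; infer_instance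
  haveI : QuasiCompact (f ≫ g') := by rw [hfg]; infer_instance
  haveI : QuasiSeparated (f ≫ g') := by rw [hfg]; infer_instance
  obtain ⟨k, Xk, Yk, fk, gk, eX, eY, Lk, h1, h2, h3, h4, h5, h6, sqY, sqX, hinv, hiso, hprop⟩ :=
    exists_triple_model_inv (specDiagram (ULift.{u} ℤ) K) (specCone (ULift.{u} ℤ) K)
      (isLimitSpecCone (ULift.{u} ℤ) K) f g' L hL
  refine ⟨_, Xk, Yk, isNoetherian_specDiagram_obj K k,
    e.hom ≫ (specCone (ULift.{u} ℤ) K).π.app k, fk, gk, eX, eY, Lk, h1, h2, h3, h4, h5, h6, ?_,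
    sqX, hinv, hiso, hprop⟩
  have := (IsPullback.of_horiz_isIso (fst := 𝟙 Y) (snd := g) (f := g') (g := e.hom)
    ⟨by simp [g']⟩).paste_horiz sqY
  rwa [Category.id_comp] at this

end Groth.Agent.Lib.helper11.RelAmpLocus
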