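import Mathlib
import Groth.Agent.Lib.Helper11.RelAmpModel

/-!
# Fibrewise criterion of relative ampleness for proper morphisms of finite presentation
(helper11, EGA IV 9.6.4 / EGA III 4.7.1 without Noetherian hypothesis)
-/

set_option autoImplicit false
set_option linter.style.haveILetI false
universe u
open CategoryTheory CategoryTheory.Limits AlgebraicGeometry TopologicalSpace Topology

namespace Groth.Agent.Lib.helper11.RelAmpLocus

open Scheme.Modules Groth.Agent.Lib.helper11.HomDescPP Groth.Agent.Lib.helper11.InvMod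
  Groth.Agent.Lib.helper5.ConsFibre Groth.Agent.Lib.helper5.ConsApprox

/-- proper, finitely presented, affine base: ample on all fibres implies ample. -/
theorem isRelAmple_of_locA_eq_univ_of_isAffine {X S : Scheme.{u}} [IsAffine S] (f : X ⟶ S)
    [IsProper f] [LocallyOfFinitePresentation f] (L : X.Modules) (hL : PicF.IsInvertible L)
    (h : locA f L = Set.univ) : RelAmple.IsRelAmple f L := by
  haveI : LocallyOfFinitePresentation (f ≫ 𝟙 S) := by rw [Category.comp_id]; infer_instance
  haveI : QuasiCompact (f ≫ 𝟙 S) := by rw [Category.comp_id]; infer_instance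
  haveI : QuasiSeparated (f ≫ 𝟙 S) := by rw [Category.comp_id]; infer_instance
  obtain ⟨S₀, X₀, Y₀, hS₀, b, f₀, g₀, eX, eY, L₀, h1, h2, h3, h4, h5, h6, sqY, sqX, hinv, ⟨iso⟩,
    hprop⟩ := exists_noetherian_model_inv f (𝟙 S) L hL
  haveI := hS₀; haveI := h1; haveI := h2
  haveI : IsProper f₀ := hprop inferInstance
  haveI : IsNoetherian Y₀ := isNoetherian_of_lft g₀
  have hpre : eY ⁻¹' locA f₀ L₀ = Set.univ := by
    rw [← locA_eq_preimage hinv sqX iso, h]
  let W₀ : Y₀.Opens := ⟨locA f₀ L₀, isOpen_locA f₀ L₀ hinv⟩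
  have hR := isRelAmple_restrict_of_le_locA f₀ L₀ hinv W₀ (fun y hy => hy)
  have hrange : Set.range eY ⊆ Set.range W₀.ι := by
    rintro _ ⟨s, rfl⟩
    rw [Scheme.Opens.range_ι]
    have : s ∈ eY ⁻¹' locA f₀ L₀ := by rw [hpre]; trivial
    exact this
  let eY' : S ⟶ (W₀ : Scheme.{u}) := IsOpenImmersion.lift W₀.ι eY hrange
  have heY' : eY' ≫ W₀.ι = eY := IsOpenImmersion.lift_fac _ _ _
  obtain ⟨e, he, sq⟩ := exists_isPullback_of_comp heY' (isPullback_morphismRestrict f₀ W₀).flip sqX
  haveI : QuasiCompact (f₀ ∣_ W₀) := inferInstance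
  have h7 := isRelAmple_of_isPullback sq hR
  refine Groth.Agent.Lib.helper12.AmpleCoprod.isRelAmple_of_iso f ?_ h7
  exact (Scheme.Modules.pullback e).mapIso ((restrictFunctorIsoPullback (f₀ ⁻¹ᵁ W₀).ι).app L₀) ≪≫
    (ηcomp e (f₀ ⁻¹ᵁ W₀).ι eX he).app L₀ ≪≫ iso.symm

/-- **EGA IV 9.6.4**: for `f` proper of finite presentation, `L` is `f`-ample iff it is ample on all
fibres. -/
theorem isRelAmple_iff_forall_fibre {X S : Scheme.{u}} (f : X ⟶ S)
    [IsProper f] [LocallyOfFinitePresentation f] (L : X.Modules) (hL : PicF.IsInvertible L) :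
    RelAmple.IsRelAmple f L ↔
      ∀ s : S, CohB1.IsAmple ((Scheme.Modules.pullback (f.fiberι s)).obj L) := by
  constructor
  · intro h s
    have := locA_eq_univ h
    have hs : s ∈ locA f L := by rw [this]; trivial
    exact hs
  · intro h
    have hA : locA f L = Set.univ := Set.eq_univ_of_forall h
    refine ⟨inferInstance, fun V => ?_⟩
    haveI : IsAffine (V.1 : Scheme.{u}) := V.2
    have h1 : locA (f ∣_ V.1) (L.restrict (f ⁻¹ᵁ V.1).ι) = Set.univ := by
      rw [locA_restrict hL V.1, hA]; rfl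
    have h2 := isRelAmple_of_locA_eq_univ_of_isAffine (f ∣_ V.1) _
      (isInvertible_restrict _ hL) h1
    exact (Groth.Agent.Lib.helper12.AmpleRestrict.isRelAmple_iff_isAmple_of_isAffine _ _).mp h2

end Groth.Agent.Lib.helper11.RelAmpLocus
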