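import Mathlib
import Groth.Agent.Lib.Helper11.RelAmpFib
import Groth.Agent.Lib.Helper11.FPDesc
import Groth.Agent.Lib.Helper12.PullAmpleRel

/-!
# Ampleness over an open of the base (helper11)

* `AmpOver f L V`: `L|_{f⁻¹ B}` is ample for every affine open `B ≤ V` of the base;
  `isRelAmple_restrict_iff_ampOver`;
* `AmpOver.of_iso`, `AmpOver.pullback_of_isAffineHom`, `AmpOver.image`;
* `isAmple_pullback_iff_of_isPullback`;
* `exists_invertible_stage`: an invertible module on a limit comes from an invertible module at a stage.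
-/

set_option autoImplicit false
set_option linter.style.haveILetI false
universe u
open CategoryTheory CategoryTheory.Limits AlgebraicGeometry TopologicalSpace Topology

namespace Groth.Agent.Lib.helper11.RelAmpLocus

open Scheme.Modules Groth.Agent.Lib.helper11.HomDescPP Groth.Agent.Lib.helper11.InvMod
  Groth.Agent.Lib.helper12.AmplePow Groth.Agent.Lib.helper12.AmpleLocal

section AmpOver

variable {X Y : Scheme.{u}}

/-- `L|_{f⁻¹ B}` is ample for every affine open `B ≤ V`. -/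
def AmpOver (f : X ⟶ Y) (L : X.Modules) (V : Y.Opens) : Prop :=
  ∀ B : Y.Opens, B ≤ V → IsAffineOpen B → CohB1.IsAmple (L.restrict (f ⁻¹ᵁ B).ι)

theorem isRelAmple_restrict_iff_ampOver (f : X ⟶ Y) [QuasiCompact f] (L : X.Modules)
    (V : Y.Opens) :
    RelAmple.IsRelAmple (f ∣_ V) (L.restrict (f ⁻¹ᵁ V).ι) ↔ AmpOver f L V := by
  constructor
  · intro h B hBV hB
    have haff : IsAffineOpen (V.ι ⁻¹ᵁ B) := by
      rw [← Scheme.Hom.isAffineOpen_iff_of_isOpenImmersion V.ι,
        Scheme.Hom.image_preimage_eq_opensRange_inf, Scheme.Opens.opensRange_ι,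
        inf_eq_right.mpr hBV]
      exact hB
    have h1 := h.2 ⟨_, haff⟩
    rw [isAmple_restrict_morphismRestrict_iff] at h1
    have e : V.ι ''ᵁ (V.ι ⁻¹ᵁ B) = B := by
      rw [Scheme.Hom.image_preimage_eq_opensRange_inf, Scheme.Opens.opensRange_ι,
        inf_eq_right.mpr hBV]
    rwa [e] at h1
  · intro h
    refine ⟨inferInstance, fun A => ?_⟩
    rw [isAmple_restrict_morphismRestrict_iff]
    refine h _ ?_ (A.2.image_of_isOpenImmersion _)
    rintro _ ⟨z, -, rfl⟩
    exact z.2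

theorem AmpOver.of_iso {f : X ⟶ Y} {L L' : X.Modules} (e : L ≅ L') {V : Y.Opens}
    (h : AmpOver f L V) : AmpOver f L' V := fun B hBV hB =>
  isAmple_of_iso ((restrictFunctor (f ⁻¹ᵁ B).ι).mapIso e) (h B hBV hB)

theorem AmpOver.mono {f : X ⟶ Y} {L : X.Modules} {V V' : Y.Opens} (hle : V' ≤ V)
    (h : AmpOver f L V) : AmpOver f L V' := fun B hBV hB => h B (hBV.trans hle) hB

/-- pullback along an affine morphism over the base -/
theorem AmpOver.pullback_of_isAffineHom {X' : Scheme.{u}} (h : X' ⟶ X) [IsAffineHom h]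
    {f : X ⟶ Y} {M : X.Modules} {V : Y.Opens} (hM : AmpOver f M V) :
    AmpOver (h ≫ f) ((Scheme.Modules.pullback h).obj M) V := by
  intro B hBV hB
  have h1 := hM B hBV hB
  have hw : (h ⁻¹ᵁ (f ⁻¹ᵁ B)).ι ≫ h = (h ∣_ (f ⁻¹ᵁ B)) ≫ (f ⁻¹ᵁ B).ι :=
    (morphismRestrict_ι h (f ⁻¹ᵁ B)).symm
  haveI : IsAffineHom (h ∣_ (f ⁻¹ᵁ B)) :=
    MorphismProperty.of_isPullback (P := @IsAffineHom)
      (isPullback_morphismRestrict h (f ⁻¹ᵁ B)).flip inferInstance
  exact Groth.Agent.Lib.helper12.PullAmpleRel.isAmple_restrict_pullback_of_isAffineHom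
    (h ⁻¹ᵁ (f ⁻¹ᵁ B)).ι h (h ∣_ (f ⁻¹ᵁ B)) (f ⁻¹ᵁ B).ι hw h1

/-- from an open subscheme of the base to the base -/
theorem AmpOver.image (f : X ⟶ Y) (L : X.Modules) (W : Y.Opens) (V' : (W : Scheme.{u}).Opens)
    (h : AmpOver (f ∣_ W) (L.restrict (f ⁻¹ᵁ W).ι) V') : AmpOver f L (W.ι ''ᵁ V') := by
  intro B hBV hB
  have hBW : B ≤ W := by
    intro b hb
    obtain ⟨z, -, rfl⟩ := hBV hb
    exact z.2
  have haff : IsAffineOpen (W.ι ⁻¹ᵁ B) := by
    rw [← Scheme.Hom.isAffineOpen_iff_of_isOpenImmersion W.ι,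
      Scheme.Hom.image_preimage_eq_opensRange_inf, Scheme.Opens.opensRange_ι,
      inf_eq_right.mpr hBW]
    exact hB
  have hle : W.ι ⁻¹ᵁ B ≤ V' := by
    intro z hz
    obtain ⟨z', hz', hzz⟩ := hBV hz
    rwa [← W.ι.isOpenEmbedding.injective hzz]
  have h1 := h _ hle haff
  rw [isAmple_restrict_morphismRestrict_iff] at h1
  have e : W.ι ''ᵁ (W.ι ⁻¹ᵁ B) = B := by
    rw [Scheme.Hom.image_preimage_eq_opensRange_inf, Scheme.Opens.opensRange_ι,
      inf_eq_right.mpr hBW]
  rwa [e] at h1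

end AmpOver

/-- ampleness of the pullback to a fibre product does not depend on the chosen fibre product -/
theorem isAmple_pullback_iff_of_isPullback {X Y T P : Scheme.{u}} {f : X ⟶ Y} {σ : T ⟶ Y}
    {p : P ⟶ X} {q : P ⟶ T} (sq : IsPullback p q f σ) (L : X.Modules) :
    CohB1.IsAmple ((Scheme.Modules.pullback p).obj L) ↔
      CohB1.IsAmple ((Scheme.Modules.pullback (pullback.fst f σ)).obj L) := by
  let e : P ≅ pullback f σ := sq.isoPullback
  have he : e.hom ≫ pullback.fst f σ = p := sq.isoPullback_hom_fst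
  have he' : e.inv ≫ p = pullback.fst f σ := sq.isoPullback_inv_fst
  constructor
  · intro h
    have h1 := Groth.Agent.Lib.helper12.PullAmple.isAmple_pullback_of_isAffineHom e.inv h
    exact isAmple_of_iso ((ηcomp e.inv p _ he').app L) h1
  · intro h
    have h1 := Groth.Agent.Lib.helper12.PullAmple.isAmple_pullback_of_isAffineHom e.hom h
    exact isAmple_of_iso ((ηcomp e.hom (pullback.fst f σ) _ he).app L) h1

section Stage

variable {I : Type u} [SmallCategory I] [IsCofiltered I]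
  (D : I ⥤ Scheme.{u}) (c : Cone D) (hc : IsLimit c)
  [hD : ∀ (i j : I) (f : i ⟶ j), IsAffineHom (D.map f)] (i₀ : I)
  [CompactSpace (D.obj i₀)] [QuasiSeparatedSpace (D.obj i₀)]

include hc in
/-- an invertible module on the limit comes from an invertible module at some stage -/
theorem exists_invertible_stage (L : c.pt.Modules) (hL : PicF.IsInvertible L) :
    ∃ (i : I) (_ : i ⟶ i₀) (Li : (D.obj i).Modules), PicF.IsInvertible Li ∧
      Nonempty ((Scheme.Modules.pullback (c.π.app i)).obj Li ≅ L) := by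
  haveI := isQuasicoherent_of_isInvertible' hL
  obtain ⟨i, φ, Fi, hq, hfp, ⟨iso⟩⟩ :=
    Groth.Agent.Lib.helper11.FPDesc.exists_fp_stage D c hc i₀ L (isFP_of_isInvertible hL)
  haveI := hq
  haveI : CompactSpace (D.obj i) := QuasiCompact.compactSpace_of_compactSpace (D.map φ)
  have h1 : FlatMod.IsFinLocFreeOfRank 1 ((Scheme.Modules.pullback (c.π.app i)).obj Fi) := by
    rw [← Groth.Agent.Lib.helper16.FLF.isInvertible_iff_isFinLocFreeOfRank_one]
    exact isInvertible_of_iso iso.symm hL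
  obtain ⟨j, ψ, hj⟩ := (Groth.Agent.Lib.helper11.LimStageRank.isFinLocFreeOfRank_iff D c hc i
    Fi hfp 1).mp h1
  rw [← Groth.Agent.Lib.helper16.FLF.isInvertible_iff_isFinLocFreeOfRank_one] at hj
  exact ⟨j, ψ ≫ φ, (Scheme.Modules.pullback (D.map ψ)).obj Fi, hj,
    ⟨(ηcomp (c.π.app j) (D.map ψ) (c.π.app i) (c.w ψ)).app Fi ≪≫ iso⟩⟩

end Stage

end Groth.Agent.Lib.helper11.RelAmpLocus
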