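import Mathlib
import Groth.Agent.Lib.Helper7.TensorReg
import Groth.Agent.Lib.Helper8.DevCore
import Groth.Agent.Lib.Helper8.ClosedImmUnit
import Groth.Agent.Lib.Helper16.FLF8

/-!
# The sequence `0 → F ⊗ I → F → i_* i^* F → 0` for a closed subscheme (helper11)

`I : X.IdealSheafData`, `i = I.subschemeι : X₀ ⟶ X`, `F` a quasi-coherent `O_X`-module.
* `mulHom_comp_unit` : `F ⊗ I → F → i_* i^* F` is zero.
* `toKer F I : F ⊗ I ⟶ kernel (F ⟶ i_* i^* F)`, an isomorphism when `F` is finite locally free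
  (`isIso_toKer`); `sesF`, `sesF_shortExact`.
* `isIso_unit_tensor` : if `I ^ 2 = ⊥` then the unit of `F ⊗ I` is an isomorphism.
* `surjective_subschemeι` : if `I ^ 2 = ⊥` then `i` is surjective.
-/

set_option autoImplicit false
set_option linter.unusedSectionVars false
set_option linter.style.haveILetI false
universe u

open CategoryTheory CategoryTheory.Limits AlgebraicGeometry Opposite TopologicalSpace TensorProduct
open Scheme.Modules

namespace Groth.Agent.Lib.helper11.SqZero

open Groth.Agent.Lib.helper7.TensorReg Groth.Agent.Lib.helper11.TensorASec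
  Groth.Agent.Lib.helper7.IdealMod Groth.Agent.Lib.helper8.Dev Groth.Agent.Lib.helper7
  Groth.Agent.Lib.helper16.FLF

variable {X : Scheme.{u}} (I : X.IdealSheafData) (F : X.Modules)

/-- the inclusion `Γ(I, W) → Γ(X, W)` on an affine open, as a linear map -/
noncomputable def ιW {W : X.Opens} (hW : IsAffineOpen W) :
    Γ(ClSub.idealMod I, W) →ₗ[Γ(X, W)] Γ(X, W) :=
  (I.ideal ⟨W, hW⟩).subtype ∘ₗ (sectionsEquiv I ⟨W, hW⟩).toLinearMap

theorem ιW_mem {W : X.Opens} (hW : IsAffineOpen W) (j : Γ(ClSub.idealMod I, W)) :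
    ιW I hW j ∈ I.ideal ⟨W, hW⟩ :=
  ((sectionsEquiv I ⟨W, hW⟩) j).2

theorem ιW_injective {W : X.Opens} (hW : IsAffineOpen W) : Function.Injective (ιW I hW) :=
  (Submodule.injective_subtype _).comp (sectionsEquiv I ⟨W, hW⟩).injective

theorem exists_ιW_eq {W : X.Opens} (hW : IsAffineOpen W) (a : Γ(X, W))
    (ha : a ∈ I.ideal ⟨W, hW⟩) : ∃ j, ιW I hW j = a :=
  ⟨(sectionsEquiv I ⟨W, hW⟩).symm ⟨a, ha⟩, by
    change ((sectionsEquiv I ⟨W, hW⟩) ((sectionsEquiv I ⟨W, hW⟩).symm ⟨a, ha⟩)).1 = a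
    rw [LinearEquiv.apply_symm_apply]⟩

theorem mulHom_cW {W : X.Opens} (hW : IsAffineOpen W)
    (z : Γ(F, W) ⊗[Γ(X, W)] Γ(ClSub.idealMod I, W)) :
    ((mulHom F I).app W).hom (cW F (ClSub.idealMod I) W z) = mulMap (ιW I hW) z := by
  induction z using TensorProduct.induction_on with
  | zero => rw [map_zero, map_zero, map_zero]
  | tmul f i =>
    rw [mulMap_tmul]
    exact mulHom_tmul F I W f i (ιW I hW i) rfl
  | add x y hx hy => rw [map_add, map_add, hx, hy, map_add]

variable [F.IsQuasicoherent]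

theorem mulHom_app_mem {W : X.Opens} (hW : IsAffineOpen W)
    (y : Γ(CohB1.tensorMod F (ClSub.idealMod I), W)) :
    ((mulHom F I).app W).hom y ∈ I.ideal ⟨W, hW⟩ • (⊤ : Submodule Γ(X, W) Γ(F, W)) := by
  obtain ⟨z, rfl⟩ := (bijective_cW F (ClSub.idealMod I) W hW).2 y
  rw [mulHom_cW I F hW]
  induction z using TensorProduct.induction_on with
  | zero => rw [map_zero]; exact Submodule.zero_mem _
  | tmul f i =>
    rw [mulMap_tmul]
    exact Submodule.smul_mem_smul (ιW_mem I hW i) Submodule.mem_top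
  | add x y hx hy => rw [map_add]; exact Submodule.add_mem _ hx hy

theorem exists_mulHom_app_eq {W : X.Opens} (hW : IsAffineOpen W) (t : Γ(F, W))
    (ht : t ∈ I.ideal ⟨W, hW⟩ • (⊤ : Submodule Γ(X, W) Γ(F, W))) :
    ∃ y, ((mulHom F I).app W).hom y = t := by
  refine Submodule.smul_induction_on ht (fun a ha f _ => ?_) (fun x y hx hy => ?_)
  · obtain ⟨j, rfl⟩ := exists_ιW_eq I hW a ha
    refine ⟨cW F (ClSub.idealMod I) W (f ⊗ₜ j), ?_⟩
    rw [mulHom_cW I F hW, mulMap_tmul]
  · obtain ⟨a, rfl⟩ := hx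
    obtain ⟨b, rfl⟩ := hy
    exact ⟨a + b, map_add _ _ _⟩

theorem mulHom_app_injective_of_flat {W : X.Opens} (hW : IsAffineOpen W)
    [Module.Flat Γ(X, W) Γ(F, W)] : Function.Injective ((mulHom F I).app W).hom := by
  have hμ : Function.Injective (mulMap (N := Γ(F, W)) (ιW I hW)) := by
    unfold mulMap
    rw [LinearMap.coe_comp]
    exact (TensorProduct.rid _ _).injective.comp
      (Module.Flat.lTensor_preserves_injective_linearMap _ (ιW_injective I hW))
  intro y₁ y₂ h
  obtain ⟨z₁, rfl⟩ := (bijective_cW F (ClSub.idealMod I) W hW).2 y₁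
  obtain ⟨z₂, rfl⟩ := (bijective_cW F (ClSub.idealMod I) W hW).2 y₂
  rw [mulHom_cW I F hW, mulHom_cW I F hW] at h
  rw [hμ h]

instance : (CohB1.tensorMod F (ClSub.idealMod I)).IsQuasicoherent :=
  Groth.Agent.Lib.helper2.TensorQCoh.isQuasicoherent_tensorMod _ _

instance isQuasicoherent_pull : ((Scheme.Modules.pullback I.subschemeι).obj F).IsQuasicoherent :=
  Groth.Agent.Lib.helper16.QCohPullback.isQuasicoherent_pullback I.subschemeι F

instance isQuasicoherent_pushPull :
    ((pushforward I.subschemeι).obj ((Scheme.Modules.pullback I.subschemeι).obj F)).IsQuasicoherent :=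
  QCohPushQC.isQuasicoherent_pushforward I.subschemeι _

theorem mulHom_comp_unit : mulHom F I ≫ unitOf I.subschemeι F = 0 := by
  refine Groth.Agent.Lib.helper16.QCohEpi.hom_ext_of_basis _ _ {U | IsAffineOpen U}
    X.isBasis_affineOpens (fun W hW y => ?_)
  have h1 := mulHom_app_mem I F hW y
  have h2 := (unitOf_app_eq_zero_iff I.subschemeι F hW (((mulHom F I).app W).hom y)).mpr (by
    rw [Scheme.IdealSheafData.ker_subschemeι]; exact h1)
  exact h2

/-- `F ⊗ I ⟶ ker (F ⟶ i_* i^* F)` -/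
noncomputable def toKer :
    CohB1.tensorMod F (ClSub.idealMod I) ⟶ kernel (unitOf I.subschemeι F) :=
  kernel.lift _ (mulHom F I) (mulHom_comp_unit I F)

@[reassoc (attr := simp)]
theorem toKer_ι : toKer I F ≫ kernel.ι (unitOf I.subschemeι F) = mulHom F I :=
  kernel.lift_ι _ _ _

instance : (kernel (unitOf I.subschemeι F)).IsQuasicoherent :=
  CohKer.isQuasicoherent_kernel _

theorem toKer_app_surjective {W : X.Opens} (hW : IsAffineOpen W) :
    Function.Surjective ((toKer I F).app W).hom := by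
  intro k
  have h1 := KerSections.kernel_ι_app_comp (unitOf I.subschemeι F) W k
  rw [unitOf_app_eq_zero_iff I.subschemeι F hW, Scheme.IdealSheafData.ker_subschemeι] at h1
  obtain ⟨y, hy⟩ := exists_mulHom_app_eq I F hW _ h1
  refine ⟨y, KerSections.kernel_ι_app_injective (unitOf I.subschemeι F) W ?_⟩
  rw [← hy]
  have := congrArg (fun ψ => (Scheme.Modules.Hom.app ψ W).hom y) (toKer_ι I F)
  exact this

theorem isIso_toKer (hF : FlatMod.IsFinLocFree F) : IsIso (toKer I F) := by
  refine KerSections.isIso_of_bijective_affine _ (fun W hW => ⟨?_, toKer_app_surjective I F hW⟩)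
  obtain ⟨_, hproj⟩ := projective_sections_of_isFinLocFree F hF hW
  haveI : Module.Flat Γ(X, W) Γ(F, W) := inferInstance
  have hinj := mulHom_app_injective_of_flat I F hW
  intro y₁ y₂ h
  apply hinj
  have e : ∀ y, ((mulHom F I).app W).hom y =
      ((kernel.ι (unitOf I.subschemeι F)).app W).hom (((toKer I F).app W).hom y) := fun y =>
    (congrArg (fun ψ => (Scheme.Modules.Hom.app ψ W).hom y) (toKer_ι I F)).symm
  rw [e, e, h]

end Groth.Agent.Lib.helper11.SqZero
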