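import Mathlib
import Groth.Agent.Lib.Helper11.SqZero1
import Groth.Agent.Lib.Helper16.FLF4
import Groth.Agent.Lib.Helper7.QCohExt

/-!
# Square-zero closed subschemes, part 2 (helper11)

* `smul_eq_zero_of_sq`, `isIso_unit_tensor` : if `I ^ 2 = ⊥` the unit of `F ⊗ I` is an isomorphism.
* `surjective_subschemeι` : if `I ^ 2 = ⊥` then `I.subschemeι` is surjective.
* `sesF`, `sesF_shortExact` : `0 → F ⊗ I → F → i_* i^* F → 0` for `F` finite locally free.
* `injective_of_isBC_of_retraction` (algebra) and `mono_pullback_map_of_flf` : the pullback along a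
  closed immersion of a monomorphism of quasi-coherent modules with finite locally free cokernel is a
  monomorphism.
-/

set_option autoImplicit false
set_option linter.unusedSectionVars false
set_option linter.style.haveILetI false
universe u

open CategoryTheory CategoryTheory.Limits AlgebraicGeometry Opposite TopologicalSpace TensorProduct
open Scheme.Modules

namespace Groth.Agent.Lib.helper11.SqZero

open Groth.Agent.Lib.helper7.TensorReg Groth.Agent.Lib.helper11.TensorASec
  Groth.Agent.Lib.helper7.IdealMod Groth.Agent.Lib.helper8.Dev Groth.Agent.Lib.helper7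
  Groth.Agent.Lib.helper16.FLF Groth.Agent.Lib.helper8.PullbackUnit

variable {X : Scheme.{u}} (I : X.IdealSheafData) (F : X.Modules)

theorem smul_eq_zero_of_sq (hI : I ^ 2 = ⊥) {W : X.Opens} (hW : IsAffineOpen W) (a : Γ(X, W))
    (ha : a ∈ I.ideal ⟨W, hW⟩) (j : Γ(ClSub.idealMod I, W)) : a • j = 0 := by
  apply ιW_injective I hW
  rw [_root_.map_smul, map_zero, smul_eq_mul]
  have h1 : a * ιW I hW j ∈ (I ^ 2).ideal ⟨W, hW⟩ := by
    rw [Scheme.IdealSheafData.ideal_pow, Pi.pow_apply, pow_two]
    exact Ideal.mul_mem_mul ha (ιW_mem I hW j)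
  rw [hI] at h1
  exact h1

theorem surjective_subschemeι (hI : I ^ 2 = ⊥) : Function.Surjective I.subschemeι := by
  intro x
  have h1 : x ∈ Set.range I.subschemeι := by
    rw [Scheme.IdealSheafData.range_subschemeι, ← Scheme.IdealSheafData.support_pow I 2 (by norm_num),
      hI, Scheme.IdealSheafData.support_bot]
    trivial
  exact h1

variable [F.IsQuasicoherent]

theorem isIso_unit_tensor (hI : I ^ 2 = ⊥) :
    IsIso (unitOf I.subschemeι (CohB1.tensorMod F (ClSub.idealMod I))) := by
  rw [Groth.Agent.Lib.helper8.ClosedImmUnit.isIso_unit_iff_of_isClosedImmersion]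
  intro U a ha s
  rw [Scheme.IdealSheafData.ker_subschemeι] at ha
  obtain ⟨z, rfl⟩ := (bijective_cW F (ClSub.idealMod I) U.1 U.2).2 s
  rw [← _root_.map_smul]
  induction z using TensorProduct.induction_on with
  | zero => rw [smul_zero, map_zero]
  | tmul f j =>
    rw [TensorProduct.smul_tmul', TensorProduct.smul_tmul, smul_eq_zero_of_sq I hI U.2 a ha j,
      TensorProduct.tmul_zero, map_zero]
  | add x y hx hy => rw [smul_add, map_add, hx, hy, add_zero]

/-- `F ⊗ I → F → i_* i^* F` -/
noncomputable def sesF : ShortComplex X.Modules :=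
  ShortComplex.mk (mulHom F I) (unitOf I.subschemeι F) (mulHom_comp_unit I F)

theorem sesF_shortExact (hF : FlatMod.IsFinLocFree F) : (sesF I F).ShortExact := by
  haveI := isIso_toKer I F hF
  let K : ShortComplex X.Modules :=
    ShortComplex.mk (kernel.ι (unitOf I.subschemeι F)) (unitOf I.subschemeι F) (kernel.condition _)
  have hK : K.ShortExact :=
    { exact := ShortComplex.exact_of_f_is_kernel _ (kernelIsKernel _)
      mono_f := inferInstanceAs (Mono (kernel.ι (unitOf I.subschemeι F)))
      epi_g := inferInstanceAs (Epi (unitOf I.subschemeι F)) }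
  let e₁ : CohB1.tensorMod F (ClSub.idealMod I) ≅ kernel (unitOf I.subschemeι F) :=
    asIso (toKer I F)
  let e : sesF I F ≅ K :=
    ShortComplex.isoMk e₁ (Iso.refl _) (Iso.refl _)
      (by simp [sesF, K, e₁]) (by simp [sesF, K])
  exact ShortComplex.shortExact_of_iso e.symm hK

section Alg

variable {R R' : Type u} [CommRing R] [CommRing R'] {φ : R →+* R'} {N P N' P' : Type u}
  [AddCommGroup N] [Module R N] [AddCommGroup P] [Module R P]
  [AddCommGroup N'] [Module R' N'] [AddCommGroup P'] [Module R' P']

/-- the base change of a split injection is injective -/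
theorem injective_of_isBC_of_retraction {kN : N →+ N'} {kP : P →+ P'} (hN : IsBC φ kN)
    (hP : IsBC φ kP) (ι : N →ₗ[R] P) (ρ : P →ₗ[R] N) (hρ : ∀ n, ρ (ι n) = n)
    (ι' : N' →ₗ[R'] P') (hι' : ∀ n, ι' (kN n) = kP (ι n)) : Function.Injective ι' := by
  obtain ⟨ρ', hρ', -⟩ := hP.existsUnique_lift N' (kN.comp ρ.toAddMonoidHom) (by
    intro r p
    change kN (ρ (r • p)) = φ r • kN (ρ p)
    rw [_root_.map_smul, hN.map_smul])
  obtain ⟨z, -, hz⟩ := hN.existsUnique_lift N' kN hN.map_smul
  have h1 : ρ' ∘ₗ ι' = LinearMap.id := by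
    rw [hz (ρ' ∘ₗ ι') (by
      intro n
      change ρ' (ι' (kN n)) = kN n
      rw [hι', hρ']
      change kN (ρ (ι n)) = kN n
      rw [hρ]), hz LinearMap.id (by intro n; rfl)]
  exact Function.LeftInverse.injective (g := ρ') fun x => congr($h1 x)

end Alg

end Groth.Agent.Lib.helper11.SqZero
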