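import Mathlib
import Groth.Agent.Lib.Helper11.SqZero2

/-!
# Square-zero closed subschemes, part 3 (helper11)

* `unitSec_naturality`.
* `mono_pullback_map_of_shortExact` : for a closed immersion `i` and a short exact sequence of
  quasi-coherent modules with finite locally free cokernel, `i^*` of the monomorphism is a
  monomorphism; `shortExact_map_pullback`.
-/

set_option autoImplicit false
set_option linter.unusedSectionVars false
set_option linter.style.haveILetI false
universe u

open CategoryTheory CategoryTheory.Limits AlgebraicGeometry Opposite TopologicalSpace TensorProduct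
open Scheme.Modules

namespace Groth.Agent.Lib.helper11.SqZero

open Groth.Agent.Lib.helper8.Dev Groth.Agent.Lib.helper7
  Groth.Agent.Lib.helper16.FLF Groth.Agent.Lib.helper8.PullbackUnit

variable {X Z : Scheme.{u}} (i : Z ⟶ X) [IsClosedImmersion i]

theorem unitSec_naturality {G H : X.Modules} [G.IsQuasicoherent] [H.IsQuasicoherent] (φ : G ⟶ H)
    (U : X.Opens) (n : Γ(G, U)) :
    (((Scheme.Modules.pullback i).map φ).app (i ⁻¹ᵁ U)).hom (unitSec i G U n) =
      unitSec i H U ((φ.app U).hom n) := by
  have h := (pullbackPushforwardAdjunction i).unit.naturality φ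
  have h2 := congrArg (fun ψ => (Scheme.Modules.Hom.app ψ U).hom n) h
  exact h2.symm

theorem mono_pullback_map_of_shortExact (T : ShortComplex X.Modules) (hT : T.ShortExact)
    [T.X₁.IsQuasicoherent] [T.X₂.IsQuasicoherent] (h3 : FlatMod.IsFinLocFree T.X₃) :
    Mono ((Scheme.Modules.pullback i).map T.f) := by
  haveI : ((Scheme.Modules.pullback i).obj T.X₁).IsQuasicoherent :=
    Groth.Agent.Lib.helper16.QCohPullback.isQuasicoherent_pullback i T.X₁
  haveI : ((Scheme.Modules.pullback i).obj T.X₂).IsQuasicoherent :=
    Groth.Agent.Lib.helper16.QCohPullback.isQuasicoherent_pullback i T.X₂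
  refine KerSections.mono_of_injective_cover _ (fun U : X.affineOpens => i ⁻¹ᵁ U.1)
    (fun U => U.2.preimage i) (fun z => ?_) (fun U => ?_)
  · obtain ⟨U, hU⟩ := KerSections.exists_affine_mem (i z)
    exact ⟨U, hU⟩
  · have hN := isBC_unitSec i T.X₁ U.2
    have hP := isBC_unitSec i T.X₂ U.2
    haveI := hT.mono_f
    obtain ⟨hinj, hex⟩ := KerSections.sections_leftExact T hT.exact U.1
    have hsurj := QCohExt.surjective_app_of_shortExact T hT U.1 U.2
    obtain ⟨_, hproj⟩ := projective_sections_of_isFinLocFree T.X₃ h3 U.2
    let f := sectionsLin T.f U.1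
    let g := sectionsLin T.g U.1
    have hexact : Function.Exact f g := by
      intro b
      constructor
      · intro hb
        obtain ⟨a, ha⟩ := hex b hb
        exact ⟨a, ha⟩
      · rintro ⟨a, rfl⟩
        have := congrArg (fun ψ => (Scheme.Modules.Hom.app ψ U.1).hom a) T.zero
        exact this
    have hg : Function.Surjective g := hsurj
    have hf : Function.Injective f := hinj
    obtain ⟨l, hl⟩ := Module.projective_lifting_property g LinearMap.id hg
    have hl' : ∃ l, g ∘ₗ l = LinearMap.id := ⟨l, hl⟩
    obtain ⟨ρ, hρ⟩ := ((Function.Exact.split_tfae hexact hf hg).out 0 1).mp hl'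
    exact injective_of_isBC_of_retraction hN hP f ρ (fun n => congr($hρ n))
      (sectionsLin ((Scheme.Modules.pullback i).map T.f) (i ⁻¹ᵁ U.1))
      (fun n => unitSec_naturality i T.f U.1 n)

theorem shortExact_map_pullback (T : ShortComplex X.Modules) (hT : T.ShortExact)
    [T.X₁.IsQuasicoherent] [T.X₂.IsQuasicoherent] (h3 : FlatMod.IsFinLocFree T.X₃) :
    (T.map (Scheme.Modules.pullback i)).ShortExact := by
  haveI := hT.mono_f
  haveI := hT.epi_g
  have hex : (T.map (Scheme.Modules.pullback i)).Exact :=
    hT.exact.map_of_epi_of_preservesCokernel (Scheme.Modules.pullback i) inferInstance inferInstance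
  haveI : Mono (T.map (Scheme.Modules.pullback i)).f := mono_pullback_map_of_shortExact i T hT h3
  haveI : Epi (T.map (Scheme.Modules.pullback i)).g :=
    (Scheme.Modules.pullback i).map_epi T.g
  exact { exact := hex }

end Groth.Agent.Lib.helper11.SqZero
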