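import Mathlib
import Groth.Agent.Lib.Helper11.FibLift8

/-!
# Local base, closed fibre as `X ×_A Spec (A/m)`: invertible modules trivial on the closed fibre
(helper11)

* `hasSheafHom M` : `DCoh.HasSheafHom M` for every `M`.
* `sheafHomUnitIso` : `ℋom(O, −) ≅ 𝟭`.
* `isPullback_residueField` : transport of a pullback square along `Spec (A/m) → Spec A` to one along
  `Spec κ(m) → Spec A`.
* `nonempty_iso_of_pullback_closedFibre_iso` : `F`, `G` finite locally free on `X` proper flat over a
  Noetherian local ring, `H^1(X₀, O) = 0`, `g'^*F ≅ O ≅ g'^*G` ⟹ `F ≅ G`.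
-/

set_option autoImplicit false
universe u
open CategoryTheory CategoryTheory.Limits AlgebraicGeometry TopologicalSpace Opposite
open Scheme.Modules
open Groth.Agent.Lib.helper11.IsoLocus
open Groth.Agent.Lib.helper21.FLFDual Groth.Agent.Lib.helper12.InvDual
open Groth.Agent.Lib.helper21.InvFibre Groth.Agent.Lib.helper16.FLF

namespace Groth.Agent.Lib.helper11.FibLift

/-- the sheaf Hom exists for every module -/
theorem hasSheafHom {Z : Scheme.{u}} (M : Z.Modules) : DCoh.HasSheafHom M :=
  Groth.Agent.Lib.Helper21.TensorMon.isLeftAdjoint_tensL Z.sheaf M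

/-- `ℋom(O, −) ≅ 𝟭` -/
noncomputable def sheafHomUnitIso (Z : Scheme.{u}) [DCoh.HasSheafHom (Coh.structureModule Z)] :
    DCoh.sheafHom (Coh.structureModule Z) ≅ 𝟭 Z.Modules :=
  ((DCoh.sheafHomAdj (Coh.structureModule Z)).ofNatIsoLeft
    (Groth.Agent.Lib.Helper21.TensorMon.unitIso Z.sheaf)).rightAdjointUniq Adjunction.id

section residue

variable (A : Type u) [CommRing A] [IsLocalRing A]

/-- the canonical map `A/m → κ(m)` -/
noncomputable abbrev quotToKappa :
    IsLocalRing.ResidueField A →+* (IsLocalRing.closedPoint A).asIdeal.ResidueField :=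
  algebraMap (A ⧸ IsLocalRing.maximalIdeal A) (IsLocalRing.maximalIdeal A).ResidueField

instance isIso_specMap_quotToKappa :
    IsIso (Spec.map (CommRingCat.ofHom (quotToKappa A))) := by
  have : IsIso (CommRingCat.ofHom (quotToKappa A)) := by
    rw [ConcreteCategory.isIso_iff_bijective]
    exact (IsLocalRing.maximalIdeal A).bijective_algebraMap_quotient_residueField
  infer_instance

theorem specMap_quotToKappa_comp :
    Spec.map (CommRingCat.ofHom (quotToKappa A)) ≫
      Spec.map (CommRingCat.ofHom (IsLocalRing.residue A)) =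
    Spec.map (CommRingCat.ofHom
      (algebraMap A (IsLocalRing.closedPoint A).asIdeal.ResidueField)) := by
  rw [← Spec.map_comp, ← CommRingCat.ofHom_comp]
  congr 2

variable {A} {X X' : Scheme.{u}} {g' : X' ⟶ X} {p : X' ⟶ Spec (CommRingCat.of (IsLocalRing.ResidueField A))}
  {f : X ⟶ Spec (CommRingCat.of A)}

/-- transport of a pullback square along `Spec (A/m) → Spec A` to one along `Spec κ(m) → Spec A` -/
theorem isPullback_residueField
    (h : IsPullback g' p f (Spec.map (CommRingCat.ofHom (IsLocalRing.residue A)))) :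
    IsPullback g' (p ≫ inv (Spec.map (CommRingCat.ofHom (quotToKappa A)))) f
      (Spec.map (CommRingCat.ofHom
        (algebraMap A (IsLocalRing.closedPoint A).asIdeal.ResidueField))) := by
  refine IsPullback.of_iso h (Iso.refl _) (Iso.refl _)
    (asIso (Spec.map (CommRingCat.ofHom (quotToKappa A)))).symm (Iso.refl _) ?_ ?_ ?_ ?_
  · simp
  · simp
  · simp
  · rw [Iso.refl_hom, Category.comp_id, Iso.symm_hom, asIso_inv, ← specMap_quotToKappa_comp,
      IsIso.inv_hom_id_assoc]

/-- points over the closed point lie in the range of the closed fibre -/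
theorem mem_range_of_isPullback_residue
    (h : IsPullback g' p f (Spec.map (CommRingCat.ofHom (IsLocalRing.residue A))))
    (q : X) (hq : f q = IsLocalRing.closedPoint A) : q ∈ Set.range g' := by
  have h1 : Set.range g' = Set.range (pullback.fst f
      (Spec.map (CommRingCat.ofHom (IsLocalRing.residue A)))) := by
    have e : g' = h.isoPullback.hom ≫ pullback.fst f _ := (h.isoPullback_hom_fst).symm
    rw [e]
    have hs : Function.Surjective h.isoPullback.hom := by
      have : IsIso h.isoPullback.hom := inferInstance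
      exact (h.isoPullback.hom).surjective
    ext z
    constructor
    · rintro ⟨w, rfl⟩
      exact ⟨h.isoPullback.hom w, rfl⟩
    · rintro ⟨w, rfl⟩
      obtain ⟨w', rfl⟩ := hs w
      exact ⟨w', rfl⟩
  rw [h1, Scheme.Pullback.range_fst, Set.mem_preimage, hq]
  refine ⟨IsLocalRing.closedPoint _, ?_⟩
  exact (IsLocalRing.isLocalHom_iff_comap_closedPoint
    (f := (IsLocalRing.residue A))).mp inferInstance

end residue

section main

variable (A : Type u) [CommRing A] [IsNoetherianRing A] [IsLocalRing A] (X : Scheme.{u})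
  [X.Over (Spec (CommRingCat.of A))] [IsProper (X ↘ Spec (CommRingCat.of A))]
  [Flat (X ↘ Spec (CommRingCat.of A))]
  (F G : X.Modules) (hF : FlatMod.IsFinLocFree F) (hG : FlatMod.IsFinLocFree G)
  {X' : Scheme.{u}} (g' : X' ⟶ X) (p : X' ⟶ Spec (CommRingCat.of (IsLocalRing.ResidueField A)))
  (hpb : IsPullback g' p (X ↘ Spec (CommRingCat.of A))
    (Spec.map (CommRingCat.ofHom (IsLocalRing.residue A))))

omit [IsNoetherianRing A] [Flat (X ↘ Spec (CommRingCat.of A))] in
include hpb in
/-- a morphism which is an isomorphism near the closed fibre is an isomorphism -/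
theorem isIso_of_range_subset_isoLocus (u : F ⟶ G)
    (hu : Set.range g' ⊆ ((isoLocus u : X.Opens) : Set X)) : IsIso u := by
  rw [← isoLocus_eq_top_iff]
  let Z : Set X := ((isoLocus u : X.Opens) : Set X)ᶜ
  have hZ : IsClosed Z := (isoLocus u).2.isClosed_compl
  have hcl : IsClosed ((X ↘ Spec (CommRingCat.of A)) '' Z) :=
    (X ↘ Spec (CommRingCat.of A)).isClosedMap _ hZ
  let U : TopologicalSpace.Opens (PrimeSpectrum A) :=
    ⟨((X ↘ Spec (CommRingCat.of A)) '' Z)ᶜ, hcl.isOpen_compl⟩
  have hU : IsLocalRing.closedPoint A ∈ U := by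
    rintro ⟨q, hqZ, hq⟩
    exact hqZ (hu (mem_range_of_isPullback_residue hpb q hq))
  have hU' : U = ⊤ := (IsLocalRing.closedPoint_mem_iff U).mp hU
  apply top_unique
  intro q _
  by_contra hq
  have h1 : (X ↘ Spec (CommRingCat.of A)) q ∈ U := by rw [hU']; trivial
  exact h1 ⟨q, hq, rfl⟩

include hF hG hpb in
/-- **finite locally free modules trivial on the closed fibre are isomorphic** when
`H^1(X₀, O) = 0` -/
theorem nonempty_iso_of_pullback_closedFibre_iso
    (h1 : Subsingleton (Coh.HH X' (Coh.structureModule X') 1))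
    (eF : (Scheme.Modules.pullback g').obj F ≅ Coh.structureModule X')
    (eG : (Scheme.Modules.pullback g').obj G ≅ Coh.structureModule X') :
    Nonempty (F ≅ G) := by
  letI : X'.Over (Spec (CommRingCat.of (IsLocalRing.closedPoint A).asIdeal.ResidueField)) :=
    ⟨p ≫ inv (Spec.map (CommRingCat.ofHom (quotToKappa A)))⟩
  have hpb' : IsPullback g'
      (X' ↘ Spec (CommRingCat.of (IsLocalRing.closedPoint A).asIdeal.ResidueField))
      (X ↘ Spec (CommRingCat.of A))
      (Spec.map (CommRingCat.ofHom
        (algebraMap A (IsLocalRing.closedPoint A).asIdeal.ResidueField))) :=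
    isPullback_residueField hpb
  haveI := hasSheafHom (Coh.structureModule X')
  have h : Subsingleton (Coh.HH X'
      ((DCoh.sheafHom (Coh.structureModule X')).obj (Coh.structureModule X')) 1) :=
    subsingleton_HH_of_iso ((sheafHomUnitIso X').app (Coh.structureModule X')).symm 1 h1
  have v1 := subsingleton_HH_pullback g' hF G _ _ eF.symm eG.symm 1 h
  have v2 := subsingleton_HH_pullback g' hG F _ _ eG.symm eF.symm 1 h
  obtain ⟨u, hu⟩ := exists_hom_range_subset_isoLocus A X F G hF hG (IsLocalRing.closedPoint A)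
    X' g' hpb' v1 v2 (eF ≪≫ eG.symm)
  haveI := isIso_of_range_subset_isoLocus A X F G g' p hpb u hu
  exact ⟨asIso u⟩

end main

end Groth.Agent.Lib.helper11.FibLift
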