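import Mathlib
import Groth.Agent.Lib.Helper11.UnitsK2
import Groth.Agent.Lib.Helper18.HHLES

/-!
# The step `0 → 1 + J'O → 1 + (J' + (t))O → O/mO → 0` (helper11)
-/

set_option autoImplicit false
universe u
open CategoryTheory CategoryTheory.Limits AlgebraicGeometry TopologicalSpace Opposite
open Scheme.Modules
open Groth.Agent.Lib.helper8.FlatCohBC Groth.Agent.Lib.helper21.GCCech
open Groth.Agent.Lib.helper12.PullTensor
open Groth.Agent.Lib.helper11.FibMono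
open Groth.Agent.Lib.helper11.Thick

namespace Groth.Agent.Lib.helper11.UnitsK

section step

variable {A B' B₁ B₀ : Type u} [CommRing A] [CommRing B'] [CommRing B₁] [CommRing B₀]
  [Algebra A B'] [Algebra A B₁] [Algebra A B₀]
variable {X X' X₁ X₀ : Scheme.{u}} (fX : X ⟶ Spec (CommRingCat.of A))
  (fX' : X' ⟶ Spec (CommRingCat.of B')) (g' : X' ⟶ X)
  (h' : IsPullback g' fX' fX (Spec.map (CommRingCat.ofHom (algebraMap A B'))))
  (fX₁ : X₁ ⟶ Spec (CommRingCat.of B₁)) (g₁ : X₁ ⟶ X)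
  (h₁ : IsPullback g₁ fX₁ fX (Spec.map (CommRingCat.ofHom (algebraMap A B₁))))
  (fX₀ : X₀ ⟶ Spec (CommRingCat.of B₀)) (g₀ : X₀ ⟶ X)
  (h₀ : IsPullback g₀ fX₀ fX (Spec.map (CommRingCat.ofHom (algebraMap A B₀))))
  (t : A) (J' m : Ideal A) (hann : ∀ a : A, a * t ∈ J' ↔ a ∈ m) (hJ'm : J' ≤ m)
  (hs' : Function.Surjective (algebraMap A B'))
  (hk' : RingHom.ker (algebraMap A B') = J')
  (hs₁ : Function.Surjective (algebraMap A B₁))
  (hk₁ : RingHom.ker (algebraMap A B₁) = J' ⊔ Ideal.span {t})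
  (hs₀ : Function.Surjective (algebraMap A B₀))
  (hk₀ : RingHom.ker (algebraMap A B₀) = m)
  (htm : t ∈ m) (hnil : IsNilpotent t)

include hann htm in
theorem sup_mul_sup_le : (J' ⊔ Ideal.span {t}) * (J' ⊔ Ideal.span {t}) ≤ J' := by
  rw [Ideal.mul_le]
  intro r hr s hs
  obtain ⟨j, hj, c, hc, rfl⟩ := Submodule.mem_sup.mp hr
  obtain ⟨b, rfl⟩ := Ideal.mem_span_singleton'.mp hc
  obtain ⟨j', hj', c', hc', rfl⟩ := Submodule.mem_sup.mp hs
  obtain ⟨b', rfl⟩ := Ideal.mem_span_singleton'.mp hc'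
  have htt : t * t ∈ J' := (hann t).mpr htm
  have e : (j + b * t) * (j' + b' * t) = j * (j' + b' * t) + (b * t) * j' + (b * b') * (t * t) := by
    ring
  rw [e]
  exact J'.add_mem (J'.add_mem (J'.mul_mem_right _ hj) (J'.mul_mem_left _ hj'))
    (J'.mul_mem_left _ htt)

include h' h₁ hann htm hs' hk' hs₁ hk₁ in
theorem hmul_step (U : X.Opens) (x y : Γ(X, U)) (hx : (g₁.app U).hom x = 0)
    (hy : (g₁.app U).hom y = 0) :
    unitSec g' (Coh.structureModule X) U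
      (show (Coh.structureModule X).val.obj (op U) from x * y) = 0 := by
  apply unitSec_eq_zero_of_affine fX fX' g' h' J' hs' hk' U (x * y)
  intro W hW hWU
  rw [map_mul]
  have hx' := inJ_res_of_app_eq_zero fX fX₁ g₁ h₁ _ hs₁ hk₁ U x hx W hW hWU
  have hy' := inJ_res_of_app_eq_zero fX fX₁ g₁ h₁ _ hs₁ hk₁ U y hy W hW hWU
  exact inJ_mono fX (sup_mul_sup_le t J' m hann htm) W (inJ_mul fX _ _ W hx' hy')

/-- the map `1 + (J' + (t)) O ⟶ O / J' O` -/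
noncomputable def pK : KU g₁ ⟶ Coh.toAb (pushPull g' (Coh.structureModule X)) :=
  pHom g' g₁ (hmul_step fX fX' g' h' fX₁ g₁ h₁ t J' m hann hs' hk' hs₁ hk₁ htm)

local instance (X : Scheme.{u}) : (Coh.structureModule X).IsQuasicoherent :=
  isQuasicoherent_structureModule X

include h' h₁ hann htm hs' hk' hs₁ hk₁ in
theorem pK_relPi :
    pK fX fX' g' h' fX₁ g₁ h₁ t J' m hann hs' hk' hs₁ hk₁ htm ≫
      (Groth.Agent.Lib.Helper18.HH.toAbF X).map
        (relPi fX fX' g' h' fX₁ g₁ h₁ t J' hs' hk' hs₁ hk₁ (Coh.structureModule X)) = 0 := by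
  apply Sheaf.hom_ext
  ext U s
  have e1 := unit_piHom_app fX fX' g' h' fX₁ g₁ h₁ J' _ le_sup_left hs' hk' hs₁ hk₁
    (Coh.structureModule X) U.unop (ofFn U.unop ((ιU g₁ U.unop s).val - 1))
  have e2 : unitSec g₁ (Coh.structureModule X) U.unop
      (ofFn U.unop ((ιU g₁ U.unop s).val - 1)) = 0 :=
    (unitSec_eq_zero_iff g₁ _ _).mpr (by rw [map_sub, map_one, app_ιU, sub_self])
  exact e1.trans e2

include hJ'm in
/-- the short exact sequence of abelian sheaves `0 → O/mO → O/J'O → O/(J'+(t))O → 0` -/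
theorem abShortExact (hfl : FlatMod.IsFlatOver fX (Coh.structureModule X)) :
    ((ShortComplex.mk (relPsi fX fX' g' h' fX₀ g₀ h₀ t J' m hann hs' hk' hs₀ hk₀
        (Coh.structureModule X))
      (relPi fX fX' g' h' fX₁ g₁ h₁ t J' hs' hk' hs₁ hk₁ (Coh.structureModule X))
      (relPsi_relPi fX fX' g' h' fX₁ g₁ h₁ fX₀ g₀ h₀ t J' m hann hs' hk' hs₁ hk₁ hs₀ hk₀
        (Coh.structureModule X))).map (Groth.Agent.Lib.Helper18.HH.toAbF X)).ShortExact :=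
  Groth.Agent.Lib.Helper18.HH.toAb_shortExact
    (relShortExact fX fX' g' h' fX₁ g₁ h₁ fX₀ g₀ h₀ t J' m hann hJ'm hs' hk' hs₁ hk₁ hs₀ hk₀
      (Coh.structureModule X) hfl)

/-- the map `1 + (J' + (t)) O ⟶ O / m O`, `1 + j + t b ↦ b` -/
noncomputable def pLift (hfl : FlatMod.IsFlatOver fX (Coh.structureModule X)) :
    KU g₁ ⟶ Coh.toAb (pushPull g₀ (Coh.structureModule X)) :=
  (abShortExact fX fX' g' h' fX₁ g₁ h₁ fX₀ g₀ h₀ t J' m hann hJ'm hs' hk' hs₁ hk₁ hs₀ hk₀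
    hfl).fIsKernel.lift (KernelFork.ofι
      (pK fX fX' g' h' fX₁ g₁ h₁ t J' m hann hs' hk' hs₁ hk₁ htm)
      (pK_relPi fX fX' g' h' fX₁ g₁ h₁ t J' m hann hs' hk' hs₁ hk₁ htm))

theorem pLift_relPsi (hfl : FlatMod.IsFlatOver fX (Coh.structureModule X)) :
    pLift fX fX' g' h' fX₁ g₁ h₁ fX₀ g₀ h₀ t J' m hann hJ'm hs' hk' hs₁ hk₁ hs₀ hk₀ htm hfl ≫
      (Groth.Agent.Lib.Helper18.HH.toAbF X).map
        (relPsi fX fX' g' h' fX₀ g₀ h₀ t J' m hann hs' hk' hs₀ hk₀ (Coh.structureModule X)) =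
      pK fX fX' g' h' fX₁ g₁ h₁ t J' m hann hs' hk' hs₁ hk₁ htm :=
  (abShortExact fX fX' g' h' fX₁ g₁ h₁ fX₀ g₀ h₀ t J' m hann hJ'm hs' hk' hs₁ hk₁ hs₀ hk₀
    hfl).fIsKernel.fac (KernelFork.ofι
      (pK fX fX' g' h' fX₁ g₁ h₁ t J' m hann hs' hk' hs₁ hk₁ htm)
      (pK_relPi fX fX' g' h' fX₁ g₁ h₁ t J' m hann hs' hk' hs₁ hk₁ htm)) WalkingParallelPair.zero

theorem pLift_relPsi_app (hfl : FlatMod.IsFlatOver fX (Coh.structureModule X))
    (U : X.Opens) (s : (KU g₁).obj.obj (op U)) :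
    ((relPsi fX fX' g' h' fX₀ g₀ h₀ t J' m hann hs' hk' hs₀ hk₀
        (Coh.structureModule X)).val.app (op U)).hom
      ((pLift fX fX' g' h' fX₁ g₁ h₁ fX₀ g₀ h₀ t J' m hann hJ'm hs' hk' hs₁ hk₁ hs₀ hk₀ htm
        hfl).hom.app (op U) s) = pFun g' g₁ U s := by
  have := congrArg (fun φ : KU g₁ ⟶ Coh.toAb (pushPull g' (Coh.structureModule X)) =>
      (ConcreteCategory.hom (φ.hom.app (op U))) s)
    (pLift_relPsi fX fX' g' h' fX₁ g₁ h₁ fX₀ g₀ h₀ t J' m hann hJ'm hs' hk' hs₁ hk₁ hs₀ hk₀ htm hfl)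
  exact this

include h' h₁ hs' hk' hs₁ hk₁ in
theorem ι_comap_eq_zero : kernel.ι (UnitsSh.comap g') ≫ UnitsSh.comap g₁ = 0 := by
  apply Sheaf.hom_ext
  ext U s
  have e0 : (g'.app U.unop).hom ((ιU g' U.unop s).val - 1) = 0 := by
    rw [map_sub, map_one, app_ιU, sub_self]
  have e1 := unit_piHom_app fX fX' g' h' fX₁ g₁ h₁ J' _ le_sup_left hs' hk' hs₁ hk₁
    (Coh.structureModule X) U.unop (ofFn U.unop ((ιU g' U.unop s).val - 1))
  rw [(unitSec_eq_zero_iff g' _ _).mpr e0] at e1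
  have e2 : unitSec g₁ (Coh.structureModule X) U.unop
      (ofFn U.unop ((ιU g' U.unop s).val - 1)) = 0 :=
    e1.symm.trans (map_zero ((relPi fX fX' g' h' fX₁ g₁ h₁ t J' hs' hk' hs₁ hk₁
      (Coh.structureModule X)).val.app (op U.unop)).hom)
  have e3 := (unitSec_eq_zero_iff g₁ _ _).mp e2
  have e4 : (g₁.app U.unop).hom (ιU g' U.unop s).val = 1 := by
    have : (g₁.app U.unop).hom ((ιU g' U.unop s).val - 1) = 0 := e3
    rw [map_sub, map_one, sub_eq_zero] at this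
    exact this
  have e5 : Units.map (g₁.app U.unop).hom.toMonoidHom (ιU g' U.unop s) = 1 := Units.ext e4
  exact congrArg (UnitsSh.sectOfUnit (O := g₁.base _* X₁.presheaf) (U := U)) e5

/-- the inclusion `1 + J'O ⟶ 1 + (J' + (t))O` -/
noncomputable def fK : KU g' ⟶ KU g₁ :=
  kernel.lift _ (kernel.ι (UnitsSh.comap g'))
    (ι_comap_eq_zero fX fX' g' h' fX₁ g₁ h₁ t J' hs' hk' hs₁ hk₁)

theorem ιU_fK (U : X.Opens) (s : (KU g').obj.obj (op U)) :
    ιU g₁ U ((fK fX fX' g' h' fX₁ g₁ h₁ t J' hs' hk' hs₁ hk₁).hom.app (op U) s) = ιU g' U s := by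
  have := congrArg (fun φ : KU g' ⟶ UnitsSh.unitsAb X =>
      (ConcreteCategory.hom (φ.hom.app (op U))) s)
    (kernel.lift_ι (UnitsSh.comap g₁) (kernel.ι (UnitsSh.comap g'))
      (ι_comap_eq_zero fX fX' g' h' fX₁ g₁ h₁ t J' hs' hk' hs₁ hk₁))
  exact congrArg (UnitsSh.unitOfSect (O := X.presheaf) (U := op U)) this

theorem fK_pLift (hfl : FlatMod.IsFlatOver fX (Coh.structureModule X)) :
    fK fX fX' g' h' fX₁ g₁ h₁ t J' hs' hk' hs₁ hk₁ ≫
      pLift fX fX' g' h' fX₁ g₁ h₁ fX₀ g₀ h₀ t J' m hann hJ'm hs' hk' hs₁ hk₁ hs₀ hk₀ htm hfl =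
      0 := by
  have hSE := abShortExact fX fX' g' h' fX₁ g₁ h₁ fX₀ g₀ h₀ t J' m hann hJ'm hs' hk' hs₁ hk₁ hs₀
    hk₀ hfl
  haveI : Mono ((Groth.Agent.Lib.Helper18.HH.toAbF X).map
      (relPsi fX fX' g' h' fX₀ g₀ h₀ t J' m hann hs' hk' hs₀ hk₀ (Coh.structureModule X))) :=
    hSE.mono_f
  rw [← cancel_mono ((Groth.Agent.Lib.Helper18.HH.toAbF X).map
      (relPsi fX fX' g' h' fX₀ g₀ h₀ t J' m hann hs' hk' hs₀ hk₀ (Coh.structureModule X))),
    Category.assoc, pLift_relPsi, zero_comp]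
  apply Sheaf.hom_ext
  ext U s
  change pFun g' g₁ U.unop
    ((fK fX fX' g' h' fX₁ g₁ h₁ t J' hs' hk' hs₁ hk₁).hom.app (op U.unop) s) = 0
  unfold pFun
  rw [ιU_fK]
  exact (unitSec_eq_zero_iff g' _ _).mpr (by rw [map_sub, map_one, app_ιU, sub_self])

include hnil in
/-- **the step sequence** `0 → 1 + J'O → 1 + (J' + (t))O → O/mO → 0` -/
theorem stepShortExact (hfl : FlatMod.IsFlatOver fX (Coh.structureModule X)) :
    (ShortComplex.mk (fK fX fX' g' h' fX₁ g₁ h₁ t J' hs' hk' hs₁ hk₁)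
      (pLift fX fX' g' h' fX₁ g₁ h₁ fX₀ g₀ h₀ t J' m hann hJ'm hs' hk' hs₁ hk₁ hs₀ hk₀ htm hfl)
      (fK_pLift fX fX' g' h' fX₁ g₁ h₁ fX₀ g₀ h₀ t J' m hann hJ'm hs' hk' hs₁ hk₁ hs₀ hk₀ htm
        hfl)).ShortExact := by
  have hSE := abShortExact fX fX' g' h' fX₁ g₁ h₁ fX₀ g₀ h₀ t J' m hann hJ'm hs' hk' hs₁ hk₁ hs₀
    hk₀ hfl
  haveI : Mono ((Groth.Agent.Lib.Helper18.HH.toAbF X).map
      (relPsi fX fX' g' h' fX₀ g₀ h₀ t J' m hann hs' hk' hs₀ hk₀ (Coh.structureModule X))) :=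
    hSE.mono_f
  have hψinj : ∀ U : X.Opens, Function.Injective
      ((relPsi fX fX' g' h' fX₀ g₀ h₀ t J' m hann hs' hk' hs₀ hk₀
        (Coh.structureModule X)).val.app (op U)).hom := fun U =>
    Groth.Agent.Lib.helper7.AbSheafExact.app_injective_of_mono
      ((Groth.Agent.Lib.Helper18.HH.toAbF X).map
        (relPsi fX fX' g' h' fX₀ g₀ h₀ t J' m hann hs' hk' hs₀ hk₀ (Coh.structureModule X))) U
  apply Groth.Agent.Lib.helper7.AbSheafExact.shortExact_of_sections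
  · -- injectivity
    intro U a b hab
    apply ιU_injective g' U
    have h1 := ιU_fK fX fX' g' h' fX₁ g₁ h₁ t J' hs' hk' hs₁ hk₁ U a
    have h2 := ιU_fK fX fX' g' h' fX₁ g₁ h₁ t J' hs' hk' hs₁ hk₁ U b
    rw [← h1, ← h2]
    exact congrArg (ιU g₁ U) hab
  · -- exactness in the middle
    intro U s hs
    have h1 := pLift_relPsi_app fX fX' g' h' fX₁ g₁ h₁ fX₀ g₀ h₀ t J' m hann hJ'm hs' hk' hs₁ hk₁
      hs₀ hk₀ htm hfl U s
    have hs0 : (pLift fX fX' g' h' fX₁ g₁ h₁ fX₀ g₀ h₀ t J' m hann hJ'm hs' hk' hs₁ hk₁ hs₀ hk₀ htm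
        hfl).hom.app (op U) s = 0 := hs
    rw [hs0] at h1
    have h2 : pFun g' g₁ U s = 0 := h1.symm.trans (map_zero _)
    have h3 := (unitSec_eq_zero_iff g' _ _).mp h2
    have h4 : (g'.app U).hom (ιU g₁ U s).val = 1 := by
      have : (g'.app U).hom ((ιU g₁ U s).val - 1) = 0 := h3
      rw [map_sub, map_one, sub_eq_zero] at this
      exact this
    obtain ⟨s', hs2⟩ := exists_ιU g' U _ h4
    refine ⟨s', ?_⟩
    apply ιU_injective g₁ U
    exact (ιU_fK fX fX' g' h' fX₁ g₁ h₁ t J' hs' hk' hs₁ hk₁ U s').trans hs2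
  · -- local surjectivity
    intro U z x hx
    obtain ⟨W, hW, hxW, hWU⟩ := Opens.isBasis_iff_nbhd.mp X.isBasis_affineOpens hx
    refine ⟨W, hWU, hxW, ?_⟩
    set z' := (Coh.toAb (pushPull g₀ (Coh.structureModule X))).obj.map (homOfLE hWU).op z with hz'
    obtain ⟨n, hn⟩ := unit_app_surjective fX fX₀ g₀ h₀ hs₀ (Coh.structureModule X) W hW z'
    have hnil' : IsNilpotent (secAlg fX W t * toFn W n) :=
      (Commute.all _ _).isNilpotent_mul_right (hnil.map (secAlg fX W))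
    have hu : IsUnit (1 + secAlg fX W t * toFn W n) := hnil'.isUnit_one_add
    obtain ⟨u, hu'⟩ := hu
    have h1 : (g₁.app W).hom u.val = 1 := by
      rw [hu', map_add, map_one]
      have : (g₁.app W).hom (secAlg fX W t * toFn W n) = 0 :=
        (app_eq_zero_iff_inJ fX fX₁ g₁ h₁ _ hs₁ hk₁ W hW _).mpr
          (inJ_secAlg_mul fX _ W (Ideal.mem_sup_right (Ideal.mem_span_singleton_self t)) _)
      rw [this, add_zero]
    obtain ⟨s, hs⟩ := exists_ιU g₁ W u h1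
    refine ⟨s, ?_⟩
    apply hψinj W
    refine (pLift_relPsi_app fX fX' g' h' fX₁ g₁ h₁ fX₀ g₀ h₀ t J' m hann hJ'm hs' hk' hs₁ hk₁
      hs₀ hk₀ htm hfl W s).trans ?_
    have e1 := unit_relPsi_app fX fX' g' h' fX₀ g₀ h₀ t J' m hann hs' hk' hs₀ hk₀
      (Coh.structureModule X) W n
    rw [hn] at e1
    refine Eq.trans ?_ e1.symm
    unfold pFun
    rw [hs, hu']
    congr 1
    change ofFn W (1 + secAlg fX W t * toFn W n - 1) = ofFn W (secAlg fX W t * toFn W n)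
    rw [add_sub_cancel_left]

end step

end Groth.Agent.Lib.helper11.UnitsK
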