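import Mathlib
import Groth.Agent.Lib.Helper11.UnitsK3
import Groth.Agent.Lib.Helper11.Thick4
import Groth.Agent.Lib.Helper21.InvFibre

/-!
# Cohomology of the sheaves `1 + J O` (helper11)
-/

set_option autoImplicit false
universe u
open CategoryTheory CategoryTheory.Limits AlgebraicGeometry TopologicalSpace Opposite
open Scheme.Modules Abelian
open Groth.Agent.Lib.helper8.FlatCohBC Groth.Agent.Lib.helper21.GCCech
open Groth.Agent.Lib.helper12.PullTensor
open Groth.Agent.Lib.helper11.FibMono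
open Groth.Agent.Lib.helper11.Thick

namespace Groth.Agent.Lib.helper11.UnitsK

section coh

variable {T : TopCat.{u}}

/-- the constant sheaf `ℤ` -/
noncomputable abbrev ZZ (T : TopCat.{u}) : CohTop.Ab T :=
  (constantSheaf (Opens.grothendieckTopology T) AddCommGrpCat.{u}).obj (AddCommGrpCat.of (ULift ℤ))

theorem subsingleton_H_of_shortExact {S : ShortComplex (CohTop.Ab T)} (hS : S.ShortExact) (q : ℕ)
    (h1 : Subsingleton (Sheaf.H S.X₁ q)) (h3 : Subsingleton (Sheaf.H S.X₃ q)) :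
    Subsingleton (Sheaf.H S.X₂ q) := by
  have hex := (ShortComplex.ab_exact_iff_function_exact _).1
    (Ext.covariant_sequence_exact₂'.{u} (ZZ T) hS q)
  refine ⟨fun x y => ?_⟩
  have hx : ∀ z : Sheaf.H S.X₂ q, z = 0 := by
    intro z
    obtain ⟨w, hw⟩ := (hex z).mp (Subsingleton.elim (α := Sheaf.H S.X₃ q) _ _)
    rw [← hw, Subsingleton.elim (α := Sheaf.H S.X₁ q) w 0]
    exact map_zero _
  rw [hx x, hx y]

theorem surjective_H_of_shortExact {S : ShortComplex (CohTop.Ab T)} (hS : S.ShortExact) (q : ℕ)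
    (h1 : Subsingleton (Sheaf.H S.X₁ (q + 1))) :
    Function.Surjective (Sheaf.H.map S.g q) := by
  have hex := (ShortComplex.ab_exact_iff_function_exact _).1
    (Ext.covariant_sequence_exact₃'.{u} (ZZ T) hS q (q + 1) rfl)
  intro z
  exact (hex z).mp (Subsingleton.elim (α := Sheaf.H S.X₁ (q + 1)) _ _)

theorem subsingleton_H_of_isZero {F : CohTop.Ab T} (hF : IsZero F) (q : ℕ) :
    Subsingleton (Sheaf.H F q) := by
  refine ⟨fun x y => ?_⟩
  have hx : ∀ z : Sheaf.H F q, z = 0 := fun z => by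
    have h1 : Ext.comp z (Ext.mk₀ (𝟙 F)) (add_zero q) = z := Ext.comp_mk₀_id z
    rw [hF.eq_of_src (𝟙 F) 0, Ext.mk₀_zero, Ext.comp_zero] at h1
    exact h1.symm
  rw [hx x, hx y]

end coh

section base

variable {A B : Type u} [CommRing A] [CommRing B] [Algebra A B]
variable {X X' : Scheme.{u}} (fX : X ⟶ Spec (CommRingCat.of A))
  (fX' : X' ⟶ Spec (CommRingCat.of B)) (g' : X' ⟶ X)
  (h : IsPullback g' fX' fX (Spec.map (CommRingCat.ofHom (algebraMap A B))))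
  (hsurj : Function.Surjective (algebraMap A B))
  (hker : RingHom.ker (algebraMap A B) = ⊥)

theorem inJ_bot (W : X.Opens) (x : Γ(X, W)) (hx : InJ fX ⊥ W x) : x = 0 := by
  letI := modSecA fX (Coh.structureModule X) W
  have : ofFn W x ∈ (⊥ : Ideal A) • (⊤ : Submodule A ((Coh.structureModule X).val.obj (op W))) :=
    hx
  rw [Submodule.bot_smul] at this
  exact (Submodule.mem_bot (R := A) (M := (Coh.structureModule X).val.obj (op W))).mp this

include h hsurj hker in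
theorem eq_zero_of_app_eq_zero (U : X.Opens) (x : Γ(X, U)) (hx : (g'.app U).hom x = 0) :
    x = 0 := by
  let S := {V : X.affineOpens // V.1 ≤ U}
  have hcov : U ≤ ⨆ i : S, (i.1.1 : X.Opens) := by
    intro p hp
    obtain ⟨V, hV, hpV, hVU⟩ := Opens.isBasis_iff_nbhd.mp X.isBasis_affineOpens hp
    exact Opens.mem_iSup.mpr ⟨⟨⟨V, hV⟩, hVU⟩, hpV⟩
  apply TopCat.Sheaf.eq_of_locally_eq' X.sheaf (fun i : S => (i.1.1 : X.Opens)) U
    (fun i => homOfLE i.2) hcov
  intro i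
  change X.presheaf.map (homOfLE i.2).op x = X.presheaf.map (homOfLE i.2).op 0
  rw [map_zero]
  exact inJ_bot fX _ _
    (inJ_res_of_app_eq_zero fX fX' g' h ⊥ hsurj hker U x hx i.1.1 i.1.2 i.2)

include h hsurj hker in
theorem isZero_KU_of_ker_eq_bot : IsZero (KU g') := by
  rw [IsZero.iff_id_eq_zero]
  apply Sheaf.hom_ext
  ext U s
  change s = 0
  apply ιU_injective g' U.unop
  rw [ιU_zero]
  apply Units.ext
  have h1 : (g'.app U.unop).hom ((ιU g' U.unop s).val - 1) = 0 := by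
    rw [map_sub, map_one, app_ιU, sub_self]
  have h2 := eq_zero_of_app_eq_zero fX fX' g' h hsurj hker U.unop _ h1
  rw [sub_eq_zero] at h2
  exact h2

end base

section compare

local instance (X : Scheme.{u}) : (Coh.structureModule X).IsQuasicoherent :=
  isQuasicoherent_structureModule X

variable {A B' B₁ : Type u} [CommRing A] [CommRing B'] [CommRing B₁] [Algebra A B'] [Algebra A B₁]
variable {X X' X₁ : Scheme.{u}} (fX : X ⟶ Spec (CommRingCat.of A))
  (fX' : X' ⟶ Spec (CommRingCat.of B')) (g' : X' ⟶ X)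
  (h' : IsPullback g' fX' fX (Spec.map (CommRingCat.ofHom (algebraMap A B'))))
  (fX₁ : X₁ ⟶ Spec (CommRingCat.of B₁)) (g₁ : X₁ ⟶ X)
  (h₁ : IsPullback g₁ fX₁ fX (Spec.map (CommRingCat.ofHom (algebraMap A B₁))))
  (J' J : Ideal A) (hJ : J' ≤ J)
  (hs' : Function.Surjective (algebraMap A B'))
  (hk' : RingHom.ker (algebraMap A B') = J')
  (hs₁ : Function.Surjective (algebraMap A B₁))
  (hk₁ : RingHom.ker (algebraMap A B₁) = J)

include h' h₁ hJ hs' hk' hs₁ hk₁ in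
theorem app_eq_zero_of_le (U : X.Opens) (x : Γ(X, U)) (hx : (g'.app U).hom x = 0) :
    (g₁.app U).hom x = 0 := by
  have e1 := unit_piHom_app fX fX' g' h' fX₁ g₁ h₁ J' J hJ hs' hk' hs₁ hk₁
    (Coh.structureModule X) U (ofFn U x)
  rw [(unitSec_eq_zero_iff g' _ _).mpr hx] at e1
  have e2 : unitSec g₁ (Coh.structureModule X) U (ofFn U x) = 0 :=
    e1.symm.trans (map_zero ((piHom fX fX' g' h' fX₁ g₁ h₁ J' J hJ hs' hk' hs₁ hk₁
      (Coh.structureModule X)).val.app (op U)).hom)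
  exact (unitSec_eq_zero_iff g₁ _ _).mp e2

include h' h₁ hJ hs' hk' hs₁ hk₁ in
theorem app_eq_one_of_le (U : X.Opens) (x : Γ(X, U)) (hx : (g'.app U).hom x = 1) :
    (g₁.app U).hom x = 1 := by
  have e0 : (g'.app U).hom (x - 1) = 0 := by rw [map_sub, map_one, hx, sub_self]
  have e1 := app_eq_zero_of_le fX fX' g' h' fX₁ g₁ h₁ J' J hJ hs' hk' hs₁ hk₁ U _ e0
  rw [map_sub, map_one, sub_eq_zero] at e1
  exact e1

include h' h₁ hJ hs' hk' hs₁ hk₁ in
theorem ι_comap_eq_zero' : kernel.ι (UnitsSh.comap g') ≫ UnitsSh.comap g₁ = 0 := by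
  apply Sheaf.hom_ext
  ext U s
  have e4 : (g₁.app U.unop).hom (ιU g' U.unop s).val = 1 :=
    app_eq_one_of_le fX fX' g' h' fX₁ g₁ h₁ J' J hJ hs' hk' hs₁ hk₁ U.unop _ (app_ιU g' U.unop s)
  have e5 : Units.map (g₁.app U.unop).hom.toMonoidHom (ιU g' U.unop s) = 1 := Units.ext e4
  exact congrArg (UnitsSh.sectOfUnit (O := g₁.base _* X₁.presheaf) (U := U)) e5

/-- the inclusion `1 + J'O ⟶ 1 + JO` for `J' ≤ J` -/
noncomputable def fKle : KU g' ⟶ KU g₁ :=
  kernel.lift _ (kernel.ι (UnitsSh.comap g'))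
    (ι_comap_eq_zero' fX fX' g' h' fX₁ g₁ h₁ J' J hJ hs' hk' hs₁ hk₁)

theorem ιU_fKle (U : X.Opens) (s : (KU g').obj.obj (op U)) :
    ιU g₁ U ((fKle fX fX' g' h' fX₁ g₁ h₁ J' J hJ hs' hk' hs₁ hk₁).hom.app (op U) s) =
      ιU g' U s := by
  have := congrArg (fun φ : KU g' ⟶ UnitsSh.unitsAb X =>
      (ConcreteCategory.hom (φ.hom.app (op U))) s)
    (kernel.lift_ι (UnitsSh.comap g₁) (kernel.ι (UnitsSh.comap g'))
      (ι_comap_eq_zero' fX fX' g' h' fX₁ g₁ h₁ J' J hJ hs' hk' hs₁ hk₁))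
  exact congrArg (UnitsSh.unitOfSect (O := X.presheaf) (U := op U)) this

theorem isIso_fKle (hJ2 : J ≤ J') :
    IsIso (fKle fX fX' g' h' fX₁ g₁ h₁ J' J hJ hs' hk' hs₁ hk₁) := by
  apply Groth.Agent.Lib.helper7.AbSheafExact.isIso_of_bijective_app
  intro U
  constructor
  · intro a b hab
    apply ιU_injective g' U
    rw [← ιU_fKle fX fX' g' h' fX₁ g₁ h₁ J' J hJ hs' hk' hs₁ hk₁ U a,
      ← ιU_fKle fX fX' g' h' fX₁ g₁ h₁ J' J hJ hs' hk' hs₁ hk₁ U b]
    exact congrArg (ιU g₁ U) hab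
  · intro s
    have h1 := app_eq_one_of_le fX fX₁ g₁ h₁ fX' g' h' J J' hJ2 hs₁ hk₁ hs' hk' U _
      (app_ιU g₁ U s)
    obtain ⟨s', hs2⟩ := exists_ιU g' U _ h1
    refine ⟨s', ?_⟩
    apply ιU_injective g₁ U
    exact (ιU_fKle fX fX' g' h' fX₁ g₁ h₁ J' J hJ hs' hk' hs₁ hk₁ U s').trans hs2

theorem subsingleton_H_of_iso {T : TopCat.{u}} {F G : CohTop.Ab T} (e : F ≅ G) (q : ℕ)
    (hF : Subsingleton (Sheaf.H F q)) : Subsingleton (Sheaf.H G q) := by
  refine ⟨fun x y => ?_⟩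
  have hx : ∀ z : Sheaf.H G q, z = Sheaf.H.map e.hom q (Sheaf.H.map e.inv q z) := by
    intro z
    rw [← Sheaf.H.map_comp_apply, e.inv_hom_id, Sheaf.H.map_id_apply]
  rw [hx x, hx y, Subsingleton.elim (Sheaf.H.map e.inv q x) (Sheaf.H.map e.inv q y)]

include h' h₁ hs' hk' hs₁ hk₁ in
/-- `H^q(1 + JO)` only depends on the ideal `J` -/
theorem subsingleton_H_KU_congr (hJJ : J' = J) (q : ℕ)
    (hF : Subsingleton (Sheaf.H (KU g') q)) : Subsingleton (Sheaf.H (KU g₁) q) := by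
  haveI := isIso_fKle fX fX' g' h' fX₁ g₁ h₁ J' J hJJ.le hs' hk' hs₁ hk₁ hJJ.ge
  exact subsingleton_H_of_iso (asIso (fKle fX fX' g' h' fX₁ g₁ h₁ J' J hJJ.le hs' hk' hs₁ hk₁)) q hF

end compare

section epi

variable {A B₁ : Type u} [CommRing A] [CommRing B₁] [Algebra A B₁]
variable {X X₁ : Scheme.{u}} (fX : X ⟶ Spec (CommRingCat.of A))
  (fX₁ : X₁ ⟶ Spec (CommRingCat.of B₁)) (g₁ : X₁ ⟶ X)
  (h₁ : IsPullback g₁ fX₁ fX (Spec.map (CommRingCat.ofHom (algebraMap A B₁))))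
  (J : Ideal A)
  (hs₁ : Function.Surjective (algebraMap A B₁))
  (hk₁ : RingHom.ker (algebraMap A B₁) = J)
  (hnil : ∀ a ∈ J, IsNilpotent a)

include h₁ hs₁ hk₁ hnil in
/-- units lift along a nilpotent thickening: `O_X^× ⟶ g_* O_{X₁}^×` is an epimorphism -/
theorem epi_comap : Epi (UnitsSh.comap g₁) := by
  apply Groth.Agent.Lib.helper7.AbSheafExact.epi_of_locally_surjective
  intro U s x hx
  obtain ⟨W, hW, hxW, hWU⟩ := Opens.isBasis_iff_nbhd.mp X.isBasis_affineOpens hx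
  refine ⟨W, hWU, hxW, ?_⟩
  set s' := ((CohTop.push g₁.base).obj (UnitsSh.unitsAb X₁)).obj.map (homOfLE hWU).op s with hs'
  let v : (Γ(X₁, g₁ ⁻¹ᵁ W))ˣ :=
    UnitsSh.unitOfSect (O := g₁.base _* X₁.presheaf) (U := op W) s'
  obtain ⟨a, ha⟩ := app_surjective_affine fX fX₁ g₁ h₁ hs₁ W hW v.val
  obtain ⟨b, hb⟩ := app_surjective_affine fX fX₁ g₁ h₁ hs₁ W hW v⁻¹.val
  have h3 : (g₁.app W).hom (a * b - 1) = 0 := by
    rw [map_sub, map_mul, map_one, ha, hb, Units.mul_inv, sub_self]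
  have h4 : IsNilpotent (a * b - 1) :=
    isNilpotent_of_inJ fX J hnil W ((app_eq_zero_iff_inJ fX fX₁ g₁ h₁ J hs₁ hk₁ W hW _).mp h3)
  have h5 : IsUnit (a * b) := by
    have := h4.isUnit_one_add
    rwa [add_sub_cancel] at this
  have h6 : IsUnit a := isUnit_of_mul_isUnit_left h5
  obtain ⟨A', hA'⟩ := h6
  refine ⟨UnitsSh.sectOfUnit (O := X.presheaf) (U := op W) A', ?_⟩
  have h7 : Units.map (g₁.app W).hom.toMonoidHom A' = v := by
    apply Units.ext
    change (g₁.app W).hom A'.val = v.val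
    rw [hA', ha]
  exact congrArg (UnitsSh.sectOfUnit (O := g₁.base _* X₁.presheaf) (U := op W)) h7

include h₁ hs₁ hk₁ hnil in
/-- `0 → 1 + JO → O^× → g_* O_{X₁}^× → 0` -/
theorem unitsShortExact :
    (ShortComplex.mk (kernel.ι (UnitsSh.comap g₁)) (UnitsSh.comap g₁)
      (kernel.condition _)).ShortExact := by
  haveI := epi_comap fX fX₁ g₁ h₁ J hs₁ hk₁ hnil
  exact { exact := ShortComplex.exact_of_f_is_kernel _ (kernelIsKernel (UnitsSh.comap g₁)) }

include h₁ hs₁ hk₁ hnil in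
/-- `H^q(X, O^×) → H^q(X, g_* O_{X₁}^×)` is surjective when `H^{q+1}(1 + JO) = 0` -/
theorem surjective_H_comap (q : ℕ) (hv : Subsingleton (Sheaf.H (KU g₁) (q + 1))) :
    Function.Surjective (Sheaf.H.map (UnitsSh.comap g₁) q) :=
  surjective_H_of_shortExact (unitsShortExact fX fX₁ g₁ h₁ J hs₁ hk₁ hnil) q hv

end epi

end Groth.Agent.Lib.helper11.UnitsK
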