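import Mathlib
import Groth.Agent.Lib.Helper11.UnitsK4

/-!
# Vanishing of `H^q(1 + J O)` over an Artinian local ring (helper11)
-/

set_option autoImplicit false
universe u
open CategoryTheory CategoryTheory.Limits AlgebraicGeometry TopologicalSpace Opposite
open Scheme.Modules Abelian
open Groth.Agent.Lib.helper8.FlatCohBC Groth.Agent.Lib.helper21.GCCech
open Groth.Agent.Lib.helper12.PullTensor
open Groth.Agent.Lib.helper11.FibMono
open Groth.Agent.Lib.helper11.Thick

namespace Groth.Agent.Lib.helper11.UnitsK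

section stepcoh

local instance (X : Scheme.{u}) : (Coh.structureModule X).IsQuasicoherent :=
  isQuasicoherent_structureModule X

variable {A B' B₁ B₀ : Type u} [CommRing A] [CommRing B'] [CommRing B₁] [CommRing B₀]
  [Algebra A B'] [Algebra A B₁] [Algebra A B₀]
variable {X X' X₁ X₀ : Scheme.{u}} (fX : X ⟶ Spec (CommRingCat.of A))
  (fX' : X' ⟶ Spec (CommRingCat.of B')) (g' : X' ⟶ X)
  (h' : IsPullback g' fX' fX (Spec.map (CommRingCat.ofHom (algebraMap A B'))))
  (fX₁ : X₁ ⟶ Spec (CommRingCat.of B₁)) (g₁ : X₁ ⟶ X)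
  (h₁ : IsPullback g₁ fX₁ fX (Spec.map (CommRingCat.ofHom (algebraMap A B₁))))
  (fX₀ : X₀ ⟶ Spec (CommRingCat.of B₀)) (g₀ : X₀ ⟶ X)
  (h₀ : IsPullback g₀ fX₀ fX (Spec.map (CommRingCat.ofHom (algebraMap A B₀))))
  (t : A) (J' m : Ideal A) (hann : ∀ a : A, a * t ∈ J' ↔ a ∈ m) (hJ'm : J' ≤ m)
  (hs' : Function.Surjective (algebraMap A B'))
  (hk' : RingHom.ker (algebraMap A B') = J')
  (hs₁ : Function.Surjective (algebraMap A B₁))
  (hk₁ : RingHom.ker (algebraMap A B₁) = J' ⊔ Ideal.span {t})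
  (hs₀ : Function.Surjective (algebraMap A B₀))
  (hk₀ : RingHom.ker (algebraMap A B₀) = m)
  (htm : t ∈ m) (hnil : IsNilpotent t)

include h₀ in
theorem subsingleton_HH_pushPull_structure (q : ℕ)
    (hv : Subsingleton (Coh.HH X₀ (Coh.structureModule X₀) q)) :
    Subsingleton (Coh.HH X (pushPull g₀ (Coh.structureModule X)) q) :=
  subsingleton_HH_pushPull fX fX₀ g₀ h₀ _ q
    (Groth.Agent.Lib.helper21.InvFibre.subsingleton_HH_of_iso
      (Groth.Agent.Lib.helper11.InvMod.pullbackUnitIso g₀).symm q hv)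

include h' h₁ h₀ hann hJ'm hs' hk' hs₁ hk₁ hs₀ hk₀ htm hnil in
/-- the step: `H^q(1 + J'O) = 0` and `H^q(X₀, O) = 0` imply `H^q(1 + (J' + (t))O) = 0` -/
theorem subsingleton_H_KU_step (hfl : FlatMod.IsFlatOver fX (Coh.structureModule X)) (q : ℕ)
    (hv0 : Subsingleton (Coh.HH X₀ (Coh.structureModule X₀) q))
    (hv' : Subsingleton (Sheaf.H (KU g') q)) : Subsingleton (Sheaf.H (KU g₁) q) :=
  subsingleton_H_of_shortExact
    (stepShortExact fX fX' g' h' fX₁ g₁ h₁ fX₀ g₀ h₀ t J' m hann hJ'm hs' hk' hs₁ hk₁ hs₀ hk₀ htm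
      hnil hfl) q hv' (subsingleton_HH_pushPull_structure fX fX₀ g₀ h₀ q hv0)

end stepcoh

section artinian

variable {A B₀ : Type u} [CommRing A] [IsLocalRing A] [IsArtinianRing A] [CommRing B₀]
  [Algebra A B₀]
variable {X X₀ : Scheme.{u}} (fX : X ⟶ Spec (CommRingCat.of A))
  (fX₀ : X₀ ⟶ Spec (CommRingCat.of B₀)) (g₀ : X₀ ⟶ X)
  (h₀ : IsPullback g₀ fX₀ fX (Spec.map (CommRingCat.ofHom (algebraMap A B₀))))
  (hs₀ : Function.Surjective (algebraMap A B₀))
  (hk₀ : RingHom.ker (algebraMap A B₀) = IsLocalRing.maximalIdeal A)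

theorem isNilpotent_of_mem_maximalIdeal (a : A) (ha : a ∈ IsLocalRing.maximalIdeal A) :
    IsNilpotent a := by
  obtain ⟨n, hn⟩ := (isArtinianRing_iff_isNilpotent_maximalIdeal A).mp inferInstance
  refine ⟨n, ?_⟩
  have := Ideal.pow_mem_pow ha n
  rw [hn] at this
  exact this

include h₀ hs₀ hk₀ in
/-- over an Artinian local ring, `H^q(X₀, O) = 0` implies `H^q(X, 1 + JO) = 0` for every `J ≤ m` -/
theorem subsingleton_H_KU_canonical (hfl : FlatMod.IsFlatOver fX (Coh.structureModule X)) (q : ℕ)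
    (hv0 : Subsingleton (Coh.HH X₀ (Coh.structureModule X₀) q))
    (J : Ideal A) (hJm : J ≤ IsLocalRing.maximalIdeal A) :
    Subsingleton (Sheaf.H
      (KU (pullback.fst fX (Spec.map (CommRingCat.ofHom (algebraMap A (A ⧸ J)))))) q) := by
  have hwf : WellFounded ((· < ·) : Ideal A → Ideal A → Prop) := wellFounded_lt
  induction J using hwf.induction with
  | _ J ih =>
    have hcan : ∀ I : Ideal A, IsPullback
        (pullback.fst fX (Spec.map (CommRingCat.ofHom (algebraMap A (A ⧸ I)))))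
        (pullback.snd fX (Spec.map (CommRingCat.ofHom (algebraMap A (A ⧸ I))))) fX
        (Spec.map (CommRingCat.ofHom (algebraMap A (A ⧸ I)))) :=
      fun I => IsPullback.of_hasPullback _ _
    have hsI : ∀ I : Ideal A, Function.Surjective (algebraMap A (A ⧸ I)) :=
      fun I => Ideal.Quotient.mk_surjective
    have hkI : ∀ I : Ideal A, RingHom.ker (algebraMap A (A ⧸ I)) = I := fun I => Ideal.mk_ker
    by_cases hJ : J = ⊥
    · subst hJ
      exact subsingleton_H_of_isZero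
        (isZero_KU_of_ker_eq_bot fX _ _ (hcan ⊥) (hsI ⊥) (hkI ⊥)) q
    · obtain ⟨J', t, hlt, hJeq, hann⟩ := exists_covBy_ideal J hJ
      have htJ : t ∈ J := by
        rw [hJeq]
        exact Ideal.mem_sup_right (Ideal.mem_span_singleton_self t)
      have hv' := ih J' hlt (hlt.le.trans hJm)
      exact subsingleton_H_KU_step fX _ _ (hcan J') _ _ (hcan J) fX₀ g₀ h₀ t J' _ hann
        (hlt.le.trans hJm) (hsI J') (hkI J') (hsI J) ((hkI J).trans hJeq) hs₀ hk₀ (hJm htJ)
        (isNilpotent_of_mem_maximalIdeal t (hJm htJ)) hfl q hv0 hv'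

end artinian

end Groth.Agent.Lib.helper11.UnitsK
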