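import Groth.Agent.Lib.Helper11.PullUnit

set_option autoImplicit false
universe u
open CategoryTheory CategoryTheory.Limits AlgebraicGeometry TopologicalSpace Opposite
open Scheme.Modules
open Groth.Agent.Lib.helper11.IsoLocus Groth.Agent.Lib.helper11.InvMod
open Groth.Agent.Lib.helper11.InvPullback Groth.Agent.Lib.helper11.ParaFLib

namespace Groth.Agent.Lib.helper11.PullUnit

section abstract

universe v₁ v₂ v₃ v₄ u₁ u₂ u₃ u₄

variable {𝒮 : Type u₁} {𝒳 : Type u₂} {𝒱 : Type u₃} {𝒰 : Type u₄}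
  [Category.{v₁} 𝒮] [Category.{v₂} 𝒳] [Category.{v₃} 𝒱] [Category.{v₄} 𝒰]

/-- base change of counits (dual of `isIso_map_unit_of_conjugate`) -/
theorem isIso_map_counit_of_conjugate {F : 𝒮 ⥤ 𝒳} {G : 𝒳 ⥤ 𝒮} (adjF : F ⊣ G)
    {F' : 𝒱 ⥤ 𝒰} {G' : 𝒰 ⥤ 𝒱} (adjF' : F' ⊣ G')
    {J : 𝒮 ⥤ 𝒱} {Js : 𝒱 ⥤ 𝒮} (adjJ : J ⊣ Js)
    {J' : 𝒳 ⥤ 𝒰} {Js' : 𝒰 ⥤ 𝒳} (adjJ' : J' ⊣ Js')
    (ρ : Js' ⋙ G ≅ G' ⋙ Js) [IsIso adjJ.counit] [IsIso adjJ'.counit] (L : 𝒳)
    (h1 : IsIso (J.map (G.map (adjJ'.unit.app L))))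
    (h2 : IsIso (adjF'.counit.app (J'.obj L))) :
    IsIso (J'.map (adjF.counit.app L)) := by
  let adj₁ := adjF.comp adjJ'
  let adj₂ := adjJ.comp adjF'
  let α := (conjugateEquiv adj₁ adj₂).symm ρ.hom
  have hα : IsIso α := inferInstance
  have key := conjugateEquiv_counit_symm adj₁ adj₂ ρ.hom (J'.obj L)
  have e1 : adj₁.counit.app (J'.obj L) =
      J'.map (adjF.counit.app (Js'.obj (J'.obj L))) ≫ adjJ'.counit.app (J'.obj L) :=
    Adjunction.comp_counit_app _ _ _
  have e2 : adj₂.counit.app (J'.obj L) =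
      F'.map (adjJ.counit.app (G'.obj (J'.obj L))) ≫ adjF'.counit.app (J'.obj L) :=
    Adjunction.comp_counit_app _ _ _
  -- Step A, B
  have hA : IsIso (adj₂.counit.app (J'.obj L)) := by rw [e2]; infer_instance
  have hB : IsIso (adj₁.counit.app (J'.obj L)) := by
    have h3 : IsIso (α.app ((Js' ⋙ G).obj (J'.obj L)) ≫ adj₁.counit.app (J'.obj L)) := by
      have : α.app ((Js' ⋙ G).obj (J'.obj L)) ≫ adj₁.counit.app (J'.obj L) =
          (J ⋙ F').map (ρ.hom.app (J'.obj L)) ≫ adj₂.counit.app (J'.obj L) := key.symm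
      rw [this]; infer_instance
    exact IsIso.of_isIso_comp_left (α.app ((Js' ⋙ G).obj (J'.obj L))) _
  -- Step C
  have hC : IsIso (J'.map (adjF.counit.app (Js'.obj (J'.obj L)))) := by
    rw [e1] at hB
    exact IsIso.of_isIso_comp_right _ (adjJ'.counit.app (J'.obj L))
  -- Step D
  have hu : IsIso (J'.map (adjJ'.unit.app L)) := by
    have h6 := adjJ'.left_triangle_components L
    have h7 : J'.map (adjJ'.unit.app L) = inv (adjJ'.counit.app (J'.obj L)) := by
      rw [← cancel_mono (adjJ'.counit.app (J'.obj L)), IsIso.inv_hom_id]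
      exact h6
    rw [h7]; infer_instance
  have hFG : IsIso ((F ⋙ J').map (G.map (adjJ'.unit.app L))) := by
    have h8 : IsIso ((J ⋙ F').map (G.map (adjJ'.unit.app L))) := by
      show IsIso (F'.map (J.map (G.map (adjJ'.unit.app L))))
      infer_instance
    exact (NatIso.isIso_map_iff (asIso α) _).mp h8
  have hnat := adjF.counit.naturality (adjJ'.unit.app L)
  have hnat' := congrArg (fun φ => J'.map φ) hnat
  simp only [Functor.map_comp, Functor.comp_map, Functor.id_map] at hnat'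
  have h9 : IsIso (J'.map (adjF.counit.app L) ≫ J'.map (adjJ'.unit.app L)) := by
    have h10 : J'.map (adjF.counit.app L) ≫ J'.map (adjJ'.unit.app L) =
        J'.map (F.map (G.map (adjJ'.unit.app L))) ≫
          J'.map (adjF.counit.app (Js'.obj (J'.obj L))) := hnat'.symm
    rw [h10]
    have : IsIso (J'.map (F.map (G.map (adjJ'.unit.app L)))) := hFG
    infer_instance
  exact IsIso.of_isIso_comp_right _ (J'.map (adjJ'.unit.app L))

end abstract


variable {X S : Scheme.{u}}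

/-- `j'_* ⋙ f_* ≅ (f|_V)_* ⋙ j_*` -/
noncomputable def pushRho (f : X ⟶ S) (V : S.Opens) :
    pushforward (f ⁻¹ᵁ V).ι ⋙ pushforward f ≅ pushforward (f ∣_ V) ⋙ pushforward V.ι :=
  pushforwardComp _ _ ≪≫ pushforwardCongr (morphismRestrict_ι f V).symm ≪≫
    (pushforwardComp _ _).symm

theorem isIso_restrict_push_unit (f : X ⟶ S) (V : S.Opens) (M : X.Modules) :
    IsIso ((restrictFunctor V.ι).map ((pushforward f).map
      ((restrictAdjunction (f ⁻¹ᵁ V).ι).unit.app M))) := by
  rw [Hom.isIso_iff_isIso_app]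
  intro W
  rw [restrictFunctor_map_app, pushforward_map_app, restrictAdjunction_unit_app_app]
  refine isIso_map_of_thin' _ _ (homOfLE ?_)
  rw [Scheme.Hom.image_preimage_eq_opensRange_inf, Scheme.Opens.opensRange_ι]
  refine le_inf ?_ le_rfl
  rintro x ⟨w, -, hw⟩
  show f x ∈ V
  rw [← hw]
  exact w.2

/-- base change to opens for direct images: `(f_* M)|_V ≅ (f|_V)_* (M|_{f⁻¹V})` -/
noncomputable def restrictPushforwardIso (f : X ⟶ S) (V : S.Opens) (M : X.Modules) :
    ((pushforward f).obj M).restrict V.ι ≅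
      (pushforward (f ∣_ V)).obj (M.restrict (f ⁻¹ᵁ V).ι) :=
  have := isIso_restrict_push_unit f V M
  asIso ((restrictFunctor V.ι).map ((pushforward f).map
      ((restrictAdjunction (f ⁻¹ᵁ V).ι).unit.app M))) ≪≫
    (restrictFunctor V.ι).mapIso ((pushRho f V).app _) ≪≫
    asIso ((restrictAdjunction V.ι).counit.app _)

theorem isIso_restrict_counit (f : X ⟶ S) (V : S.Opens) (L : X.Modules)
    (h : IsIso ((pullbackPushforwardAdjunction (f ∣_ V)).counit.app (L.restrict (f ⁻¹ᵁ V).ι))) :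
    IsIso ((restrictFunctor (f ⁻¹ᵁ V).ι).map ((pullbackPushforwardAdjunction f).counit.app L)) :=
  isIso_map_counit_of_conjugate (pullbackPushforwardAdjunction f)
    (pullbackPushforwardAdjunction (f ∣_ V)) (restrictAdjunction V.ι)
    (restrictAdjunction (f ⁻¹ᵁ V).ι) (pushRho f V) L (isIso_restrict_push_unit f V L) h

/-- the counit of `f^* ⊣ f_*` is invertible at the structure sheaf when `O_S = f_* O_X` -/
theorem isIso_counit_structureModule (f : X ⟶ S)
    (hf : ∀ U : S.Opens, Function.Bijective (f.app U)) :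
    IsIso ((pullbackPushforwardAdjunction f).counit.app (Coh.structureModule X)) := by
  have h1 := isIso_counit_of_isIso_unit (pullbackPushforwardAdjunction f) _
    (isIso_unit_structureModule f hf)
  exact isIso_app_of_iso (pushforward f ⋙ pullback f) (𝟭 _)
    (pullbackPushforwardAdjunction f).counit (pullbackUnitIso f) h1

/-- if `O_S = f_* O_X` and `L` is trivial locally over `S`, then `f_* L` is invertible and
`f^* f_* L ⟶ L` is an isomorphism -/
theorem isInvertible_pushforward_and_isIso_counit (f : X ⟶ S)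
    (hf : ∀ U : S.Opens, Function.Bijective (f.app U)) (L : X.Modules)
    (hloc : ∀ s : S, ∃ U : S.Opens, s ∈ U ∧
      Nonempty (L.restrict (f ⁻¹ᵁ U).ι ≅ Coh.structureModule (↑(f ⁻¹ᵁ U) : Scheme.{u}))) :
    PicF.IsInvertible ((pushforward f).obj L) ∧
      IsIso ((pullbackPushforwardAdjunction f).counit.app L) := by
  constructor
  · intro s
    obtain ⟨U, hsU, ⟨e⟩⟩ := hloc s
    refine ⟨U, hsU, ⟨?_⟩⟩
    have h1 := isIso_unitToPush (f ∣_ U) (bijective_app_morphismRestrict f hf U)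
    exact restrictPushforwardIso f U L ≪≫ (pushforward (f ∣_ U)).mapIso e ≪≫
      (asIso (unitToPush (f ∣_ U))).symm
  · refine isIso_of_forall_restrict _ fun x => ?_
    obtain ⟨U, hsU, ⟨e⟩⟩ := hloc (f x)
    refine ⟨f ⁻¹ᵁ U, hsU, isIso_restrict_counit f U L ?_⟩
    exact isIso_app_of_iso (pushforward (f ∣_ U) ⋙ pullback (f ∣_ U)) (𝟭 _)
      (pullbackPushforwardAdjunction (f ∣_ U)).counit e.symm
      (isIso_counit_structureModule (f ∣_ U) (bijective_app_morphismRestrict f hf U))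

end Groth.Agent.Lib.helper11.PullUnit
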