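import Mathlib
import Groth.Agent.Lib.Helper11.AmpOver
import Groth.Agent.Lib.Helper9.AbsApprox32

/-!
# An invertible module ample on a fibre of a proper morphism is relatively ample near the fibre
(helper11; EGA III 4.7.1 / Stacks 0D3D without Noetherian or finite presentation hypotheses)
-/

set_option autoImplicit false
set_option linter.style.haveILetI false
universe u
open CategoryTheory CategoryTheory.Limits AlgebraicGeometry TopologicalSpace Topology

namespace Groth.Agent.Lib.helper11.RelAmpLocus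

open Scheme.Modules Groth.Agent.Lib.helper11.HomDescPP Groth.Agent.Lib.helper11.InvMod
  Groth.Agent.Lib.helper12.AmplePow Groth.Agent.Lib.helper12.AmpleLocal
  Groth.Agent.Lib.helper5.ConsFibre Groth.Agent.Lib.helper5.ConsApprox
  Groth.Agent.Lib.helper11.AmpleLim

/-- proper, finitely presented, affine base -/
theorem exists_nhd_ampOver_of_fp {X Y : Scheme.{u}} [IsAffine Y] (f : X ⟶ Y)
    [IsProper f] [LocallyOfFinitePresentation f] (L : X.Modules) (hL : PicF.IsInvertible L)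
    (y : Y) (hy : y ∈ locA f L) : ∃ V : Y.Opens, y ∈ V ∧ AmpOver f L V := by
  haveI : LocallyOfFinitePresentation (f ≫ 𝟙 Y) := by rw [Category.comp_id]; infer_instance
  haveI : QuasiCompact (f ≫ 𝟙 Y) := by rw [Category.comp_id]; infer_instance
  haveI : QuasiSeparated (f ≫ 𝟙 Y) := by rw [Category.comp_id]; infer_instance
  obtain ⟨S₀, X₀, Y₀, hS₀, b, f₀, g₀, eX, eY, L₀, h1, h2, h3, h4, h5, h6, sqY, sqX, hinv, ⟨iso⟩,
    hprop⟩ := exists_noetherian_model_inv f (𝟙 Y) L hL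
  haveI := hS₀; haveI := h1; haveI := h2
  haveI : IsProper f₀ := hprop inferInstance
  haveI : IsNoetherian Y₀ := isNoetherian_of_lft g₀
  have hpre : locA f L = eY ⁻¹' locA f₀ L₀ := locA_eq_preimage hinv sqX iso
  let W₀ : Y₀.Opens := ⟨locA f₀ L₀, isOpen_locA f₀ L₀ hinv⟩
  have hR := isRelAmple_restrict_of_le_locA f₀ L₀ hinv W₀ (fun y hy => hy)
  let V : Y.Opens := eY ⁻¹ᵁ W₀
  have hyV : y ∈ V := by
    have : y ∈ eY ⁻¹' locA f₀ L₀ := by rw [← hpre]; exact hy
    exact this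
  refine ⟨V, hyV, ?_⟩
  have hψ : (eY ∣_ W₀) ≫ W₀.ι = V.ι ≫ eY := morphismRestrict_ι eY W₀
  have sq₂ : IsPullback ((f ⁻¹ᵁ V).ι ≫ eX) (f ∣_ V) f₀ (V.ι ≫ eY) :=
    (isPullback_morphismRestrict f V).flip.paste_horiz sqX
  obtain ⟨e, he, sq⟩ := exists_isPullback_of_comp hψ (isPullback_morphismRestrict f₀ W₀).flip sq₂
  haveI : QuasiCompact (f₀ ∣_ W₀) := inferInstance
  have h7 := isRelAmple_of_isPullback sq hR
  rw [← isRelAmple_restrict_iff_ampOver]
  refine Groth.Agent.Lib.helper12.AmpleCoprod.isRelAmple_of_iso _ ?_ h7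
  exact (Scheme.Modules.pullback e).mapIso ((restrictFunctorIsoPullback (f₀ ⁻¹ᵁ W₀).ι).app L₀) ≪≫
    (ηcomp e (f₀ ⁻¹ᵁ W₀).ι _ he).app L₀ ≪≫
    ((ηcomp (f ⁻¹ᵁ V).ι eX _ rfl).app L₀).symm ≪≫
    (Scheme.Modules.pullback (f ⁻¹ᵁ V).ι).mapIso iso.symm ≪≫
    ((restrictFunctorIsoPullback (f ⁻¹ᵁ V).ι).app L).symm

/-- proper, affine base: reduction to the finitely presented case by approximation -/
theorem exists_nhd_ampOver_of_isAffine {X Y : Scheme.{u}} [IsAffine Y] (f : X ⟶ Y) [IsProper f]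
    (L : X.Modules) (hL : PicF.IsInvertible L) (y : Y) (hy : y ∈ locA f L) :
    ∃ V : Y.Opens, y ∈ V ∧ AmpOver f L V := by
  obtain ⟨I, hI1, hI2, hI3, D, t₀, c, hc, e, h1₀, h2₀, h3, h4⟩ :=
    Groth.Agent.Lib.helper9.AbsApprox.exists_proper_approx f
  let t : ∀ i : Iᵒᵖ, D.obj i ⟶ Y := fun i => t₀.app i
  have h1 : ∀ i, c.π.app i ≫ t i = e.hom ≫ f := h1₀
  have h2 : ∀ i, IsProper (t i) ∧ LocallyOfFinitePresentation (t i) := h2₀
  have hnat : ∀ {i j : Iᵒᵖ} (a : i ⟶ j), D.map a ≫ t j = t i := fun a => by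
    have := t₀.naturality a
    rw [Functor.const_obj_map] at this
    exact this.trans (Category.comp_id _)
  haveI hD : ∀ (i j : Iᵒᵖ) (a : i ⟶ j), IsAffineHom (D.map a) := fun i j a => by
    haveI := h3 i j a; infer_instance
  haveI := hI2
  haveI := hI3
  haveI : IsFiltered I := isFiltered_of_directed_le_nonempty I
  haveI : IsCofiltered Iᵒᵖ := inferInstance
  haveI hcp : ∀ i, CompactSpace (D.obj i) := fun i => by
    haveI := (h2 i).1
    exact QuasiCompact.compactSpace_of_compactSpace (t i)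
  haveI hqs : ∀ i, QuasiSeparatedSpace (D.obj i) := fun i => by
    haveI := (h2 i).1
    exact quasiSeparatedSpace_of_quasiSeparated (t i)
  obtain ⟨i₀'⟩ := hI3
  let i₀ : Iᵒᵖ := Opposite.op i₀'
  let L' := (Scheme.Modules.pullback e.hom).obj L
  have hL' : PicF.IsInvertible L' := isInvertible_pullback _ hL
  obtain ⟨k, -, Lk, hLk, ⟨isok⟩⟩ := exists_invertible_stage D c hc i₀ L' hL'
  -- the fibre
  let σ := Y.fromSpecResidueField y
  let g : pullback (t k) σ ⟶ D.obj k := pullback.fst (t k) σ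
  let N := (Scheme.Modules.pullback g).obj Lk
  have hN : PicF.IsInvertible N := isInvertible_pullback _ hLk
  haveI : IsProper (t k) := (h2 k).1
  haveI : CompactSpace ↥(pullback (t k) σ) :=
    QuasiCompact.compactSpace_of_compactSpace (pullback.snd (t k) σ)
  haveI : QuasiSeparatedSpace ↥(pullback (t k) σ) :=
    quasiSeparatedSpace_of_quasiSeparated (pullback.snd (t k) σ)
  have hfk : c.π.app k ≫ t k = e.hom ≫ f := h1 k
  have sq1 : IsPullback (pullback.fst (c.π.app k) g ≫ e.hom)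
      (pullback.snd (c.π.app k) g ≫ pullback.snd (t k) σ) f σ := by
    have s1 := ((IsPullback.of_hasPullback (c.π.app k) g).flip.paste_horiz
      (IsPullback.of_hasPullback (t k) σ).flip).flip
    rw [hfk] at s1
    have s2 : IsPullback e.hom (e.hom ≫ f) f (𝟙 Y) := IsPullback.of_horiz_isIso ⟨by simp⟩
    have s3 := s1.paste_horiz s2
    rwa [Category.comp_id] at s3
  have hamp : CohB1.IsAmple ((Scheme.Modules.pullback (pullback.snd (c.π.app k) g)).obj N) := by
    have h0 := (isAmple_pullback_iff_of_isPullback sq1 L).mpr hy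
    refine isAmple_of_iso ?_ h0
    exact ((ηcomp (pullback.fst (c.π.app k) g) e.hom _ rfl).app L).symm ≪≫
      (Scheme.Modules.pullback _).mapIso isok.symm ≪≫
      (ηcomp (pullback.fst (c.π.app k) g) (c.π.app k) (pullback.snd (c.π.app k) g ≫ g)
        pullback.condition).app Lk ≪≫
      ((ηcomp (pullback.snd (c.π.app k) g) g _ rfl).app Lk).symm
  obtain ⟨j, φ, hj⟩ := exists_isAmple_stage_bc D c hc k g N hN hamp
  -- the stage `j`
  let Lj := (Scheme.Modules.pullback (D.map φ)).obj Lk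
  have hLj : PicF.IsInvertible Lj := isInvertible_pullback _ hLk
  haveI : IsProper (t j) := (h2 j).1
  haveI : LocallyOfFinitePresentation (t j) := (h2 j).2
  have htj : D.map φ ≫ t k = t j := hnat φ
  have sq2 : IsPullback (pullback.fst (D.map φ) g)
      (pullback.snd (D.map φ) g ≫ pullback.snd (t k) σ) (t j) σ := by
    have s1 := ((IsPullback.of_hasPullback (D.map φ) g).flip.paste_horiz
      (IsPullback.of_hasPullback (t k) σ).flip).flip
    rwa [htj] at s1
  have hyj : y ∈ locA (t j) Lj := by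
    show CohB1.IsAmple ((Scheme.Modules.pullback (pullback.fst (t j) σ)).obj Lj)
    rw [← isAmple_pullback_iff_of_isPullback sq2 Lj]
    refine isAmple_of_iso ?_ hj
    exact (ηcomp (pullback.snd (D.map φ) g) g _ rfl).app Lk ≪≫
      ((ηcomp (pullback.fst (D.map φ) g) (D.map φ) (pullback.snd (D.map φ) g ≫ g)
        pullback.condition).app Lk).symm
  obtain ⟨V, hyV, hV⟩ := exists_nhd_ampOver_of_fp (t j) Lj hLj y hyj
  refine ⟨V, hyV, ?_⟩
  -- transfer to `X`
  let h : X ⟶ D.obj j := e.inv ≫ c.π.app j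
  haveI : IsClosedImmersion (c.π.app j) := h4 j
  haveI : IsAffineHom h := inferInstance
  have hf : h ≫ t j = f := by
    show (e.inv ≫ c.π.app j) ≫ t j = f
    rw [Category.assoc, h1 j, Iso.inv_hom_id_assoc]
  have h8 := AmpOver.pullback_of_isAffineHom h hV
  rw [hf] at h8
  refine h8.of_iso ?_
  exact ((ηcomp e.inv (c.π.app j) h rfl).app Lj).symm ≪≫
    (Scheme.Modules.pullback e.inv).mapIso
      ((ηcomp (c.π.app j) (D.map φ) (c.π.app k) (c.w φ)).app Lk ≪≫ isok) ≪≫
    (ηcomp e.inv e.hom (𝟙 X) e.inv_hom_id).app L ≪≫ (pullbackId (X := X)).app L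

/-- **EGA III 4.7.1 / Stacks 0D3D**: `f` proper, `L` invertible and ample on the fibre `X_y`; then `L` is
relatively ample over an open neighbourhood of `y`. -/
theorem exists_nhd_isRelAmple {X Y : Scheme.{u}} (f : X ⟶ Y) [IsProper f] (L : X.Modules)
    (hL : PicF.IsInvertible L) (y : Y)
    (hy : CohB1.IsAmple ((Scheme.Modules.pullback (f.fiberι y)).obj L)) :
    ∃ V : Y.Opens, y ∈ V ∧ RelAmple.IsRelAmple (f ∣_ V) (L.restrict (f ⁻¹ᵁ V).ι) := by
  obtain ⟨W, hW, hyW⟩ : ∃ W : Y.Opens, IsAffineOpen W ∧ y ∈ W := by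
    obtain ⟨W, hW, hyW, -⟩ := TopologicalSpace.Opens.isBasis_iff_nbhd.mp
      Y.isBasis_affineOpens (TopologicalSpace.Opens.mem_top y)
    exact ⟨W, hW, hyW⟩
  haveI : IsAffine (W : Scheme.{u}) := hW
  have hyW' : (⟨y, hyW⟩ : W) ∈ locA (f ∣_ W) (L.restrict (f ⁻¹ᵁ W).ι) := by
    rw [locA_restrict hL W]
    exact hy
  obtain ⟨V', hyV', hV'⟩ := exists_nhd_ampOver_of_isAffine (f ∣_ W) _
    (isInvertible_restrict _ hL) ⟨y, hyW⟩ hyW'
  refine ⟨W.ι ''ᵁ V', ⟨⟨y, hyW⟩, hyV', rfl⟩, ?_⟩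
  rw [isRelAmple_restrict_iff_ampOver]
  exact AmpOver.image f L W V' hV'

end Groth.Agent.Lib.helper11.RelAmpLocus
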