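import Mathlib
import Groth.Agent.Lib.Helper8.PullbackUnit
import Groth.Agent.Lib.Helper7.ThickAff1

/-!
# Base change maps: composition, cancellation, generators and syzygies, adic limits (helper11)
-/

set_option autoImplicit false
universe u
open Groth.Agent.Lib.helper8.PullbackUnit

namespace Groth.Agent.Lib.helper11.BCLim

section comp

variable {R R' R'' : Type u} [CommRing R] [CommRing R'] [CommRing R''] {φ : R →+* R'}
  {ψ : R' →+* R''} {N P Q : Type u} [AddCommGroup N] [Module R N] [AddCommGroup P] [Module R' P]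
  [AddCommGroup Q] [Module R'' Q] {k : N →+ P} {l : P →+ Q}

/-- base change maps compose -/
theorem IsBC.comp (hk : IsBC φ k) (hl : IsBC ψ l) : IsBC (ψ.comp φ) (l.comp k) := by
  constructor
  · intro r n
    change l (k (r • n)) = ψ (φ r) • l (k n)
    rw [hk.map_smul, hl.map_smul]
  · intro T _ _ h hh
    letI : Module R' T := Module.compHom T ψ
    obtain ⟨h₁, hh₁, hu₁⟩ := hk.existsUnique_lift T h (fun r n => hh r n)
    obtain ⟨h₂, hh₂, hu₂⟩ := hl.existsUnique_lift T h₁.toAddMonoidHom
      (fun r p => h₁.map_smul r p)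
    refine ⟨h₂, fun n => (hh₂ (k n)).trans (hh₁ n), fun g hg => ?_⟩
    apply hu₂
    intro p
    let gl : P →ₗ[R'] T :=
      { toFun := fun p => g (l p)
        map_add' := fun p p' => by rw [map_add, map_add]
        map_smul' := fun r p => by
          change g (l (r • p)) = ψ r • g (l p)
          rw [hl.map_smul, map_smul] }
    have := hu₁ gl (fun n => hg n)
    exact congrArg (fun f => f p) this

/-- cancellation for base change maps -/
theorem IsBC.of_comp (hk : IsBC φ k) (hlk : IsBC (ψ.comp φ) (l.comp k))
    (hl : ∀ (r : R') (p : P), l (r • p) = ψ r • l p) : IsBC ψ l := by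
  refine ⟨hl, ?_⟩
  intro T _ _ h hh
  obtain ⟨g, hg, hu⟩ := hlk.existsUnique_lift T (h.comp k) (by
    intro r n
    change h (k (r • n)) = ψ (φ r) • h (k n)
    rw [hk.map_smul, hh])
  letI : Module R' T := Module.compHom T ψ
  have key : ∀ p, g (l p) = h p := by
    let a : P →ₗ[R'] T :=
      { toFun := fun p => g (l p)
        map_add' := fun p p' => by rw [map_add, map_add]
        map_smul' := fun r p => by
          change g (l (r • p)) = ψ r • g (l p)
          rw [hl, map_smul] }
    let b : P →ₗ[R'] T :=
      { toFun := h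
        map_add' := h.map_add
        map_smul' := fun r p => hh r p }
    obtain ⟨z, -, hz⟩ := hk.existsUnique_lift T (h.comp k) (by
      intro r n
      change h (k (r • n)) = ψ (φ r) • h (k n)
      rw [hk.map_smul, hh])
    have e1 : a = z := hz a (fun n => hg n)
    have e2 : b = z := hz b (fun n => rfl)
    intro p
    exact congrArg (fun f => f p) (e1.trans e2.symm)
  exact ⟨g, key, fun g' hg' => hu g' (fun n => hg' (k n))⟩

end comp

section surj

variable {R R' : Type u} [CommRing R] [CommRing R'] {φ : R →+* R'} {N P : Type u}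
  [AddCommGroup N] [Module R N] [AddCommGroup P] [Module R' P] {k : N →+ P}

/-- a surjective semilinear map along a surjective ring map, with kernel generated by the kernel of
the ring map, is a base change map -/
theorem IsBC.of_surjective (hφ : Function.Surjective φ) (hk : Function.Surjective k)
    (hsmul : ∀ (r : R) (n : N), k (r • n) = φ r • k n)
    (hker : ∀ n, k n = 0 → n ∈ (RingHom.ker φ) • (⊤ : Submodule R N)) : IsBC φ k := by
  refine ⟨hsmul, ?_⟩
  intro T _ _ h hh
  have hkh : k.ker ≤ h.ker := by
    intro n hn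
    rw [AddMonoidHom.mem_ker] at hn ⊢
    have := hker n hn
    refine Submodule.smul_induction_on this ?_ ?_
    · intro a ha x _
      rw [hh, (RingHom.mem_ker).mp ha, zero_smul]
    · intro x y hx hy
      rw [map_add, hx, hy, add_zero]
  let h' : P →+ T := k.liftOfRightInverse (Function.surjInv hk) (Function.rightInverse_surjInv hk)
    ⟨h, hkh⟩
  have hh' : ∀ n, h' (k n) = h n := fun n =>
    congrArg (fun f => f n) (k.liftOfRightInverse_comp (Function.surjInv hk)
      (Function.rightInverse_surjInv hk) ⟨h, hkh⟩)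
  let hl : P →ₗ[R'] T :=
    { toFun := h'
      map_add' := h'.map_add
      map_smul' := fun r' p => by
        obtain ⟨r, rfl⟩ := hφ r'
        obtain ⟨n, rfl⟩ := hk p
        change h' (φ r • k n) = φ r • h' (k n)
        rw [← hsmul, hh', hh', hh] }
  refine ⟨hl, hh', fun g hg => ?_⟩
  ext p
  obtain ⟨n, rfl⟩ := hk p
  exact (hg n).trans (hh' n).symm

end surj

section syz

variable {R R' : Type u} [CommRing R] [CommRing R'] {φ : R →+* R'} {N P : Type u}
  [AddCommGroup N] [Module R N] [AddCommGroup P] [Module R' P] {k : N →+ P}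
  {I K : Type u} [Fintype I] [Fintype K]

/-- generators of a module give generators of its base change -/
theorem IsBC.gen (hk : IsBC φ k) (m : I → N)
    (hgen : ∀ n : N, ∃ c : I → R, n = ∑ i, c i • m i) (p : P) :
    ∃ c' : I → R', p = ∑ i, c' i • k (m i) := by
  set S := Submodule.span R' (Set.range fun i => k (m i)) with hS
  obtain ⟨h', -, hu⟩ := hk.existsUnique_lift (P ⧸ S) 0 (by intro r n; simp)
  have h1 : S.mkQ = h' := hu S.mkQ (fun n => by
    rw [Submodule.mkQ_apply, AddMonoidHom.zero_apply, Submodule.Quotient.mk_eq_zero]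
    obtain ⟨c, rfl⟩ := hgen n
    rw [map_sum]
    refine Submodule.sum_mem _ (fun i _ => ?_)
    rw [hk.map_smul]
    exact Submodule.smul_mem _ _ (Submodule.subset_span ⟨i, rfl⟩))
  have h2 : (0 : P →ₗ[R'] P ⧸ S) = h' := hu 0 (fun n => rfl)
  have h3 : S.mkQ = 0 := h1.trans h2.symm
  have h4 : p ∈ S := by
    rw [← Submodule.ker_mkQ S, h3, LinearMap.ker_zero]
    trivial
  rw [hS, Submodule.mem_span_range_iff_exists_fun] at h4
  obtain ⟨c', hc'⟩ := h4
  exact ⟨c', hc'.symm⟩

/-- generators of the syzygies of a module give generators of the syzygies of its base change -/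
theorem IsBC.syz [DecidableEq I] (hk : IsBC φ k) (m : I → N) (a : K → I → R)
    (hgen : ∀ n : N, ∃ c : I → R, n = ∑ i, c i • m i)
    (hsyz : ∀ c : I → R, ∑ i, c i • m i = 0 → ∃ e : K → R, ∀ i, c i = ∑ κ, e κ * a κ i)
    (c' : I → R') (hc' : ∑ i, c' i • k (m i) = 0) :
    ∃ e' : K → R', ∀ i, c' i = ∑ κ, e' κ * φ (a κ i) := by
  set S : Submodule R' (I → R') :=
    Submodule.span R' (Set.range fun κ : K => (fun i => φ (a κ i))) with hS
  -- the presentation map
  let p : (I → R) →+ N :=
    { toFun := fun c => ∑ i, c i • m i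
      map_zero' := by simp
      map_add' := fun c d => by simp [add_smul, Finset.sum_add_distrib] }
  have hp : Function.Surjective p := fun n => by
    obtain ⟨c, hc⟩ := hgen n
    exact ⟨c, hc.symm⟩
  let g : (I → R) →+ (I → R') ⧸ S :=
    { toFun := fun c => S.mkQ (fun i => φ (c i))
      map_zero' := by
        have : (fun i => φ ((0 : I → R) i)) = (0 : I → R') := by funext i; simp
        rw [this, map_zero]
      map_add' := fun c d => by
        have : (fun i => φ ((c + d) i)) = (fun i => φ (c i)) + (fun i => φ (d i)) := by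
          funext i; simp
        rw [this, map_add] }
  have hpg : p.ker ≤ g.ker := by
    intro c hc
    rw [AddMonoidHom.mem_ker] at hc ⊢
    obtain ⟨e, he⟩ := hsyz c hc
    change S.mkQ (fun i => φ (c i)) = 0
    rw [Submodule.mkQ_apply, Submodule.Quotient.mk_eq_zero, hS,
      Submodule.mem_span_range_iff_exists_fun]
    refine ⟨fun κ => φ (e κ), ?_⟩
    funext i
    rw [Finset.sum_apply, he i, map_sum]
    refine Finset.sum_congr rfl (fun κ _ => ?_)
    rw [Pi.smul_apply, smul_eq_mul, map_mul]
  let h : N →+ (I → R') ⧸ S := p.liftOfRightInverse (Function.surjInv hp)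
    (Function.rightInverse_surjInv hp) ⟨g, hpg⟩
  have hh : ∀ c, h (p c) = g c := fun c =>
    congrArg (fun f => f c) (p.liftOfRightInverse_comp (Function.surjInv hp)
      (Function.rightInverse_surjInv hp) ⟨g, hpg⟩)
  have hsm : ∀ (r : R) (n : N), h (r • n) = φ r • h n := by
    intro r n
    obtain ⟨c, rfl⟩ := hp n
    have h1 : r • p c = p (r • c) := by
      change r • ∑ i, c i • m i = ∑ i, (r • c) i • m i
      rw [Finset.smul_sum]
      refine Finset.sum_congr rfl (fun i _ => ?_)
      rw [Pi.smul_apply, smul_eq_mul, mul_smul]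
    rw [h1, hh, hh]
    change S.mkQ (fun i => φ ((r • c) i)) = φ r • S.mkQ (fun i => φ (c i))
    rw [← map_smul]
    congr 1
    funext i
    rw [Pi.smul_apply, Pi.smul_apply, smul_eq_mul, smul_eq_mul, map_mul]
  obtain ⟨h', hh', -⟩ := hk.existsUnique_lift _ h hsm
  have hm : ∀ i, h' (k (m i)) = S.mkQ (Pi.single i 1) := by
    intro i
    rw [hh']
    have h1 : m i = p (Pi.single i 1) := by
      change m i = ∑ j, (Pi.single i (1 : R) : I → R) j • m j
      rw [Finset.sum_eq_single i]
      · rw [Pi.single_eq_same, one_smul]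
      · intro j _ hj
        rw [Pi.single_eq_of_ne hj, zero_smul]
      · intro hi
        exact absurd (Finset.mem_univ i) hi
    rw [h1, hh]
    change S.mkQ (fun j => φ ((Pi.single i (1 : R) : I → R) j)) = _
    congr 1
    funext j
    by_cases hj : j = i
    · subst hj
      rw [Pi.single_eq_same, Pi.single_eq_same, map_one]
    · rw [Pi.single_eq_of_ne hj, Pi.single_eq_of_ne hj, map_zero]
  have h5 := congrArg h' hc'
  rw [map_sum, map_zero] at h5
  have h6 : S.mkQ c' = 0 := by
    refine Eq.trans ?_ h5
    have : c' = ∑ i, c' i • (Pi.single i (1 : R') : I → R') := by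
      funext j
      rw [Finset.sum_apply, Finset.sum_eq_single j]
      · rw [Pi.smul_apply, Pi.single_eq_same, smul_eq_mul, mul_one]
      · intro i _ hi
        rw [Pi.smul_apply, Pi.single_eq_of_ne (Ne.symm hi), smul_zero]
      · intro hj
        exact absurd (Finset.mem_univ j) hj
    conv_lhs => rw [this]
    rw [map_sum]
    refine Finset.sum_congr rfl (fun i _ => ?_)
    rw [map_smul, map_smul, hm]
  rw [Submodule.mkQ_apply, Submodule.Quotient.mk_eq_zero, hS,
    Submodule.mem_span_range_iff_exists_fun] at h6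
  obtain ⟨e', he'⟩ := h6
  refine ⟨e', fun i => ?_⟩
  have := congrArg (fun f => f i) he'
  simp only [Finset.sum_apply, Pi.smul_apply, smul_eq_mul] at this
  exact this.symm

end syz

section tower

open TensorProduct Groth.Agent.Lib.helper7.ThickAff

variable {A A' : Type u} [CommRing A] [CommRing A'] [IsNoetherianRing A'] (φ : A →+* A')
  {M M' : Type u} [AddCommGroup M] [Module A M] [Module.Finite A M] [AddCommGroup M']
  [Module A' M'] [Module.Finite A' M']
  (r : M →+ M') (hr : ∀ (a : A) (m : M), r (a • m) = φ a • r m)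
  (J' : Ideal A') (hJ' : J' ≤ Ideal.jacobson ⊥)
  {B : ℕ → Type u} [∀ k, CommRing (B k)] (pr : ∀ k, A' →+* B k)
  (hpr : ∀ k, Function.Surjective (pr k)) (hkpr : ∀ k, RingHom.ker (pr k) = J' ^ (k + 1))
  {T : ℕ → Type u} [∀ k, AddCommGroup (T k)] [∀ k, Module (B k) (T k)] (q : ∀ k, M' →+ T k)
  (hq : ∀ (k : ℕ) (a' : A') (y : M'), q k (a' • y) = pr k a' • q k y)
  (hq0 : ∀ y, q 0 y = 0 → y ∈ J' • (⊤ : Submodule A' M'))
  (hbc : ∀ k, IsBC ((pr k).comp φ) ((q k).comp r))

include hr hJ' hpr hkpr hq hq0 hbc in
/-- a semilinear map of finite modules which is a base change map modulo all powers of an ideal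
contained in the radical of the (Noetherian) target ring is a base change map -/
theorem isBC_of_tower : IsBC φ r := by
  letI : Algebra A A' := φ.toAlgebra
  let kP : M →ₗ[A] A' ⊗[A] M := TensorProduct.mk A A' M 1
  have hkP : IsBaseChange A' kP := TensorProduct.isBaseChange A M A'
  have hBC : IsBC φ kP.toAddMonoidHom := IsBC.of_isBaseChange kP hkP
  obtain ⟨w, hw, -⟩ := hBC.existsUnique_lift M' r hr
  have hlev : ∀ k, IsBC (pr k) ((q k).comp w.toAddMonoidHom) := by
    intro k
    refine IsBC.of_comp hBC ?_ ?_
    · have : ((q k).comp w.toAddMonoidHom).comp kP.toAddMonoidHom = (q k).comp r := by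
        ext m
        exact congrArg (q k) (hw m)
      rw [this]
      exact hbc k
    · intro a' x
      change q k (w (a' • x)) = pr k a' • q k (w x)
      rw [map_smul, hq]
  haveI : IsHausdorff J' (A' ⊗[A] M) := IsHausdorff.of_le_jacobson J' (A' ⊗[A] M) hJ'
  have hinj : Function.Injective w := by
    rw [injective_iff_map_eq_zero]
    intro x hx
    apply IsHausdorff.haus (I := J') ‹_› x
    intro n
    rw [SModEq.zero]
    cases n with
    | zero =>
      rw [pow_zero, Ideal.one_eq_top, Submodule.top_smul]
      trivial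
    | succ k =>
      rw [← hkpr k]
      apply IsBC.mem_smul_top_of_map_eq_zero (hlev k) (hpr k)
      change q k (w x) = 0
      rw [hx, map_zero]
  have hsurj : Function.Surjective w := by
    rw [← LinearMap.range_eq_top, eq_top_iff]
    apply Submodule.le_of_le_smul_of_le_jacobson_bot (Module.Finite.fg_top) hJ'
    intro y _
    obtain ⟨x, hx⟩ := IsBC.surjective_of_surjective (hlev 0) (hpr 0) (q 0 y)
    have h1 : q 0 (y - w x) = 0 := by
      rw [map_sub, sub_eq_zero]
      exact hx.symm
    have h2 := hq0 _ h1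
    have h3 : y = w x + (y - w x) := by abel
    rw [h3]
    exact Submodule.add_mem_sup (LinearMap.mem_range_self w x) h2
  refine hBC.of_equiv (LinearEquiv.refl A M) (LinearEquiv.ofBijective w ⟨hinj, hsurj⟩).symm r ?_
  intro m
  rw [LinearEquiv.symm_apply_eq]
  exact (hw m).symm

end tower

end Groth.Agent.Lib.helper11.BCLim
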