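import Mathlib
import Groth.Prelude.Def_Coh
import Groth.Prelude.Def_ega3
import Groth.Agent.Lib.Helper2.CechTr1
import Groth.Agent.Lib.Helper21.GCHom
import Groth.Agent.Lib.Lead.CechLoc

/-!
# helper11: the Čech complex of a pushforward is the Čech complex of the preimage cover

For `g' : X' ⟶ X`, a family `U` of opens of `X` and an abelian sheaf `P'` on `X'`:
`Č_X(U, g'_* P') ≅ Č_{X'}(g'⁻¹ U, P')`, naturally in `P'`.
-/

set_option autoImplicit false
universe u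
open CategoryTheory CategoryTheory.Limits Opposite TopologicalSpace AlgebraicGeometry

namespace Groth.Agent.Lib.helper11.CechPush

open Groth.Agent.Lib.helper27 Groth.Agent.Lib.Helper20 Groth.Agent.Lib.Helper20.CechNatTop

noncomputable section

variable {X X' : Scheme.{u}} (g' : X' ⟶ X) {ι : Type u} (U : ι → X.Opens)

/-- the preimage cover -/
abbrev preU : ι → X'.Opens := fun i => g' ⁻¹ᵁ U i

lemma preimage_prod {n : ℕ} (a : Fin (n + 1) → ι) :
    g' ⁻¹ᵁ (∏ᶜ (U ∘ a) : X.Opens) = (∏ᶜ (preU g' U ∘ a) : X'.Opens) := by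
  rw [Groth.Agent.Lib.Lead.CechLoc.prod_eq_iInf, Groth.Agent.Lib.Lead.CechLoc.prod_eq_iInf]
  ext x
  simp only [Scheme.Hom.mem_preimage, SetLike.mem_coe]
  rw [← SetLike.mem_coe, ← SetLike.mem_coe, Opens.coe_iInf, Opens.coe_iInf]
  simp only [Set.mem_iInter, SetLike.mem_coe, Scheme.Hom.mem_preimage]

variable (P' : Sheaf (Opens.grothendieckTopology X') AddCommGrpCat.{u})

/-- the termwise isomorphisms -/
def termIso (n : ℕ) (a : Fin (n + 1) → ι) :
    Cech.Z U ((𝟭 (Opens X)).op ⋙ ((Coh.pushAb g').obj P').obj) n a ≅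
      Cech.Z (preU g' U) ((𝟭 (Opens X')).op ⋙ P'.obj) n a :=
  P'.obj.mapIso (eqToIso (congrArg op (preimage_prod g' U a)))

lemma termIso_hom (n : ℕ) (a : Fin (n + 1) → ι) :
    (termIso g' U P' n a).hom =
      P'.obj.map (eqToHom (congrArg op (preimage_prod g' U a))) := rfl

/-- **the Čech complex of `g'_* P'` for `U` is the Čech complex of `P'` for `g'⁻¹ U`.** -/
def cechPushIso : (Č (X := X.toTopCat) U).obj ((Coh.pushAb g').obj P') ≅
    (Č (X := X'.toTopCat) (preU g' U)).obj P' :=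
  Groth.Agent.Lib.helper2.CechTr.cechIso U (preU g' U)
    ((𝟭 (Opens X)).op ⋙ ((Coh.pushAb g').obj P').obj) ((𝟭 (Opens X')).op ⋙ P'.obj)
    (termIso g' U P') (by
      intro n b i
      show P'.obj.map ((Opens.map g'.base).map (Cech.face U b i)).op ≫
          P'.obj.map (eqToHom (congrArg op (preimage_prod g' U b))) =
        P'.obj.map (eqToHom (congrArg op (preimage_prod g' U (b ∘ Fin.succAbove i)))) ≫
          P'.obj.map (Cech.face (preU g' U) b i).op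
      rw [← Functor.map_comp, ← Functor.map_comp]
      congr 1)

lemma cechPushIso_hom_f (n : ℕ) :
    (cechPushIso g' U P').hom.f n =
      (Limits.Pi.map (fun a => (termIso g' U P' n a).hom) :
        (∏ᶜ Cech.Z U ((𝟭 (Opens X)).op ⋙ ((Coh.pushAb g').obj P').obj) n : AddCommGrpCat.{u}) ⟶
          ∏ᶜ Cech.Z (preU g' U) ((𝟭 (Opens X')).op ⋙ P'.obj) n) := rfl

lemma Č_map_f {Y : Scheme.{u}} (V : ι → Y.Opens)
    {G G' : Sheaf (Opens.grothendieckTopology Y) AddCommGrpCat.{u}} (φ : G ⟶ G') (n : ℕ) :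
    ((Č (X := Y.toTopCat) V).map φ).f n =
      (Limits.Pi.map (fun a : Fin (n + 1) → ι => φ.hom.app (op (∏ᶜ (V ∘ a)))) :
        (∏ᶜ Cech.Z V ((𝟭 (Opens Y)).op ⋙ G.obj) n : AddCommGrpCat.{u}) ⟶
          ∏ᶜ Cech.Z V ((𝟭 (Opens Y)).op ⋙ G'.obj) n) := rfl

variable {P'}

/-- naturality of `cechPushIso` in the sheaf. -/
lemma cechPushIso_naturality {P'' : Sheaf (Opens.grothendieckTopology X') AddCommGrpCat.{u}}
    (φ : P' ⟶ P'') :
    (Č (X := X.toTopCat) U).map ((Coh.pushAb g').map φ) ≫ (cechPushIso g' U P'').hom =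
      (cechPushIso g' U P').hom ≫ (Č (X := X'.toTopCat) (preU g' U)).map φ := by
  apply HomologicalComplex.hom_ext
  intro n
  show (Limits.Pi.map (fun a : Fin (n + 1) → ι =>
        ((Coh.pushAb g').map φ).hom.app (op (∏ᶜ (U ∘ a)))) :
        (∏ᶜ Cech.Z U ((𝟭 (Opens X)).op ⋙ ((Coh.pushAb g').obj P').obj) n : AddCommGrpCat.{u}) ⟶
          ∏ᶜ Cech.Z U ((𝟭 (Opens X)).op ⋙ ((Coh.pushAb g').obj P'').obj) n) ≫
      (Limits.Pi.map (fun a => (termIso g' U P'' n a).hom) :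
        (∏ᶜ Cech.Z U ((𝟭 (Opens X)).op ⋙ ((Coh.pushAb g').obj P'').obj) n : AddCommGrpCat.{u}) ⟶
          ∏ᶜ Cech.Z (preU g' U) ((𝟭 (Opens X')).op ⋙ P''.obj) n) =
    (Limits.Pi.map (fun a => (termIso g' U P' n a).hom) :
        (∏ᶜ Cech.Z U ((𝟭 (Opens X)).op ⋙ ((Coh.pushAb g').obj P').obj) n : AddCommGrpCat.{u}) ⟶
          ∏ᶜ Cech.Z (preU g' U) ((𝟭 (Opens X')).op ⋙ P'.obj) n) ≫
      (Limits.Pi.map (fun a : Fin (n + 1) → ι => φ.hom.app (op (∏ᶜ (preU g' U ∘ a)))) :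
        (∏ᶜ Cech.Z (preU g' U) ((𝟭 (Opens X')).op ⋙ P'.obj) n : AddCommGrpCat.{u}) ⟶
          ∏ᶜ Cech.Z (preU g' U) ((𝟭 (Opens X')).op ⋙ P''.obj) n)
  apply Limits.Pi.hom_ext
  intro a
  rw [Category.assoc, Category.assoc, Limits.Pi.map_π, Limits.Pi.map_π, Limits.Pi.map_π_assoc,
    Limits.Pi.map_π_assoc]
  congr 1
  rw [termIso_hom, termIso_hom]
  exact (φ.hom.naturality (eqToHom (congrArg op (preimage_prod g' U a)))).symm

end

end Groth.Agent.Lib.helper11.CechPush
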