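import Mathlib
import Groth.Prelude.Def_Coh
import Groth.Prelude.Def_ega3
import Groth.Agent.Lib.Helper11.CechPush
import Groth.Agent.Lib.Helper21.GCHom

/-!
# helper11: base change of the Čech module complex, as an isomorphism of complexes

`X' = X ×_A B`, `U` a finite family of opens of `X` with affine finite intersections, `M` quasi-coherent:
`bcCx (A → B) (cechMod fX M U) ≅ cechMod fX' (g'^* M) (g'⁻¹ U)` as complexes of `B`-modules.
-/

set_option autoImplicit false
universe u
open CategoryTheory CategoryTheory.Limits Opposite TopologicalSpace AlgebraicGeometry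

namespace Groth.Agent.Lib.helper11.CechBC

open Groth.Agent.Lib.helper27 Groth.Agent.Lib.Helper20 Groth.Agent.Lib.Helper20.CechNatTop
  Groth.Agent.Lib.helper21.ModCx Groth.Agent.Lib.helper21.GCCech Groth.Agent.Lib.helper11.CechPush
  Groth.Agent.Lib.helper8.FlatCohBC

noncomputable section

section ModCxIso

variable {R : Type u} [CommRing R] {ι : Type} {c : ComplexShape ι}
variable (K K' : HomologicalComplex AddCommGrpCat.{u} c) (ρ : R →+* End K) (ρ' : R →+* End K')
variable (φ : K ≅ K') (hφ : ∀ r : R, ρ r ≫ φ.hom = φ.hom ≫ ρ' r)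

include hφ in
/-- the components of an equivariant isomorphism, as linear equivalences -/
def compLin (n : ι) : ↑(modObj K ρ n) ≃ₗ[R] ↑(modObj K' ρ' n) where
  toFun := (φ.hom.f n).hom
  invFun := (φ.inv.f n).hom
  map_add' := map_add _
  map_smul' := fun r x => κ_smul (RingHom.id R) K K' ρ ρ' φ.hom hφ n r x
  left_inv x := by
    have h := congrArg (fun t => t.f n) φ.hom_inv_id
    exact ConcreteCategory.congr_hom h x
  right_inv x := by
    have h := congrArg (fun t => t.f n) φ.inv_hom_id
    exact ConcreteCategory.congr_hom h x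

include hφ in
/-- an equivariant isomorphism of complexes of abelian groups gives an isomorphism of module complexes -/
def modCxIso : modCx K ρ ≅ modCx K' ρ' :=
  HomologicalComplex.Hom.isoOfComponents
    (fun n => (compLin K K' ρ ρ' φ hφ n).toModuleIso) (by
      intro i j _
      apply ModuleCat.hom_ext
      apply LinearMap.ext
      intro x
      show (K'.d i j).hom ((φ.hom.f i).hom x) = (φ.hom.f j).hom ((K.d i j).hom x)
      exact ConcreteCategory.congr_hom (φ.hom.comm i j) x)

end ModCxIso

section Geo

variable {A B : Type u} [CommRing A] [CommRing B] [Algebra A B]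
variable {X X' : Scheme.{u}} (fX : X ⟶ Spec (CommRingCat.of A)) (fX' : X' ⟶ Spec (CommRingCat.of B))
  (g' : X' ⟶ X)
  (h : IsPullback g' fX' fX (Spec.map (CommRingCat.ofHom (algebraMap A B))))
  (M : X.Modules)
variable {ι : Type u} [Finite ι] (U : ι → X.Opens)

/-- the Čech complex of `g'_* g'^* M` for `U` is the Čech complex of `g'^* M` for `g'⁻¹ U` -/
def KNiso : KN g' M U ≅ KM ((Scheme.Modules.pullback g').obj M) (preU g' U) :=
  cechPushIso g' U (Coh.toAb ((Scheme.Modules.pullback g').obj M))

lemma KNiso_equivariant (b : B) :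
    ρN fX' g' M U b ≫ (KNiso g' M U).hom =
      (KNiso g' M U).hom ≫ ρM fX' ((Scheme.Modules.pullback g').obj M) (preU g' U) b :=
  cechPushIso_naturality g' U
    (Coh.smulAb ((Scheme.Modules.pullback g').obj M) (Coh.toGlobal fX' b))

variable [M.IsQuasicoherent]

include h in
/-- **base change of the Čech module complex**, as an isomorphism of complexes of `B`-modules. -/
def cechModBCIso (hU : ∀ (n : ℕ) (a : Fin (n + 1) → ι), IsAffineOpen (∏ᶜ (U ∘ a) : X.Opens)) :
    CohIII.bcCx (algebraMap A B) (cechMod fX M U) ≅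
      cechMod fX' ((Scheme.Modules.pullback g').obj M) (preU g' U) :=
  bcIso (algebraMap A B) ((KM M U).extend eN) ((KN g' M U).extend eN)
      (extρ eN (KM M U) (ρM fX M U)) (extρ eN (KN g' M U) (ρN fX' g' M U))
      (HomologicalComplex.extendMap (κC g' M U) eN)
      (extρ_comm eN (algebraMap A B) _ _ _ _ _ (hκC fX fX' g' h M U))
      (isBC_extend eN (algebraMap A B) _ _ _ _ _ (hBC_cech fX fX' g' h M U hU)) ≪≫
    modCxIso _ _ _ _ ((eN.extendFunctor AddCommGrpCat.{u}).mapIso (KNiso g' M U))
      (fun b => extρ_comm eN (RingHom.id B) _ _ _ _ _ (KNiso_equivariant fX' g' M U) b)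

end Geo

end

end Groth.Agent.Lib.helper11.CechBC
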