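import Mathlib

/-!
# Pushforward of sheaves of sets along a closed embedding (helper11)

For a closed embedding `i : Z ⟶ X` of topological spaces: `UV V` is the largest open of `X` with trace `V`;
`i_*` is full and faithful; stalks of `i_* F` off `Z` are singletons; a sheaf with singleton stalks off `Z` is in the
essential image.
-/

set_option autoImplicit false
universe u
open CategoryTheory TopologicalSpace Opposite

namespace Groth.Agent.Lib.helper11.ClosedPush

variable {Z X : TopCat.{u}} (i : Z ⟶ X) (hi : Topology.IsClosedEmbedding i)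

/-- the largest open of `X` with trace `V` on `Z` -/
def UV (V : Opens Z) : Opens X :=
  ⟨(i '' (V : Set Z)ᶜ)ᶜ, (hi.isClosedMap _ V.isOpen.isClosed_compl).isOpen_compl⟩

lemma mem_UV {V : Opens Z} {x : X} : x ∈ UV i hi V ↔ ∀ z, i z = x → z ∈ V := by
  change x ∈ (i '' (V : Set Z)ᶜ)ᶜ ↔ _
  simp only [Set.mem_compl_iff, Set.mem_image, not_exists, not_and]
  constructor
  · intro h z hz
    by_contra hzV
    exact h z hzV hz
  · intro h z hzV hz
    exact hzV (h z hz)

lemma map_UV (V : Opens Z) : (Opens.map i).obj (UV i hi V) = V := by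
  ext z
  change i z ∈ UV i hi V ↔ z ∈ V
  rw [mem_UV]
  constructor
  · intro h
    exact h z rfl
  · intro h z' hz'
    rw [hi.injective hz']
    exact h

lemma UV_mono {V V' : Opens Z} (h : V' ≤ V) : UV i hi V' ≤ UV i hi V := by
  intro x hx
  rw [mem_UV] at hx ⊢
  exact fun z hz => h (hx z hz)

lemma le_UV_map (U : Opens X) : U ≤ UV i hi ((Opens.map i).obj U) := by
  intro x hx
  rw [mem_UV]
  intro z hz
  change i z ∈ U
  rw [hz]
  exact hx

lemma UV_inf_le (V V' : Opens Z) : UV i hi V ⊓ UV i hi V' ≤ UV i hi (V ⊓ V') := by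
  rintro x ⟨hx, hx'⟩
  have hx1 : x ∈ UV i hi V := hx
  have hx2 : x ∈ UV i hi V' := hx'
  rw [mem_UV] at hx1 hx2 ⊢
  exact fun z hz => ⟨hx1 z hz, hx2 z hz⟩

/-- the complement of the image -/
def W : Opens X := ⟨(Set.range i)ᶜ, hi.isClosed_range.isOpen_compl⟩

lemma mem_W {x : X} : x ∈ W i hi ↔ x ∉ Set.range i := Iff.rfl

lemma UV_bot_le : UV i hi ⊥ ≤ W i hi := by
  intro x hx
  rw [mem_UV] at hx
  rintro ⟨z, hz⟩
  exact hx z hz

lemma W_le_UV (V : Opens Z) : W i hi ≤ UV i hi V := by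
  intro x hx
  rw [mem_UV]
  intro z hz
  exact absurd ⟨z, hz⟩ hx

lemma UV_map_le (U : Opens X) : UV i hi ((Opens.map i).obj U) ≤ U ⊔ W i hi := by
  intro x hx
  rw [mem_UV] at hx
  by_cases h : x ∈ Set.range i
  · obtain ⟨z, rfl⟩ := h
    exact Or.inl (hx z rfl)
  · exact Or.inr h

lemma UV_iSup_le {ι : Type*} [Nonempty ι] (V : ι → Opens Z) :
    UV i hi (iSup V) ≤ ⨆ a, UV i hi (V a) := by
  intro x hx
  rw [mem_UV] at hx
  rw [Opens.mem_iSup]
  by_cases h : x ∈ Set.range i
  · obtain ⟨z, rfl⟩ := h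
    obtain ⟨a, ha⟩ := Opens.mem_iSup.mp (hx z rfl)
    refine ⟨a, ?_⟩
    rw [mem_UV]
    intro z' hz'
    rw [hi.injective hz']
    exact ha
  · exact ⟨Classical.arbitrary ι, W_le_UV i hi _ h⟩

lemma map_W : (Opens.map i).obj (W i hi) = ⊥ := by
  ext z
  simp only [Opens.coe_bot, Set.mem_empty_iff_false, iff_false]
  intro hz
  exact hz ⟨z, rfl⟩


section FullFaithful

variable {F G : Z.Sheaf (Type u)}

/-- restriction maps of a presheaf on a preorder compose uniquely -/
lemma map_map_eq {T : TopCat.{u}} (P : T.Presheaf (Type u)) {A B B' C : Opens T}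
    (f : A ⟶ B) (g : B ⟶ C) (f' : A ⟶ B') (g' : B' ⟶ C) (s : P.obj (op C)) :
    P.map f.op (P.map g.op s) = P.map f'.op (P.map g'.op s) := by
  rw [← ConcreteCategory.comp_apply, ← ConcreteCategory.comp_apply, ← P.map_comp, ← P.map_comp]
  congr 2

lemma map_map_eq' {T : TopCat.{u}} (P : T.Presheaf (Type u)) {A B C : Opens T}
    (f : A ⟶ B) (g : B ⟶ C) (h : A ⟶ C) (s : P.obj (op C)) :
    P.map f.op (P.map g.op s) = P.map h.op s := by
  rw [← ConcreteCategory.comp_apply, ← P.map_comp]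
  congr 2

lemma map_congr' {T : TopCat.{u}} (P : T.Presheaf (Type u)) {A B : Opens T}
    (f g : A ⟶ B) (s : P.obj (op B)) : P.map f.op s = P.map g.op s := by
  rw [Subsingleton.elim f g]

lemma map_id' {T : TopCat.{u}} (P : T.Presheaf (Type u)) {A : Opens T}
    (f : A ⟶ A) (s : P.obj (op A)) : P.map f.op s = s := by
  have : f = 𝟙 A := Subsingleton.elim _ _
  rw [this, op_id, P.map_id]
  rfl

/-- the component over `V` of the preimage of `ψ` -/
def preApp (ψ : (TopCat.Sheaf.pushforward (Type u) i).obj F ⟶ (TopCat.Sheaf.pushforward (Type u) i).obj G)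
    (V : Opens Z) (s : F.presheaf.obj (op V)) : G.presheaf.obj (op V) :=
  G.presheaf.map (eqToHom (map_UV i hi V).symm).op
    (ψ.hom.app (op (UV i hi V)) (F.presheaf.map (eqToHom (map_UV i hi V)).op s))

lemma ψ_res (ψ : (TopCat.Sheaf.pushforward (Type u) i).obj F ⟶ (TopCat.Sheaf.pushforward (Type u) i).obj G)
    {U U' : Opens X} (h : U' ⟶ U) (s : F.presheaf.obj (op ((Opens.map i).obj U))) :
    ψ.hom.app (op U') (F.presheaf.map ((Opens.map i).map h).op s) =
      G.presheaf.map ((Opens.map i).map h).op (ψ.hom.app (op U) s) :=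
  NatTrans.naturality_apply ψ.hom h.op s

/-- the preimage of `ψ` under `i_*` -/
def pre (ψ : (TopCat.Sheaf.pushforward (Type u) i).obj F ⟶ (TopCat.Sheaf.pushforward (Type u) i).obj G) :
    F ⟶ G :=
  ⟨{ app := fun V => TypeCat.ofHom (preApp i hi ψ V.unop)
     naturality := by
      intro V V' f
      ext s
      obtain ⟨V⟩ := V
      obtain ⟨V'⟩ := V'
      have hle : V' ≤ V := f.unop.le
      have hf : f = (homOfLE hle).op := Subsingleton.elim _ _
      subst hf
      change preApp i hi ψ V' (F.presheaf.map (homOfLE hle).op s) =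
        G.presheaf.map (homOfLE hle).op (preApp i hi ψ V s)
      unfold preApp
      have h1 : F.presheaf.map (eqToHom (map_UV i hi V')).op (F.presheaf.map (homOfLE hle).op s) =
          F.presheaf.map ((Opens.map i).map (homOfLE (UV_mono i hi hle))).op
            (F.presheaf.map (eqToHom (map_UV i hi V)).op s) := map_map_eq _ _ _ _ _ _
      rw [h1, ψ_res]
      exact map_map_eq _ _ _ _ _ _ }⟩

lemma pre_app (ψ : (TopCat.Sheaf.pushforward (Type u) i).obj F ⟶ (TopCat.Sheaf.pushforward (Type u) i).obj G)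
    (V : Opens Z) (s : F.presheaf.obj (op V)) :
    (pre i hi ψ).hom.app (op V) s = preApp i hi ψ V s := rfl

lemma map_pre (ψ : (TopCat.Sheaf.pushforward (Type u) i).obj F ⟶ (TopCat.Sheaf.pushforward (Type u) i).obj G) :
    (TopCat.Sheaf.pushforward (Type u) i).map (pre i hi ψ) = ψ := by
  apply Sheaf.hom_ext
  ext ⟨U⟩ s
  change preApp i hi ψ ((Opens.map i).obj U) s = ψ.hom.app (op U) s
  unfold preApp
  have h2 : ψ.hom.app (op U) s = ψ.hom.app (op U)
      (F.presheaf.map ((Opens.map i).map (homOfLE (le_UV_map i hi U))).op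
        (F.presheaf.map (eqToHom (map_UV i hi ((Opens.map i).obj U))).op s)) := by
    rw [map_map_eq' _ _ _ (𝟙 _), map_id']
  rw [h2, ψ_res]
  exact map_congr' _ _ _ _

lemma pre_map (φ : F ⟶ G) : pre i hi ((TopCat.Sheaf.pushforward (Type u) i).map φ) = φ := by
  apply Sheaf.hom_ext
  ext ⟨V⟩ s
  change preApp i hi _ V s = φ.hom.app (op V) s
  unfold preApp
  change G.presheaf.map _ (φ.hom.app (op ((Opens.map i).obj (UV i hi V))) (F.presheaf.map _ s)) = _
  have h := NatTrans.naturality_apply φ.hom (eqToHom (map_UV i hi V)).op s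
  rw [h]
  exact (map_map_eq' _ _ _ (𝟙 _) _).trans (map_id' _ _ _)

end FullFaithful

include hi in
theorem full : (TopCat.Sheaf.pushforward (Type u) i).Full :=
  ⟨fun ψ => ⟨pre i hi ψ, map_pre i hi ψ⟩⟩

include hi in
theorem faithful : (TopCat.Sheaf.pushforward (Type u) i).Faithful :=
  ⟨fun {F G φ φ'} h => by rw [← pre_map i hi φ, ← pre_map i hi φ', h]⟩


section Stalk

/-- sections of `i_* F` over opens missing `Z` are unique -/
lemma unique_push_of_le_W (F : Z.Sheaf (Type u)) (W' : Opens X) (h : W' ≤ W i hi) :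
    Nonempty (Unique (((TopCat.Sheaf.pushforward (Type u) i).obj F).presheaf.obj (op W'))) := by
  have hb : (Opens.map i).obj W' = ⊥ := by
    apply le_bot_iff.mp
    rw [← map_W i hi]
    exact (Opens.map i).monotone h
  exact ⟨(Limits.Types.isTerminalEquivUnique _).toFun (F.isTerminalOfEqEmpty hb)⟩

include hi in
theorem unique_stalk_push (F : Z.Sheaf (Type u)) (x : X) (hx : x ∉ Set.range i) :
    Nonempty (Unique (((TopCat.Sheaf.pushforward (Type u) i).obj F).presheaf.stalk x)) := by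
  set P := ((TopCat.Sheaf.pushforward (Type u) i).obj F).presheaf with hP
  obtain ⟨uW⟩ := unique_push_of_le_W i hi F (W i hi) le_rfl
  refine ⟨{ default := P.germ (W i hi) x hx uW.default, uniq := ?_ }⟩
  intro t
  obtain ⟨U, hxU, s, rfl⟩ := P.exists_germ_eq t
  have hxUW : x ∈ U ⊓ W i hi := ⟨hxU, hx⟩
  rw [← P.germ_res_apply (homOfLE inf_le_left : U ⊓ W i hi ⟶ U) x hxUW s,
    ← P.germ_res_apply (homOfLE inf_le_right : U ⊓ W i hi ⟶ W i hi) x hxUW uW.default]
  congr 1
  obtain ⟨u'⟩ := unique_push_of_le_W i hi F (U ⊓ W i hi) inf_le_right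
  exact (u'.uniq _).trans (u'.uniq _).symm

end Stalk

/-- gluing two sections of a sheaf of sets -/
lemma exists_glue₂ {T : TopCat.{u}} (G : T.Sheaf (Type u)) {U₁ U₂ V : Opens T} (h₁ : U₁ ≤ V) (h₂ : U₂ ≤ V)
    (hcover : V ≤ U₁ ⊔ U₂) (s₁ : G.presheaf.obj (op U₁)) (s₂ : G.presheaf.obj (op U₂))
    (h : G.presheaf.map (homOfLE (inf_le_left : U₁ ⊓ U₂ ≤ U₁)).op s₁ =
      G.presheaf.map (homOfLE (inf_le_right : U₁ ⊓ U₂ ≤ U₂)).op s₂) :
    ∃ s : G.presheaf.obj (op V), G.presheaf.map (homOfLE h₁).op s = s₁ ∧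
      G.presheaf.map (homOfLE h₂).op s = s₂ := by
  let Ufam : ULift.{u} Bool → Opens T := fun b => bif b.down then U₁ else U₂
  let sf : ∀ b, G.presheaf.obj (op (Ufam b)) := fun b =>
    match b with
    | ⟨true⟩ => s₁
    | ⟨false⟩ => s₂
  have hle : ∀ b, Ufam b ≤ V := by
    rintro ⟨b⟩
    cases b
    · exact h₂
    · exact h₁
  have hcompat : TopCat.Presheaf.IsCompatible G.presheaf Ufam sf := by
    have h' : G.presheaf.map (homOfLE (inf_le_right : U₂ ⊓ U₁ ≤ U₁)).op s₁ =
        G.presheaf.map (homOfLE (inf_le_left : U₂ ⊓ U₁ ≤ U₂)).op s₂ := by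
      have e := congrArg (G.presheaf.map (homOfLE (le_inf inf_le_right inf_le_left :
        U₂ ⊓ U₁ ≤ U₁ ⊓ U₂)).op) h
      rw [map_map_eq' _ _ _ (homOfLE inf_le_right), map_map_eq' _ _ _ (homOfLE inf_le_left)] at e
      exact e
    rintro ⟨a⟩ ⟨b⟩
    cases a <;> cases b
    · exact map_congr' _ _ _ _
    · exact ((map_congr' _ _ _ _).trans h'.symm).trans (map_congr' _ _ _ _)
    · exact ((map_congr' _ _ _ _).trans h).trans (map_congr' _ _ _ _)
    · exact map_congr' _ _ _ _
  obtain ⟨s, hs, -⟩ := G.existsUnique_gluing' Ufam V (fun b => homOfLE (hle b)) (by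
    intro x hx
    rcases hcover hx with hx1 | hx2
    · exact Opens.mem_iSup.mpr ⟨⟨true⟩, hx1⟩
    · exact Opens.mem_iSup.mpr ⟨⟨false⟩, hx2⟩) sf hcompat
  exact ⟨s, hs ⟨true⟩, hs ⟨false⟩⟩


section EssImage

variable (G : X.Sheaf (Type u))
  (hG : ∀ x : X, x ∉ Set.range i → Nonempty (Unique (G.presheaf.stalk x)))

include hG in
lemma subsingleton_of_le_W (W' : Opens X) (h : W' ≤ W i hi) :
    Subsingleton (G.presheaf.obj (op W')) := by
  constructor
  intro s t
  apply TopCat.Presheaf.section_ext G W'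
  intro x hx
  obtain ⟨ux⟩ := hG x (h hx)
  exact (ux.uniq _).trans (ux.uniq _).symm

include hG in
lemma nonempty_of_le_W (W' : Opens X) (h : W' ≤ W i hi) :
    Nonempty (G.presheaf.obj (op W')) := by
  have hloc : ∀ x : W', ∃ (U : Opens X) (_ : x.1 ∈ U) (_ : U ≤ W'),
      Nonempty (G.presheaf.obj (op U)) := by
    intro x
    obtain ⟨ux⟩ := hG x.1 (h x.2)
    obtain ⟨U, hxU, s, -⟩ := G.presheaf.exists_germ_eq ux.default
    exact ⟨U ⊓ W', ⟨hxU, x.2⟩, inf_le_right, ⟨G.presheaf.map (homOfLE inf_le_left).op s⟩⟩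
  choose U hxU hUW s using hloc
  let sf : ∀ x : W', G.presheaf.obj (op (U x)) := fun x => (s x).some
  have hcompat : TopCat.Presheaf.IsCompatible G.presheaf U sf := by
    intro x y
    haveI := subsingleton_of_le_W i hi G hG (U x ⊓ U y) (inf_le_left.trans ((hUW x).trans h))
    exact Subsingleton.elim _ _
  obtain ⟨t, -, -⟩ := G.existsUnique_gluing' U W' (fun x => homOfLE (hUW x))
    (fun y hy => Opens.mem_iSup.mpr ⟨⟨y, hy⟩, hxU ⟨y, hy⟩⟩) sf hcompat
  exact ⟨t⟩

include hG in
lemma res_bijective {U U' : Opens X} (hU : U ≤ U') (hU' : U' ≤ U ⊔ W i hi) :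
    Function.Bijective (G.presheaf.map (homOfLE hU).op) := by
  have hcov : U' ≤ U ⊔ (U' ⊓ W i hi) := by
    intro x hx
    rcases hU' hx with h | h
    · exact Or.inl h
    · exact Or.inr ⟨hx, h⟩
  constructor
  · intro s t hst
    apply G.eq_of_locally_eq₂ (homOfLE hU) (homOfLE (inf_le_left : U' ⊓ W i hi ≤ U')) hcov s t hst
    haveI := subsingleton_of_le_W i hi G hG (U' ⊓ W i hi) inf_le_right
    exact Subsingleton.elim _ _
  · intro s
    obtain ⟨t⟩ := nonempty_of_le_W i hi G hG (U' ⊓ W i hi) inf_le_right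
    obtain ⟨s', hs', -⟩ := exists_glue₂ G hU (inf_le_left : U' ⊓ W i hi ≤ U') hcov s t (by
      haveI := subsingleton_of_le_W i hi G hG (U ⊓ (U' ⊓ W i hi)) (inf_le_right.trans inf_le_right)
      exact Subsingleton.elim _ _)
    exact ⟨s', hs'⟩

/-- the functor `V ↦ UV V` -/
def UVfun : Opens Z ⥤ Opens X where
  obj V := UV i hi V
  map f := homOfLE (UV_mono i hi f.le)

/-- the candidate preimage presheaf `V ↦ G (UV V)` -/
def preObjPresheaf : Z.Presheaf (Type u) := (UVfun i hi).op ⋙ G.presheaf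

include hG in
lemma preObj_isSheaf : (preObjPresheaf i hi G).IsSheaf := by
  rw [TopCat.Presheaf.isSheaf_iff_isSheafUniqueGluing_types]
  intro ι V sf hsf
  by_cases hι : Nonempty ι
  · -- glue in `G`
    have hcompat : TopCat.Presheaf.IsCompatible G.presheaf (fun a => UV i hi (V a)) sf := by
      intro a b
      have h := hsf a b
      change G.presheaf.map (homOfLE (UV_mono i hi (inf_le_left : V a ⊓ V b ≤ V a))).op (sf a) =
        G.presheaf.map (homOfLE (UV_mono i hi (inf_le_right : V a ⊓ V b ≤ V b))).op (sf b) at h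
      have e := congrArg (G.presheaf.map (homOfLE (UV_inf_le i hi (V a) (V b))).op) h
      rw [map_map_eq' _ _ _ (homOfLE inf_le_left), map_map_eq' _ _ _ (homOfLE inf_le_right)] at e
      exact ((map_congr' _ _ _ _).trans e).trans (map_congr' _ _ _ _)
    obtain ⟨s, hs, hs'⟩ := G.existsUnique_gluing' (fun a => UV i hi (V a)) (UV i hi (iSup V))
      (fun a => homOfLE (UV_mono i hi (le_iSup V a))) (UV_iSup_le i hi V) sf hcompat
    refine ⟨s, fun a => (map_congr' G.presheaf ((UVfun i hi).map (Opens.leSupr V a))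
      (homOfLE (UV_mono i hi (le_iSup V a))) s).trans (hs a), fun s' hs'' => hs' s' (fun a => ?_)⟩
    exact (map_congr' G.presheaf (homOfLE (UV_mono i hi (le_iSup V a)))
      ((UVfun i hi).map (Opens.leSupr V a)) s').trans (hs'' a)
  · -- empty family
    have hbot : iSup V = ⊥ := by
      rw [eq_bot_iff]
      exact iSup_le fun a => absurd ⟨a⟩ hι
    have hle : UV i hi (iSup V) ≤ W i hi := by
      rw [hbot]
      exact UV_bot_le i hi
    have hsub := subsingleton_of_le_W i hi G hG _ hle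
    obtain ⟨t⟩ := nonempty_of_le_W i hi G hG _ hle
    exact ⟨t, fun a => absurd ⟨a⟩ hι, fun s' _ => hsub.elim s' t⟩

/-- the preimage sheaf -/
def preObj : Z.Sheaf (Type u) := ⟨preObjPresheaf i hi G, preObj_isSheaf i hi G hG⟩

/-- the comparison `i_* (preObj G) ⟶ G` -/
def preObjHom : (TopCat.Sheaf.pushforward (Type u) i).obj (preObj i hi G hG) ⟶ G :=
  ⟨{ app := fun U => G.presheaf.map (homOfLE (le_UV_map i hi U.unop)).op
     naturality := by
      intro U U' f
      ext s
      obtain ⟨U⟩ := U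
      obtain ⟨U'⟩ := U'
      have hle : U' ≤ U := f.unop.le
      have hf : f = (homOfLE hle).op := Subsingleton.elim _ _
      subst hf
      exact map_map_eq G.presheaf _ _ _ _ s }⟩

lemma isIso_preObjHom : IsIso (preObjHom i hi G hG) := by
  haveI : ∀ U, IsIso ((preObjHom i hi G hG).hom.app U) := by
    rintro ⟨U⟩
    rw [isIso_iff_bijective]
    exact res_bijective i hi G hG (le_UV_map i hi U) (UV_map_le i hi U)
  haveI : IsIso (preObjHom i hi G hG).hom := NatIso.isIso_of_isIso_app _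
  haveI : IsIso ((sheafToPresheaf _ _).map (preObjHom i hi G hG)) := this
  exact (fullyFaithfulSheafToPresheaf _ _).isIso_of_isIso_map _

include hi hG in
theorem essImage_of_unique_stalks : (TopCat.Sheaf.pushforward (Type u) i).essImage G := by
  haveI := isIso_preObjHom i hi G hG
  exact ⟨preObj i hi G hG, ⟨asIso (preObjHom i hi G hG)⟩⟩

end EssImage

include hi in
theorem unique_stalk_of_essImage (G : X.Sheaf (Type u))
    (h : (TopCat.Sheaf.pushforward (Type u) i).essImage G) (x : X) (hx : x ∉ Set.range i) :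
    Nonempty (Unique (G.presheaf.stalk x)) := by
  obtain ⟨F, ⟨e⟩⟩ := h
  obtain ⟨uF⟩ := unique_stalk_push i hi F x hx
  have e' : ((TopCat.Sheaf.pushforward (Type u) i).obj F).presheaf.stalk x ≅ G.presheaf.stalk x :=
    (TopCat.Presheaf.stalkFunctor (Type u) x).mapIso ((sheafToPresheaf _ _).mapIso e)
  exact ⟨Equiv.unique e'.toEquiv.symm⟩

end Groth.Agent.Lib.helper11.ClosedPush
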