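import Groth.Agent.Lib.Helper11.PushSec
import Groth.Agent.Lib.Helper11.ClosedPush

/-!
# Pushforward of modules along a closed immersion of ringed spaces (helper11), part 1

`i : Z ⟶ X` a closed embedding, `c : O_X ⟶ i_* O_Z` locally surjective.  The direct image
`i_* : Mod(O_Z) ⥤ Mod(O_X)` preserves epimorphisms (hence is exact), is full and faithful, and kills
`ker c`.
-/

set_option autoImplicit false
universe u
open CategoryTheory CategoryTheory.Limits TopologicalSpace Opposite

namespace Groth.Agent.Lib.helper11.ClosedPushMod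

open Groth.Agent.Lib.helper11.OverGen Groth.Agent.Lib.helper11.FreeSec
  Groth.Agent.Lib.helper11.LocGen Groth.Agent.Lib.helper11.LocPres
  Groth.Agent.Lib.helper11.LocGenExt Groth.Agent.Lib.helper11.LocKer
  Groth.Agent.Lib.helper11.OverPres Groth.Agent.Lib.helper11.LocFree
  Groth.Agent.Lib.helper11.PushSec Groth.Agent.Lib.helper11.ClosedPush

variable {Z X : TopCat.{u}} (i : Z ⟶ X)
  {O_Z : TopCat.Sheaf CommRingCat.{u} Z} {O_X : TopCat.Sheaf CommRingCat.{u} X}
  (c : O_X ⟶ ((TopologicalSpace.Opens.map i).sheafPushforwardContinuous CommRingCat.{u}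
      (Opens.grothendieckTopology X) (Opens.grothendieckTopology Z)).obj O_Z)

/-- the direct image functor -/
noncomputable abbrev P : ModSite.Mod O_Z ⥤ ModSite.Mod O_X :=
  (ModSite.RMor.ofFlat (TopologicalSpace.Opens.map i) c).push

section General

variable {T : TopCat.{u}} {R : Sheaf (Opens.grothendieckTopology T) RingCat.{u}}
  (M : SheafOfModules.{u} R)

theorem resM_refl {U : Opens T} (h : U ≤ U) (m : M.val.obj (op U)) : resM M h m = m := by
  have : homOfLE h = 𝟙 U := Subsingleton.elim _ _
  unfold resM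
  rw [this, op_id, M.val.map_id]
  rfl

theorem resM_sub {U D : Opens T} (hD : D ≤ U) (m m' : M.val.obj (op U)) :
    resM M hD (m - m') = resM M hD m - resM M hD m' := map_sub _ _ _

/-- sections which agree locally are equal -/
theorem eq_of_locally_eq {D : Opens T} (y y' : M.val.obj (op D))
    (h : ∀ x ∈ D, ∃ (D' : Opens T) (hD' : D' ≤ D), x ∈ D' ∧ resM M hD' y = resM M hD' y') :
    y = y' := by
  rw [← sub_eq_zero]
  apply eq_zero_of_locally_zero
  intro x hx
  obtain ⟨D', hD', hxD', h0⟩ := h x hx
  exact ⟨D', hD', hxD', by rw [resM_sub, h0, sub_self]⟩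

end General

/-- local lifts of sections of `i_* O_Z` along `c` -/
theorem exists_lift (hc : Sheaf.IsLocallySurjective c) (U : Opens X)
    (a : (ModSite.ringSh O_Z).obj.obj (op ((Opens.map i).obj U))) (x : X) (hx : x ∈ U) :
    ∃ (W : Opens X) (hW : W ≤ U), x ∈ W ∧ ∃ γ : (ModSite.ringSh O_X).obj.obj (op W),
      cS i c W γ = resR (R := ModSite.ringSh O_Z) ((Opens.map i).monotone hW) a := by
  have hmem := Presheaf.imageSieve_mem (Opens.grothendieckTopology X) c.hom
    (show ToType ((((TopologicalSpace.Opens.map i).sheafPushforwardContinuous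
      CommRingCat.{u} (Opens.grothendieckTopology X)
      (Opens.grothendieckTopology Z)).obj O_Z).obj.obj (op U)) from a)
  obtain ⟨W, f, ⟨γ, hγ⟩, hxW⟩ := hmem x hx
  exact ⟨W, f.le, hxW, γ, hγ⟩

section Epi

variable {F G : ModSite.Mod O_Z}

theorem push_map_app (φ : F ⟶ G) (U : Opens X) (y : F.val.obj (op ((Opens.map i).obj U))) :
    (((P i c).map φ).val.app (op U)).hom (toPush i c F U y) =
      toPush i c G U ((φ.val.app (op ((Opens.map i).obj U))).hom y) := rfl

/-- the direct image along a closed embedding preserves epimorphisms -/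
theorem epi_push (hi : Topology.IsClosedEmbedding i) (φ : F ⟶ G) [Epi φ] : Epi ((P i c).map φ) := by
  apply epi_of_imgSieve_mem
  intro U y x hx
  by_cases hxr : x ∈ Set.range i
  · obtain ⟨z, rfl⟩ := hxr
    obtain ⟨W', hW', hzW', t, ht⟩ := exists_local_preimage φ ((Opens.map i).obj U)
      (ofPush i c G U y) z hx
    obtain ⟨D₁, hD₁, rfl⟩ := exists_preimage_eq i hi.isInducing U W' hW'
    exact ⟨D₁, homOfLE hD₁, ⟨toPush i c F D₁ t, ht⟩, hzW'⟩
  · refine ⟨U ⊓ W i hi, homOfLE inf_le_left, ⟨0, ?_⟩, ⟨hx, hxr⟩⟩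
    rw [map_zero]
    exact (eq_zero_of_disjoint i G (U ⊓ W i hi) (fun z hz => hz.2 ⟨z, rfl⟩) _).symm

end Epi

/-- the direct image along a closed embedding is exact -/
theorem preservesFiniteColimits_push (hi : Topology.IsClosedEmbedding i) :
    PreservesFiniteColimits (P i c) := by
  haveI : (P i c).PreservesEpimorphisms := ⟨fun φ _ => epi_push i c hi φ⟩
  haveI := Functor.preservesHomology_of_preservesEpis_and_kernels (P i c)
  exact Functor.preservesFiniteColimits_of_preservesHomology (P i c)

section FullFaithful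

variable (hi : Topology.IsClosedEmbedding i) {F G : ModSite.Mod O_Z}

/-- the component over `V` of the preimage of `ψ` -/
noncomputable def preApp (ψ : (P i c).obj F ⟶ (P i c).obj G) (V : Opens Z) (s : F.val.obj (op V)) :
    G.val.obj (op V) :=
  resM G (map_UV i hi V).ge (ofPush i c G (UV i hi V)
    ((ψ.val.app (op (UV i hi V))).hom (toPush i c F (UV i hi V) (resM F (map_UV i hi V).le s))))

theorem ψ_resM (ψ : (P i c).obj F ⟶ (P i c).obj G) {U D : Opens X} (hD : D ≤ U)
    (y : F.val.obj (op ((Opens.map i).obj U))) :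
    ofPush i c G D ((ψ.val.app (op D)).hom (toPush i c F D (resM F ((Opens.map i).monotone hD) y))) =
      resM G ((Opens.map i).monotone hD) (ofPush i c G U ((ψ.val.app (op U)).hom (toPush i c F U y))) :=
  app_resM ψ hD (toPush i c F U y)

theorem preApp_resM (ψ : (P i c).obj F ⟶ (P i c).obj G) {V V' : Opens Z} (h : V' ≤ V)
    (s : F.val.obj (op V)) :
    preApp i c hi ψ V' (resM F h s) = resM G h (preApp i c hi ψ V s) := by
  unfold preApp
  have h1 : resM F (map_UV i hi V').le (resM F h s) =
      resM F ((Opens.map i).monotone (UV_mono i hi h)) (resM F (map_UV i hi V).le s) := by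
    rw [resM_resM, resM_resM]
  rw [h1, ψ_resM i c ψ (UV_mono i hi h), resM_resM, resM_resM]

theorem preApp_map (ψ : (P i c).obj F ⟶ (P i c).obj G) (U : Opens X)
    (y : F.val.obj (op ((Opens.map i).obj U))) :
    preApp i c hi ψ ((Opens.map i).obj U) y =
      ofPush i c G U ((ψ.val.app (op U)).hom (toPush i c F U y)) := by
  unfold preApp
  have h2 : y = resM F ((Opens.map i).monotone (le_UV_map i hi U))
      (resM F (map_UV i hi ((Opens.map i).obj U)).le y) := by
    rw [resM_resM, resM_refl]
  conv_rhs => rw [h2]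
  rw [ψ_resM i c ψ (le_UV_map i hi U)]

theorem preApp_add (ψ : (P i c).obj F ⟶ (P i c).obj G) (V : Opens Z) (s s' : F.val.obj (op V)) :
    preApp i c hi ψ V (s + s') = preApp i c hi ψ V s + preApp i c hi ψ V s' := by
  unfold preApp
  rw [resM_add]
  exact (congrArg (resM G (map_UV i hi V).ge) (map_add (ψ.val.app (op (UV i hi V))).hom _ _)).trans
    (resM_add _ _ _)

theorem preApp_smul (hc : Sheaf.IsLocallySurjective c) (ψ : (P i c).obj F ⟶ (P i c).obj G)
    (V : Opens Z) (α : (ModSite.ringSh O_Z).obj.obj (op V)) (s : F.val.obj (op V)) :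
    preApp i c hi ψ V (α • s) = α • preApp i c hi ψ V s := by
  apply eq_of_locally_eq G
  intro z hz
  have hz' : i z ∈ UV i hi V := by
    have : z ∈ (Opens.map i).obj (UV i hi V) := by rw [map_UV]; exact hz
    exact this
  obtain ⟨W, hW, hzW, γ, hγ⟩ := exists_lift i c hc (UV i hi V)
    (resR (R := ModSite.ringSh O_Z) (map_UV i hi V).le α) (i z) hz'
  have hV' : (Opens.map i).obj W ≤ V := ((Opens.map i).monotone hW).trans (map_UV i hi V).le
  refine ⟨(Opens.map i).obj W, hV', hzW, ?_⟩
  have hα : resR (R := ModSite.ringSh O_Z) hV' α = cS i c W γ := by rw [hγ, resR_resR]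
  rw [← preApp_resM, resM_smul' G, ← preApp_resM, resM_smul' F, preApp_map, preApp_map, hα]
  exact (congrArg (ofPush i c G W) (map_smul (ψ.val.app (op W)).hom γ
    (toPush i c F W (resM F hV' s)))).trans (ofPush_smul i c G W γ _)

/-- the preimage of `ψ` under the direct image -/
noncomputable def pre (hc : Sheaf.IsLocallySurjective c) (ψ : (P i c).obj F ⟶ (P i c).obj G) :
    F ⟶ G :=
  ⟨PresheafOfModules.homMk
    { app := fun V => AddCommGrpCat.ofHom (AddMonoidHom.mk' (preApp i c hi ψ V.unop)
        (preApp_add i c hi ψ V.unop))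
      naturality := by
        intro V V' f
        ext s
        obtain ⟨V⟩ := V
        obtain ⟨V'⟩ := V'
        have hle : V' ≤ V := f.unop.le
        have hf : f = (homOfLE hle).op := Subsingleton.elim _ _
        subst hf
        exact preApp_resM i c hi ψ hle s }
    (fun V α s => preApp_smul i c hi hc ψ V.unop α s)⟩

theorem pre_app (hc : Sheaf.IsLocallySurjective c) (ψ : (P i c).obj F ⟶ (P i c).obj G)
    (V : Opens Z) (s : F.val.obj (op V)) :
    ((pre i c hi hc ψ).val.app (op V)).hom s = preApp i c hi ψ V s := rfl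

theorem map_pre (hc : Sheaf.IsLocallySurjective c) (ψ : (P i c).obj F ⟶ (P i c).obj G) :
    (P i c).map (pre i c hi hc ψ) = ψ := by
  apply SheafOfModules.hom_ext
  apply PresheafOfModules.hom_ext
  intro U
  induction U using Opposite.rec with | _ U => ?_
  ext y
  exact preApp_map i c hi ψ U y

theorem preApp_map_map (φ : F ⟶ G) (V : Opens Z) (s : F.val.obj (op V)) :
    preApp i c hi ((P i c).map φ) V s = (φ.val.app (op V)).hom s := by
  unfold preApp
  change resM G _ ((φ.val.app (op ((Opens.map i).obj (UV i hi V)))).hom (resM F _ s)) = _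
  rw [app_resM, resM_resM, resM_refl]

include hi in
theorem faithful_push : (P i c).Faithful := by
  refine ⟨fun {F G φ φ'} h => ?_⟩
  apply SheafOfModules.hom_ext
  apply PresheafOfModules.hom_ext
  intro V
  induction V using Opposite.rec with | _ V => ?_
  ext s
  rw [← preApp_map_map i c hi φ V s, ← preApp_map_map i c hi φ' V s, h]

include hi in
theorem full_push (hc : Sheaf.IsLocallySurjective c) : (P i c).Full :=
  ⟨fun ψ => ⟨pre i c hi hc ψ, map_pre i c hi hc ψ⟩⟩

end FullFaithful

/-- modules in the essential image of the direct image are killed by `ker c` -/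
theorem smul_eq_zero_of_essImage (G : ModSite.Mod O_X) (h : (P i c).essImage G) (U : Opens X)
    (a : (ModSite.ringSh O_X).obj.obj (op U)) (ha : cS i c U a = 0) (s : G.val.obj (op U)) :
    a • s = 0 := by
  obtain ⟨F, ⟨e⟩⟩ := h
  set t := (e.inv.val.app (op U)).hom s with ht
  have h1 : a • t = 0 := by
    change ofPush i c F U (a • t) = 0
    rw [ofPush_smul, ha, zero_smul]
  have h2 : (e.hom.val.app (op U)).hom t = s := by
    have h3 : e.inv ≫ e.hom = 𝟙 _ := e.inv_hom_id
    exact congrArg (fun ψ => (ψ.val.app (op U)).hom s) h3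
  rw [← h2, ← map_smul, h1, map_zero]

end Groth.Agent.Lib.helper11.ClosedPushMod
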