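import Groth.Agent.Lib.Helper11.ClosedPushMod1

/-!
# Pushforward of modules along a closed immersion of ringed spaces (helper11), part 2

An `O_X`-module `G` killed by `ker c` is a module over the quotient presheaf of rings `R₀ = O_X / ker c`, hence
(Mathlib's `PresheafOfModules.sheafify`) a sheaf of modules over `i_* O_Z`.
-/

set_option autoImplicit false
universe u
open CategoryTheory CategoryTheory.Limits TopologicalSpace Opposite

namespace Groth.Agent.Lib.helper11.ClosedPushMod

open Groth.Agent.Lib.helper11.OverGen Groth.Agent.Lib.helper11.FreeSec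
  Groth.Agent.Lib.helper11.LocGen Groth.Agent.Lib.helper11.LocPres
  Groth.Agent.Lib.helper11.LocGenExt Groth.Agent.Lib.helper11.LocKer
  Groth.Agent.Lib.helper11.OverPres Groth.Agent.Lib.helper11.LocFree
  Groth.Agent.Lib.helper11.PushSec Groth.Agent.Lib.helper11.ClosedPush

variable {Z X : TopCat.{u}} (i : Z ⟶ X)
  {O_Z : TopCat.Sheaf CommRingCat.{u} Z} {O_X : TopCat.Sheaf CommRingCat.{u} X}
  (c : O_X ⟶ ((TopologicalSpace.Opens.map i).sheafPushforwardContinuous CommRingCat.{u}
      (Opens.grothendieckTopology X) (Opens.grothendieckTopology Z)).obj O_Z)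

variable (O_Z) in
/-- the sheaf of rings `i_* O_Z` on `X` -/
noncomputable abbrev RZX : Sheaf (Opens.grothendieckTopology X) RingCat.{u} :=
  ((Opens.map i).sheafPushforwardContinuous RingCat.{u} (Opens.grothendieckTopology X)
    (Opens.grothendieckTopology Z)).obj (ModSite.ringSh O_Z)

/-- the comorphism on rings -/
noncomputable abbrev cR : ModSite.ringSh O_X ⟶ RZX i O_Z :=
  (ModSite.RMor.ofFlat (TopologicalSpace.Opens.map i) c).sharpR

/-- the comorphism on sections, as a ring homomorphism -/
noncomputable def cHom (U : (Opens X)ᵒᵖ) :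
    (ModSite.ringSh O_X).obj.obj U →+* (RZX i O_Z).obj.obj U := ((cR i c).hom.app U).hom

theorem cHom_map {U V : (Opens X)ᵒᵖ} (f : U ⟶ V) (a : (ModSite.ringSh O_X).obj.obj U) :
    cHom i c V (((ModSite.ringSh O_X).obj.map f).hom a) =
      ((RZX i O_Z).obj.map f).hom (cHom i c U a) :=
  congrArg (fun φ => φ.hom a) ((cR i c).hom.naturality f)

/-- the kernel of the comorphism on sections -/
noncomputable def K (U : (Opens X)ᵒᵖ) : Ideal ((ModSite.ringSh O_X).obj.obj U) := RingHom.ker (cHom i c U)

instance (U : (Opens X)ᵒᵖ) : (K i c U).IsTwoSided := inferInstanceAs (RingHom.ker (cHom i c U)).IsTwoSided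

theorem K_map {U V : (Opens X)ᵒᵖ} (f : U ⟶ V) :
    K i c U ≤ (K i c V).comap ((ModSite.ringSh O_X).obj.map f).hom := by
  intro a ha
  have ha' : cHom i c U a = 0 := ha
  change cHom i c V (((ModSite.ringSh O_X).obj.map f).hom a) = 0
  rw [cHom_map, ha', map_zero]

/-- the quotient presheaf of rings `O_X / ker c` -/
noncomputable def R₀ : (Opens X)ᵒᵖ ⥤ RingCat.{u} where
  obj U := RingCat.of ((ModSite.ringSh O_X).obj.obj U ⧸ K i c U)
  map {U V} f := RingCat.ofHom (Ideal.quotientMap (K i c V) ((ModSite.ringSh O_X).obj.map f).hom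
    (K_map i c f))
  map_id U := by
    apply RingCat.hom_ext
    apply Ideal.Quotient.ringHom_ext
    ext a
    simp
  map_comp f g := by
    apply RingCat.hom_ext
    apply Ideal.Quotient.ringHom_ext
    ext a
    simp

theorem R₀_map_mk {U V : (Opens X)ᵒᵖ} (f : U ⟶ V) (a : (ModSite.ringSh O_X).obj.obj U) :
    ((R₀ i c).map f).hom (Ideal.Quotient.mk (K i c U) a) =
      Ideal.Quotient.mk (K i c V) (((ModSite.ringSh O_X).obj.map f).hom a) := rfl

/-- the comparison `O_X / ker c ⟶ i_* O_Z` -/
noncomputable def α : R₀ i c ⟶ (RZX i O_Z).obj where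
  app U := RingCat.ofHom (Ideal.Quotient.lift (K i c U) (cHom i c U) (fun a ha => ha))
  naturality U V f := by
    apply RingCat.hom_ext
    apply Ideal.Quotient.ringHom_ext
    ext a
    exact cHom_map i c f a

theorem α_mk (U : (Opens X)ᵒᵖ) (a : (ModSite.ringSh O_X).obj.obj U) :
    ((α i c).app U).hom (Ideal.Quotient.mk (K i c U) a) = cHom i c U a := rfl

instance : Presheaf.IsLocallyInjective (Opens.grothendieckTopology X) (α i c) := by
  apply Presheaf.isLocallyInjective_of_injective
  intro U
  exact RingHom.lift_injective_of_ker_le_ideal (K i c U) (fun a ha => ha) le_rfl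

theorem isLocallySurjective_α (hc : Sheaf.IsLocallySurjective c) :
    Presheaf.IsLocallySurjective (Opens.grothendieckTopology X) (α i c) := by
  refine ⟨fun {U} s => ?_⟩
  intro x hx
  obtain ⟨W, hW, hxW, γ, hγ⟩ := exists_lift i c hc U s x hx
  exact ⟨W, homOfLE hW, ⟨Ideal.Quotient.mk (K i c (op W)) γ, hγ⟩, hxW⟩

section Killed

variable (G : ModSite.Mod O_X)
  (hG : ∀ (U : Opens X) (a : (ModSite.ringSh O_X).obj.obj (op U)), cS i c U a = 0 →
    ∀ s : G.val.obj (op U), a • s = 0)

include hG in
theorem isTorsionBySet (U : (Opens X)ᵒᵖ) :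
    Module.IsTorsionBySet ((ModSite.ringSh O_X).obj.obj U) (G.val.obj U) (K i c U : Set _) := by
  intro s a
  obtain ⟨U⟩ := U
  exact hG U a.1 a.2 s

/-- the module structure over the quotient ring -/
noncomputable abbrev modR₀ (U : (Opens X)ᵒᵖ) : Module ((R₀ i c).obj U) (G.val.presheaf.obj U) :=
  Module.IsTorsionBySet.module (isTorsionBySet i c G hG U)

theorem mk_smul (U : (Opens X)ᵒᵖ) (a : (ModSite.ringSh O_X).obj.obj U) (s : G.val.obj U) :
    letI := modR₀ i c G hG U
    (show (R₀ i c).obj U from Ideal.Quotient.mk (K i c U) a) • (show G.val.presheaf.obj U from s) =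
      (show G.val.presheaf.obj U from a • s) :=
  Module.IsTorsionBySet.mk_smul (isTorsionBySet i c G hG U) a s

/-- `G` as a presheaf of modules over the quotient presheaf of rings -/
noncomputable def M₀ : PresheafOfModules.{u} (R₀ i c) :=
  letI := modR₀ i c G hG
  PresheafOfModules.ofPresheaf G.val.presheaf (by
    intro U V f r m
    obtain ⟨a, rfl⟩ := Ideal.Quotient.mk_surjective r
    rw [R₀_map_mk]
    erw [mk_smul i c G hG U a m, mk_smul i c G hG V]
    exact PresheafOfModules.map_smul G.val f a m)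

variable (hc : Sheaf.IsLocallySurjective c)

/-- the underlying abelian sheaf of `G` -/
noncomputable abbrev GA : Sheaf (Opens.grothendieckTopology X) AddCommGrpCat.{u} :=
  ⟨G.val.presheaf, G.isSheaf⟩

/-- the identity of the underlying abelian presheaf -/
noncomputable def φ₀ : (M₀ i c G hG).presheaf ⟶ (GA G).obj := 𝟙 G.val.presheaf

theorem φ₀_app (U : (Opens X)ᵒᵖ) (m : G.val.obj U) : (φ₀ i c G hG).app U m = m := rfl

instance : Presheaf.IsLocallyInjective (Opens.grothendieckTopology X) (φ₀ i c G hG) :=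
  Presheaf.isLocallyInjective_of_injective _ _ (fun _ _ _ h => h)

instance : Presheaf.IsLocallySurjective (Opens.grothendieckTopology X) (φ₀ i c G hG) :=
  Presheaf.isLocallySurjective_of_surjective _ _ (fun _ m => ⟨m, rfl⟩)

/-- `G` as a sheaf of modules over `i_* O_Z` -/
noncomputable def N : SheafOfModules.{u} (RZX i O_Z) :=
  haveI := isLocallySurjective_α i c hc
  PresheafOfModules.sheafify (α i c) (φ₀ i c G hG)

/-- sections of `N` are sections of `G` -/
def toN (U : (Opens X)ᵒᵖ) (m : G.val.obj U) : (N i c G hG hc).val.obj U := m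

def ofN (U : (Opens X)ᵒᵖ) (m : (N i c G hG hc).val.obj U) : G.val.obj U := m

theorem N_smul (U : (Opens X)ᵒᵖ) (a : (ModSite.ringSh O_X).obj.obj U) (m : G.val.obj U) :
    cHom i c U a • toN i c G hG hc U m = toN i c G hG hc U (a • m) := by
  haveI := isLocallySurjective_α i c hc
  have h := map_smul ((PresheafOfModules.toSheafify (α i c) (φ₀ i c G hG)).app U).hom
    (show (R₀ i c).obj U from Ideal.Quotient.mk (K i c U) a) (show (M₀ i c G hG).obj U from m)
  erw [mk_smul i c G hG U a m] at h
  exact h.symm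

end Killed

end Groth.Agent.Lib.helper11.ClosedPushMod
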