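import Groth.Agent.Lib.Helper11.ClosedPushMod2

/-!
# Pushforward of modules along a closed immersion of ringed spaces (helper11), part 3

An `O_X`-module `G` killed by `ker c` is in the essential image of `i_*`.
-/

set_option autoImplicit false
universe u
open CategoryTheory CategoryTheory.Limits TopologicalSpace Opposite

namespace Groth.Agent.Lib.helper11.ClosedPushMod

open Groth.Agent.Lib.helper11.OverGen Groth.Agent.Lib.helper11.FreeSec
  Groth.Agent.Lib.helper11.LocGen Groth.Agent.Lib.helper11.LocPres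
  Groth.Agent.Lib.helper11.LocGenExt Groth.Agent.Lib.helper11.LocKer
  Groth.Agent.Lib.helper11.OverPres Groth.Agent.Lib.helper11.LocFree
  Groth.Agent.Lib.helper11.PushSec Groth.Agent.Lib.helper11.ClosedPush

variable {Z X : TopCat.{u}} (i : Z ⟶ X)
  {O_Z : TopCat.Sheaf CommRingCat.{u} Z} {O_X : TopCat.Sheaf CommRingCat.{u} X}
  (c : O_X ⟶ ((TopologicalSpace.Opens.map i).sheafPushforwardContinuous CommRingCat.{u}
      (Opens.grothendieckTopology X) (Opens.grothendieckTopology Z)).obj O_Z)
  (hi : Topology.IsClosedEmbedding i)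

section General

variable {T : TopCat.{u}} {R : Sheaf (Opens.grothendieckTopology T) RingCat.{u}}

theorem resR_refl {U : Opens T} (h : U ≤ U) (r : R.obj.obj (op U)) : resR (R := R) h r = r := by
  have : homOfLE h = 𝟙 U := Subsingleton.elim _ _
  unfold resR
  rw [this, op_id, R.obj.map_id]
  rfl

/-- a morphism of sheaves of modules which is bijective on sections is an isomorphism -/
theorem isIso_of_bijective {F G : SheafOfModules.{u} R} (φ : F ⟶ G)
    (h : ∀ U : Opens T, Function.Bijective (φ.val.app (op U)).hom) : IsIso φ := by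
  have h1 : ∀ U : (Opens T)ᵒᵖ, IsIso (((SheafOfModules.toSheaf R).map φ).hom.app U) := fun U =>
    (ConcreteCategory.isIso_iff_bijective _).mpr (h U.unop)
  have h2 : IsIso ((SheafOfModules.toSheaf R).map φ).hom := NatIso.isIso_of_isIso_app _
  have h3 : IsIso ((sheafToPresheaf _ _).map ((SheafOfModules.toSheaf R).map φ)) := h2
  have h4 : IsIso ((SheafOfModules.toSheaf R).map φ) := isIso_of_reflects_iso _ (sheafToPresheaf _ _)
  exact isIso_of_reflects_iso φ (SheafOfModules.toSheaf R)

end General

/-- the ring of sections of `O_Z` over the preimage of an open missing the image is trivial -/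
theorem ring_eq_zero_of_disjoint (D : Opens X) (hD : ∀ z : Z, i z ∉ D)
    (r : (ModSite.ringSh O_Z).obj.obj (op ((Opens.map i).obj D))) : r = 0 :=
  eq_zero_of_disjoint i (SheafOfModules.unit (ModSite.ringSh O_Z)) D hD r

/-- transport of scalars `O_Z(V) → O_Z(i⁻¹ (UV V))` -/
noncomputable def φ' : (ModSite.ringSh O_Z).obj ⟶ (UVfun i hi).op ⋙ (RZX i O_Z).obj where
  app V := (ModSite.ringSh O_Z).obj.map (homOfLE (map_UV i hi V.unop).le).op
  naturality V V' f := by
    change (ModSite.ringSh O_Z).obj.map f ≫ (ModSite.ringSh O_Z).obj.map _ =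
      (ModSite.ringSh O_Z).obj.map _ ≫ (ModSite.ringSh O_Z).obj.map _
    rw [← Functor.map_comp, ← Functor.map_comp]
    congr 1

section Killed

variable (G : ModSite.Mod O_X)
  (hG : ∀ (U : Opens X) (a : (ModSite.ringSh O_X).obj.obj (op U)), cS i c U a = 0 →
    ∀ s : G.val.obj (op U), a • s = 0)
  (hc : Sheaf.IsLocallySurjective c)

include hG in
theorem subsingleton_G (W' : Opens X) (hW' : W' ≤ W i hi) : Subsingleton (G.val.obj (op W')) := by
  have h0 : ∀ s : G.val.obj (op W'), s = 0 := by
    intro s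
    have h1 : cS i c W' 1 = 0 :=
      ring_eq_zero_of_disjoint i W' (fun z hz => hW' hz ⟨z, rfl⟩) _
    have h2 := hG W' 1 h1 s
    rwa [one_smul] at h2
  exact ⟨fun s t => (h0 s).trans (h0 t).symm⟩

/-- the underlying sheaf of sets of `G` -/
noncomputable def Gs : TopCat.Sheaf (Type u) X :=
  ⟨G.val.presheaf ⋙ forget AddCommGrpCat.{u},
    (Presheaf.isSheaf_iff_isSheaf_forget _ _ (forget AddCommGrpCat.{u})).mp G.isSheaf⟩

include hi hG in
theorem unique_stalk_Gs (x : X) (hx : x ∉ Set.range i) :
    Nonempty (Unique ((Gs G).presheaf.stalk x)) := by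
  set Pr := (Gs G).presheaf with hPr
  refine ⟨{ default := Pr.germ (W i hi) x hx (0 : G.val.obj (op (W i hi))), uniq := ?_ }⟩
  intro t
  obtain ⟨U, hxU, s, rfl⟩ := Pr.exists_germ_eq t
  have hxUW : x ∈ U ⊓ W i hi := ⟨hxU, hx⟩
  rw [← Pr.germ_res_apply (homOfLE inf_le_left : U ⊓ W i hi ⟶ U) x hxUW s,
    ← Pr.germ_res_apply (homOfLE inf_le_right : U ⊓ W i hi ⟶ W i hi) x hxUW
      (0 : G.val.obj (op (W i hi)))]
  congr 1
  haveI : Subsingleton (G.val.obj (op (U ⊓ W i hi))) :=
    subsingleton_G i c hi G hG (U ⊓ W i hi) inf_le_right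
  exact Subsingleton.elim (α := G.val.obj (op (U ⊓ W i hi))) _ _

/-- the presheaf of modules `V ↦ G(UV V)` over `O_Z` -/
noncomputable def Fval : PresheafOfModules.{u} (ModSite.ringSh O_Z).obj :=
  (PresheafOfModules.pushforward (φ' i hi)).obj (N i c G hG hc).val

theorem isSheaf_Fval :
    Presheaf.IsSheaf (Opens.grothendieckTopology Z) (Fval i c hi G hG hc).presheaf := by
  rw [Presheaf.isSheaf_iff_isSheaf_forget _ _ (forget AddCommGrpCat.{u})]
  exact preObj_isSheaf i hi (Gs G) (unique_stalk_Gs i c hi G hG)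

/-- the preimage of `G` under the direct image -/
noncomputable def F : ModSite.Mod O_Z := ⟨Fval i c hi G hG hc, isSheaf_Fval i c hi G hG hc⟩

/-- sections of `F` over `V` are sections of `G` over `UV V` -/
def ofF (V : Opens Z) (t : (F i c hi G hG hc).val.obj (op V)) : G.val.obj (op (UV i hi V)) := t

def toF (V : Opens Z) (t : G.val.obj (op (UV i hi V))) : (F i c hi G hG hc).val.obj (op V) := t

theorem ofF_smul (V : Opens Z) (β : (ModSite.ringSh O_Z).obj.obj (op V))
    (t : (F i c hi G hG hc).val.obj (op V)) :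
    toN i c G hG hc (op (UV i hi V)) (ofF i c hi G hG hc V (β • t)) =
      (show (RZX i O_Z).obj.obj (op (UV i hi V)) from
        resR (R := ModSite.ringSh O_Z) (map_UV i hi V).le β) •
        toN i c G hG hc (op (UV i hi V)) (ofF i c hi G hG hc V t) := rfl

theorem ofF_add (V : Opens Z) (t t' : (F i c hi G hG hc).val.obj (op V)) :
    ofF i c hi G hG hc V (t + t') = ofF i c hi G hG hc V t + ofF i c hi G hG hc V t' := rfl

theorem ofF_resM {V V' : Opens Z} (h : V' ≤ V) (t : (F i c hi G hG hc).val.obj (op V)) :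
    ofF i c hi G hG hc V' (resM (F i c hi G hG hc) h t) =
      resM G (UV_mono i hi h) (ofF i c hi G hG hc V t) := rfl

/-- the comparison `i_* F ⟶ G` on sections: restriction from `UV (i⁻¹ U)` to `U` -/
noncomputable def ρfun (U : Opens X) (t : ((P i c).obj (F i c hi G hG hc)).val.obj (op U)) :
    G.val.obj (op U) :=
  resM G (le_UV_map i hi U)
    (ofF i c hi G hG hc ((Opens.map i).obj U) (ofPush i c (F i c hi G hG hc) U t))

theorem ρfun_add (U : Opens X) (t t' : ((P i c).obj (F i c hi G hG hc)).val.obj (op U)) :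
    ρfun i c hi G hG hc U (t + t') = ρfun i c hi G hG hc U t + ρfun i c hi G hG hc U t' := by
  unfold ρfun
  rw [ofPush_add, ofF_add, resM_add]

theorem ρfun_resM {U D : Opens X} (hD : D ≤ U)
    (t : ((P i c).obj (F i c hi G hG hc)).val.obj (op U)) :
    ρfun i c hi G hG hc D (resM ((P i c).obj (F i c hi G hG hc)) hD t) =
      resM G hD (ρfun i c hi G hG hc U t) := by
  unfold ρfun
  rw [ofPush_resM, ofF_resM, resM_resM, resM_resM]

theorem ρfun_smul (U : Opens X) (a : (ModSite.ringSh O_X).obj.obj (op U))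
    (t : ((P i c).obj (F i c hi G hG hc)).val.obj (op U)) :
    ρfun i c hi G hG hc U (a • t) = a • ρfun i c hi G hG hc U t := by
  unfold ρfun
  rw [ofPush_smul]
  set t' := ofPush i c (F i c hi G hG hc) U t with ht'
  have h1 := PresheafOfModules.map_smul (N i c G hG hc).val (homOfLE (le_UV_map i hi U)).op
    (show (RZX i O_Z).obj.obj (op (UV i hi ((Opens.map i).obj U))) from
      resR (R := ModSite.ringSh O_Z) (map_UV i hi ((Opens.map i).obj U)).le (cS i c U a))
    (toN i c G hG hc (op (UV i hi ((Opens.map i).obj U)))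
      (ofF i c hi G hG hc ((Opens.map i).obj U) t'))
  have hr : ((RZX i O_Z).obj.map (homOfLE (le_UV_map i hi U)).op).hom
      (show (RZX i O_Z).obj.obj (op (UV i hi ((Opens.map i).obj U))) from
        resR (R := ModSite.ringSh O_Z) (map_UV i hi ((Opens.map i).obj U)).le (cS i c U a)) =
      cHom i c (op U) a := by
    change resR (R := ModSite.ringSh O_Z) ((Opens.map i).monotone (le_UV_map i hi U))
      (resR (R := ModSite.ringSh O_Z) (map_UV i hi ((Opens.map i).obj U)).le (cS i c U a)) =
        cS i c U a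
    rw [resR_resR, resR_refl]
  rw [hr] at h1
  exact h1.trans (N_smul i c G hG hc (op U) a
    (resM G (le_UV_map i hi U) (ofF i c hi G hG hc ((Opens.map i).obj U) t')))

/-- the comparison `i_* F ⟶ G` -/
noncomputable def ρ : (P i c).obj (F i c hi G hG hc) ⟶ G :=
  ⟨PresheafOfModules.homMk
    { app := fun U => AddCommGrpCat.ofHom (AddMonoidHom.mk' (ρfun i c hi G hG hc U.unop)
        (ρfun_add i c hi G hG hc U.unop))
      naturality := by
        intro U U' f
        ext s
        obtain ⟨U⟩ := U
        obtain ⟨U'⟩ := U'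
        have hle : U' ≤ U := f.unop.le
        have hf : f = (homOfLE hle).op := Subsingleton.elim _ _
        subst hf
        exact ρfun_resM i c hi G hG hc hle s }
    (fun U a t => ρfun_smul i c hi G hG hc U.unop a t)⟩

theorem ρ_app (U : Opens X) (t : ((P i c).obj (F i c hi G hG hc)).val.obj (op U)) :
    ((ρ i c hi G hG hc).val.app (op U)).hom t = ρfun i c hi G hG hc U t := rfl

theorem bijective_ρfun (U : Opens X) : Function.Bijective (ρfun i c hi G hG hc U) :=
  res_bijective i hi (Gs G) (unique_stalk_Gs i c hi G hG) (le_UV_map i hi U) (UV_map_le i hi U)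

theorem isIso_ρ : IsIso (ρ i c hi G hG hc) :=
  isIso_of_bijective _ (fun U => bijective_ρfun i c hi G hG hc U)

include hi hG hc in
/-- a module killed by `ker c` is in the essential image of the direct image -/
theorem essImage_of_killed : (P i c).essImage G :=
  haveI := isIso_ρ i c hi G hG hc
  ⟨F i c hi G hG hc, ⟨asIso (ρ i c hi G hG hc)⟩⟩

end Killed

end Groth.Agent.Lib.helper11.ClosedPushMod
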