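import Mathlib
import Groth.Agent.Lib.Helper8.LocalFlat
import Groth.Agent.Lib.Helper11.BCLim

/-!
# Flatness of a map of adic Noetherian rings from flatness modulo the powers (helper11)
-/

set_option autoImplicit false
universe u
open Groth.Agent.Lib.helper8.PullbackUnit TensorProduct

namespace Groth.Agent.Lib.helper11.FlatLim

variable {A A' : Type u} [CommRing A] [CommRing A'] [IsNoetherianRing A] [IsNoetherianRing A']
  (φ : A →+* A') (J : Ideal A) (hJ : J.map φ ≤ Ideal.jacobson ⊥)
  {B B' : ℕ → Type u} [∀ k, CommRing (B k)] [∀ k, CommRing (B' k)]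
  (p : ∀ k, A →+* B k) (hp : ∀ k, Function.Surjective (p k))
  (hkp : ∀ k, RingHom.ker (p k) = J ^ (k + 1))
  (p' : ∀ k, A' →+* B' k) (hp' : ∀ k, Function.Surjective (p' k))
  (hkp' : ∀ k, RingHom.ker (p' k) = (J ^ (k + 1)).map φ)
  (β : ∀ k, B k →+* B' k) (hβ : ∀ k, (β k).Flat)
  (hcomm : ∀ k, (β k).comp (p k) = (p' k).comp φ)

include hJ hp hkp hp' hkp' hβ hcomm in
/-- a ring map `A → A'` of Noetherian rings with `JA'` in the radical, flat modulo all `J^(k+1)`,
is flat -/
theorem flat_of_levels : φ.Flat := by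
  letI : Algebra A A' := φ.toAlgebra
  change Module.Flat A A'
  refine Groth.Agent.Lib.helper8.LocalFlat.flat_of_forall_flat_quotient_pow (R := A) (S := A')
    (M := A') J hJ ?_
  intro k hk
  obtain ⟨n, rfl⟩ : ∃ n, k = n + 1 := ⟨k - 1, by omega⟩
  -- the quotient ring and its identification with `B n`
  let e : A ⧸ J ^ (n + 1) →+* B n := Ideal.Quotient.lift (J ^ (n + 1)) (p n) (by
    intro a ha
    rw [← hkp n] at ha
    exact ha)
  have he : Function.Bijective e := by
    constructor
    · rw [injective_iff_map_eq_zero]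
      intro x hx
      obtain ⟨a, rfl⟩ := Ideal.Quotient.mk_surjective x
      rw [Ideal.Quotient.eq_zero_iff_mem, ← hkp n]
      exact hx
    · intro b
      obtain ⟨a, rfl⟩ := hp n b
      exact ⟨Ideal.Quotient.mk _ a, rfl⟩
  let γ : A ⧸ J ^ (n + 1) →+* B' n := (β n).comp e
  have hγ : γ.Flat := (RingHom.Flat.of_bijective he).comp (hβ n)
  letI : Algebra (A ⧸ J ^ (n + 1)) (B' n) := γ.toAlgebra
  haveI : Module.Flat (A ⧸ J ^ (n + 1)) (B' n) := hγ
  letI : Module A (B' n) := Module.compHom (B' n) ((p' n).comp φ)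
  haveI : IsScalarTower A (A ⧸ J ^ (n + 1)) (B' n) := ⟨fun a b x => by
    change γ (Ideal.Quotient.mk _ a * b) * x = (p' n) (φ a) * (γ b * x)
    rw [map_mul, mul_assoc]
    congr 1
    exact congrArg (fun f => f a) (hcomm n)⟩
  let l : A' →ₗ[A] B' n :=
    { toFun := p' n
      map_add' := map_add _
      map_smul' := fun a x => by
        change p' n (φ a * x) = (p' n) (φ a) * p' n x
        rw [map_mul] }
  have hl : IsBC (algebraMap A (A ⧸ J ^ (n + 1))) l.toAddMonoidHom := by
    refine BCLim.IsBC.of_surjective Ideal.Quotient.mk_surjective (hp' n) ?_ ?_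
    · intro a x
      change p' n (φ a * x) = γ (Ideal.Quotient.mk _ a) * p' n x
      rw [map_mul]
      congr 1
      exact (congrArg (fun f => f a) (hcomm n)).symm
    · intro x hx
      have h1 : x ∈ (J ^ (n + 1)).map φ := by
        rw [← hkp' n]
        exact hx
      have h2 : RingHom.ker (algebraMap A (A ⧸ J ^ (n + 1))) = J ^ (n + 1) := Ideal.mk_ker
      rw [h2]
      have h3 : (J ^ (n + 1)).map φ = (J ^ (n + 1)).map (algebraMap A A') := rfl
      rw [h3] at h1
      rw [Ideal.smul_top_eq_map]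
      exact h1
  have hbc : IsBaseChange (A ⧸ J ^ (n + 1)) l := IsBC.isBaseChange l hl
  exact Module.Flat.of_linearEquiv hbc.equiv

end Groth.Agent.Lib.helper11.FlatLim
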