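import Mathlib

/-!
# Sheaves of modules on a topological space: criteria on a basis of opens (helper11)

For `R` a sheaf of rings on (the site of opens of) a topological space `T` and `F G : SheafOfModules R`:
* `app_map` (naturality on sections), `hom_ext_of_basis`, `epi_of_surjective_on_basis`,
  `mono_of_injective_on_basis`, `eq_zero_of_basis`.
-/

set_option autoImplicit false
universe u
open CategoryTheory CategoryTheory.Limits TopologicalSpace Opposite

namespace Groth.Agent.Lib.helper11.ModTop

variable {T : TopCat.{u}} {R : Sheaf (Opens.grothendieckTopology T) RingCat.{u}}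

/-- naturality of a morphism of sheaves of modules on sections -/
theorem app_map {F G : SheafOfModules.{u} R} (a : F ⟶ G) {W D : Opens T} (h : D ≤ W)
    (s : F.val.obj (op W)) :
    (a.val.app (op D)).hom ((F.val.map (homOfLE h).op).hom s) =
      (G.val.map (homOfLE h).op).hom ((a.val.app (op W)).hom s) := by
  have := PresheafOfModules.naturality_apply a.val (homOfLE h).op s
  exact this

/-- two morphisms of sheaves of modules agreeing on a basis of opens are equal -/
theorem hom_ext_of_basis {F G : SheafOfModules.{u} R} (a b : F ⟶ G) (𝔅 : Set (Opens T))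
    (h𝔅 : Opens.IsBasis 𝔅)
    (h : ∀ D ∈ 𝔅, ∀ s : F.val.obj (op D), (a.val.app (op D)).hom s = (b.val.app (op D)).hom s) :
    a = b := by
  apply SheafOfModules.hom_ext
  apply PresheafOfModules.hom_ext
  intro W
  induction W using Opposite.rec with | _ W => ?_
  ext s
  have hG : TopCat.Presheaf.IsSheaf (G.val.presheaf) := G.isSheaf
  refine TopCat.Presheaf.IsSheaf.section_ext hG (U := op W) ?_
  intro x hx
  obtain ⟨D, hD, hxD, hDW⟩ := Opens.isBasis_iff_nbhd.mp h𝔅 hx
  refine ⟨D, hDW, hxD, ?_⟩
  have h1 := app_map a hDW s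
  have h2 := app_map b hDW s
  exact h1.symm.trans ((h D hD _).trans h2)

/-- a morphism which is surjective on sections over a basis of opens is an epimorphism -/
theorem epi_of_surjective_on_basis {F G : SheafOfModules.{u} R} (p : F ⟶ G) (𝔅 : Set (Opens T))
    (h𝔅 : Opens.IsBasis 𝔅) (h : ∀ D ∈ 𝔅, Function.Surjective (p.val.app (op D)).hom) : Epi p := by
  refine ⟨fun {N} a b hab => ?_⟩
  refine hom_ext_of_basis a b 𝔅 h𝔅 (fun D hD s => ?_)
  obtain ⟨t, rfl⟩ := h D hD s
  have h1 : (p ≫ a).val.app (op D) = (p ≫ b).val.app (op D) := by rw [hab]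
  exact congr($(h1).hom t)

/-- a morphism which is injective on sections over a basis of opens is a monomorphism -/
theorem mono_of_injective_on_basis {F G : SheafOfModules.{u} R} (p : F ⟶ G) (𝔅 : Set (Opens T))
    (h𝔅 : Opens.IsBasis 𝔅) (h : ∀ D ∈ 𝔅, Function.Injective (p.val.app (op D)).hom) : Mono p := by
  refine ⟨fun {N} a b hab => ?_⟩
  refine hom_ext_of_basis a b 𝔅 h𝔅 (fun D hD s => ?_)
  apply h D hD
  have h1 : (a ≫ p).val.app (op D) = (b ≫ p).val.app (op D) := by rw [hab]
  exact congr($(h1).hom s)

/-- a morphism vanishing on sections over a basis of opens is zero -/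
theorem eq_zero_of_basis {F G : SheafOfModules.{u} R} (a : F ⟶ G) (𝔅 : Set (Opens T))
    (h𝔅 : Opens.IsBasis 𝔅)
    (h : ∀ D ∈ 𝔅, ∀ s : F.val.obj (op D), (a.val.app (op D)).hom s = 0) : a = 0 := by
  refine hom_ext_of_basis a 0 𝔅 h𝔅 (fun D hD s => ?_)
  rw [h D hD s]
  rfl

end Groth.Agent.Lib.helper11.ModTop
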