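import Mathlib
import Groth.Prelude.Def_FSch5
import Groth.Agent.Lib.Helper11.ModTop

/-!
# Sections of `O_𝔛` and of `lim_k (u_k)_* G_k` over an open (helper11)

For a formal system `𝔛`, `U` open in the common space:
* ring side: `OU` (sections of `O_𝔛`), `RU k` (sections of `O_{X_k}` over `lvU k U`), `πU`, `prU`,
  `πU_prU`, `osh_ext`, `osh_exists` (sections of `O_𝔛` over `U` = compatible families);
* module side, for `realLim 𝔛 h G t`: `FU`, `MU k`, `secProj`, `trans`, `trans_secProj`, `trans_eq`,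
  `sec_ext`, `sec_exists` (sections = compatible families), `secProj_smul`.
-/

set_option autoImplicit false
universe u
open CategoryTheory CategoryTheory.Limits AlgebraicGeometry TopologicalSpace Opposite

namespace Groth.Agent.Lib.helper11.RealLimSec

open FSch

/-- sections of an `ℕᵒᵖ`-diagram of types: compatibility with successor maps suffices -/
theorem map_homOfLE_eq (G : ℕᵒᵖ ⥤ Type u) (x : ∀ n, G.obj (op n))
    (hx : ∀ n, G.map (homOfLE (Nat.le_succ n)).op (x (n + 1)) = x n) :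
    ∀ (a b : ℕ) (hab : b ≤ a), G.map (homOfLE hab).op (x a) = x b := by
  intro a
  induction a with
  | zero =>
    intro b hab
    obtain rfl : b = 0 := Nat.le_zero.mp hab
    have : (homOfLE hab).op = 𝟙 (op 0) := Subsingleton.elim _ _
    rw [this, G.map_id]
    rfl
  | succ a ih =>
    intro b hab
    rcases Nat.eq_or_lt_of_le hab with rfl | hlt
    · have : (homOfLE hab).op = 𝟙 (op (a + 1)) := Subsingleton.elim _ _
      rw [this, G.map_id]
      rfl
    · have hba : b ≤ a := Nat.lt_succ_iff.mp hlt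
      have : (homOfLE hab).op = (homOfLE (Nat.le_succ a)).op ≫ (homOfLE hba).op :=
        Subsingleton.elim _ _
      rw [this, G.map_comp]
      change G.map (homOfLE hba).op (G.map (homOfLE (Nat.le_succ a)).op (x (a + 1))) = x b
      rw [hx a, ih b hba]

/-- a compatible family in an `ℕᵒᵖ`-diagram of types, as a section -/
def mkSection (G : ℕᵒᵖ ⥤ Type u) (x : ∀ n, G.obj (op n))
    (hx : ∀ n, G.map (homOfLE (Nat.le_succ n)).op (x (n + 1)) = x n) : G.sections :=
  ⟨fun j => x j.unop, fun {j j'} φ => by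
    have h2 := map_homOfLE_eq G x hx j.unop j'.unop (leOfHom φ.unop)
    have h3 : φ = (homOfLE (leOfHom φ.unop)).op := Subsingleton.elim _ _
    rw [h3]
    exact h2⟩

variable (𝔛 : FSch.Sys.{u}) (h : 𝔛.IsFormal) (U : (𝔛.X 0).Opens)

section Ring

/-- sections of `O_𝔛` over `U` -/
abbrev OU : Type u := ↑((𝔛.Osh h).obj.obj (op U))

/-- the level rings -/
abbrev RU (k : ℕ) : Type u := Γ(𝔛.X k, 𝔛.lvU h k U)

/-- the transition maps of the level rings -/
noncomputable abbrev πU (k : ℕ) : RU 𝔛 h U (k + 1) →+* RU 𝔛 h U k :=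
  ((𝔛.ι k).appLE (𝔛.lvU h (k + 1) U) (𝔛.lvU h k U) (𝔛.lvU_le h k U)).hom

/-- the projections `O_𝔛(U) → O_{X_k}(U_k)` -/
noncomputable abbrev prU (k : ℕ) : OU 𝔛 h U →+* RU 𝔛 h U k :=
  ((𝔛.OshProj h k).hom.app (op U)).hom

theorem πU_prU (k : ℕ) (a : OU 𝔛 h U) : πU 𝔛 h U k (prU 𝔛 h U (k + 1) a) = prU 𝔛 h U k a := by
  have h1 := 𝔛.OshProj_levelMap h k
  have h2 := congrArg (fun φ => (φ.hom.app (op U)).hom a) h1
  exact h2

/-- evaluation at `U` -/
noncomputable abbrev evU : Sheaf (Opens.grothendieckTopology (𝔛.X 0)) CommRingCat.{u} ⥤ Type u :=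
  sheafToPresheaf _ _ ⋙ (evaluation _ _).obj (op U) ⋙ forget CommRingCat

noncomputable def isLimitRing :
    IsLimit ((evU 𝔛 U).mapCone (limit.cone (𝔛.levelRing h))) :=
  isLimitOfPreserves (evU 𝔛 U) (limit.isLimit (𝔛.levelRing h))

theorem osh_ext {a b : OU 𝔛 h U} (hab : ∀ k, prU 𝔛 h U k a = prU 𝔛 h U k b) : a = b := by
  apply (Types.isLimitEquivSections (isLimitRing 𝔛 h U)).injective
  apply Subtype.ext
  funext j
  induction j using Opposite.rec with | _ n => ?_
  rw [Types.isLimitEquivSections_apply, Types.isLimitEquivSections_apply]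
  exact hab n

theorem osh_exists (z : ∀ k, RU 𝔛 h U k) (hz : ∀ k, πU 𝔛 h U k (z (k + 1)) = z k) :
    ∃ a : OU 𝔛 h U, ∀ k, prU 𝔛 h U k a = z k := by
  have hx : ∀ n, (𝔛.levelRing h ⋙ evU 𝔛 U).map (homOfLE (Nat.le_succ n)).op (z (n + 1)) = z n := by
    intro n
    have h1 : (𝔛.levelRing h).map (homOfLE (Nat.le_succ n)).op = 𝔛.levelMap h n :=
      𝔛.levelRing_map_succ h n
    change ((𝔛.levelRing h).map (homOfLE (Nat.le_succ n)).op).hom.app (op U) (z (n + 1)) = z n
    rw [h1]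
    exact hz n
  refine ⟨(Types.isLimitEquivSections (isLimitRing 𝔛 h U)).symm
    (mkSection (𝔛.levelRing h ⋙ evU 𝔛 U) z hx), fun k => ?_⟩
  exact Types.isLimitEquivSections_symm_apply (isLimitRing 𝔛 h U) _ (op k)

end Ring

section Mod

variable (G : ∀ k, (𝔛.X k).Modules) (t : ∀ k, G (k + 1) ⟶ (Scheme.Modules.pushforward (𝔛.ι k)).obj (G k))

/-- sections of the limit module over `U` -/
abbrev FU : Type u := ↑((realLim 𝔛 h G t).val.obj (op U))

/-- sections of the `k`-th level module -/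
abbrev MU (k : ℕ) : Type u := Γ(G k, 𝔛.lvU h k U)

/-- the projection on sections -/
noncomputable def secProj (k : ℕ) : FU 𝔛 h U G t →+ MU 𝔛 h U G k :=
  ((realProj 𝔛 h G t k).val.app (op U)).hom.toAddMonoidHom

/-- the transition maps on sections -/
noncomputable def trans (k : ℕ) : MU 𝔛 h U G (k + 1) →+ MU 𝔛 h U G k :=
  (((levelSysOf 𝔛 h G t).map (homOfLE (Nat.le_succ k)).op).val.app (op U)).hom.toAddMonoidHom

theorem trans_secProj (k : ℕ) (y : FU 𝔛 h U G t) :
    trans 𝔛 h U G t k (secProj 𝔛 h U G t (k + 1) y) = secProj 𝔛 h U G t k y := by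
  have h1 := limit.w (levelSysOf 𝔛 h G t) (homOfLE (Nat.le_succ k)).op
  have h2 := congrArg (fun φ => (φ.val.app (op U)).hom y) h1
  exact h2

theorem trans_eq (k : ℕ) (x : MU 𝔛 h U G (k + 1)) :
    trans 𝔛 h U G t k x =
      (G k).presheaf.map (homOfLE (𝔛.lvU_le h k U)).op ((t k).app (𝔛.lvU h (k + 1) U) x) := by
  unfold trans
  rw [levelSysOf_map_succ]
  rfl

/-- evaluation of modules at `U`, to types -/
noncomputable abbrev evM : ModF 𝔛 h ⥤ Type u :=
  SheafOfModules.evaluation (ModSite.ringSh (𝔛.Osh h)) (op U) ⋙ forget (ModuleCat _)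

noncomputable def isLimitSec :
    IsLimit ((evM 𝔛 h U).mapCone (limit.cone (levelSysOf 𝔛 h G t))) :=
  isLimitOfPreserves (evM 𝔛 h U) (limit.isLimit (levelSysOf 𝔛 h G t))

theorem sec_ext {y y' : FU 𝔛 h U G t}
    (hy : ∀ k, secProj 𝔛 h U G t k y = secProj 𝔛 h U G t k y') : y = y' := by
  apply (Types.isLimitEquivSections (isLimitSec 𝔛 h U G t)).injective
  apply Subtype.ext
  funext j
  induction j using Opposite.rec with | _ n => ?_
  rw [Types.isLimitEquivSections_apply, Types.isLimitEquivSections_apply]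
  exact hy n

theorem secProj_smul (k : ℕ) (a : OU 𝔛 h U) (y : FU 𝔛 h U G t) :
    secProj 𝔛 h U G t k (a • y) = prU 𝔛 h U k a • secProj 𝔛 h U G t k y := by
  have h1 := ((realProj 𝔛 h G t k).val.app (op U)).hom.map_smul a y
  exact h1

theorem sec_exists (z : ∀ k, MU 𝔛 h U G k) (hz : ∀ k, trans 𝔛 h U G t k (z (k + 1)) = z k) :
    ∃ y : FU 𝔛 h U G t, ∀ k, secProj 𝔛 h U G t k y = z k := by
  have hx : ∀ n, (levelSysOf 𝔛 h G t ⋙ evM 𝔛 h U).map (homOfLE (Nat.le_succ n)).op (z (n + 1)) = z n :=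
    fun n => hz n
  refine ⟨(Types.isLimitEquivSections (isLimitSec 𝔛 h U G t)).symm
    (mkSection (levelSysOf 𝔛 h G t ⋙ evM 𝔛 h U) z hx), fun k => ?_⟩
  exact Types.isLimitEquivSections_symm_apply (isLimitSec 𝔛 h U G t) _ (op k)

end Mod

end Groth.Agent.Lib.helper11.RealLimSec
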