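import Mathlib
import Groth.Prelude.Def_FSch5
import Groth.Agent.Lib.Helper7.ThickAff5
import Groth.Agent.Lib.Helper11.AdicRingLim
import Groth.Agent.Lib.Helper11.RealLimSec

/-!
# The tower of rings of sections of a formal system over an affine open (helper11)

For a formal system `𝔛` and `U` affine open in the common space: the opens `lvU k U` are affine, the
transition maps `πU k` of the rings `RU k = Γ(X_k, lvU k U)` are surjective, and in the adic case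
`ker (πU k) = (ker (RU (k+1) → RU 0))^(k+1)`; so `AdicRingLim` applies.
-/

set_option autoImplicit false
universe u
open CategoryTheory CategoryTheory.Limits AlgebraicGeometry TopologicalSpace Opposite
open Groth.Agent.Lib.helper11.AdicRingLim Groth.Agent.Lib.helper11.RealLimSec

namespace Groth.Agent.Lib.helper11.FormalOpenTower

variable (𝔛 : FSch.Sys.{u}) (h : 𝔛.IsFormal) (U : (𝔛.X 0).Opens)

theorem toX_preimage_lvU (n : ℕ) : 𝔛.toX n ⁻¹ᵁ (𝔛.lvU h n U) = U := by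
  change (TopologicalSpace.Opens.map ((𝔛.toX n).base ≫ 𝔛.gInv h n)).obj U = U
  rw [𝔛.toX_base_gInv h n]
  rfl

/-- the open of level `n` over an affine open of the common space is affine -/
theorem isAffineOpen_lvU (n : ℕ) (hU : IsAffineOpen U) : IsAffineOpen (𝔛.lvU h n U) := by
  haveI := 𝔛.toX_isClosedImmersion h n
  have hpre := toX_preimage_lvU 𝔛 h U n
  have hUa : IsAffineOpen (𝔛.toX n ⁻¹ᵁ (𝔛.lvU h n U)) := by rw [hpre]; exact hU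
  haveI : IsAffine (𝔛.toX n ⁻¹ᵁ (𝔛.lvU h n U) : Scheme.{u}) := hUa
  refine Groth.Agent.Lib.helper7.ThickAff.isAffine_of_thickening (𝔛.toX n ∣_ (𝔛.lvU h n U)) ?_
  rintro ⟨y, hy⟩
  obtain ⟨x, rfl⟩ := 𝔛.toX_surjective h n y
  refine ⟨⟨x, hy⟩, ?_⟩
  apply Subtype.ext
  exact congrArg (fun φ : (𝔛.toX n ⁻¹ᵁ (𝔛.lvU h n U) : Scheme.{u}) ⟶ 𝔛.X n => φ ⟨x, hy⟩)
    (morphismRestrict_ι (𝔛.toX n) (𝔛.lvU h n U))

theorem appLE_surjective_of_eq {X Y : Scheme.{u}} (f : X ⟶ Y) [IsClosedImmersion f] (V : Y.Opens)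
    (W : X.Opens) (hW : f ⁻¹ᵁ V = W) (hV : IsAffineOpen V) :
    Function.Surjective (f.appLE V W hW.ge) := by
  subst hW
  rw [Scheme.Hom.appLE_eq_app]
  exact f.app_surjective V hV

theorem ker_appLE_of_eq {X Y : Scheme.{u}} (f : X ⟶ Y) (V : Y.Opens)
    (W : X.Opens) (hW : f ⁻¹ᵁ V = W) :
    RingHom.ker (f.appLE V W hW.ge).hom = RingHom.ker (f.app V).hom := by
  subst hW
  rw [Scheme.Hom.appLE_eq_app]

theorem πU_surjective (hU : IsAffineOpen U) (n : ℕ) : Function.Surjective (πU 𝔛 h U n) := by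
  haveI := (h n).1
  exact appLE_surjective_of_eq (𝔛.ι n) _ _ (𝔛.lvU_succ h n U) (isAffineOpen_lvU 𝔛 h U (n + 1) hU)

theorem lvU_zero : 𝔛.lvU h 0 U = U := by
  have h1 := toX_preimage_lvU 𝔛 h U 0
  have h2 : 𝔛.toX 0 = 𝟙 _ := rfl
  rw [h2] at h1
  exact h1

theorem lvU_zero_le (n : ℕ) : 𝔛.lvU h 0 U ≤ 𝔛.toX n ⁻¹ᵁ (𝔛.lvU h n U) := by
  rw [toX_preimage_lvU, lvU_zero]

theorem kap_eq : ∀ n, kap (RU 𝔛 h U) (πU 𝔛 h U) n =
    ((𝔛.toX n).appLE (𝔛.lvU h n U) (𝔛.lvU h 0 U) (lvU_zero_le 𝔛 h U n)).hom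
  | 0 => by
    unfold kap
    apply RingHom.ext
    intro x
    change x = ((𝟙 (𝔛.X 0) : 𝔛.X 0 ⟶ 𝔛.X 0).appLE (𝔛.lvU h 0 U) (𝔛.lvU h 0 U) _).hom x
    rw [Scheme.Hom.appLE, Scheme.Hom.id_app]
    have : (homOfLE (lvU_zero_le 𝔛 h U 0)).op = 𝟙 _ := Subsingleton.elim _ _
    erw [this, CategoryTheory.Functor.map_id]
    rfl
  | n + 1 => by
    unfold kap
    rw [kap_eq n]
    have h1 := Scheme.Hom.appLE_comp_appLE (𝔛.toX n) (𝔛.ι n) (𝔛.lvU h (n + 1) U) (𝔛.lvU h n U)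
      (𝔛.lvU h 0 U) (𝔛.lvU_le h n U) (lvU_zero_le 𝔛 h U n)
    have h2 := congrArg CommRingCat.Hom.hom h1
    refine Eq.trans ?_ h2
    rfl

theorem K_eq (n : ℕ) (hU : IsAffineOpen U) :
    K (RU 𝔛 h U) (πU 𝔛 h U) n = (𝔛.toX n).ker.ideal ⟨𝔛.lvU h n U, isAffineOpen_lvU 𝔛 h U n hU⟩ := by
  haveI := 𝔛.toX_isClosedImmersion h n
  rw [Scheme.Hom.ker_apply, K, kap_eq]
  have h1 : 𝔛.toX n ⁻¹ᵁ (𝔛.lvU h n U) = 𝔛.lvU h 0 U := by rw [toX_preimage_lvU, lvU_zero]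
  exact ker_appLE_of_eq (𝔛.toX n) _ _ h1

theorem ker_πU (hA : 𝔛.IsAdic) (hU : IsAffineOpen U) (n : ℕ) :
    RingHom.ker (πU 𝔛 h U n) = K (RU 𝔛 h U) (πU 𝔛 h U) (n + 1) ^ (n + 1) := by
  haveI := 𝔛.toX_isClosedImmersion h (n + 1)
  haveI := (h n).1
  rw [K_eq 𝔛 h U (n + 1) hU]
  have h1 := congrArg (fun 𝓘 : (𝔛.X (n + 1)).IdealSheafData =>
    𝓘.ideal ⟨𝔛.lvU h (n + 1) U, isAffineOpen_lvU 𝔛 h U (n + 1) hU⟩) (hA n)
  simp only [Scheme.IdealSheafData.ideal_pow, Pi.pow_apply, Scheme.Hom.ker_apply] at h1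
  rw [Scheme.Hom.ker_apply, ← h1]
  exact ker_appLE_of_eq (𝔛.ι n) _ _ (𝔛.lvU_succ h n U)

end Groth.Agent.Lib.helper11.FormalOpenTower
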