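import Mathlib
import Groth.Prelude.Def_FSch5
import Groth.Agent.Lib.Helper11.FormalOpenTower
import Groth.Agent.Lib.Helper8.PullbackUnit2
import Groth.Agent.Lib.Helper11.Thick1
import Groth.Agent.S0797

/-!
# Sections of `lim (u_k)_* F_k` over affine opens: EGA 0_I 7.2.9 (helper11)

For a coherent system `𝔐` on a locally Noetherian formal system `𝔛` and `U` affine open of the
common space:
* `trans_eq_e`, `isBC_trans`: the transition maps on sections are base change maps along `πU k`;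
* `tower_main`: `Γ(U, lim (u_k)_* F_k) → Γ(U_k, F_k)` is surjective and its kernel is generated
  (as a group) by the `a • y` with `a ∈ ker (O_𝔛(U) → O_{X_k}(U_k))`.
-/

set_option autoImplicit false
universe u
open CategoryTheory CategoryTheory.Limits AlgebraicGeometry TopologicalSpace Opposite
open Groth.Agent.Lib.helper11.AdicRingLim Groth.Agent.Lib.helper11.RealLimSec
open Groth.Agent.Lib.helper11.FormalOpenTower
open Groth.Agent.Lib.helper8.PullbackUnit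

namespace Groth.Agent.Lib.helper11.CohTower

variable (𝔛 : FSch.Sys.{u}) (h : 𝔛.IsFormal) (𝔐 : FSch.ModSys 𝔛) (U : (𝔛.X 0).Opens)

/-- the transition maps on sections of a system of modules, via the transition isomorphisms -/
theorem trans_eq_e (k : ℕ) (x : MU 𝔛 h U 𝔐.F (k + 1)) :
    trans 𝔛 h U 𝔐.F 𝔐.toPush k x =
      ((𝔐.e k).hom.app (𝔛.lvU h k U)).hom
        (ρ (𝔛.ι k) (𝔛.lvU_le h k U) (𝔐.F (k + 1)) x) := by
  rw [trans_eq]
  have h1 := app_ρ (𝔛.ι k) (𝔛.lvU_le h k U) (𝔐.toPush k) x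
  rw [ρv_apply] at h1
  rw [← h1]
  unfold FSch.ModSys.toPush
  rw [Equiv.symm_apply_apply]

/-- postcomposing a base change map with a linear equivalence -/
theorem IsBC.comp_equiv {R R' : Type u} [CommRing R] [CommRing R'] {φ : R →+* R'} {N P P' : Type u}
    [AddCommGroup N] [Module R N] [AddCommGroup P] [Module R' P] [AddCommGroup P'] [Module R' P']
    {k : N →+ P} (hk : IsBC φ k) (w : P ≃ₗ[R'] P') (k' : N →+ P') (hk' : ∀ n, k' n = w (k n)) :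
    IsBC φ k' :=
  hk.of_equiv (LinearEquiv.refl R N) w.symm k' (fun n => by
    rw [hk', LinearEquiv.symm_apply_apply]
    rfl)

/-- the transition maps on sections over an affine open are base change maps -/
theorem isBC_trans (k : ℕ) [(𝔐.F (k + 1)).IsQuasicoherent] (hU : IsAffineOpen U) :
    IsBC (πU 𝔛 h U k) (trans 𝔛 h U 𝔐.F 𝔐.toPush k) := by
  have hb := isBC_ρ (𝔛.ι k) (isAffineOpen_lvU 𝔛 h U (k + 1) hU) (isAffineOpen_lvU 𝔛 h U k hU)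
    (𝔛.lvU_le h k U) (𝔐.F (k + 1))
  have hbij' : Function.Bijective ((𝔐.e k).hom.app (𝔛.lvU h k U)) :=
    ConcreteCategory.bijective_of_isIso ((𝔐.e k).hom.app (𝔛.lvU h k U))
  have hbij : Function.Bijective (((𝔐.e k).hom.val.app (op (𝔛.lvU h k U))).hom) := hbij'
  let w : Γ((Scheme.Modules.pullback (𝔛.ι k)).obj (𝔐.F (k + 1)), 𝔛.lvU h k U) ≃ₗ[Γ(𝔛.X k, 𝔛.lvU h k U)]
      Γ(𝔐.F k, 𝔛.lvU h k U) :=
    LinearEquiv.ofBijective (((𝔐.e k).hom.val.app (op (𝔛.lvU h k U))).hom) hbij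
  exact IsBC.comp_equiv hb w _ (fun x => trans_eq_e 𝔛 h 𝔐 U k x)

/-- for a ring map `φ : S → T` and a `T`-module `N` viewed as an `S`-module through `φ` -/
theorem mem_smul_top_compHom {S T N : Type*} [CommRing S] [CommRing T] [AddCommGroup N] [Module T N]
    (φ : S →+* T) (I : Ideal S) (x : N) :
    (letI := Module.compHom N φ; x ∈ I • (⊤ : Submodule S N)) ↔
      x ∈ (I.map φ) • (⊤ : Submodule T N) := by
  letI := φ.toAlgebra
  letI := Module.compHom N φ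
  haveI : IsScalarTower S T N := ⟨fun s t n => by
    change (φ s * t) • n = φ s • (t • n)
    rw [mul_smul]⟩
  have h1 := Ideal.smul_restrictScalars (R := S) (S := T) I (⊤ : Submodule T N)
  rw [Submodule.restrictScalars_top] at h1
  rw [← h1]
  rfl

theorem finite_of_surjective_smul {R S P : Type*} [CommRing R] [CommRing S] [AddCommGroup P]
    [Module R P] [Module S P] (f : R →+* S) (hf : Function.Surjective f)
    (hsmul : ∀ (r : R) (x : P), r • x = f r • x) [Module.Finite S P] : Module.Finite R P := by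
  obtain ⟨s, hs⟩ := Module.Finite.fg_top (R := S) (M := P)
  refine ⟨⟨s, ?_⟩⟩
  rw [eq_top_iff]
  intro x _
  have hx : x ∈ Submodule.span S (s : Set P) := by rw [hs]; trivial
  induction hx using Submodule.span_induction with
  | mem y hy => exact Submodule.subset_span hy
  | zero => exact Submodule.zero_mem _
  | add y z _ _ hy hz => exact Submodule.add_mem _ (hy trivial) (hz trivial)
  | smul r y _ hy =>
    obtain ⟨a, rfl⟩ := hf r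
    rw [← hsmul]
    exact Submodule.smul_mem _ a (hy trivial)

section main

variable (h𝔛 : 𝔛.IsLocNoethFormal) (h𝔐 : 𝔐.IsCoh) (hU : IsAffineOpen U)

include h𝔛 h𝔐 hU in
/-- **EGA 0_I 7.2.9 on an affine open**: sections of `lim (u_k)_* F_k` over an affine open `U`
surject onto the sections of `F_k`, and the kernel is generated by the kernel of
`O_𝔛(U) → O_{X_k}(U_k)`. -/
theorem tower_main (k : ℕ) :
    Function.Surjective (secProj 𝔛 h𝔛.1 U 𝔐.F 𝔐.toPush k) ∧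
    ∀ y : FU 𝔛 h𝔛.1 U 𝔐.F 𝔐.toPush, secProj 𝔛 h𝔛.1 U 𝔐.F 𝔐.toPush k y = 0 →
      y ∈ AddSubgroup.closure {z : FU 𝔛 h𝔛.1 U 𝔐.F 𝔐.toPush |
        ∃ (a : OU 𝔛 h𝔛.1 U) (y' : FU 𝔛 h𝔛.1 U 𝔐.F 𝔐.toPush), prU 𝔛 h𝔛.1 U k a = 0 ∧ z = a • y'} := by
  classical
  have hF := h𝔛.1
  have hπ := πU_surjective 𝔛 h𝔛.1 U hU
  have hker := ker_πU 𝔛 h𝔛.1 U h𝔛.2.1 hU
  haveI : ∀ n, IsLocallyNoetherian (𝔛.X n) := h𝔛.2.2
  haveI hN : ∀ n, IsNoetherianRing (RU 𝔛 h𝔛.1 U n) := fun n =>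
    IsLocallyNoetherian.component_noetherian (X := 𝔛.X n)
      ⟨𝔛.lvU h𝔛.1 n U, isAffineOpen_lvU 𝔛 h𝔛.1 U n hU⟩
  have hfg : (RingHom.ker (πU 𝔛 h𝔛.1 U 0)).FG := (isNoetherianRing_iff_ideal_fg _).mp (hN 1) _
  obtain ⟨J, hJfg, hJ⟩ := exists_J hπ hfg
  haveI : IsNoetherianRing (Lim (RU 𝔛 h𝔛.1 U) (πU 𝔛 h𝔛.1 U)) := isNoetherianRing hπ hker J hJ hJfg
  haveI : IsAdicComplete J (Lim (RU 𝔛 h𝔛.1 U) (πU 𝔛 h𝔛.1 U)) := isAdicComplete hπ hker J hJ hJfg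
  let p : ∀ n, Lim (RU 𝔛 h𝔛.1 U) (πU 𝔛 h𝔛.1 U) →+* RU 𝔛 h𝔛.1 U n :=
    pr (RU 𝔛 h𝔛.1 U) (πU 𝔛 h𝔛.1 U)
  have hp : ∀ n, Function.Surjective (p n) := pr_surjective hπ
  let M : ℕ → Type u := fun n => MU 𝔛 h𝔛.1 U 𝔐.F n
  letI mA : ∀ n, Module (Lim (RU 𝔛 h𝔛.1 U) (πU 𝔛 h𝔛.1 U)) (M n) :=
    fun n => Module.compHom (M n) (p n)
  haveI hq : ∀ n, (𝔐.F n).IsQuasicoherent := fun n => (h𝔐 n).1
  have hbc : ∀ n, IsBC (πU 𝔛 h𝔛.1 U n) (trans 𝔛 h𝔛.1 U 𝔐.F 𝔐.toPush n) :=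
    fun n => isBC_trans 𝔛 h𝔛.1 𝔐 U n hU
  let f : ∀ n, M (n + 1) →ₗ[Lim (RU 𝔛 h𝔛.1 U) (πU 𝔛 h𝔛.1 U)] M n := fun n =>
    { toFun := trans 𝔛 h𝔛.1 U 𝔐.F 𝔐.toPush n
      map_add' := map_add _
      map_smul' := fun a x => by
        change trans 𝔛 h𝔛.1 U 𝔐.F 𝔐.toPush n (p (n + 1) a • x) =
          p n a • trans 𝔛 h𝔛.1 U 𝔐.F 𝔐.toPush n x
        rw [(hbc n).map_smul, pi_pr] }
  have hf : ∀ n, Function.Surjective (f n) := fun n => by
    letI := (πU 𝔛 h𝔛.1 U n).toAlgebra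
    exact Groth.Agent.Lib.helper11.Thick.surjective_of_isBC (hπ n) _ (hbc n)
  haveI hfin : ∀ n, Module.Finite (Lim (RU 𝔛 h𝔛.1 U) (πU 𝔛 h𝔛.1 U)) (M n) := fun n => by
    haveI : Module.Finite (RU 𝔛 h𝔛.1 U n) (M n) :=
      Groth.Agent.Lib.helper16.CohFinite.finite_sections_of_isCoh (𝔐.F n) (h𝔐 n)
        (isAffineOpen_lvU 𝔛 h𝔛.1 U n hU)
    exact finite_of_surjective_smul (p n) (hp n)
      (fun _ _ => rfl)
  have hJpow : ∀ n (a : Lim (RU 𝔛 h𝔛.1 U) (πU 𝔛 h𝔛.1 U)), a ∈ J ^ (n + 1) ↔ p n a = 0 :=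
    fun n a => mem_pow_iff hπ hker J hJ hJfg n a
  have hk : ∀ n, J ^ (n + 1) • (⊤ : Submodule (Lim (RU 𝔛 h𝔛.1 U) (πU 𝔛 h𝔛.1 U)) (M n)) = ⊥ := by
    intro n
    rw [eq_bot_iff, Submodule.smul_le]
    intro a ha x _
    rw [Submodule.mem_bot]
    change p n a • x = 0
    rw [(hJpow n a).mp ha, zero_smul]
  have hmapJ : ∀ n, (J ^ (n + 1)).map (p (n + 1)) = RingHom.ker (πU 𝔛 h𝔛.1 U n) := by
    intro n
    rw [Ideal.map_pow, map_pr_J hπ hker J hJ, hker n]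
  have hker' : ∀ n, LinearMap.ker (f n) =
      J ^ (n + 1) • (⊤ : Submodule (Lim (RU 𝔛 h𝔛.1 U) (πU 𝔛 h𝔛.1 U)) (M (n + 1))) := by
    intro n
    ext x
    rw [LinearMap.mem_ker]
    change trans 𝔛 h𝔛.1 U 𝔐.F 𝔐.toPush n x = 0 ↔ _
    rw [mem_smul_top_compHom (p (n + 1)) (J ^ (n + 1)) x, hmapJ n]
    letI := (πU 𝔛 h𝔛.1 U n).toAlgebra
    constructor
    · intro hx
      exact Groth.Agent.Lib.helper11.FibMono.mem_smul_top_of_isBC _ (hπ n) rfl _ (hbc n) x hx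
    · intro hx
      exact Groth.Agent.Lib.helper11.FibMono.isBC_eq_zero_of_mem_smul_top _ rfl _ (hbc n) x hx
  let L : Submodule (Lim (RU 𝔛 h𝔛.1 U) (πU 𝔛 h𝔛.1 U)) (∀ n, M n) :=
    { carrier := {x | ∀ n, f n (x (n + 1)) = x n}
      add_mem' := by
        intro x y hx hy n
        change f n (x (n + 1) + y (n + 1)) = x n + y n
        rw [map_add, hx n, hy n]
      zero_mem' := by
        intro n
        change f n 0 = 0
        rw [map_zero]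
      smul_mem' := by
        intro a x hx n
        change f n (a • x (n + 1)) = a • x n
        rw [_root_.map_smul, hx n] }
  have hL : ∀ x : ∀ n, M n, x ∈ L ↔ ∀ n, f n (x (n + 1)) = x n := fun x => Iff.rfl
  obtain ⟨-, hpr⟩ := Groth.Agent.S0797.result (Lim (RU 𝔛 h𝔛.1 U) (πU 𝔛 h𝔛.1 U)) J M f hf hk hker' L hL
  have hΦ : ∀ y : FU 𝔛 h𝔛.1 U 𝔐.F 𝔐.toPush,
      (fun n => secProj 𝔛 h𝔛.1 U 𝔐.F 𝔐.toPush n y : ∀ n, M n) ∈ L :=
    fun y n => trans_secProj 𝔛 h𝔛.1 U 𝔐.F 𝔐.toPush n y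
  have hlift : ∀ l : L, ∃ y : FU 𝔛 h𝔛.1 U 𝔐.F 𝔐.toPush,
      ∀ n, secProj 𝔛 h𝔛.1 U 𝔐.F 𝔐.toPush n y = l.1 n :=
    fun l => sec_exists 𝔛 h𝔛.1 U 𝔐.F 𝔐.toPush l.1 l.2
  constructor
  · intro x
    obtain ⟨l, hl⟩ := (hpr k).1 x
    obtain ⟨y, hy⟩ := hlift l
    exact ⟨y, (hy k).trans hl⟩
  · intro y hy
    have hl : (⟨fun n => secProj 𝔛 h𝔛.1 U 𝔐.F 𝔐.toPush n y, hΦ y⟩ : L) ∈
        J ^ (k + 1) • (⊤ : Submodule (Lim (RU 𝔛 h𝔛.1 U) (πU 𝔛 h𝔛.1 U)) L) := by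
      rw [← (hpr k).2, LinearMap.mem_ker]
      exact hy
    have key : ∀ l : L, l ∈ J ^ (k + 1) • (⊤ : Submodule (Lim (RU 𝔛 h𝔛.1 U) (πU 𝔛 h𝔛.1 U)) L) →
        ∀ y : FU 𝔛 h𝔛.1 U 𝔐.F 𝔐.toPush,
          (∀ n, secProj 𝔛 h𝔛.1 U 𝔐.F 𝔐.toPush n y = l.1 n) →
          y ∈ AddSubgroup.closure {z : FU 𝔛 h𝔛.1 U 𝔐.F 𝔐.toPush |
            ∃ (a : OU 𝔛 h𝔛.1 U) (y' : FU 𝔛 h𝔛.1 U 𝔐.F 𝔐.toPush),
              prU 𝔛 h𝔛.1 U k a = 0 ∧ z = a • y'} := by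
      intro l hl
      refine Submodule.smul_induction_on hl ?_ ?_
      · intro b hb l' _ y hy
        obtain ⟨a, ha⟩ := osh_exists 𝔛 h𝔛.1 U (fun n => p n b) (fun n => pi_pr n b)
        obtain ⟨y', hy'⟩ := hlift l'
        have hyy : y = a • y' := by
          apply sec_ext 𝔛 h𝔛.1 U 𝔐.F 𝔐.toPush
          intro n
          rw [hy n, secProj_smul, ha n, hy' n]
          rfl
        apply AddSubgroup.subset_closure
        refine ⟨a, y', ?_, hyy⟩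
        rw [ha k]
        exact (hJpow k b).mp hb
      · intro l₁ l₂ h₁ h₂ y hy
        obtain ⟨y₁, hy₁⟩ := hlift l₁
        obtain ⟨y₂, hy₂⟩ := hlift l₂
        have hyy : y = y₁ + y₂ := by
          apply sec_ext 𝔛 h𝔛.1 U 𝔐.F 𝔐.toPush
          intro n
          rw [hy n, map_add, hy₁ n, hy₂ n]
          rfl
        rw [hyy]
        exact AddSubgroup.add_mem _ (h₁ y₁ hy₁) (h₂ y₂ hy₂)
    exact key _ hl y (fun n => rfl)

end main

end Groth.Agent.Lib.helper11.CohTower
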