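import Mathlib
import Groth.Prelude.Def_FSch5
import Groth.Agent.Lib.Helper11.FormalOpenTower
import Groth.Agent.Lib.Helper8.LimAdic

/-!
# Direct image from a level to the formal scheme is fully faithful (helper11)

For a formal system `𝔛`: `prU_surjective` (`O_𝔛(U) → O_{X_k}(U_k)` onto for `U` affine),
`lvU_preimage_toX`, `pushApp` (sections of a morphism `(u_k)_* F ⟶ (u_k)_* W`), `push_faithful`,
`desc`, `push_desc`, `push_full`.
-/

set_option autoImplicit false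
universe u
open CategoryTheory CategoryTheory.Limits AlgebraicGeometry TopologicalSpace Opposite
open Groth.Agent.Lib.helper11.RealLimSec Groth.Agent.Lib.helper11.FormalOpenTower

namespace Groth.Agent.Lib.helper11.LevelPushFF

variable (𝔛 : FSch.Sys.{u}) (h : 𝔛.IsFormal)

/-- `O_𝔛(U) → O_{X_k}(U_k)` is surjective for `U` affine -/
theorem prU_surjective (U : (𝔛.X 0).Opens) (hU : IsAffineOpen U) (k : ℕ) :
    Function.Surjective (prU 𝔛 h U k) := by
  intro y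
  obtain ⟨x, hx, hxk⟩ := Groth.Agent.Lib.helper8.LimAdic.exists_compatible k (RU 𝔛 h U)
    (fun n => πU 𝔛 h U n) (πU_surjective 𝔛 h U hU) y
  obtain ⟨a, ha⟩ := osh_exists 𝔛 h U x hx
  exact ⟨a, (ha k).trans hxk⟩

/-- every open of level `k` is the open over its trace on the common space -/
theorem lvU_preimage_toX (k : ℕ) (V : (𝔛.X k).Opens) : 𝔛.lvU h k (𝔛.toX k ⁻¹ᵁ V) = V := by
  change (Opens.map (𝔛.gInv h k ≫ (𝔛.toX k).base)).obj V = V
  rw [𝔛.gInv_toX_base h k]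
  rfl

variable (k : ℕ) {F W : (𝔛.X k).Modules}

/-- sections of a morphism between direct images to the formal scheme -/
noncomputable def pushApp (ψ' : (FSch.levelMor 𝔛 h k).push.obj F ⟶ (FSch.levelMor 𝔛 h k).push.obj W)
    (U : (𝔛.X 0).Opens) : Γ(F, 𝔛.lvU h k U) →+ Γ(W, 𝔛.lvU h k U) :=
  (ψ'.val.app (op U)).hom.toAddMonoidHom

theorem pushApp_push (ψ : F ⟶ W) (U : (𝔛.X 0).Opens) (m : Γ(F, 𝔛.lvU h k U)) :
    pushApp 𝔛 h k ((FSch.levelMor 𝔛 h k).push.map ψ) U m = ψ.app (𝔛.lvU h k U) m := rfl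

theorem pushApp_smul (ψ' : (FSch.levelMor 𝔛 h k).push.obj F ⟶ (FSch.levelMor 𝔛 h k).push.obj W)
    (U : (𝔛.X 0).Opens) (a : OU 𝔛 h U) (m : Γ(F, 𝔛.lvU h k U)) :
    pushApp 𝔛 h k ψ' U (prU 𝔛 h U k a • m) = prU 𝔛 h U k a • pushApp 𝔛 h k ψ' U m := by
  have h1 := (ψ'.val.app (op U)).hom.map_smul a m
  exact h1

theorem pushApp_map (ψ' : (FSch.levelMor 𝔛 h k).push.obj F ⟶ (FSch.levelMor 𝔛 h k).push.obj W)
    {U U' : (𝔛.X 0).Opens} (i : U' ≤ U) (m : Γ(F, 𝔛.lvU h k U)) :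
    pushApp 𝔛 h k ψ' U' (F.presheaf.map (homOfLE ((Opens.map (𝔛.gInv h k)).map (homOfLE i)).le).op m) =
      W.presheaf.map (homOfLE ((Opens.map (𝔛.gInv h k)).map (homOfLE i)).le).op
        (pushApp 𝔛 h k ψ' U m) := by
  have h1 := Groth.Agent.Lib.helper11.ModTop.app_map ψ' i m
  exact h1

theorem push_faithful (ψ₁ ψ₂ : F ⟶ W)
    (hψ : (FSch.levelMor 𝔛 h k).push.map ψ₁ = (FSch.levelMor 𝔛 h k).push.map ψ₂) : ψ₁ = ψ₂ := by
  apply Scheme.Modules.hom_ext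
  intro V
  rw [← lvU_preimage_toX 𝔛 h k V]
  ext m
  have h1 := pushApp_push 𝔛 h k ψ₁ (𝔛.toX k ⁻¹ᵁ V) m
  have h2 := pushApp_push 𝔛 h k ψ₂ (𝔛.toX k ⁻¹ᵁ V) m
  rw [← h1, ← h2, hψ]

section full

variable (ψ' : (FSch.levelMor 𝔛 h k).push.obj F ⟶ (FSch.levelMor 𝔛 h k).push.obj W)

omit ψ' in
theorem map_map_le {X : Scheme.{u}} (P : X.Modules) {A B C : X.Opens} (hAB : A ≤ B) (hBC : B ≤ C)
    (m : Γ(P, C)) :
    P.presheaf.map (homOfLE hAB).op (P.presheaf.map (homOfLE hBC).op m) =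
      P.presheaf.map (homOfLE (hAB.trans hBC)).op m := by
  have h1 : (homOfLE hBC).op ≫ (homOfLE hAB).op = (homOfLE (hAB.trans hBC)).op := rfl
  rw [← h1, P.presheaf.map_comp]
  rfl

/-- the descended map on sections -/
noncomputable def descApp (V : (𝔛.X k).Opens) : Γ(F, V) →+ Γ(W, V) :=
  (W.presheaf.map (homOfLE (lvU_preimage_toX 𝔛 h k V).ge).op).hom.comp
    ((pushApp 𝔛 h k ψ' (𝔛.toX k ⁻¹ᵁ V)).comp
      (F.presheaf.map (homOfLE (lvU_preimage_toX 𝔛 h k V).le).op).hom)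

theorem descApp_apply (V : (𝔛.X k).Opens) (m : Γ(F, V)) :
    descApp 𝔛 h k ψ' V m = W.presheaf.map (homOfLE (lvU_preimage_toX 𝔛 h k V).ge).op
      (pushApp 𝔛 h k ψ' (𝔛.toX k ⁻¹ᵁ V)
        (F.presheaf.map (homOfLE (lvU_preimage_toX 𝔛 h k V).le).op m)) := rfl

theorem descApp_map {V V' : (𝔛.X k).Opens} (i : V' ≤ V) (m : Γ(F, V)) :
    descApp 𝔛 h k ψ' V' (F.presheaf.map (homOfLE i).op m) =
      W.presheaf.map (homOfLE i).op (descApp 𝔛 h k ψ' V m) := by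
  have ia : 𝔛.toX k ⁻¹ᵁ V' ≤ 𝔛.toX k ⁻¹ᵁ V := (Opens.map (𝔛.toX k).base).map (homOfLE i) |>.le
  rw [descApp_apply, descApp_apply, map_map_le, map_map_le]
  have e1 : F.presheaf.map (homOfLE ((lvU_preimage_toX 𝔛 h k V').le.trans i)).op m =
      F.presheaf.map (homOfLE ((Opens.map (𝔛.gInv h k)).map (homOfLE ia)).le).op
        (F.presheaf.map (homOfLE (lvU_preimage_toX 𝔛 h k V).le).op m) := by
    rw [map_map_le]
  rw [e1, pushApp_map 𝔛 h k ψ' ia, map_map_le]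

/-- linearity of the descended map over affine opens -/
theorem descApp_smul_of_isAffineOpen (V : (𝔛.X k).Opens) (hV : IsAffineOpen V) (r : Γ(𝔛.X k, V))
    (m : Γ(F, V)) : descApp 𝔛 h k ψ' V (r • m) = r • descApp 𝔛 h k ψ' V m := by
  haveI := 𝔛.toX_isClosedImmersion h k
  have haff : IsAffineOpen (𝔛.toX k ⁻¹ᵁ V) := hV.preimage (𝔛.toX k)
  have hle := (lvU_preimage_toX 𝔛 h k V).le
  have hge := (lvU_preimage_toX 𝔛 h k V).ge
  obtain ⟨a, ha⟩ := prU_surjective 𝔛 h (𝔛.toX k ⁻¹ᵁ V) haff k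
    ((𝔛.X k).presheaf.map (homOfLE hle).op r)
  rw [descApp_apply, descApp_apply, Scheme.Modules.map_smul, ← ha, pushApp_smul,
    Scheme.Modules.map_smul, ha]
  congr 1
  have h1 : (homOfLE hle).op ≫ (homOfLE hge).op = 𝟙 (op V) := Subsingleton.elim _ _
  have h2 := congrArg (fun φ => φ r) ((𝔛.X k).presheaf.map_comp (homOfLE hle).op (homOfLE hge).op)
  rw [h1, (𝔛.X k).presheaf.map_id] at h2
  exact h2.symm

theorem descApp_smul (V : (𝔛.X k).Opens) (r : Γ(𝔛.X k, V)) (m : Γ(F, V)) :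
    descApp 𝔛 h k ψ' V (r • m) = r • descApp 𝔛 h k ψ' V m := by
  refine TopCat.Presheaf.IsSheaf.section_ext W.isSheaf (U := op V) ?_
  intro x hx
  obtain ⟨_, ⟨V', hV', rfl⟩, hxV', hV'V⟩ :=
    (𝔛.X k).isBasis_affineOpens.exists_subset_of_mem_open hx V.2
  refine ⟨V', hV'V, hxV', ?_⟩
  rw [← descApp_map 𝔛 h k ψ' hV'V, Scheme.Modules.map_smul, Scheme.Modules.map_smul,
    descApp_smul_of_isAffineOpen 𝔛 h k ψ' V' hV', descApp_map]

/-- the descended morphism of abelian presheaves -/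
noncomputable def descPresheaf : F.presheaf ⟶ W.presheaf where
  app V := AddCommGrpCat.ofHom (descApp 𝔛 h k ψ' V.unop)
  naturality V V' i := by
    ext m
    have hi : V'.unop ≤ V.unop := i.unop.le
    have e : i = (homOfLE hi).op := Subsingleton.elim _ _
    subst e
    exact descApp_map 𝔛 h k ψ' hi m

/-- the descended morphism of modules -/
noncomputable def desc : F ⟶ W :=
  ⟨PresheafOfModules.homMk (descPresheaf 𝔛 h k ψ') (fun V r m => descApp_smul 𝔛 h k ψ' V.unop r m)⟩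

theorem desc_app (V : (𝔛.X k).Opens) (m : Γ(F, V)) :
    (desc 𝔛 h k ψ').app V m = descApp 𝔛 h k ψ' V m := rfl

theorem push_desc : (FSch.levelMor 𝔛 h k).push.map (desc 𝔛 h k ψ') = ψ' := by
  apply SheafOfModules.hom_ext
  apply PresheafOfModules.hom_ext
  intro U
  induction U using Opposite.rec with | _ U => ?_
  ext m
  change (desc 𝔛 h k ψ').app (𝔛.lvU h k U) m = pushApp 𝔛 h k ψ' U m
  rw [desc_app, descApp_apply]
  have hU : 𝔛.toX k ⁻¹ᵁ (𝔛.lvU h k U) = U := toX_preimage_lvU 𝔛 h U k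
  have h1 := pushApp_map 𝔛 h k ψ' hU.le m
  rw [h1, map_map_le]
  have h2 : (homOfLE ((lvU_preimage_toX 𝔛 h k (𝔛.lvU h k U)).ge.trans
      ((Opens.map (𝔛.gInv h k)).map (homOfLE hU.le)).le)).op = 𝟙 (op (𝔛.lvU h k U)) :=
    Subsingleton.elim _ _
  rw [h2, W.presheaf.map_id]
  rfl

/-- direct image to the formal scheme is full -/
theorem push_full : ∃ ψ : F ⟶ W, (FSch.levelMor 𝔛 h k).push.map ψ = ψ' :=
  ⟨desc 𝔛 h k ψ', push_desc 𝔛 h k ψ'⟩

end full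

end Groth.Agent.Lib.helper11.LevelPushFF
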