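import Mathlib
import Groth.Prelude.Def_FSch5
import Groth.Agent.Lib.Helper11.FormalOpenTower
import Groth.Agent.Lib.Helper11.LevelPushFF

/-!
# The ring of sections of `O_𝔛` over an affine open (helper11)

For a locally Noetherian formal system `𝔛` and `U` affine open of the common space:
`O_𝔛(U) ≃ lim_k O_{X_k}(U_k)` (`equivLim`), so by `AdicRingLim` (EGA 0_I 7.2.7):
`ker (O_𝔛(U) → O_{X_n}(U_n)) = J^(n+1)` for every finitely generated ideal `J` with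
`J · O_{X_1}(U_1) = ker (O_{X_1}(U_1) → O_{X_0}(U))` (`ker_prU_eq_pow`), such `J` exist
(`exists_J`), and for affine `D ≤ W` the kernel over `D` is generated by the kernel over `W`
(`ker_prU_eq_map`).
-/

set_option autoImplicit false
universe u
open CategoryTheory CategoryTheory.Limits AlgebraicGeometry TopologicalSpace Opposite
open Groth.Agent.Lib.helper11.AdicRingLim Groth.Agent.Lib.helper11.RealLimSec
open Groth.Agent.Lib.helper11.FormalOpenTower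

namespace Groth.Agent.Lib.helper11.FormalOpenRing

variable (𝔛 : FSch.Sys.{u}) (h : 𝔛.IsFormal) (U : (𝔛.X 0).Opens)

/-- `O_𝔛(U) → lim_k O_{X_k}(U_k)` -/
noncomputable def toLim : OU 𝔛 h U →+* Lim (RU 𝔛 h U) (πU 𝔛 h U) where
  toFun a := ⟨fun k => prU 𝔛 h U k a, fun k => πU_prU 𝔛 h U k a⟩
  map_one' := Subtype.ext (funext fun k => map_one (prU 𝔛 h U k))
  map_mul' a b := Subtype.ext (funext fun k => map_mul (prU 𝔛 h U k) a b)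
  map_zero' := Subtype.ext (funext fun k => map_zero (prU 𝔛 h U k))
  map_add' a b := Subtype.ext (funext fun k => map_add (prU 𝔛 h U k) a b)

theorem pr_toLim (k : ℕ) (a : OU 𝔛 h U) :
    pr (RU 𝔛 h U) (πU 𝔛 h U) k (toLim 𝔛 h U a) = prU 𝔛 h U k a := rfl

theorem toLim_bijective : Function.Bijective (toLim 𝔛 h U) := by
  constructor
  · intro a b hab
    apply osh_ext
    intro k
    have := congrArg (pr (RU 𝔛 h U) (πU 𝔛 h U) k) hab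
    exact this
  · intro x
    obtain ⟨a, ha⟩ := osh_exists 𝔛 h U x.1 x.2
    exact ⟨a, Subtype.ext (funext ha)⟩

/-- `O_𝔛(U) ≃ lim_k O_{X_k}(U_k)` -/
noncomputable def equivLim : OU 𝔛 h U ≃+* Lim (RU 𝔛 h U) (πU 𝔛 h U) :=
  RingEquiv.ofBijective (toLim 𝔛 h U) (toLim_bijective 𝔛 h U)

theorem pr_equivLim (k : ℕ) (a : OU 𝔛 h U) :
    pr (RU 𝔛 h U) (πU 𝔛 h U) k (equivLim 𝔛 h U a) = prU 𝔛 h U k a := rfl

theorem pr_comp_equivLim (k : ℕ) :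
    (pr (RU 𝔛 h U) (πU 𝔛 h U) k).comp (equivLim 𝔛 h U : OU 𝔛 h U →+* _) = prU 𝔛 h U k := rfl

section main

variable (h𝔛 : 𝔛.IsLocNoethFormal) (hU : IsAffineOpen U)

include h𝔛 hU in
theorem isNoetherianRing_RU (n : ℕ) : IsNoetherianRing (RU 𝔛 h𝔛.1 U n) := by
  haveI : ∀ n, IsLocallyNoetherian (𝔛.X n) := h𝔛.2.2
  exact IsLocallyNoetherian.component_noetherian (X := 𝔛.X n)
      ⟨𝔛.lvU h𝔛.1 n U, isAffineOpen_lvU 𝔛 h𝔛.1 U n hU⟩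

include h𝔛 hU in
/-- **EGA 0_I 7.2.7 for `O_𝔛(U)`**: the kernels of the projections are the powers of `J`. -/
theorem ker_prU_eq_pow (J : Ideal (OU 𝔛 h𝔛.1 U)) (hJfg : J.FG)
    (hJ : J.map (prU 𝔛 h𝔛.1 U 1) = K (RU 𝔛 h𝔛.1 U) (πU 𝔛 h𝔛.1 U) 1) (n : ℕ) :
    RingHom.ker (prU 𝔛 h𝔛.1 U n) = J ^ (n + 1) := by
  have hπ := πU_surjective 𝔛 h𝔛.1 U hU
  have hker := ker_πU 𝔛 h𝔛.1 U h𝔛.2.1 hU
  let e := equivLim 𝔛 h𝔛.1 U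
  let J' : Ideal (Lim (RU 𝔛 h𝔛.1 U) (πU 𝔛 h𝔛.1 U)) := J.map (e : OU 𝔛 h𝔛.1 U →+* _)
  have hJ' : J'.map (pr (RU 𝔛 h𝔛.1 U) (πU 𝔛 h𝔛.1 U) 1) = K (RU 𝔛 h𝔛.1 U) (πU 𝔛 h𝔛.1 U) 1 := by
    rw [Ideal.map_map, pr_comp_equivLim]
    exact hJ
  have hJ'fg : J'.FG := hJfg.map _
  have h1 := ker_pr hπ hker J' hJ' hJ'fg n
  have h2 : RingHom.ker (prU 𝔛 h𝔛.1 U n) =
      (RingHom.ker (pr (RU 𝔛 h𝔛.1 U) (πU 𝔛 h𝔛.1 U) n)).comap (e : OU 𝔛 h𝔛.1 U →+* _) := by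
    rw [← pr_comp_equivLim 𝔛 h𝔛.1 U n]
    rfl
  rw [h2, h1, ← Ideal.map_pow]
  exact Ideal.comap_map_of_bijective _ e.bijective

include h𝔛 hU in
theorem exists_J : ∃ J : Ideal (OU 𝔛 h𝔛.1 U), J.FG ∧
    J.map (prU 𝔛 h𝔛.1 U 1) = K (RU 𝔛 h𝔛.1 U) (πU 𝔛 h𝔛.1 U) 1 := by
  have hπ := πU_surjective 𝔛 h𝔛.1 U hU
  haveI := isNoetherianRing_RU 𝔛 U h𝔛 hU 1
  have hfg : (RingHom.ker (πU 𝔛 h𝔛.1 U 0)).FG := (isNoetherianRing_iff_ideal_fg _).mp inferInstance _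
  obtain ⟨J', hJ'fg, hJ'⟩ := AdicRingLim.exists_J hπ hfg
  let e := equivLim 𝔛 h𝔛.1 U
  refine ⟨J'.map (e.symm : _ →+* OU 𝔛 h𝔛.1 U), hJ'fg.map _, ?_⟩
  rw [Ideal.map_map, ← hJ']
  congr 1
  apply RingHom.ext
  intro x
  change prU 𝔛 h𝔛.1 U 1 (e.symm x) = pr _ _ 1 x
  rw [← pr_equivLim]
  exact congrArg _ (e.apply_symm_apply x)

end main

section restrict

variable {D W : (𝔛.X 0).Opens} (hDW : D ≤ W)

include hDW in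
theorem lvU_mono (k : ℕ) : 𝔛.lvU h k D ≤ 𝔛.lvU h k W :=
  ((Opens.map (𝔛.gInv h k)).map (homOfLE hDW)).le

/-- restriction of sections of `O_𝔛` -/
noncomputable abbrev resO : OU 𝔛 h W →+* OU 𝔛 h D := ((𝔛.Osh h).obj.map (homOfLE hDW).op).hom

/-- restriction of sections of `O_{X_k}` -/
noncomputable abbrev resR (k : ℕ) : RU 𝔛 h W k →+* RU 𝔛 h D k :=
  ((𝔛.X k).presheaf.map (homOfLE (lvU_mono 𝔛 h hDW k)).op).hom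

theorem prU_resO (k : ℕ) (a : OU 𝔛 h W) :
    prU 𝔛 h D k (resO 𝔛 h hDW a) = resR 𝔛 h hDW k (prU 𝔛 h W k a) := by
  have h1 := (𝔛.OshProj h k).hom.naturality (homOfLE hDW).op
  have h2 := congrArg (fun φ => φ.hom a) h1
  exact h2

theorem prU_comp_resO (k : ℕ) :
    (prU 𝔛 h D k).comp (resO 𝔛 h hDW) = (resR 𝔛 h hDW k).comp (prU 𝔛 h W k) :=
  RingHom.ext (prU_resO 𝔛 h hDW k)

variable (h𝔛 : 𝔛.IsLocNoethFormal) (hW : IsAffineOpen W) (hD : IsAffineOpen D)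

include h𝔛 hW hD in
/-- for affine opens `D ≤ W` the kernel of `O_𝔛(D) → O_{X_n}(D_n)` is generated by the kernel of
`O_𝔛(W) → O_{X_n}(W_n)` -/
theorem ker_prU_eq_map (n : ℕ) :
    RingHom.ker (prU 𝔛 h𝔛.1 D n) =
      (RingHom.ker (prU 𝔛 h𝔛.1 W n)).map (resO 𝔛 h𝔛.1 hDW) := by
  obtain ⟨J, hJfg, hJ⟩ := exists_J 𝔛 W h𝔛 hW
  rw [ker_prU_eq_pow 𝔛 W h𝔛 hW J hJfg hJ n, Ideal.map_pow]
  apply ker_prU_eq_pow 𝔛 D h𝔛 hD (J.map (resO 𝔛 h𝔛.1 hDW)) (hJfg.map _)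
  rw [Ideal.map_map, prU_comp_resO, ← Ideal.map_map, hJ, K_eq 𝔛 h𝔛.1 W 1 hW, K_eq 𝔛 h𝔛.1 D 1 hD]
  exact Scheme.IdealSheafData.map_ideal' (𝔛.toX 1).ker
    (U := ⟨𝔛.lvU h𝔛.1 1 D, isAffineOpen_lvU 𝔛 h𝔛.1 D 1 hD⟩)
    (V := ⟨𝔛.lvU h𝔛.1 1 W, isAffineOpen_lvU 𝔛 h𝔛.1 W 1 hW⟩)
    (homOfLE (lvU_mono 𝔛 h𝔛.1 hDW 1)).op

include h𝔛 hW in
theorem ker_prU_fg (n : ℕ) : (RingHom.ker (prU 𝔛 h𝔛.1 W n)).FG := by
  obtain ⟨J, hJfg, hJ⟩ := exists_J 𝔛 W h𝔛 hW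
  rw [ker_prU_eq_pow 𝔛 W h𝔛 hW J hJfg hJ n]
  exact hJfg.pow

end restrict

end Groth.Agent.Lib.helper11.FormalOpenRing
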