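import Mathlib
import Groth.Prelude.Def_FSch5
import Groth.Agent.Lib.Helper11.FormalOpenRing
import Groth.Agent.Lib.Helper11.CohTower
import Groth.Agent.Lib.Helper11.BCLim
import Groth.Agent.Lib.Helper1.ResBC

/-!
# Sections of `lim (u_k)_* F_k` over affine opens: finiteness and base change (helper11)
-/

set_option autoImplicit false
universe u
open CategoryTheory CategoryTheory.Limits AlgebraicGeometry TopologicalSpace Opposite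
open Groth.Agent.Lib.helper11.AdicRingLim Groth.Agent.Lib.helper11.RealLimSec
open Groth.Agent.Lib.helper11.FormalOpenTower Groth.Agent.Lib.helper11.FormalOpenRing
open Groth.Agent.Lib.helper8.PullbackUnit

namespace Groth.Agent.Lib.helper11.RealModBC

variable (𝔛 : FSch.Sys.{u}) (h𝔛 : 𝔛.IsLocNoethFormal) (U : (𝔛.X 0).Opens) (hU : IsAffineOpen U)

include h𝔛 hU in
theorem isNoetherianRing_OU : IsNoetherianRing (OU 𝔛 h𝔛.1 U) := by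
  have hπ := πU_surjective 𝔛 h𝔛.1 U hU
  have hker := ker_πU 𝔛 h𝔛.1 U h𝔛.2.1 hU
  haveI := isNoetherianRing_RU 𝔛 U h𝔛 hU 1
  haveI := isNoetherianRing_RU 𝔛 U h𝔛 hU 0
  have hfg : (RingHom.ker (πU 𝔛 h𝔛.1 U 0)).FG := (isNoetherianRing_iff_ideal_fg _).mp inferInstance _
  obtain ⟨J, hJfg, hJ⟩ := AdicRingLim.exists_J hπ hfg
  haveI : IsNoetherianRing (Lim (RU 𝔛 h𝔛.1 U) (πU 𝔛 h𝔛.1 U)) :=
    AdicRingLim.isNoetherianRing hπ hker J hJ hJfg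
  exact isNoetherianRing_of_ringEquiv _ (equivLim 𝔛 h𝔛.1 U).symm

include h𝔛 hU in
theorem ker_prU_zero_le_jacobson :
    RingHom.ker (prU 𝔛 h𝔛.1 U 0) ≤ Ideal.jacobson (⊥ : Ideal (OU 𝔛 h𝔛.1 U)) := by
  have hπ := πU_surjective 𝔛 h𝔛.1 U hU
  have hker := ker_πU 𝔛 h𝔛.1 U h𝔛.2.1 hU
  haveI := isNoetherianRing_RU 𝔛 U h𝔛 hU 1
  have hfg : (RingHom.ker (πU 𝔛 h𝔛.1 U 0)).FG := (isNoetherianRing_iff_ideal_fg _).mp inferInstance _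
  obtain ⟨J, hJfg, hJ⟩ := AdicRingLim.exists_J hπ hfg
  haveI : IsAdicComplete J (Lim (RU 𝔛 h𝔛.1 U) (πU 𝔛 h𝔛.1 U)) :=
    AdicRingLim.isAdicComplete hπ hker J hJ hJfg
  have hJjac : J ≤ Ideal.jacobson ⊥ := IsAdicComplete.le_jacobson_bot J
  have hJ0 : RingHom.ker (pr (RU 𝔛 h𝔛.1 U) (πU 𝔛 h𝔛.1 U) 0) = J := by
    rw [ker_pr hπ hker J hJ hJfg 0, zero_add, pow_one]
  intro a ha
  rw [Ideal.mem_jacobson_bot]
  intro y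
  have h1 : equivLim 𝔛 h𝔛.1 U a ∈ J := by
    rw [← hJ0, RingHom.mem_ker, pr_equivLim]
    exact ha
  have h2 := (Ideal.mem_jacobson_bot.mp (hJjac h1)) (equivLim 𝔛 h𝔛.1 U y)
  have h3 : equivLim 𝔛 h𝔛.1 U (a * y + 1) =
      equivLim 𝔛 h𝔛.1 U a * equivLim 𝔛 h𝔛.1 U y + 1 := by
    rw [map_add, map_mul, map_one]
  rw [← h3] at h2
  exact (isUnit_map_iff (equivLim 𝔛 h𝔛.1 U) _).mp h2

section Mod

open Groth.Agent.Lib.helper11.CohTower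

variable (𝔐 : FSch.ModSys 𝔛) (h𝔐 : 𝔐.IsCoh)

include h𝔛 h𝔐 hU in
/-- sections of `lim (u_k)_* F_k` over an affine open form a finite `O_𝔛(U)`-module -/
theorem finite_FU : Module.Finite (OU 𝔛 h𝔛.1 U) (FU 𝔛 h𝔛.1 U 𝔐.F 𝔐.toPush) := by
  classical
  have hF := h𝔛.1
  have hπ := πU_surjective 𝔛 h𝔛.1 U hU
  have hker := ker_πU 𝔛 h𝔛.1 U h𝔛.2.1 hU
  haveI : ∀ n, IsLocallyNoetherian (𝔛.X n) := h𝔛.2.2
  haveI hN : ∀ n, IsNoetherianRing (RU 𝔛 h𝔛.1 U n) := fun n =>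
    IsLocallyNoetherian.component_noetherian (X := 𝔛.X n)
      ⟨𝔛.lvU h𝔛.1 n U, isAffineOpen_lvU 𝔛 h𝔛.1 U n hU⟩
  have hfg : (RingHom.ker (πU 𝔛 h𝔛.1 U 0)).FG := (isNoetherianRing_iff_ideal_fg _).mp (hN 1) _
  obtain ⟨J, hJfg, hJ⟩ := AdicRingLim.exists_J hπ hfg
  haveI : IsNoetherianRing (Lim (RU 𝔛 h𝔛.1 U) (πU 𝔛 h𝔛.1 U)) :=
    AdicRingLim.isNoetherianRing hπ hker J hJ hJfg
  haveI : IsAdicComplete J (Lim (RU 𝔛 h𝔛.1 U) (πU 𝔛 h𝔛.1 U)) :=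
    AdicRingLim.isAdicComplete hπ hker J hJ hJfg
  let p : ∀ n, Lim (RU 𝔛 h𝔛.1 U) (πU 𝔛 h𝔛.1 U) →+* RU 𝔛 h𝔛.1 U n :=
    pr (RU 𝔛 h𝔛.1 U) (πU 𝔛 h𝔛.1 U)
  have hp : ∀ n, Function.Surjective (p n) := pr_surjective hπ
  let M : ℕ → Type u := fun n => MU 𝔛 h𝔛.1 U 𝔐.F n
  letI mA : ∀ n, Module (Lim (RU 𝔛 h𝔛.1 U) (πU 𝔛 h𝔛.1 U)) (M n) :=
    fun n => Module.compHom (M n) (p n)
  haveI hq : ∀ n, (𝔐.F n).IsQuasicoherent := fun n => (h𝔐 n).1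
  have hbc : ∀ n, IsBC (πU 𝔛 h𝔛.1 U n) (trans 𝔛 h𝔛.1 U 𝔐.F 𝔐.toPush n) :=
    fun n => isBC_trans 𝔛 h𝔛.1 𝔐 U n hU
  let f : ∀ n, M (n + 1) →ₗ[Lim (RU 𝔛 h𝔛.1 U) (πU 𝔛 h𝔛.1 U)] M n := fun n =>
    { toFun := trans 𝔛 h𝔛.1 U 𝔐.F 𝔐.toPush n
      map_add' := map_add _
      map_smul' := fun a x => by
        change trans 𝔛 h𝔛.1 U 𝔐.F 𝔐.toPush n (p (n + 1) a • x) =
          p n a • trans 𝔛 h𝔛.1 U 𝔐.F 𝔐.toPush n x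
        rw [(hbc n).map_smul, pi_pr] }
  have hf : ∀ n, Function.Surjective (f n) := fun n => by
    letI := (πU 𝔛 h𝔛.1 U n).toAlgebra
    exact Groth.Agent.Lib.helper11.Thick.surjective_of_isBC (hπ n) _ (hbc n)
  haveI hfin : ∀ n, Module.Finite (Lim (RU 𝔛 h𝔛.1 U) (πU 𝔛 h𝔛.1 U)) (M n) := fun n => by
    haveI : Module.Finite (RU 𝔛 h𝔛.1 U n) (M n) :=
      Groth.Agent.Lib.helper16.CohFinite.finite_sections_of_isCoh (𝔐.F n) (h𝔐 n)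
        (isAffineOpen_lvU 𝔛 h𝔛.1 U n hU)
    exact finite_of_surjective_smul (p n) (hp n)
      (fun _ _ => rfl)
  have hJpow : ∀ n (a : Lim (RU 𝔛 h𝔛.1 U) (πU 𝔛 h𝔛.1 U)), a ∈ J ^ (n + 1) ↔ p n a = 0 :=
    fun n a => mem_pow_iff hπ hker J hJ hJfg n a
  have hk : ∀ n, J ^ (n + 1) • (⊤ : Submodule (Lim (RU 𝔛 h𝔛.1 U) (πU 𝔛 h𝔛.1 U)) (M n)) = ⊥ := by
    intro n
    rw [eq_bot_iff, Submodule.smul_le]
    intro a ha x _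
    rw [Submodule.mem_bot]
    change p n a • x = 0
    rw [(hJpow n a).mp ha, zero_smul]
  have hmapJ : ∀ n, (J ^ (n + 1)).map (p (n + 1)) = RingHom.ker (πU 𝔛 h𝔛.1 U n) := by
    intro n
    rw [Ideal.map_pow, map_pr_J hπ hker J hJ, hker n]
  have hker' : ∀ n, LinearMap.ker (f n) =
      J ^ (n + 1) • (⊤ : Submodule (Lim (RU 𝔛 h𝔛.1 U) (πU 𝔛 h𝔛.1 U)) (M (n + 1))) := by
    intro n
    ext x
    rw [LinearMap.mem_ker]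
    change trans 𝔛 h𝔛.1 U 𝔐.F 𝔐.toPush n x = 0 ↔ _
    rw [mem_smul_top_compHom (p (n + 1)) (J ^ (n + 1)) x, hmapJ n]
    letI := (πU 𝔛 h𝔛.1 U n).toAlgebra
    constructor
    · intro hx
      exact Groth.Agent.Lib.helper11.FibMono.mem_smul_top_of_isBC _ (hπ n) rfl _ (hbc n) x hx
    · intro hx
      exact Groth.Agent.Lib.helper11.FibMono.isBC_eq_zero_of_mem_smul_top _ rfl _ (hbc n) x hx
  let L : Submodule (Lim (RU 𝔛 h𝔛.1 U) (πU 𝔛 h𝔛.1 U)) (∀ n, M n) :=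
    { carrier := {x | ∀ n, f n (x (n + 1)) = x n}
      add_mem' := by
        intro x y hx hy n
        change f n (x (n + 1) + y (n + 1)) = x n + y n
        rw [map_add, hx n, hy n]
      zero_mem' := by
        intro n
        change f n 0 = 0
        rw [map_zero]
      smul_mem' := by
        intro a x hx n
        change f n (a • x (n + 1)) = a • x n
        rw [_root_.map_smul, hx n] }
  have hL : ∀ x : ∀ n, M n, x ∈ L ↔ ∀ n, f n (x (n + 1)) = x n := fun x => Iff.rfl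
  obtain ⟨hfinL, -⟩ := Groth.Agent.S0797.result (Lim (RU 𝔛 h𝔛.1 U) (πU 𝔛 h𝔛.1 U)) J M f hf hk hker' L hL
  have hΦ : ∀ y : FU 𝔛 h𝔛.1 U 𝔐.F 𝔐.toPush,
      (fun n => secProj 𝔛 h𝔛.1 U 𝔐.F 𝔐.toPush n y : ∀ n, M n) ∈ L :=
    fun y n => trans_secProj 𝔛 h𝔛.1 U 𝔐.F 𝔐.toPush n y
  have hlift : ∀ l : L, ∃ y : FU 𝔛 h𝔛.1 U 𝔐.F 𝔐.toPush,
      ∀ n, secProj 𝔛 h𝔛.1 U 𝔐.F 𝔐.toPush n y = l.1 n :=
    fun l => sec_exists 𝔛 h𝔛.1 U 𝔐.F 𝔐.toPush l.1 l.2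
  choose Y hY using hlift
  obtain ⟨s, hs⟩ := hfinL.fg_top
  refine ⟨⟨s.image Y, ?_⟩⟩
  rw [eq_top_iff]
  intro y _
  have key : ∀ l : L, l ∈ Submodule.span (Lim (RU 𝔛 h𝔛.1 U) (πU 𝔛 h𝔛.1 U)) (s : Set L) →
      ∀ y : FU 𝔛 h𝔛.1 U 𝔐.F 𝔐.toPush,
        (∀ n, secProj 𝔛 h𝔛.1 U 𝔐.F 𝔐.toPush n y = l.1 n) →
        y ∈ Submodule.span (OU 𝔛 h𝔛.1 U) ((s.image Y : Finset _) : Set (FU 𝔛 h𝔛.1 U 𝔐.F 𝔐.toPush)) := by
    intro l hl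
    induction hl using Submodule.span_induction with
    | mem l hl =>
      intro y hy
      have : y = Y l := by
        apply sec_ext 𝔛 h𝔛.1 U 𝔐.F 𝔐.toPush
        intro n
        rw [hy n, hY l n]
      rw [this]
      apply Submodule.subset_span
      rw [Finset.coe_image]
      exact ⟨l, hl, rfl⟩
    | zero =>
      intro y hy
      have : y = 0 := by
        apply sec_ext 𝔛 h𝔛.1 U 𝔐.F 𝔐.toPush
        intro n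
        rw [hy n, map_zero]
        rfl
      rw [this]
      exact Submodule.zero_mem _
    | add l₁ l₂ _ _ h₁ h₂ =>
      intro y hy
      have : y = Y l₁ + Y l₂ := by
        apply sec_ext 𝔛 h𝔛.1 U 𝔐.F 𝔐.toPush
        intro n
        rw [hy n, map_add, hY l₁ n, hY l₂ n]
        rfl
      rw [this]
      exact Submodule.add_mem _ (h₁ _ (hY l₁)) (h₂ _ (hY l₂))
    | smul b l _ h₁ =>
      intro y hy
      obtain ⟨a, ha⟩ := osh_exists 𝔛 h𝔛.1 U (fun n => p n b) (fun n => pi_pr n b)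
      have : y = a • Y l := by
        apply sec_ext 𝔛 h𝔛.1 U 𝔐.F 𝔐.toPush
        intro n
        rw [hy n, secProj_smul, ha n, hY l n]
        rfl
      rw [this]
      exact Submodule.smul_mem _ _ (h₁ _ (hY l))
  exact key ⟨fun n => secProj 𝔛 h𝔛.1 U 𝔐.F 𝔐.toPush n y, hΦ y⟩ (by rw [hs]; trivial) y
    (fun n => rfl)

include h𝔛 h𝔐 hU in
/-- the projection to the `k`-th level on sections over an affine open is a base change map -/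
theorem isBC_secProj (k : ℕ) :
    IsBC (prU 𝔛 h𝔛.1 U k) (secProj 𝔛 h𝔛.1 U 𝔐.F 𝔐.toPush k) := by
  obtain ⟨hsurj, hker⟩ := tower_main 𝔛 𝔐 U h𝔛 h𝔐 hU k
  refine BCLim.IsBC.of_surjective
    (Groth.Agent.Lib.helper11.LevelPushFF.prU_surjective 𝔛 h𝔛.1 U hU k) hsurj
    (fun a y => secProj_smul 𝔛 h𝔛.1 U 𝔐.F 𝔐.toPush k a y) ?_
  intro y hy
  have h1 := hker y hy
  clear hy
  induction h1 using AddSubgroup.closure_induction with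
  | mem z hz =>
    obtain ⟨a, y', ha, rfl⟩ := hz
    exact Submodule.smul_mem_smul (RingHom.mem_ker.mpr ha) Submodule.mem_top
  | zero => exact Submodule.zero_mem _
  | add x y _ _ hx hy => exact Submodule.add_mem _ hx hy
  | neg x _ hx => exact Submodule.neg_mem _ hx

include h𝔛 hU in
theorem ker_prU_eq_pow_ker (k : ℕ) :
    RingHom.ker (prU 𝔛 h𝔛.1 U k) = (RingHom.ker (prU 𝔛 h𝔛.1 U 0)) ^ (k + 1) := by
  obtain ⟨J, hJfg, hJ⟩ := FormalOpenRing.exists_J 𝔛 U h𝔛 hU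
  rw [ker_prU_eq_pow 𝔛 U h𝔛 hU J hJfg hJ k, ker_prU_eq_pow 𝔛 U h𝔛 hU J hJfg hJ 0, zero_add,
    pow_one]

section restrict

variable {D W : (𝔛.X 0).Opens} (hDW : D ≤ W)

/-- restriction of sections of `lim (u_k)_* F_k` -/
noncomputable def resF : FU 𝔛 h𝔛.1 W 𝔐.F 𝔐.toPush →+ FU 𝔛 h𝔛.1 D 𝔐.F 𝔐.toPush where
  toFun y := ((FSch.realLim 𝔛 h𝔛.1 𝔐.F 𝔐.toPush).val.map (homOfLE hDW).op).hom y
  map_zero' := map_zero _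
  map_add' := map_add _

theorem resF_smul (a : OU 𝔛 h𝔛.1 W) (y : FU 𝔛 h𝔛.1 W 𝔐.F 𝔐.toPush) :
    resF 𝔛 h𝔛 𝔐 hDW (a • y) = resO 𝔛 h𝔛.1 hDW a • resF 𝔛 h𝔛 𝔐 hDW y :=
  PresheafOfModules.map_smul (FSch.realLim 𝔛 h𝔛.1 𝔐.F 𝔐.toPush).val (homOfLE hDW).op a y

theorem secProj_resF (k : ℕ) (y : FU 𝔛 h𝔛.1 W 𝔐.F 𝔐.toPush) :
    secProj 𝔛 h𝔛.1 D 𝔐.F 𝔐.toPush k (resF 𝔛 h𝔛 𝔐 hDW y) =
      Groth.Agent.H1.ResBC.res (𝔐.F k) (lvU_mono 𝔛 h𝔛.1 hDW k)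
        (secProj 𝔛 h𝔛.1 W 𝔐.F 𝔐.toPush k y) :=
  PresheafOfModules.naturality_apply (FSch.realProj 𝔛 h𝔛.1 𝔐.F 𝔐.toPush k).val (homOfLE hDW).op y

variable (hW : IsAffineOpen W) (hD : IsAffineOpen D)

include h𝔐 hW hD in
/-- **restriction of sections of `lim (u_k)_* F_k` between affine opens is a base change map**
(EGA I 10.10.2-type statement) -/
theorem isBC_resF : IsBC (resO 𝔛 h𝔛.1 hDW) (resF 𝔛 h𝔛 𝔐 hDW) := by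
  haveI := isNoetherianRing_OU 𝔛 h𝔛 D hD
  haveI := finite_FU 𝔛 h𝔛 W hW 𝔐 h𝔐
  haveI := finite_FU 𝔛 h𝔛 D hD 𝔐 h𝔐
  haveI hq : ∀ n, (𝔐.F n).IsQuasicoherent := fun n => (h𝔐 n).1
  refine BCLim.isBC_of_tower (resO 𝔛 h𝔛.1 hDW) (resF 𝔛 h𝔛 𝔐 hDW) (resF_smul 𝔛 h𝔛 𝔐 hDW)
    (RingHom.ker (prU 𝔛 h𝔛.1 D 0)) (ker_prU_zero_le_jacobson 𝔛 h𝔛 D hD)
    (B := fun k => RU 𝔛 h𝔛.1 D k) (fun k => prU 𝔛 h𝔛.1 D k)
    (fun k => Groth.Agent.Lib.helper11.LevelPushFF.prU_surjective 𝔛 h𝔛.1 D hD k)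
    (fun k => ker_prU_eq_pow_ker 𝔛 h𝔛 D hD k)
    (T := fun k => MU 𝔛 h𝔛.1 D 𝔐.F k) (fun k => secProj 𝔛 h𝔛.1 D 𝔐.F 𝔐.toPush k)
    (fun k a y => secProj_smul 𝔛 h𝔛.1 D 𝔐.F 𝔐.toPush k a y) ?_ ?_
  · intro y hy
    exact Groth.Agent.Lib.helper7.ThickAff.IsBC.mem_smul_top_of_map_eq_zero
      (isBC_secProj 𝔛 h𝔛 D hD 𝔐 h𝔐 0)
      (Groth.Agent.Lib.helper11.LevelPushFF.prU_surjective 𝔛 h𝔛.1 D hD 0) y hy
  · intro k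
    have h1 := BCLim.IsBC.comp (isBC_secProj 𝔛 h𝔛 W hW 𝔐 h𝔐 k)
      (Groth.Agent.H1.ResBC.isBC_res (𝔐.F k) (isAffineOpen_lvU 𝔛 h𝔛.1 W k hW)
        (isAffineOpen_lvU 𝔛 h𝔛.1 D k hD) (lvU_mono 𝔛 h𝔛.1 hDW k))
    have e1 : (prU 𝔛 h𝔛.1 D k).comp (resO 𝔛 h𝔛.1 hDW) =
        (resR 𝔛 h𝔛.1 hDW k).comp (prU 𝔛 h𝔛.1 W k) := prU_comp_resO 𝔛 h𝔛.1 hDW k
    have e2 : (secProj 𝔛 h𝔛.1 D 𝔐.F 𝔐.toPush k).comp (resF 𝔛 h𝔛 𝔐 hDW) =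
        (Groth.Agent.H1.ResBC.res (𝔐.F k) (lvU_mono 𝔛 h𝔛.1 hDW k)).comp
          (secProj 𝔛 h𝔛.1 W 𝔐.F 𝔐.toPush k) :=
      AddMonoidHom.ext (secProj_resF 𝔛 h𝔛 𝔐 hDW k)
    rw [e1, e2]
    exact h1

end restrict

end Mod

end Groth.Agent.Lib.helper11.RealModBC
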