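import Mathlib
import Groth.Prelude.Def_FSch5
import Groth.Agent.Lib.Helper11.RealModBC
import Groth.Agent.Lib.Helper11.FlatLim

set_option autoImplicit false
universe u
open CategoryTheory CategoryTheory.Limits AlgebraicGeometry TopologicalSpace Opposite
open Groth.Agent.Lib.helper11.AdicRingLim Groth.Agent.Lib.helper11.RealLimSec
open Groth.Agent.Lib.helper11.FormalOpenTower Groth.Agent.Lib.helper11.FormalOpenRing
open Groth.Agent.Lib.helper11.RealModBC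

namespace Groth.Agent.Lib.helper11.FlatO

theorem flat_presheaf_map {X : Scheme.{u}} {U V : X.Opens} (hU : IsAffineOpen U)
    (hV : IsAffineOpen V) (h : V ≤ U) : (X.presheaf.map (homOfLE h).op).hom.Flat := by
  have e : V ≤ (𝟙 X) ⁻¹ᵁ U := h
  have h0 := HasRingHomProperty.appLE (P := @Flat) (𝟙 X) inferInstance ⟨U, hU⟩ ⟨V, hV⟩ e
  have hr : (Scheme.Hom.appLE (𝟙 X) U V e) = X.presheaf.map (homOfLE h).op := by
    rw [Scheme.Hom.appLE, Scheme.Hom.id_app]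
    exact Category.id_comp _
  rw [← hr]
  exact h0

variable (𝔛 : FSch.Sys.{u}) (h𝔛 : 𝔛.IsLocNoethFormal) {D W : (𝔛.X 0).Opens} (hDW : D ≤ W)
  (hW : IsAffineOpen W) (hD : IsAffineOpen D)

include hW hD in
/-- **`O_𝔛(W) → O_𝔛(D)` is flat** for affine opens `D ≤ W` of a locally Noetherian formal scheme. -/
theorem flat_resO : (resO 𝔛 h𝔛.1 hDW).Flat := by
  haveI := isNoetherianRing_OU 𝔛 h𝔛 W hW
  haveI := isNoetherianRing_OU 𝔛 h𝔛 D hD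
  refine FlatLim.flat_of_levels (resO 𝔛 h𝔛.1 hDW) (RingHom.ker (prU 𝔛 h𝔛.1 W 0)) ?_
    (B := fun k => RU 𝔛 h𝔛.1 W k) (B' := fun k => RU 𝔛 h𝔛.1 D k)
    (fun k => prU 𝔛 h𝔛.1 W k)
    (fun k => Groth.Agent.Lib.helper11.LevelPushFF.prU_surjective 𝔛 h𝔛.1 W hW k)
    (fun k => ker_prU_eq_pow_ker 𝔛 h𝔛 W hW k)
    (fun k => prU 𝔛 h𝔛.1 D k)
    (fun k => Groth.Agent.Lib.helper11.LevelPushFF.prU_surjective 𝔛 h𝔛.1 D hD k)
    ?_ (fun k => resR 𝔛 h𝔛.1 hDW k) ?_ (fun k => (prU_comp_resO 𝔛 h𝔛.1 hDW k).symm)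
  · rw [← ker_prU_eq_map 𝔛 hDW h𝔛 hW hD 0]
    exact ker_prU_zero_le_jacobson 𝔛 h𝔛 D hD
  · intro k
    rw [ker_prU_eq_map 𝔛 hDW h𝔛 hW hD k, ker_prU_eq_pow_ker 𝔛 h𝔛 W hW k]
  · intro k
    exact flat_presheaf_map (isAffineOpen_lvU 𝔛 h𝔛.1 W k hW) (isAffineOpen_lvU 𝔛 h𝔛.1 D k hD)
      (lvU_mono 𝔛 h𝔛.1 hDW k)

end Groth.Agent.Lib.helper11.FlatO
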