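import Mathlib

set_option autoImplicit false
universe u

namespace Groth.Agent.Lib.helper11.FlatSyz

/-- flat base change of syzygies of a finite family of ring elements -/
theorem syz_of_flat {A A' : Type u} [CommRing A] [CommRing A'] (φ : A →+* A') (hφ : φ.Flat)
    {I K : Type u} [Fintype I] [Fintype K] (f : I → A) (t : K → I → A)
    (hsyz : ∀ c : I → A, ∑ i, c i * f i = 0 → ∃ e : K → A, ∀ i, c i = ∑ κ, e κ * t κ i)
    (c' : I → A') (hc' : ∑ i, c' i * φ (f i) = 0) :
    ∃ e' : K → A', ∀ i, c' i = ∑ κ, e' κ * φ (t κ i) := by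
  letI : Algebra A A' := φ.toAlgebra
  haveI : Module.Flat A A' := hφ
  have htriv : Module.IsTrivialRelation f c' := by
    refine Module.Flat.isTrivialRelation_of_sum_smul_eq_zero (R := A) (M := A') (f := f)
      (x := c') ?_
    refine Eq.trans ?_ hc'
    refine Finset.sum_congr rfl (fun i _ => ?_)
    change φ (f i) * c' i = _
    rw [mul_comm]
  obtain ⟨k, a, y, hx, ha⟩ := htriv
  have he : ∀ j : Fin k, ∃ e : K → A, ∀ i, a i j = ∑ κ, e κ * t κ i := by
    intro j
    apply hsyz (fun i => a i j)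
    refine Eq.trans ?_ (ha j)
    refine Finset.sum_congr rfl (fun i _ => ?_)
    rw [mul_comm]
  choose e he using he
  refine ⟨fun κ => ∑ j, φ (e j κ) * y j, fun i => ?_⟩
  rw [hx i]
  have h1 : ∀ j, a i j • y j = ∑ κ, (φ (e j κ) * y j) * φ (t κ i) := by
    intro j
    rw [he j i]
    change φ (∑ κ, e j κ * t κ i) * y j = _
    rw [map_sum, Finset.sum_mul]
    refine Finset.sum_congr rfl (fun κ _ => ?_)
    rw [map_mul]
    ring
  rw [Finset.sum_congr rfl (fun j _ => h1 j), Finset.sum_comm]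
  refine Finset.sum_congr rfl (fun κ _ => ?_)
  rw [Finset.sum_mul]

end Groth.Agent.Lib.helper11.FlatSyz
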