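import Mathlib

/-!
# Sections of a free sheaf of modules of finite rank (helper11)

On any site: for finite `I`, every section `x` of `free I` over `X` is
`∑ i, coord i x • freeSection i`, where `coord i : free I ⟶ unit R` are the coordinate morphisms.
Consequently `(freeHomEquiv.symm s) x = ∑ i, coord i x • s i`.
-/

set_option autoImplicit false
universe u v₁ u₁
open CategoryTheory CategoryTheory.Limits Opposite

namespace Groth.Agent.Lib.helper11.FreeSec

variable {C : Type u₁} [Category.{v₁} C] {J : GrothendieckTopology C} {R : Sheaf J RingCat.{u}}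
  [HasWeakSheafify J AddCommGrpCat.{u}] [J.WEqualsLocallyBijective AddCommGrpCat.{u}]
  {I : Type u} [DecidableEq I]

/-- the coordinate morphisms of a free sheaf of modules -/
noncomputable def coord (i : I) : SheafOfModules.free (R := R) I ⟶ SheafOfModules.unit R :=
  Cofan.IsColimit.desc (SheafOfModules.isColimitFreeCofan I)
    (fun j => if j = i then 𝟙 (SheafOfModules.unit R) else 0)

theorem ιFree_coord (i j : I) :
    SheafOfModules.ιFree (R := R) j ≫ coord i = if j = i then 𝟙 (SheafOfModules.unit R) else 0 := by
  unfold coord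
  rw [← SheafOfModules.freeCofan_inj]
  exact Cofan.IsColimit.fac _ _ _

variable [Fintype I]

theorem sum_coord_ιFree :
    ∑ i : I, coord (R := R) i ≫ SheafOfModules.ιFree i = 𝟙 (SheafOfModules.free (R := R) I) := by
  apply Cofan.IsColimit.hom_ext (SheafOfModules.isColimitFreeCofan I)
  intro j
  change SheafOfModules.ιFree (R := R) j ≫ (∑ i : I, coord (R := R) i ≫ SheafOfModules.ιFree i) =
    SheafOfModules.ιFree (R := R) j ≫ 𝟙 (SheafOfModules.free (R := R) I)
  rw [Preadditive.comp_sum, Category.comp_id]
  have : ∀ i : I, SheafOfModules.ιFree (R := R) j ≫ coord i ≫ SheafOfModules.ιFree i =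
      if j = i then SheafOfModules.ιFree j else 0 := by
    intro i
    rw [← Category.assoc, ιFree_coord]
    split_ifs with hji
    · subst hji
      rw [Category.id_comp]
    · rw [zero_comp]
  rw [Finset.sum_congr rfl (fun i _ => this i), Finset.sum_ite_eq]
  simp

omit [DecidableEq I] [Fintype I] in
/-- evaluation of morphisms at a section, as an additive map -/
noncomputable def evHom {M N : SheafOfModules.{u} R} (X : Cᵒᵖ) (x : M.val.obj X) :
    (M ⟶ N) →+ N.val.obj X where
  toFun f := (f.val.app X).hom x
  map_zero' := rfl
  map_add' _ _ := rfl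

omit [HasWeakSheafify J AddCommGrpCat.{u}] [J.WEqualsLocallyBijective AddCommGrpCat.{u}] in
/-- the value of a global section over an object, with the expected type -/
def secVal {M : SheafOfModules.{u} R} (σ : M.sections) (X : Cᵒᵖ) : M.val.obj X := σ.val X

omit [DecidableEq I] [Fintype I] in
theorem ιFree_app (i : I) (X : Cᵒᵖ) (r : R.obj.obj X) :
    ((SheafOfModules.ιFree (R := R) i).val.app X).hom r =
      r • secVal (SheafOfModules.freeSection (R := R) i) X := by
  have h1 : secVal (SheafOfModules.freeSection (R := R) i) X =
      ((SheafOfModules.ιFree (R := R) i).val.app X).hom (1 : R.obj.obj X) := by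
    unfold secVal SheafOfModules.freeSection SheafOfModules.freeHomEquiv
    simp
  rw [h1, ← map_smul]
  congr 1
  exact (mul_one r).symm

theorem eq_sum_coord (X : Cᵒᵖ) (x : (SheafOfModules.free (R := R) I).val.obj X) :
    x = ∑ i : I, (show R.obj.obj X from ((coord (R := R) i).val.app X).hom x) •
      secVal (SheafOfModules.freeSection (R := R) i) X := by
  have h1 := congrArg (evHom X x) (sum_coord_ιFree (R := R) (I := I))
  rw [map_sum] at h1
  refine Eq.trans ?_ (Eq.trans h1.symm ?_)
  · rfl
  · refine Finset.sum_congr rfl (fun i _ => ?_)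
    exact ιFree_app i X _

omit [DecidableEq I] [Fintype I] in
theorem secVal_freeSection (i : I) (X : Cᵒᵖ) :
    secVal (SheafOfModules.freeSection (R := R) i) X =
      ((SheafOfModules.ιFree (R := R) i).val.app X).hom (1 : R.obj.obj X) := by
  unfold secVal SheafOfModules.freeSection SheafOfModules.freeHomEquiv
  simp

omit [Fintype I] in
theorem coord_freeSection (i j : I) (X : Cᵒᵖ) :
    ((coord (R := R) i).val.app X).hom (secVal (SheafOfModules.freeSection (R := R) j) X) =
      if j = i then (1 : R.obj.obj X) else 0 := by
  rw [secVal_freeSection]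
  have h1 := congrArg (evHom X (1 : R.obj.obj X)) (ιFree_coord (R := R) i j)
  refine Eq.trans ?_ (h1.trans ?_)
  · rfl
  · split_ifs <;> rfl

omit [DecidableEq I] [Fintype I] in
theorem π_freeSection {M : SheafOfModules.{u} R} (s : I → M.sections) (i : I) (X : Cᵒᵖ) :
    ((M.freeHomEquiv.symm s).val.app X).hom (secVal (SheafOfModules.freeSection (R := R) i) X) =
      secVal (s i) X := by
  have h := SheafOfModules.sectionsMap_freeHomEquiv_symm_freeSection (M := M) s i
  exact congr_arg (fun σ => σ.val X) h

theorem π_apply {M : SheafOfModules.{u} R} (s : I → M.sections) (X : Cᵒᵖ)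
    (x : (SheafOfModules.free (R := R) I).val.obj X) :
    ((M.freeHomEquiv.symm s).val.app X).hom x =
      ∑ i : I, (show R.obj.obj X from ((coord (R := R) i).val.app X).hom x) • secVal (s i) X := by
  conv_lhs => rw [eq_sum_coord X x]
  rw [map_sum]
  refine Finset.sum_congr rfl (fun i _ => ?_)
  rw [map_smul, π_freeSection]

/-- the section of `free I` over `X` with given coordinates -/
noncomputable def ofCoord (X : Cᵒᵖ) (c : I → R.obj.obj X) :
    (SheafOfModules.free (R := R) I).val.obj X :=
  ∑ i : I, c i • secVal (SheafOfModules.freeSection (R := R) i) X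

theorem coord_ofCoord (X : Cᵒᵖ) (c : I → R.obj.obj X) (j : I) :
    ((coord (R := R) j).val.app X).hom (ofCoord X c) = c j := by
  unfold ofCoord
  rw [map_sum]
  have : ∀ i : I, ((coord (R := R) j).val.app X).hom
      (c i • secVal (SheafOfModules.freeSection (R := R) i) X) =
      if i = j then c i else 0 := by
    intro i
    rw [map_smul, coord_freeSection]
    split_ifs
    · exact mul_one (c i)
    · exact mul_zero (c i)
  refine (Finset.sum_congr rfl (fun i _ => this i)).trans ?_
  exact (Finset.sum_ite_eq' (M := (SheafOfModules.unit R).val.obj X) Finset.univ j c).trans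
    (if_pos (Finset.mem_univ j))

theorem ofCoord_coord (X : Cᵒᵖ) (x : (SheafOfModules.free (R := R) I).val.obj X) :
    ofCoord X (fun i => ((coord (R := R) i).val.app X).hom x) = x :=
  (eq_sum_coord X x).symm

omit [DecidableEq I] in
theorem π_ofCoord {M : SheafOfModules.{u} R} (s : I → M.sections) (X : Cᵒᵖ)
    (c : I → R.obj.obj X) :
    ((M.freeHomEquiv.symm s).val.app X).hom (ofCoord X c) = ∑ i : I, c i • secVal (s i) X := by
  unfold ofCoord
  rw [map_sum]
  refine Finset.sum_congr rfl (fun i _ => ?_)
  rw [map_smul, π_freeSection]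

end Groth.Agent.Lib.helper11.FreeSec
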