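import Mathlib

set_option autoImplicit false
universe u v' u'
open CategoryTheory CategoryTheory.Limits TopologicalSpace Opposite

namespace Groth.Agent.Lib.helper11.OverGen

section General

variable {C : Type u'} [Category.{v'} C] {J : GrothendieckTopology C} {R : Sheaf J RingCat.{u}}

/-- a locally surjective morphism of sheaves of modules is an epimorphism -/
theorem epi_of_locally_surjective {F G : SheafOfModules.{u} R} (p : F ⟶ G)
    (h : ∀ (X : C) (y : G.val.obj (op X)), ∃ S : Sieve X, S ∈ J X ∧
      ∀ ⦃Y : C⦄ (f : Y ⟶ X), S f →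
        ∃ x : F.val.obj (op Y), (p.val.app (op Y)).hom x = (G.val.map f.op).hom y) : Epi p := by
  refine ⟨fun {N} a b hab => ?_⟩
  apply SheafOfModules.hom_ext
  apply PresheafOfModules.hom_ext
  intro X
  induction X using Opposite.rec with | _ X => ?_
  ext y
  obtain ⟨S, hS, hSy⟩ := h X y
  refine (Presheaf.IsSheaf.isSeparated N.isSheaf) X S hS _ _ (fun Y f hf => ?_)
  obtain ⟨x, hx⟩ := hSy f hf
  have ha := PresheafOfModules.naturality_apply a.val f.op y
  have hb := PresheafOfModules.naturality_apply b.val f.op y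
  have h1 : (p ≫ a).val.app (op Y) = (p ≫ b).val.app (op Y) := by rw [hab]
  have h2 := congr($(h1).hom x)
  refine ha.symm.trans (Eq.trans ?_ hb)
  rw [← hx]
  exact h2

end General


section Top

variable {T : TopCat.{u}} {R : Sheaf (Opens.grothendieckTopology T) RingCat.{u}}
  (M : SheafOfModules.{u} R)

/-- the section of `M.over U` given by a section of `M` over `U` -/
noncomputable def secOver (U : Opens T) (m : M.val.obj (op U)) : (M.over U).sections :=
  PresheafOfModules.sectionsMk (M := (M.over U).val)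
    (fun Y => (M.val.map (Y.unop.hom).op).hom m) (by
      intro Y Y' f
      have h1 : (Y.unop.hom).op ≫ ((Over.forget U).map f.unop).op = (Y'.unop.hom).op :=
        Subsingleton.elim _ _
      exact (PresheafOfModules.map_comp_apply M.val (Y.unop.hom).op
        ((Over.forget U).map f.unop).op m).symm.trans (PresheafOfModules.congr_map_apply _ h1 m))

theorem secOver_val (U : Opens T) (m : M.val.obj (op U)) (Y : (Over U)ᵒᵖ) :
    (secOver M U m).val Y = (M.val.map (Y.unop.hom).op).hom m := rfl

/-- restriction of sections, with the expected type -/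
noncomputable def resM {U D : Opens T} (hD : D ≤ U) (m : M.val.obj (op U)) : M.val.obj (op D) :=
  (M.val.map (homOfLE hD).op).hom m

theorem resM_apply {U D : Opens T} (hD : D ≤ U) (m : M.val.obj (op U)) :
    resM M hD m = (M.val.map (homOfLE hD).op).hom m := rfl

variable {M}

theorem π_freeSection {ι : Type u} (U : Opens T) (m : ι → M.val.obj (op U)) (i : ι)
    (Y : Over U) :
    (((M.over U).freeHomEquiv.symm (fun i => secOver M U (m i))).val.app (op Y)).hom
      ((SheafOfModules.freeSection (R := R.over U) i).val (op Y)) =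
      (M.val.map (Y.hom).op).hom (m i) := by
  have h := SheafOfModules.sectionsMap_freeHomEquiv_symm_freeSection
    (M := M.over U) (fun i => secOver M U (m i)) i
  have h2 := congr_arg (fun s => s.val (op Y)) h
  exact h2

theorem exists_preimage_of_span {ι : Type u} (U : Opens T) (m : ι → M.val.obj (op U))
    (D : Opens T) (hD : D ≤ U) (y : M.val.obj (op D))
    (hy : y ∈ Submodule.span (R.obj.obj (op D))
      (Set.range fun i => resM M hD (m i))) :
    ∃ x : (SheafOfModules.free (R := R.over U) ι).val.obj (op (Over.mk (homOfLE hD))),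
      (((M.over U).freeHomEquiv.symm (fun i => secOver M U (m i))).val.app
        (op (Over.mk (homOfLE hD)))).hom x = y := by
  induction hy using Submodule.span_induction with
  | mem y hy =>
    obtain ⟨i, rfl⟩ := hy
    exact ⟨_, π_freeSection U m i (Over.mk (homOfLE hD))⟩
  | zero => exact ⟨0, map_zero _⟩
  | add y y' _ _ h h' =>
    obtain ⟨x, hx⟩ := h
    obtain ⟨x', hx'⟩ := h'
    exact ⟨x + x', by rw [map_add, hx, hx']; rfl⟩
  | smul r y _ h =>
    obtain ⟨x, hx⟩ := h
    refine ⟨(show (R.over U).obj.obj (op (Over.mk (homOfLE hD))) from r) • x, ?_⟩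
    rw [map_smul, hx]
    rfl

theorem epi_of_span {ι : Type u} (U : Opens T) (m : ι → M.val.obj (op U)) (𝔅 : Set (Opens T))
    (h𝔅 : Opens.IsBasis 𝔅)
    (hspan : ∀ D ∈ 𝔅, ∀ (hD : D ≤ U) (y : M.val.obj (op D)),
      y ∈ Submodule.span (R.obj.obj (op D))
        (Set.range fun i => resM M hD (m i))) :
    Epi ((M.over U).freeHomEquiv.symm (fun i => secOver M U (m i))) := by
  apply epi_of_locally_surjective
  intro X y
  refine ⟨⟨fun Y f => ∃ D ∈ 𝔅, Y.left ≤ D ∧ D ≤ X.left, ?_⟩, ?_, ?_⟩
  · rintro Y Z f ⟨D, hD, h1, h2⟩ g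
    exact ⟨D, hD, g.left.le.trans h1, h2⟩
  · rw [GrothendieckTopology.mem_over_iff]
    intro x hx
    obtain ⟨D, hD, hxD, hDX⟩ := Opens.isBasis_iff_nbhd.mp h𝔅 hx
    refine ⟨D, homOfLE hDX, ?_, hxD⟩
    rw [Sieve.overEquiv_iff]
    exact ⟨D, hD, le_rfl, hDX⟩
  · rintro Y f ⟨D, hD, hYD, hDX⟩
    have hDU : D ≤ U := hDX.trans X.hom.le
    let YD : Over U := Over.mk (homOfLE hDU)
    let g : Y ⟶ YD := Over.homMk (homOfLE hYD) (Subsingleton.elim _ _)
    let fD : YD ⟶ X := Over.homMk (homOfLE hDX) (Subsingleton.elim _ _)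
    have hf : f = g ≫ fD := Over.OverMorphism.ext (Subsingleton.elim _ _)
    obtain ⟨xD, hxD⟩ := exists_preimage_of_span U m D hDU
      (((M.over U).val.map fD.op).hom y) (hspan D hD hDU _)
    refine ⟨((SheafOfModules.free (R := R.over U) ι).val.map g.op).hom xD, ?_⟩
    have hn := PresheafOfModules.naturality_apply
      ((M.over U).freeHomEquiv.symm (fun i => secOver M U (m i))).val g.op xD
    refine hn.trans ?_
    rw [hxD, ← PresheafOfModules.map_comp_apply]
    exact PresheafOfModules.congr_map_apply _ (by rw [hf]; rfl) y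

/-- a sheaf of modules on a topological space which locally is generated, on a basis of opens, by
finitely many sections, is of finite type -/
theorem isFiniteType_of_span {κ : Type u} (W : κ → Opens T) (hcov : ⨆ i, W i = ⊤)
    (𝔅 : Set (Opens T)) (h𝔅 : Opens.IsBasis 𝔅)
    (I : κ → Type u) [∀ i, Finite (I i)] (m : ∀ i, I i → M.val.obj (op (W i)))
    (hspan : ∀ i, ∀ D ∈ 𝔅, ∀ (hD : D ≤ W i) (y : M.val.obj (op D)),
      y ∈ Submodule.span (R.obj.obj (op D))
        (Set.range fun j => resM M hD (m i j))) :
    SheafOfModules.IsFiniteType (R := R) M := by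
  let σ : SheafOfModules.LocalGeneratorsData.{u} M :=
    { I := κ
      X := W
      coversTop := (Opens.coversTop_iff _ _).mpr hcov
      generators := fun i =>
        { I := I i
          s := fun j => secOver M (W i) (m i j)
          epi := epi_of_span (W i) (m i) 𝔅 h𝔅 (hspan i) } }
  have h : σ.IsFiniteType :=
    @SheafOfModules.LocalGeneratorsData.IsFiniteType.mk _ _ _ _ _ _ _ σ
      (fun i => @SheafOfModules.GeneratingSections.IsFiniteType.mk _ _ _ _ _ _ _
        (σ.generators i) (inferInstanceAs (Finite (I i))))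
  exact @SheafOfModules.IsFiniteType.mk _ _ _ _ _ _ M ⟨σ, h⟩

/-- a subsheaf of modules `N ⊆ P` (given by a morphism injective on sections) which locally has
finitely many sections generating it on a basis of opens is of finite type; the generation is
checked inside `P` -/
theorem isFiniteType_of_sub {N P : SheafOfModules.{u} R} (j : N ⟶ P)
    (hinj : ∀ D : Opens T, Function.Injective (j.val.app (op D)).hom)
    {κ : Type u} (W : κ → Opens T) (hcov : ⨆ i, W i = ⊤)
    (𝔅 : Set (Opens T)) (h𝔅 : Opens.IsBasis 𝔅)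
    (I : κ → Type u) [∀ i, Fintype (I i)] (m : ∀ i, I i → N.val.obj (op (W i)))
    (hspan : ∀ i, ∀ D ∈ 𝔅, ∀ (hD : D ≤ W i) (y : N.val.obj (op D)),
      ∃ c : I i → R.obj.obj (op D), (j.val.app (op D)).hom y =
        ∑ l, c l • resM P hD ((j.val.app (op (W i))).hom (m i l))) :
    SheafOfModules.IsFiniteType (R := R) N := by
  refine isFiniteType_of_span W hcov 𝔅 h𝔅 I m (fun i D hD𝔅 hD y => ?_)
  obtain ⟨c, hc⟩ := hspan i D hD𝔅 hD y
  rw [Submodule.mem_span_range_iff_exists_fun]
  refine ⟨c, hinj D ?_⟩
  rw [hc, map_sum]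
  refine Finset.sum_congr rfl (fun l _ => ?_)
  rw [map_smul]
  congr 1
  exact PresheafOfModules.naturality_apply j.val (homOfLE hD).op (m i l)

end Top

end Groth.Agent.Lib.helper11.OverGen
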