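import Mathlib
import Groth.Agent.Lib.Helper11.OverGen
import Groth.Agent.Lib.Helper11.FreeSec
import Groth.Agent.Lib.Helper7.KerSections

/-!
# Finite presentations of sheaves of modules from sections on a basis (helper11)
-/

set_option autoImplicit false
universe u v₁ u₁
open CategoryTheory CategoryTheory.Limits TopologicalSpace Opposite
open Groth.Agent.Lib.helper11.FreeSec Groth.Agent.Lib.helper11.OverGen

namespace Groth.Agent.Lib.helper11.OverPres

section General

variable {C : Type u₁} [Category.{v₁} C] {J : GrothendieckTopology C} {R : Sheaf J RingCat.{u}}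
  [HasSheafify J AddCommGrpCat.{u}] [J.WEqualsLocallyBijective AddCommGrpCat.{u}]
  {I : Type u} [Fintype I] [DecidableEq I]

omit [DecidableEq I] in
theorem map_ofCoord {X Y : Cᵒᵖ} (f : X ⟶ Y) (c : I → R.obj.obj X) :
    ((SheafOfModules.free (R := R) I).val.map f).hom (ofCoord X c) =
      ofCoord Y (fun i => (R.obj.map f).hom (c i)) := by
  unfold ofCoord
  rw [map_sum]
  refine Finset.sum_congr rfl (fun i _ => ?_)
  have h1 := PresheafOfModules.map_smul (SheafOfModules.free (R := R) I).val f (c i)
    (secVal (SheafOfModules.freeSection (R := R) i) X)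
  refine h1.trans ?_
  congr 1
  exact PresheafOfModules.sections_property (SheafOfModules.freeSection (R := R) i) f

theorem ext_coord {X : Cᵒᵖ} {x y : (SheafOfModules.free (R := R) I).val.obj X}
    (h : ∀ i, ((coord (R := R) i).val.app X).hom x = ((coord (R := R) i).val.app X).hom y) :
    x = y := by
  rw [eq_sum_coord X x, eq_sum_coord X y]
  refine Finset.sum_congr rfl (fun i _ => ?_)
  rw [h i]

/-- a compatible family of coordinates -/
structure GlobCoord (R : Sheaf J RingCat.{u}) (I : Type u) where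
  a : ∀ X : Cᵒᵖ, I → R.obj.obj X
  compat : ∀ ⦃X Y : Cᵒᵖ⦄ (f : X ⟶ Y) (i : I), (R.obj.map f).hom (a X i) = a Y i

omit [DecidableEq I] in
/-- the global section of `free I` with given global coordinates -/
noncomputable def secOfCoord (a : GlobCoord R I) : (SheafOfModules.free (R := R) I).sections :=
  PresheafOfModules.sectionsMk (M := (SheafOfModules.free (R := R) I).val)
    (fun X => ofCoord X (a.a X)) (by
      intro X Y f
      refine (map_ofCoord f (a.a X)).trans ?_
      congr 1
      funext i
      exact a.compat f i)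

omit [DecidableEq I] in
theorem secVal_secOfCoord (a : GlobCoord R I) (X : Cᵒᵖ) :
    secVal (secOfCoord a) X = ofCoord X (a.a X) := rfl

variable {N : SheafOfModules.{u} R} (s : I → N.sections)

omit [DecidableEq I] in
/-- the morphism `unit ⟶ free I` with given global coordinates -/
noncomputable def relHom (a : GlobCoord R I) :
    SheafOfModules.unit R ⟶ SheafOfModules.free (R := R) I :=
  (SheafOfModules.free (R := R) I).unitHomEquiv.symm (secOfCoord a)

omit [Fintype I] [DecidableEq I] in
theorem unitHomEquiv_symm_eq_zero (σ : N.sections) (h : ∀ X, secVal σ X = 0) :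
    N.unitHomEquiv.symm σ = 0 := by
  rw [Equiv.symm_apply_eq]
  apply PresheafOfModules.sections_ext
  intro X
  exact h X

omit [DecidableEq I] in
theorem relHom_comp (a : GlobCoord R I) (ha : ∀ X, ∑ i, a.a X i • secVal (s i) X = 0) :
    relHom a ≫ N.freeHomEquiv.symm s = 0 := by
  unfold relHom
  rw [SheafOfModules.unitHomEquiv_symm_comp]
  apply unitHomEquiv_symm_eq_zero
  intro X
  refine Eq.trans ?_ (ha X)
  exact π_ofCoord s X (a.a X)

omit [DecidableEq I] in
/-- the global section of the kernel of `free I ⟶ N` given by a global relation -/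
noncomputable def relSec (a : GlobCoord R I) (ha : ∀ X, ∑ i, a.a X i • secVal (s i) X = 0) :
    (kernel (N.freeHomEquiv.symm s)).sections :=
  (kernel (N.freeHomEquiv.symm s)).unitHomEquiv
    (kernel.lift (N.freeHomEquiv.symm s) (relHom a) (relHom_comp s a ha))

omit [DecidableEq I] in
theorem ι_relSec (a : GlobCoord R I) (ha : ∀ X, ∑ i, a.a X i • secVal (s i) X = 0) (X : Cᵒᵖ) :
    ((kernel.ι (N.freeHomEquiv.symm s)).val.app X).hom (secVal (relSec s a ha) X) =
      ofCoord X (a.a X) := by
  have h1 : SheafOfModules.sectionsMap (kernel.ι (N.freeHomEquiv.symm s)) (relSec s a ha) =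
      secOfCoord a := by
    unfold relSec
    rw [← SheafOfModules.unitHomEquiv_comp_apply, kernel.lift_ι]
    exact Equiv.apply_symm_apply _ _
  exact congrArg (fun σ => secVal σ X) h1

end General

section Top

variable {T : TopCat.{u}} {R : Sheaf (Opens.grothendieckTopology T) RingCat.{u}}
  {M : SheafOfModules.{u} R} {I K : Type u} [Fintype I] [Fintype K]
  (W : Opens T) (m : I → M.val.obj (op W)) (a : K → I → R.obj.obj (op W))

/-- the generating sections over `W` -/
noncomputable abbrev gs (i : I) : (M.over W).sections := secOver M W (m i)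

/-- the morphism `free I ⟶ M|_W` given by sections over `W` -/
noncomputable abbrev πW : SheafOfModules.free (R := R.over W) I ⟶ M.over W :=
  (M.over W).freeHomEquiv.symm (gs W m)

/-- global coordinates on `Over W` from elements of `R(W)` -/
noncomputable def gc (c : I → R.obj.obj (op W)) : GlobCoord (R.over W) I where
  a Y i := (R.obj.map (Y.unop.hom).op).hom (c i)
  compat := by
    intro X Y f i
    have h1 : (X.unop.hom).op ≫ ((Over.forget W).map f.unop).op = (Y.unop.hom).op :=
      Subsingleton.elim _ _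
    have h2 := congrArg (fun φ => φ.hom (c i)) (R.obj.map_comp (X.unop.hom).op
      ((Over.forget W).map f.unop).op)
    rw [h1] at h2
    exact h2.symm

theorem gc_rel (c : I → R.obj.obj (op W)) (hc : ∑ i, c i • m i = 0) (Y : (Over W)ᵒᵖ) :
    ∑ i, (gc W c).a Y i • secVal (gs W m i) Y = 0 := by
  have h1 := congrArg (M.val.map (Y.unop.hom).op).hom hc
  rw [map_sum, map_zero] at h1
  refine Eq.trans ?_ h1
  refine Finset.sum_congr rfl (fun i _ => ?_)
  exact (PresheafOfModules.map_smul M.val (Y.unop.hom).op (c i) (m i)).symm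

variable (hrel : ∀ k, ∑ i, a k i • m i = 0)

/-- the relation sections -/
noncomputable def rs (k : K) : (kernel (πW W m)).sections :=
  relSec (gs W m) (gc W (a k)) (gc_rel W m (a k) (hrel k))

theorem ι_rs (k : K) (Y : (Over W)ᵒᵖ) :
    ((kernel.ι (πW W m)).val.app Y).hom (secVal (rs W m a hrel k) Y) =
      ofCoord Y ((gc W (a k)).a Y) :=
  ι_relSec (gs W m) (gc W (a k)) (gc_rel W m (a k) (hrel k)) Y

theorem kerι_injective (Y : (Over W)ᵒᵖ) :
    Function.Injective ((kernel.ι (πW W m)).val.app Y).hom :=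
  (Groth.Agent.Lib.helper7.KerSections.sections_leftExact_general
    (ShortComplex.mk (kernel.ι (πW W m)) (πW W m) (kernel.condition _))
    (ShortComplex.exact_of_f_is_kernel _ (kernelIsKernel _)) Y).1

theorem πW_kerι (Y : (Over W)ᵒᵖ) (y : (kernel (πW W m)).val.obj Y) :
    ((πW W m).val.app Y).hom (((kernel.ι (πW W m)).val.app Y).hom y) = 0 := by
  have h1 := kernel.condition (πW W m)
  exact congrArg (fun ψ => (ψ.val.app Y).hom y) h1

theorem exists_preimage_rel (D : Opens T) (hD : D ≤ W)
    (hsyz : ∀ c : I → R.obj.obj (op D), ∑ i, c i • resM M hD (m i) = 0 →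
      ∃ e : K → R.obj.obj (op D), ∀ i, c i = ∑ k, e k * (R.obj.map (homOfLE hD).op).hom (a k i))
    (y : (kernel (πW W m)).val.obj (op (Over.mk (homOfLE hD)))) :
    ∃ x : (SheafOfModules.free (R := R.over W) K).val.obj (op (Over.mk (homOfLE hD))),
      (((kernel (πW W m)).freeHomEquiv.symm (rs W m a hrel)).val.app
        (op (Over.mk (homOfLE hD)))).hom x = y := by
  classical
  obtain ⟨z, hz⟩ : ∃ z, z = ((kernel.ι (πW W m)).val.app (op (Over.mk (homOfLE hD)))).hom y :=
    ⟨_, rfl⟩
  have hz0 : ((πW W m).val.app (op (Over.mk (homOfLE hD)))).hom z = 0 := by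
    rw [hz]
    exact πW_kerι W m _ y
  rw [π_apply] at hz0
  obtain ⟨e, he⟩ := hsyz
    (fun i => ((coord (R := R.over W) i).val.app (op (Over.mk (homOfLE hD)))).hom z) hz0
  refine ⟨ofCoord (R := R.over W) (op (Over.mk (homOfLE hD))) e, ?_⟩
  apply kerι_injective W m (op (Over.mk (homOfLE hD)))
  rw [← hz, π_ofCoord, map_sum]
  apply ext_coord
  intro j
  rw [map_sum]
  refine Eq.trans ?_ (he j).symm
  refine Finset.sum_congr rfl (fun k _ => ?_)
  rw [map_smul, ι_rs, map_smul, coord_ofCoord]
  rfl

theorem epi_rel (𝔅 : Set (Opens T)) (h𝔅 : Opens.IsBasis 𝔅)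
    (hsyz : ∀ D ∈ 𝔅, ∀ hD : D ≤ W, ∀ c : I → R.obj.obj (op D),
      ∑ i, c i • resM M hD (m i) = 0 →
      ∃ e : K → R.obj.obj (op D), ∀ i, c i = ∑ k, e k * (R.obj.map (homOfLE hD).op).hom (a k i)) :
    Epi ((kernel (πW W m)).freeHomEquiv.symm (rs W m a hrel)) := by
  apply epi_of_locally_surjective
  intro X y
  refine ⟨⟨fun Y f => ∃ D ∈ 𝔅, Y.left ≤ D ∧ D ≤ X.left, ?_⟩, ?_, ?_⟩
  · rintro Y Z f ⟨D, hD, h1, h2⟩ g
    exact ⟨D, hD, g.left.le.trans h1, h2⟩
  · rw [GrothendieckTopology.mem_over_iff]
    intro x hx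
    obtain ⟨D, hD, hxD, hDX⟩ := Opens.isBasis_iff_nbhd.mp h𝔅 hx
    refine ⟨D, homOfLE hDX, ?_, hxD⟩
    rw [Sieve.overEquiv_iff]
    exact ⟨D, hD, le_rfl, hDX⟩
  · rintro Y f ⟨D, hD, hYD, hDX⟩
    have hDW : D ≤ W := hDX.trans X.hom.le
    let YD : Over W := Over.mk (homOfLE hDW)
    let g : Y ⟶ YD := Over.homMk (homOfLE hYD) (Subsingleton.elim _ _)
    let fD : YD ⟶ X := Over.homMk (homOfLE hDX) (Subsingleton.elim _ _)
    have hf : f = g ≫ fD := Over.OverMorphism.ext (Subsingleton.elim _ _)
    obtain ⟨xD, hxD⟩ := exists_preimage_rel W m a hrel D hDW (hsyz D hD hDW)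
      (((kernel (πW W m)).val.map fD.op).hom y)
    refine ⟨((SheafOfModules.free (R := R.over W) K).val.map g.op).hom xD, ?_⟩
    have hn := PresheafOfModules.naturality_apply
      ((kernel (πW W m)).freeHomEquiv.symm (rs W m a hrel)).val g.op xD
    refine hn.trans ?_
    rw [hxD, ← PresheafOfModules.map_comp_apply]
    exact PresheafOfModules.congr_map_apply _ (by rw [hf]; rfl) y

/-- a finite presentation of `M|_W` from generators and relations over `W` which generate the
sections, resp. the syzygies, over a basis of opens -/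
noncomputable def presentation (𝔅 : Set (Opens T)) (h𝔅 : Opens.IsBasis 𝔅)
    (hgen : ∀ D ∈ 𝔅, ∀ (hD : D ≤ W) (y : M.val.obj (op D)),
      y ∈ Submodule.span (R.obj.obj (op D)) (Set.range fun i => resM M hD (m i)))
    (hsyz : ∀ D ∈ 𝔅, ∀ hD : D ≤ W, ∀ c : I → R.obj.obj (op D),
      ∑ i, c i • resM M hD (m i) = 0 →
      ∃ e : K → R.obj.obj (op D), ∀ i, c i = ∑ k, e k * (R.obj.map (homOfLE hD).op).hom (a k i)) :
    (M.over W).Presentation where
  generators :=
    { I := I
      s := gs W m
      epi := epi_of_span W m 𝔅 h𝔅 hgen }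
  relations :=
    { I := K
      s := rs W m a hrel
      epi := epi_rel W m a hrel 𝔅 h𝔅 hsyz }

end Top

section Global

variable {T : TopCat.{u}} {R : Sheaf (Opens.grothendieckTopology T) RingCat.{u}}
  (M : SheafOfModules.{u} R)

/-- a sheaf of modules on a topological space which locally has finitely many generators and
relations, generating the sections resp. the syzygies over a basis of opens, is finitely presented -/
theorem isFinitePresentation_of_local {κ : Type u} (W : κ → Opens T) (hcov : ⨆ i, W i = ⊤)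
    (𝔅 : Set (Opens T)) (h𝔅 : Opens.IsBasis 𝔅)
    (I K : κ → Type u) [∀ i, Fintype (I i)] [∀ i, Fintype (K i)]
    (m : ∀ i, I i → M.val.obj (op (W i))) (a : ∀ i, K i → I i → R.obj.obj (op (W i)))
    (hrel : ∀ i k, ∑ l, a i k l • m i l = 0)
    (hgen : ∀ i, ∀ D ∈ 𝔅, ∀ (hD : D ≤ W i) (y : M.val.obj (op D)),
      y ∈ Submodule.span (R.obj.obj (op D)) (Set.range fun l => resM M hD (m i l)))
    (hsyz : ∀ i, ∀ D ∈ 𝔅, ∀ hD : D ≤ W i, ∀ c : I i → R.obj.obj (op D),
      ∑ l, c l • resM M hD (m i l) = 0 →
      ∃ e : K i → R.obj.obj (op D),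
        ∀ l, c l = ∑ k, e k * (R.obj.map (homOfLE hD).op).hom (a i k l)) :
    SheafOfModules.IsFinitePresentation (R := R) M := by
  let σ : SheafOfModules.QuasicoherentData.{u, u, u, u} (R := R) M :=
    { I := κ
      X := W
      coversTop := (Opens.coversTop_iff _ _).mpr hcov
      presentation := fun i =>
        presentation (W i) (m i) (a i) (hrel i) 𝔅 h𝔅 (hgen i) (hsyz i) }
  have h : σ.IsFinitePresentation :=
    { isFinite_presentation := fun i =>
        { isFiniteType_generators := ⟨inferInstanceAs (Finite (I i))⟩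
          isFiniteType_relations := ⟨inferInstanceAs (Finite (K i))⟩ } }
  exact SheafOfModules.IsFinitePresentation.mk (R := R) (M := M) ⟨σ, h⟩

end Global

end Groth.Agent.Lib.helper11.OverPres
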