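import Mathlib
import Groth.Prelude.Def_FSch5
import Groth.Agent.Lib.Helper11.OverPres
import Groth.Agent.Lib.Helper11.FlatO
import Groth.Agent.Lib.Helper11.FlatSyz

/-!
# The structure sheaf of a locally Noetherian formal scheme is coherent (helper11)
-/

set_option autoImplicit false
universe u
open CategoryTheory CategoryTheory.Limits AlgebraicGeometry TopologicalSpace Opposite
open Groth.Agent.Lib.helper11.AdicRingLim Groth.Agent.Lib.helper11.RealLimSec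
open Groth.Agent.Lib.helper11.FormalOpenTower Groth.Agent.Lib.helper11.FormalOpenRing
open Groth.Agent.Lib.helper11.RealModBC Groth.Agent.Lib.helper11.FreeSec
open Groth.Agent.Lib.helper11

namespace Groth.Agent.Lib.helper11.CohO

variable (𝔜 : FSch.Sys.{u}) (h : 𝔜.IsFormal) {I : Type u} [Fintype I]
  (φ : SheafOfModules.free (R := ModSite.ringSh (𝔜.Osh h)) I ⟶ FSch.unitF 𝔜 h)

/-- the sections of `O_𝔜` defining `φ` -/
noncomputable def sφ (i : I) : (FSch.unitF 𝔜 h).sections := (FSch.unitF 𝔜 h).freeHomEquiv φ i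

omit [Fintype I] in
theorem φ_eq : φ = (FSch.unitF 𝔜 h).freeHomEquiv.symm (sφ 𝔜 h φ) :=
  (Equiv.symm_apply_apply _ _).symm

/-- the values of the defining sections -/
noncomputable def fU (U : (𝔜.X 0).Opens) (i : I) : OU 𝔜 h U := secVal (sφ 𝔜 h φ i) (op U)

omit [Fintype I] in
theorem resO_fU {D W : (𝔜.X 0).Opens} (hDW : D ≤ W) (i : I) :
    resO 𝔜 h hDW (fU 𝔜 h φ W i) = fU 𝔜 h φ D i :=
  PresheafOfModules.sections_property (sφ 𝔜 h φ i) (homOfLE hDW).op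

theorem φ_app [DecidableEq I] (U : (𝔜.X 0).Opens)
    (x : (SheafOfModules.free (R := ModSite.ringSh (𝔜.Osh h)) I).val.obj (op U)) :
    (φ.val.app (op U)).hom x =
      ∑ i, (show OU 𝔜 h U from ((coord (R := ModSite.ringSh (𝔜.Osh h)) i).val.app (op U)).hom x) *
        fU 𝔜 h φ U i := by
  conv_lhs => rw [φ_eq 𝔜 h φ]
  exact π_apply (sφ 𝔜 h φ) (op U) x

omit [Fintype I] in
theorem kerι_leftExact (U : (𝔜.X 0).Opens) :
    Function.Injective ((kernel.ι φ).val.app (op U)).hom ∧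
      ∀ b : (SheafOfModules.free (R := ModSite.ringSh (𝔜.Osh h)) I).val.obj (op U),
        (φ.val.app (op U)).hom b = 0 →
        ∃ a : (kernel φ).val.obj (op U), ((kernel.ι φ).val.app (op U)).hom a = b :=
  Groth.Agent.Lib.helper7.KerSections.sections_leftExact_general
    (ShortComplex.mk (kernel.ι φ) φ (kernel.condition _))
    (ShortComplex.exact_of_f_is_kernel _ (kernelIsKernel _)) (op U)

omit [Fintype I] in
theorem φ_kerι (U : (𝔜.X 0).Opens) (y : (kernel φ).val.obj (op U)) :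
    (φ.val.app (op U)).hom (((kernel.ι φ).val.app (op U)).hom y) = 0 := by
  have h1 := kernel.condition φ
  exact congrArg (fun ψ => (ψ.val.app (op U)).hom y) h1

variable (h𝔜 : 𝔜.IsLocNoethFormal)

include h𝔜 in
theorem exists_syz (φ : SheafOfModules.free (R := ModSite.ringSh (𝔜.Osh h𝔜.1)) I ⟶
      FSch.unitF 𝔜 h𝔜.1) (W : (𝔜.X 0).Opens) (hW : IsAffineOpen W) :
    ∃ (K : Type u) (_ : Fintype K) (t : K → I → OU 𝔜 h𝔜.1 W),
      (∀ κ, ∑ i, t κ i * fU 𝔜 h𝔜.1 φ W i = 0) ∧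
      (∀ c : I → OU 𝔜 h𝔜.1 W, ∑ i, c i * fU 𝔜 h𝔜.1 φ W i = 0 →
        ∃ e : K → OU 𝔜 h𝔜.1 W, ∀ i, c i = ∑ κ, e κ * t κ i) := by
  classical
  haveI := isNoetherianRing_OU 𝔜 h𝔜 W hW
  let L : (I → OU 𝔜 h𝔜.1 W) →ₗ[OU 𝔜 h𝔜.1 W] OU 𝔜 h𝔜.1 W :=
    Fintype.linearCombination (OU 𝔜 h𝔜.1 W) (fU 𝔜 h𝔜.1 φ W)
  have hL : ∀ c, L c = ∑ i, c i * fU 𝔜 h𝔜.1 φ W i := fun c =>
    Fintype.linearCombination_apply _ _ _
  obtain ⟨t, ht⟩ := IsNoetherian.noetherian (LinearMap.ker L)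
  refine ⟨↥t, inferInstance, fun κ => κ.1, ?_, ?_⟩
  · intro κ
    rw [← hL, ← LinearMap.mem_ker, ← ht]
    exact Submodule.subset_span κ.2
  · intro c hc
    have h1 : c ∈ LinearMap.ker L := by
      rw [LinearMap.mem_ker, hL]
      exact hc
    rw [← ht, ← Subtype.range_coe (s := (t : Set (I → OU 𝔜 h𝔜.1 W))),
      Submodule.mem_span_range_iff_exists_fun] at h1
    obtain ⟨e, he⟩ := h1
    refine ⟨e, fun i => ?_⟩
    have := congrArg (fun f => f i) he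
    simp only [Finset.sum_apply, Pi.smul_apply, smul_eq_mul] at this
    exact this.symm

include h𝔜 in
/-- **`O_𝔜` is a coherent sheaf of rings**: the kernel of `O_𝔜^I → O_𝔜` (`I` finite) is of finite
type, for a locally Noetherian formal scheme `𝔜`. -/
theorem isFiniteType_kernel
    (φ : SheafOfModules.free (R := ModSite.ringSh (𝔜.Osh h𝔜.1)) I ⟶ FSch.unitF 𝔜 h𝔜.1) :
    SheafOfModules.IsFiniteType (R := ModSite.ringSh (𝔜.Osh h𝔜.1)) (kernel φ) := by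
  classical
  choose K fK t ht hsyz using
    fun W : (𝔜.X 0).affineOpens => exists_syz 𝔜 h𝔜 φ W.1 W.2
  letI : ∀ W, Fintype (K W) := fK
  have hm : ∀ (W : (𝔜.X 0).affineOpens) (κ : K W), ∃ m : (kernel φ).val.obj (op W.1),
      ((kernel.ι φ).val.app (op W.1)).hom m = ofCoord (op W.1) (t W κ) := by
    intro W κ
    apply (kerι_leftExact 𝔜 h𝔜.1 φ W.1).2
    rw [φ_app]
    refine Eq.trans ?_ (ht W κ)
    refine Finset.sum_congr rfl (fun i _ => ?_)
    congr 1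
    exact coord_ofCoord (R := ModSite.ringSh (𝔜.Osh h𝔜.1)) (op W.1) (t W κ) i
  choose m hm using hm
  refine OverGen.isFiniteType_of_sub (kernel.ι φ) (fun D => (kerι_leftExact 𝔜 h𝔜.1 φ D).1)
    (fun W : (𝔜.X 0).affineOpens => W.1) (iSup_affineOpens_eq_top _)
    ((𝔜.X 0).affineOpens) (𝔜.X 0).isBasis_affineOpens K m ?_
  intro W D hD hDW y
  obtain ⟨z, hz⟩ : ∃ z, z = ((kernel.ι φ).val.app (op D)).hom y := ⟨_, rfl⟩
  have hz0 : (φ.val.app (op D)).hom z = 0 := by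
    rw [hz]
    exact φ_kerι 𝔜 h𝔜.1 φ D y
  rw [φ_app] at hz0
  have hz1 : ∑ i, (show OU 𝔜 h𝔜.1 D from
      ((coord (R := ModSite.ringSh (𝔜.Osh h𝔜.1)) i).val.app (op D)).hom z) *
      resO 𝔜 h𝔜.1 hDW (fU 𝔜 h𝔜.1 φ W.1 i) = 0 := by
    refine Eq.trans ?_ hz0
    refine Finset.sum_congr rfl (fun i _ => ?_)
    rw [resO_fU]
  obtain ⟨e', he'⟩ := FlatSyz.syz_of_flat (resO 𝔜 h𝔜.1 hDW)
    (FlatO.flat_resO 𝔜 h𝔜 hDW W.2 hD) (fU 𝔜 h𝔜.1 φ W.1) (t W) (hsyz W) _ hz1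
  refine ⟨e', ?_⟩
  rw [← hz]
  apply OverPres.ext_coord
  intro i
  rw [map_sum]
  refine (he' i).trans ?_
  refine Finset.sum_congr rfl (fun κ _ => ?_)
  rw [map_smul, hm W κ]
  have h2 : OverGen.resM (SheafOfModules.free (R := ModSite.ringSh (𝔜.Osh h𝔜.1)) I) hDW
      (ofCoord (op W.1) (t W κ)) = ofCoord (op D) (fun i => resO 𝔜 h𝔜.1 hDW (t W κ i)) :=
    OverPres.map_ofCoord (R := ModSite.ringSh (𝔜.Osh h𝔜.1)) (I := I) (homOfLE hDW).op (t W κ)
  rw [h2, coord_ofCoord]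
  rfl

end Groth.Agent.Lib.helper11.CohO
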