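import Mathlib
import Groth.Agent.S0542
import Groth.Agent.Lib.Helper8.LocalFlat

/-!
# Completion step for EGA 0_III 10.3.1 (helper11)

If `A` is a Noetherian local ring and `B` is a (not necessarily Noetherian) local flat `A`-algebra
with `𝔪_A B = 𝔪_B`, then the `𝔪_B`-adic completion `B̂` of `B` is a Noetherian local ring, flat over
`A`, with `𝔪_A B̂ = 𝔪_{B̂}` and the same residue field as `B`.
-/

set_option autoImplicit false

noncomputable section

namespace Groth.Agent.Lib.helper11.CohenCompl

open IsLocalRing TensorProduct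

universe u

section tensor

variable {A : Type u} [CommRing A] (I : Ideal A) (N : Type u) [AddCommGroup N] [Module A N]

lemma one_tmul_eq_zero_iff (n : N) :
    (1 : A ⧸ I) ⊗ₜ[A] n = 0 ↔ n ∈ I • (⊤ : Submodule A N) := by
  rw [← (quotTensorEquivQuotSMul N I).map_eq_zero_iff, quotTensorEquivQuotSMul_mk_one_tmul,
    Submodule.Quotient.mk_eq_zero]

lemma exists_one_tmul (x : (A ⧸ I) ⊗[A] N) : ∃ n : N, x = (1 : A ⧸ I) ⊗ₜ[A] n := by
  obtain ⟨n, hn⟩ := Submodule.Quotient.mk_surjective _ (quotTensorEquivQuotSMul N I x)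
  refine ⟨n, ?_⟩
  apply (quotTensorEquivQuotSMul N I).injective
  rw [quotTensorEquivQuotSMul_mk_one_tmul, hn]

end tensor

variable {A B : Type u} [CommRing A] [IsLocalRing A] [CommRing B] [IsLocalRing B] [Algebra A B]

local notation "Bh" => AdicCompletion (maximalIdeal B) B

instance : IsScalarTower A B Bh :=
  IsScalarTower.of_algebraMap_eq (fun _ => rfl)

/-- `I^k • ⊤` in `B` (as an `A`-submodule) is the `k`-th power of the maximal ideal. -/
lemma mem_pow_smul_top_iff (hm : (maximalIdeal A).map (algebraMap A B) = maximalIdeal B) (k : ℕ)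
    (b : B) : b ∈ (maximalIdeal A ^ k) • (⊤ : Submodule A B) ↔ b ∈ maximalIdeal B ^ k := by
  rw [Ideal.smul_top_eq_map, Submodule.restrictScalars_mem, Ideal.map_pow, hm]

lemma mem_pow_smul_top_iff' (hm : (maximalIdeal A).map (algebraMap A B) = maximalIdeal B)
    (hfg : (maximalIdeal B).FG) (k : ℕ) (x : Bh) :
    x ∈ (maximalIdeal A ^ k) • (⊤ : Submodule A Bh) ↔ AdicCompletion.evalₐ (maximalIdeal B) k x = 0 := by
  have h1 : (maximalIdeal A ^ k).map (algebraMap A Bh) =
      (maximalIdeal B ^ k).map (algebraMap B Bh) := by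
    rw [IsScalarTower.algebraMap_eq A B Bh, ← Ideal.map_map, Ideal.map_pow, hm]
  rw [Ideal.smul_top_eq_map, Submodule.restrictScalars_mem, h1,
    ← Submodule.restrictScalars_mem B, ← Ideal.smul_top_eq_map,
    AdicCompletion.pow_smul_top_eq_ker_eval hfg, LinearMap.mem_ker]
  have h2 : (maximalIdeal B ^ k • ⊤ : Ideal B) ≤ maximalIdeal B ^ k := by simp
  have h3 : (maximalIdeal B ^ k : Ideal B) ≤ maximalIdeal B ^ k • ⊤ := by simp
  constructor
  · intro h
    rw [← AdicCompletion.factor_eval_eq_evalₐ _ x h2, h, map_zero]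
  · intro h
    rw [← AdicCompletion.factor_evalₐ_eq_eval _ x h3, h, map_zero]

/-- The base change of `B → B̂` to `A ⧸ 𝔪^k` is bijective. -/
lemma baseChange_bijective (hm : (maximalIdeal A).map (algebraMap A B) = maximalIdeal B)
    (hfg : (maximalIdeal B).FG) (k : ℕ) :
    Function.Bijective ((IsScalarTower.toAlgHom A B Bh).toLinearMap.baseChange
      (A ⧸ maximalIdeal A ^ k)) := by
  constructor
  · rw [injective_iff_map_eq_zero]
    intro x hx
    obtain ⟨b, rfl⟩ := exists_one_tmul (maximalIdeal A ^ k) B x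
    rw [LinearMap.baseChange_tmul, one_tmul_eq_zero_iff, mem_pow_smul_top_iff' hm hfg] at hx
    rw [one_tmul_eq_zero_iff, mem_pow_smul_top_iff hm]
    have h1 : (IsScalarTower.toAlgHom A B Bh).toLinearMap b = AdicCompletion.of (maximalIdeal B) B b :=
      rfl
    rwa [h1, AdicCompletion.evalₐ_of, Ideal.Quotient.eq_zero_iff_mem] at hx
  · intro y
    obtain ⟨x, rfl⟩ := exists_one_tmul (maximalIdeal A ^ k) Bh y
    obtain ⟨b, hb⟩ := Ideal.Quotient.mk_surjective (AdicCompletion.evalₐ (maximalIdeal B) k x)
    refine ⟨(1 : A ⧸ maximalIdeal A ^ k) ⊗ₜ[A] b, ?_⟩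
    rw [LinearMap.baseChange_tmul, ← sub_eq_zero, ← TensorProduct.tmul_sub, one_tmul_eq_zero_iff,
      mem_pow_smul_top_iff' hm hfg, map_sub, sub_eq_zero]
    have h1 : (IsScalarTower.toAlgHom A B Bh).toLinearMap b = AdicCompletion.of (maximalIdeal B) B b :=
      rfl
    rw [h1, AdicCompletion.evalₐ_of, hb]

variable [IsNoetherianRing A] [Module.Flat A B]

omit [Module.Flat A B] in
lemma fg_maximalIdeal (hm : (maximalIdeal A).map (algebraMap A B) = maximalIdeal B) :
    (maximalIdeal B).FG := by
  rw [← hm]
  exact Ideal.FG.map (IsNoetherian.noetherian _) _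

omit [Module.Flat A B] in
lemma isNoetherianRing_completion (hm : (maximalIdeal A).map (algebraMap A B) = maximalIdeal B) :
    IsNoetherianRing Bh := by
  have : IsNoetherianRing (B ⧸ maximalIdeal B) :=
    (inferInstance : IsNoetherianRing (ResidueField B))
  exact Groth.Agent.S0542.result B (maximalIdeal B) (fg_maximalIdeal hm)

/-- `B̂` is flat over `A` (local criterion of flatness). -/
theorem flat_completion (hm : (maximalIdeal A).map (algebraMap A B) = maximalIdeal B) :
    Module.Flat A Bh := by
  have hfg := fg_maximalIdeal hm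
  have := isNoetherianRing_completion hm
  refine Groth.Agent.Lib.helper8.LocalFlat.flat_of_forall_flat_quotient_pow (R := A) (S := Bh)
    (M := Bh) (maximalIdeal A) ?_ ?_
  · have hc := AdicCompletion.isAdicComplete_self (maximalIdeal B) hfg
    have h1 : (maximalIdeal A).map (algebraMap A Bh) = (maximalIdeal B).map (algebraMap B Bh) := by
      rw [IsScalarTower.algebraMap_eq A B Bh, ← Ideal.map_map, hm]
    rw [h1]
    exact IsAdicComplete.le_jacobson_bot _
  · intro k _
    let e := LinearEquiv.ofBijective _ (baseChange_bijective hm hfg k)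
    exact Module.Flat.of_linearEquiv e.symm

/-- **Completion step.** -/
theorem exists_noetherian_of_flat_local
    (hm : (maximalIdeal A).map (algebraMap A B) = maximalIdeal B) :
    ∃ (B' : Type u) (_ : CommRing B') (_ : IsLocalRing B') (_ : Algebra A B') (_ : Algebra B B')
      (_ : IsScalarTower A B B'), IsNoetherianRing B' ∧
      IsLocalHom (algebraMap A B') ∧ Module.Flat A B' ∧
      (maximalIdeal A).map (algebraMap A B') = maximalIdeal B' ∧
      ∃ e : (B' ⧸ (maximalIdeal A).map (algebraMap A B')) ≃+* ResidueField B,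
        ∀ b : B, e (Ideal.Quotient.mk _ (algebraMap B B' b)) = residue B b := by
  have hfg := fg_maximalIdeal hm
  have hloc : IsLocalRing Bh := AdicCompletion.isLocalRing_of_fg hfg
  have hmax : (maximalIdeal A).map (algebraMap A Bh) = maximalIdeal Bh := by
    rw [AdicCompletion.maximalIdeal_eq_map_of_fg hfg, IsScalarTower.algebraMap_eq A B Bh,
      ← Ideal.map_map, hm]
  have hlh : IsLocalHom (algebraMap B Bh) := AdicCompletion.algebraMap_isLocalHom_of_fg hfg
  have hbij := AdicCompletion.residueField_map_bijective_of_fg hfg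
  refine ⟨Bh, inferInstance, hloc, inferInstance, inferInstance, inferInstance,
    isNoetherianRing_completion hm, ?_, flat_completion hm, hmax, ?_⟩
  · apply ((IsLocalRing.local_hom_TFAE _).out 0 2).mpr
    rw [hmax]
  · let e0 : ResidueField B ≃+* ResidueField Bh := RingEquiv.ofBijective _ hbij
    let e1 : (Bh ⧸ (maximalIdeal A).map (algebraMap A Bh)) ≃+* ResidueField Bh :=
      Ideal.quotEquivOfEq hmax
    refine ⟨e1.trans e0.symm, fun b => ?_⟩
    rw [RingEquiv.trans_apply, RingEquiv.symm_apply_eq]
    show _ = ResidueField.map (algebraMap B Bh) (residue B b)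
    rw [ResidueField.map_residue]
    rfl

/-- The Noetherian statement (shape of S2363) from the non-Noetherian one (shape of S2088). -/
theorem noetherian_shape_of_flat_local (K : Type u) [Field K] [Algebra (ResidueField A) K]
    [IsLocalHom (algebraMap A B)]
    (hm : (maximalIdeal A).map (algebraMap A B) = maximalIdeal B)
    (e : ResidueField B ≃ₐ[ResidueField A] K) :
    ∃ (B' : Type u) (_ : CommRing B') (_ : Algebra A B'), IsNoetherianRing B' ∧ IsLocalRing B' ∧
      IsLocalHom (algebraMap A B') ∧ Module.Flat A B' ∧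
      ∃ e' : (B' ⧸ (maximalIdeal A).map (algebraMap A B')) ≃+* K,
        ∀ a : A, e' (Ideal.Quotient.mk _ (algebraMap A B' a)) =
          algebraMap (ResidueField A) K (residue A a) := by
  obtain ⟨B', _, hloc, _, _, _, hN, hlh, hflat, -, e', he'⟩ := exists_noetherian_of_flat_local hm
  refine ⟨B', inferInstance, inferInstance, hN, hloc, hlh, hflat,
    e'.trans e.toRingEquiv, fun a => ?_⟩
  rw [RingEquiv.trans_apply, IsScalarTower.algebraMap_apply A B B', he']
  have h1 : residue B (algebraMap A B a) =
      algebraMap (ResidueField A) (ResidueField B) (residue A a) :=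
    (IsLocalRing.ResidueField.algebraMap_residue a).symm
  rw [h1]
  exact e.commutes _

end Groth.Agent.Lib.helper11.CohenCompl
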