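import Mathlib
import Groth.Prelude.Def_FSch5

/-!
# The completion of a scheme along an ideal sheaf is an adic system (helper11)

`(FSch.completionAlong X 𝓘).IsAdic`, and `IsLocNoethFormal` for `X` locally Noetherian.
-/

set_option autoImplicit false
set_option backward.isDefEq.respectTransparency false
universe u
open CategoryTheory CategoryTheory.Limits AlgebraicGeometry TopologicalSpace Opposite

namespace Groth.Agent.Lib.helper11.ComplAdic

/-- the kernel of a morphism to a closed subscheme, on preimages of affine opens -/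
theorem ker_app_of_comp {Z' Z X : Scheme.{u}} (g : Z' ⟶ Z) (i : Z ⟶ X) [IsClosedImmersion i]
    (U : X.Opens) (hU : IsAffineOpen U) :
    RingHom.ker (g.app (i ⁻¹ᵁ U)).hom =
      Ideal.map (i.app U).hom (RingHom.ker ((g ≫ i).app U).hom) := by
  have h1 : (g ≫ i).app U = i.app U ≫ g.app (i ⁻¹ᵁ U) := Scheme.Hom.comp_app g i U
  have h2 : RingHom.ker ((g ≫ i).app U).hom =
      Ideal.comap (i.app U).hom (RingHom.ker (g.app (i ⁻¹ᵁ U)).hom) := by
    rw [h1, CommRingCat.hom_comp, RingHom.comap_ker]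
  rw [h2, Ideal.map_comap_of_surjective _ (i.app_surjective U hU)]

variable (X : Scheme.{u}) (𝓘 : X.IdealSheafData)

theorem ker_completionToX_app (k : ℕ) (U : X.affineOpens) :
    RingHom.ker ((FSch.completionToX X 𝓘 k).app U.1).hom = (𝓘.ideal U) ^ (k + 1) := by
  have h1 := Scheme.IdealSheafData.ker_subschemeι_app (𝓘 ^ (k + 1)) U
  rw [Scheme.IdealSheafData.ideal_pow] at h1
  exact h1

instance (k : ℕ) : IsClosedImmersion (FSch.completionToX X 𝓘 k) :=
  inferInstanceAs (IsClosedImmersion (𝓘 ^ (k + 1)).subschemeι)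

/-- the completion along an ideal sheaf is an adic system -/
theorem isAdic (h : (FSch.completionAlong X 𝓘).IsFormal) : (FSch.completionAlong X 𝓘).IsAdic := by
  intro n
  haveI := (h n).1
  haveI := (FSch.completionAlong X 𝓘).toX_isClosedImmersion h (n + 1)
  refine Scheme.IdealSheafData.ext_of_iSup_eq_top
    (fun U : X.affineOpens => (⟨FSch.completionToX X 𝓘 (n + 1) ⁻¹ᵁ U.1,
      U.2.preimage (FSch.completionToX X 𝓘 (n + 1))⟩ : ((FSch.completionAlong X 𝓘).X (n + 1)).affineOpens))
    ?_ (fun U => ?_)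
  · have h1 : ⨆ U : X.affineOpens, U.1 = ⊤ := iSup_affineOpens_eq_top X
    have h2 := congrArg (fun W => FSch.completionToX X 𝓘 (n + 1) ⁻¹ᵁ W) h1
    simp only [Scheme.Hom.preimage_iSup, Scheme.Hom.preimage_top] at h2
    exact h2
  · rw [Scheme.Hom.ker_apply, Scheme.IdealSheafData.ideal_pow, Pi.pow_apply, Scheme.Hom.ker_apply]
    change RingHom.ker (((FSch.completionAlong X 𝓘).ι n).app
        (FSch.completionToX X 𝓘 (n + 1) ⁻¹ᵁ U.1)).hom =
      RingHom.ker (((FSch.completionAlong X 𝓘).toX (n + 1)).app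
        (FSch.completionToX X 𝓘 (n + 1) ⁻¹ᵁ U.1)).hom ^ (n + 1)
    rw [ker_app_of_comp _ (FSch.completionToX X 𝓘 (n + 1)) U.1 U.2,
      ker_app_of_comp _ (FSch.completionToX X 𝓘 (n + 1)) U.1 U.2]
    have e1 : (FSch.completionAlong X 𝓘).ι n ≫ FSch.completionToX X 𝓘 (n + 1) =
        FSch.completionToX X 𝓘 n := FSch.completionToX_comm X 𝓘 n
    have e2 : (FSch.completionAlong X 𝓘).toX (n + 1) ≫ FSch.completionToX X 𝓘 (n + 1) =
        FSch.completionToX X 𝓘 0 :=
      FSch.toX_p (FSch.completionAlong X 𝓘) (FSch.completionToX X 𝓘)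
        (FSch.completionToX_comm X 𝓘) (n + 1)
    rw [e1, e2, ker_completionToX_app, ker_completionToX_app, ← Ideal.map_pow, zero_add, pow_one]

/-- the completion of a locally Noetherian scheme along an ideal sheaf is a locally Noetherian
formal system -/
theorem isLocNoethFormal [IsLocallyNoetherian X] (h : (FSch.completionAlong X 𝓘).IsFormal) :
    (FSch.completionAlong X 𝓘).IsLocNoethFormal := by
  refine ⟨h, isAdic X 𝓘 h, fun n => ?_⟩
  exact LocallyOfFiniteType.isLocallyNoetherian (FSch.completionToX X 𝓘 n)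

end Groth.Agent.Lib.helper11.ComplAdic
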