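import Mathlib
import Groth.Agent.Lib.Helper11.ComplNear

/-!
# helper11: completed morphisms are isomorphisms iff `f` is an isomorphism near the closed subscheme
(S5739)
-/

set_option autoImplicit false
universe u

open CategoryTheory CategoryTheory.Limits AlgebraicGeometry

namespace Groth.Agent.Lib.helper11.ComplNear

/-- If level `n` of the completed morphism is an isomorphism, the kernel of `f` is contained in
`𝓚^(n+1)`. -/
theorem ker_le_pow_of_isIso_level {X Y : Scheme.{u}} (f : X ⟶ Y) (𝓘 : X.IdealSheafData)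
    (𝓚 : Y.IdealSheafData) (e : 𝓘 = 𝓚.comap f) (h : FSch.PowCompat f 𝓘 𝓚) (n : ℕ)
    [IsIso ((FSch.completionMap f 𝓘 𝓚 h : FSch.Hom _ _).app n)] :
    f.ker ≤ 𝓚 ^ (n + 1) := by
  have H := level_isPullback f 𝓘 𝓚 e h n
  have h1 : FSch.completionToX Y 𝓚 n =
      (inv ((FSch.completionMap f 𝓘 𝓚 h : FSch.Hom _ _).app n) ≫ FSch.completionToX X 𝓘 n) ≫ f := by
    rw [Category.assoc, H.w, IsIso.inv_hom_id_assoc]
  have h2 : (FSch.completionToX Y 𝓚 n).ker = 𝓚 ^ (n + 1) :=
    Scheme.IdealSheafData.ker_subschemeι _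
  rw [← h2, h1]
  exact Scheme.Hom.le_ker_comp _ _

/-- Krull: a closed immersion near `y` whose kernel lies in all powers of `𝓚` is an isomorphism near
every point `y` of the support of `𝓚`. -/
theorem exists_isIso_nhd {X Y : Scheme.{u}} [IsLocallyNoetherian Y] (f : X ⟶ Y) [QuasiCompact f]
    (𝓚 : Y.IdealSheafData) (hk : ∀ n : ℕ, f.ker ≤ 𝓚 ^ (n + 1)) (V₁ : Y.Opens)
    (hci : IsClosedImmersion (f ∣_ V₁)) (y : Y) (hy : y ∈ V₁) (hyK : y ∈ 𝓚.support) :
    ∃ V : Y.Opens, y ∈ V ∧ IsIso (f ∣_ V) := by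
  obtain ⟨_, ⟨W, hW, rfl⟩, hyW, hWV⟩ :=
    Y.isBasis_affineOpens.exists_subset_of_mem_open hy V₁.2
  haveI : IsNoetherianRing Γ(Y, W) := IsLocallyNoetherian.component_noetherian ⟨W, hW⟩
  set K : Ideal Γ(Y, W) := f.ker.ideal ⟨W, hW⟩ with hKdef
  set J : Ideal Γ(Y, W) := 𝓚.ideal ⟨W, hW⟩ with hJdef
  have hKJ : ∀ i : ℕ, K ≤ J ^ i := by
    intro i
    cases i with
    | zero => simp
    | succ n => exact hk n ⟨W, hW⟩
  have hK : K ≤ J • K := by
    intro k hkK
    have hmem : k ∈ (⨅ i : ℕ, J ^ i • ⊤ : Submodule Γ(Y, W) Γ(Y, W)) := by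
      rw [Submodule.mem_iInf]
      intro i
      have := hKJ i hkK
      simpa using this
    obtain ⟨r, hr⟩ := (Ideal.mem_iInf_smul_pow_eq_bot_iff J k).mp hmem
    rw [← hr]
    exact Submodule.smul_mem_smul r.2 hkK
  obtain ⟨b, hb1, hb0⟩ := Submodule.exists_sub_one_mem_and_smul_eq_zero_of_fg_of_le_smul J K
    (IsNoetherian.noetherian K) hK
  refine ⟨Y.basicOpen b, ?_, ?_⟩
  · -- `y ∈ D(b)`
    have hz : y ∈ Y.zeroLocus (U := W) (J : Set Γ(Y, W)) :=
      (Scheme.IdealSheafData.mem_support_iff_of_mem (U := ⟨W, hW⟩) hyW).mp hyK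
    have hnot : y ∉ Y.basicOpen (1 - b) := by
      rw [Scheme.mem_zeroLocus_iff] at hz
      refine hz _ ?_
      have : (1 : Γ(Y, W)) - b = -(b - 1) := by ring
      rw [this]
      exact J.neg_mem hb1
    have h1 : y ∈ Y.basicOpen (1 : Γ(Y, W)) := by
      rw [Scheme.basicOpen_of_isUnit _ isUnit_one]; exact hyW
    have h2 : Y.basicOpen (1 : Γ(Y, W)) ≤ Y.basicOpen b ⊔ Y.basicOpen (1 - b) := by
      have := Y.basicOpen_add_le b (1 - b)
      rwa [add_sub_cancel] at this
    rcases h2 h1 with h3 | h3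
    · exact h3
    · exact absurd h3 hnot
  · have hDW : Y.basicOpen b ≤ V₁ := (Y.basicOpen_le b).trans hWV
    haveI hciD : IsClosedImmersion (f ∣_ Y.basicOpen b) :=
      restrict_le (Q := @IsClosedImmersion) f hDW hci
    have hDaff : IsAffineOpen (Y.basicOpen b) := hW.basicOpen b
    haveI : IsAffine (↑(Y.basicOpen b) : Scheme.{u}) := hDaff
    rw [IsClosedImmersion.isIso_iff_ker_eq_bot]
    apply Scheme.IdealSheafData.ext_of_isAffine
    rw [Scheme.ker_morphismRestrict_ideal]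
    have hU'D : (Y.basicOpen b).ι ''ᵁ ⊤ = Y.basicOpen b := Scheme.Opens.ι_image_top _
    have hle : (Y.basicOpen b).ι ''ᵁ ⊤ ≤ W := hU'D.le.trans (Y.basicOpen_le b)
    have hmap := f.ker.map_ideal
      (U := ⟨(Y.basicOpen b).ι ''ᵁ ⊤, (isAffineOpen_top _).image_of_isOpenImmersion _⟩)
      (V := ⟨W, hW⟩) hle
    have hbot : (f.ker.ideal ⟨W, hW⟩).map (Y.presheaf.map (homOfLE hle).op).hom = ⊥ := by
      rw [Ideal.map_eq_bot_iff_le_ker]
      intro k hkK
      rw [RingHom.mem_ker]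
      have hu : IsUnit ((Y.presheaf.map (homOfLE hle).op).hom b) := by
        have h1 := RingedSpace.isUnit_res_basicOpen Y.toRingedSpace b
        have h2 : (Y.presheaf.map (homOfLE hle).op) =
            Y.presheaf.map (homOfLE (Y.basicOpen_le b)).op ≫
              Y.presheaf.map (homOfLE hU'D.le).op := by
          rw [← Functor.map_comp]; rfl
        rw [h2, CommRingCat.hom_comp, RingHom.comp_apply]
        exact h1.map _
      have h0 := hb0 k hkK
      rw [smul_eq_mul] at h0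
      have := congrArg (Y.presheaf.map (homOfLE hle).op).hom h0
      rw [map_mul, map_zero] at this
      exact (hu.mul_right_eq_zero).mp this
    exact hmap.symm.trans hbot


section Main

variable {X Y Z : Scheme.{u}} (g : X ⟶ Z) (h : Y ⟶ Z) (f : X ⟶ Y) (w : f ≫ h = g)
  (𝓙 : Z.IdealSheafData)

include w in
theorem isIso_iff_near [IsLocallyNoetherian Z] [IsProper g] [IsProper h]
    (hc : FSch.PowCompat f (𝓙.comap g) (𝓙.comap h)) :
    (∀ n : ℕ, IsIso ((FSch.completionMap f (𝓙.comap g) (𝓙.comap h) hc : FSch.Hom _ _).app n)) ↔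
      ∃ U : Z.Opens, (𝓙.support : Set Z) ⊆ U ∧ IsIso (f ∣_ h ⁻¹ᵁ U) := by
  haveI : IsProper (f ≫ h) := by rw [w]; infer_instance
  haveI : IsProper f := IsProper.of_comp f h
  haveI : IsLocallyNoetherian Y := LocallyOfFiniteType.isLocallyNoetherian h
  constructor
  · intro H
    -- closed immersion near the support
    obtain ⟨U₁, hU₁, hci⟩ := (isClosedImmersion_iff_near g h f w 𝓙 hc).mp
      (fun n => by haveI := H n; infer_instance)
    have hk : ∀ n : ℕ, f.ker ≤ (𝓙.comap h) ^ (n + 1) := fun n => by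
      haveI := H n
      exact ker_le_pow_of_isIso_level f _ _ (comap_eq g h f w 𝓙) hc n
    refine exists_preimage_nhd_set (Q := MorphismProperty.isomorphisms Scheme.{u}) f h
      h.isClosedMap _ fun y hy => ?_
    have hyK : y ∈ (𝓙.comap h).support := by
      rw [Scheme.IdealSheafData.support_comap]
      exact hy
    exact exists_isIso_nhd f (𝓙.comap h) hk (h ⁻¹ᵁ U₁) hci y (hU₁ hy) hyK
  · rintro ⟨U, hU, hQ⟩ n
    exact levels_of_near (Q := MorphismProperty.isomorphisms Scheme.{u}) g h f w 𝓙 hc U hU hQ n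

end Main

end Groth.Agent.Lib.helper11.ComplNear
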