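import Mathlib
import Groth.Agent.Lib.Helper11.ComplNear

/-!
# helper11: levelwise cartesian squares of systems are cartesian; completion of a fibre product (S3875)
-/

set_option autoImplicit false
universe u

open CategoryTheory CategoryTheory.Limits AlgebraicGeometry

namespace Groth.Agent.Lib.helper11.ComplNear

/-- A commutative square of systems all of whose levels are cartesian is cartesian. -/
theorem isPullback_of_levelwise {𝔓 𝔛 𝔜 𝔖 : FSch.Sys.{u}} (a : 𝔓 ⟶ 𝔛) (b : 𝔓 ⟶ 𝔜) (f : 𝔛 ⟶ 𝔖)
    (g : 𝔜 ⟶ 𝔖)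
    (H : ∀ n, IsPullback ((a : FSch.Hom _ _).app n) ((b : FSch.Hom _ _).app n)
      ((f : FSch.Hom _ _).app n) ((g : FSch.Hom _ _).app n)) :
    IsPullback a b f g := by
  have w : a ≫ f = b ≫ g := by
    apply FSch.Hom.ext
    funext n
    exact (H n).w
  refine ⟨⟨w⟩, ⟨PullbackCone.IsLimit.mk w ?_ ?_ ?_ ?_⟩⟩
  · intro s
    have hs : ∀ n, (s.fst : FSch.Hom _ _).app n ≫ (f : FSch.Hom _ _).app n =
        (s.snd : FSch.Hom _ _).app n ≫ (g : FSch.Hom _ _).app n := fun n =>
      congrArg (fun h : FSch.Hom _ _ => h.app n) s.condition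
    refine ⟨fun n => (H n).lift ((s.fst : FSch.Hom _ _).app n)
      ((s.snd : FSch.Hom _ _).app n) (hs n), fun n => ?_⟩
    apply (H (n + 1)).hom_ext
    · rw [Category.assoc, Category.assoc, (H (n + 1)).lift_fst, ← (a : FSch.Hom _ _).comm n,
        ← Category.assoc, (H n).lift_fst]
      exact (s.fst : FSch.Hom _ _).comm n
    · rw [Category.assoc, Category.assoc, (H (n + 1)).lift_snd, ← (b : FSch.Hom _ _).comm n,
        ← Category.assoc, (H n).lift_snd]
      exact (s.snd : FSch.Hom _ _).comm n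
  · intro s
    apply FSch.Hom.ext
    funext n
    exact (H n).lift_fst _ _ _
  · intro s
    apply FSch.Hom.ext
    funext n
    exact (H n).lift_snd _ _ _
  · intro s m h₁ h₂
    apply FSch.Hom.ext
    funext n
    apply (H n).hom_ext
    · rw [(H n).lift_fst]
      exact congrArg (fun h : FSch.Hom _ _ => h.app n) h₁
    · rw [(H n).lift_snd]
      exact congrArg (fun h : FSch.Hom _ _ => h.app n) h₂

/-- The completion of a fibre product `X ×_S Y` along the inverse image of an ideal `𝓡` of `X`,
when `Y` is completed along the inverse image of the ideal `𝓙` of `S`. -/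
theorem isPullback_completionMap {X Y S : Scheme.{u}} (g : X ⟶ S) (h : Y ⟶ S)
    (𝓡 : X.IdealSheafData) (𝓙 : S.IdealSheafData)
    (hg : FSch.PowCompat g 𝓡 𝓙) (hh : FSch.PowCompat h (𝓙.comap h) 𝓙)
    (hp : FSch.PowCompat (pullback.fst g h) (𝓡.comap (pullback.fst g h)) 𝓡)
    (hq : FSch.PowCompat (pullback.snd g h) (𝓡.comap (pullback.fst g h)) (𝓙.comap h)) :
    IsPullback (FSch.completionMap (pullback.fst g h) (𝓡.comap (pullback.fst g h)) 𝓡 hp)
      (FSch.completionMap (pullback.snd g h) (𝓡.comap (pullback.fst g h)) (𝓙.comap h) hq)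
      (FSch.completionMap g 𝓡 𝓙 hg) (FSch.completionMap h (𝓙.comap h) 𝓙 hh) := by
  apply isPullback_of_levelwise
  intro n
  -- the two known cartesian squares
  have H3 := level_isPullback (pullback.fst g h) (𝓡.comap (pullback.fst g h)) 𝓡 rfl hp n
  have HR := level_isPullback h (𝓙.comap h) 𝓙 rfl hh n
  have H2 : IsPullback (pullback.snd g h) (pullback.fst g h) h g :=
    (IsPullback.of_hasPullback g h).flip
  have Hbig := H3.paste_horiz H2
  -- commutation of the level maps with the inclusions
  have eq : (FSch.completionMap (pullback.snd g h) (𝓡.comap (pullback.fst g h)) (𝓙.comap h) hq :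
        FSch.Hom _ _).app n ≫ FSch.completionToX Y (𝓙.comap h) n =
      FSch.completionToX _ (𝓡.comap (pullback.fst g h)) n ≫ pullback.snd g h := by
    rw [FSch.completionMap_app]
    exact Scheme.IdealSheafData.subschemeMap_subschemeι _ _ _ _
  have eg : (FSch.completionMap g 𝓡 𝓙 hg : FSch.Hom _ _).app n ≫ FSch.completionToX S 𝓙 n =
      FSch.completionToX X 𝓡 n ≫ g := by
    rw [FSch.completionMap_app]
    exact Scheme.IdealSheafData.subschemeMap_subschemeι _ _ _ _
  rw [← eq, ← eg] at Hbig
  have hmono : Mono (FSch.completionToX S 𝓙 n) :=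
    inferInstanceAs (Mono (Scheme.IdealSheafData.subschemeι _))
  have hcomm : (FSch.completionMap (pullback.snd g h) (𝓡.comap (pullback.fst g h)) (𝓙.comap h) hq :
        FSch.Hom _ _).app n ≫ (FSch.completionMap h (𝓙.comap h) 𝓙 hh : FSch.Hom _ _).app n =
      (FSch.completionMap (pullback.fst g h) (𝓡.comap (pullback.fst g h)) 𝓡 hp :
        FSch.Hom _ _).app n ≫ (FSch.completionMap g 𝓡 𝓙 hg : FSch.Hom _ _).app n := by
    rw [← cancel_mono (FSch.completionToX S 𝓙 n), Category.assoc, Category.assoc, ← HR.w,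
      reassoc_of% eq, eg, ← H3.w_assoc, pullback.condition]
  exact (IsPullback.of_right Hbig hcomm HR).flip

end Groth.Agent.Lib.helper11.ComplNear
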