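import Mathlib
import Groth.Prelude.Def_FSch5
import Groth.Agent.Lib.Helper11.CohTower
import Groth.Agent.Lib.Helper11.RhoComp
import Groth.Agent.Lib.Helper11.AdicModel
import Groth.Agent.Lib.Helper11.FibMono2

/-!
# Sections of the completion of a coherent module along an ideal (helper11)

For `X` locally Noetherian, `𝓘` an ideal sheaf, `F` quasi-coherent and `U ⊆ X` affine:
* `ρc : Γ(F, U) → Γ(i_k^* F, U_k)` is surjective with kernel `𝓘(U)^(k+1) Γ(F, U)`, compatible with the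
  transition maps of `FSch.complMod` (`trans_ρc`) and natural in `F` (`ρc_natural`);
* `model`: the sections of `(complMod 𝓘 F).realMod` over `U0 U` are a tower model of the
  `𝓘(U)`-adic completion of `Γ(F, U)`;
* `sections_exact`: completion of a short exact sequence of coherent modules is short exact on
  sections over `U0 U`.
-/

set_option autoImplicit false
universe u
open CategoryTheory CategoryTheory.Limits AlgebraicGeometry TopologicalSpace Opposite
open Groth.Agent.Lib.helper11.RealLimSec Groth.Agent.Lib.helper11.FormalOpenTower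
open Groth.Agent.Lib.helper8.PullbackUnit Groth.Agent.Lib.helper11.RhoComp
open Groth.Agent.Lib.helper11.CohTower

namespace Groth.Agent.Lib.helper11.ComplSec

variable (X : Scheme.{u}) (𝓘 : X.IdealSheafData) (h : (FSch.completionAlong X 𝓘).IsFormal)

/-- the open of the common space of the completion over an open of `X` -/
noncomputable abbrev U0 (U : X.Opens) : ((FSch.completionAlong X 𝓘).X 0).Opens :=
  FSch.completionToX X 𝓘 0 ⁻¹ᵁ U

theorem lv_eq (U : X.Opens) (k : ℕ) :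
    FSch.completionToX X 𝓘 k ⁻¹ᵁ U = (FSch.completionAlong X 𝓘).lvU h k (U0 X 𝓘 U) :=
  FSch.lvU_p (FSch.completionAlong X 𝓘) h (FSch.completionToX X 𝓘) (FSch.completionToX_comm X 𝓘) k U

/-- the canonical map from sections of `F` over `U` to sections of the `k`-th level of the
completion -/
noncomputable def ρc (F : X.Modules) (U : X.Opens) (k : ℕ) :
    Γ(F, U) →+ MU (FSch.completionAlong X 𝓘) h (U0 X 𝓘 U) (FSch.complMod 𝓘 F).F k :=
  ρ (FSch.completionToX X 𝓘 k) (lv_eq X 𝓘 h U k).ge F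

theorem trans_ρc_aux1 (F : X.Modules) (k : ℕ) :
    ((FSch.complMod 𝓘 F).e k).hom = (FSch.complTransIso 𝓘 k).hom.app F := rfl

theorem trans_ρc_aux2 (k : ℕ) : (FSch.complTransIso 𝓘 k).hom = (Scheme.Modules.pullbackComp ((FSch.completionAlong X 𝓘).ι k)
        (FSch.completionToX X 𝓘 (k + 1))).hom ≫ (Scheme.Modules.pullbackCongr (f := (FSch.completionAlong X 𝓘).ι k ≫
        FSch.completionToX X 𝓘 (k + 1)) (g := FSch.completionToX X 𝓘 k)
        (Scheme.IdealSheafData.inclusion_subschemeι (FSch.pow_succ_le X 𝓘 k))).hom := rfl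

theorem trans_ρc_aux3 (F : X.Modules) (k : ℕ) :
    ((FSch.complMod 𝓘 F).e k).hom = (Scheme.Modules.pullbackComp ((FSch.completionAlong X 𝓘).ι k)
        (FSch.completionToX X 𝓘 (k + 1))).hom.app F ≫ (Scheme.Modules.pullbackCongr (f := (FSch.completionAlong X 𝓘).ι k ≫
        FSch.completionToX X 𝓘 (k + 1)) (g := FSch.completionToX X 𝓘 k)
        (Scheme.IdealSheafData.inclusion_subschemeι (FSch.pow_succ_le X 𝓘 k))).hom.app F :=
  (trans_ρc_aux1 X 𝓘 F k).trans ((congrArg (fun t => NatTrans.app t F) (trans_ρc_aux2 X 𝓘 k)).trans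
    (NatTrans.comp_app (Scheme.Modules.pullbackComp ((FSch.completionAlong X 𝓘).ι k)
        (FSch.completionToX X 𝓘 (k + 1))).hom (Scheme.Modules.pullbackCongr (f := (FSch.completionAlong X 𝓘).ι k ≫
        FSch.completionToX X 𝓘 (k + 1)) (g := FSch.completionToX X 𝓘 k)
        (Scheme.IdealSheafData.inclusion_subschemeι (FSch.pow_succ_le X 𝓘 k))).hom F))

theorem trans_ρc_aux4 (F : X.Modules) (U : X.Opens) (k : ℕ) (m : Γ(F, U))
    (E : (Scheme.Modules.pullback ((FSch.completionAlong X 𝓘).ι k)).obj ((FSch.complMod 𝓘 F).F (k + 1)) ⟶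
      (FSch.complMod 𝓘 F).F k)
    (key : E = (Scheme.Modules.pullbackComp ((FSch.completionAlong X 𝓘).ι k)
        (FSch.completionToX X 𝓘 (k + 1))).hom.app F ≫
      (Scheme.Modules.pullbackCongr (f := (FSch.completionAlong X 𝓘).ι k ≫
        FSch.completionToX X 𝓘 (k + 1)) (g := FSch.completionToX X 𝓘 k)
        (Scheme.IdealSheafData.inclusion_subschemeι (FSch.pow_succ_le X 𝓘 k))).hom.app F) :
    (Scheme.Modules.Hom.app E ((FSch.completionAlong X 𝓘).lvU h k (U0 X 𝓘 U))).hom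
      (ρ ((FSch.completionAlong X 𝓘).ι k) ((FSch.completionAlong X 𝓘).lvU_le h k (U0 X 𝓘 U))
        ((FSch.complMod 𝓘 F).F (k + 1)) (ρc X 𝓘 h F U (k + 1) m)) = ρc X 𝓘 h F U k m :=
  ρ_comp_congr' ((FSch.completionAlong X 𝓘).ι k) (FSch.completionToX X 𝓘 (k + 1))
    (FSch.completionToX X 𝓘 k) (Scheme.IdealSheafData.inclusion_subschemeι (FSch.pow_succ_le X 𝓘 k))
    F (lv_eq X 𝓘 h U (k + 1)).ge
    ((FSch.completionAlong X 𝓘).lvU_le h k (U0 X 𝓘 U)) (lv_eq X 𝓘 h U k).ge E key m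


theorem trans_ρc (F : X.Modules) (U : X.Opens) (k : ℕ) (m : Γ(F, U)) :
    trans (FSch.completionAlong X 𝓘) h (U0 X 𝓘 U) (FSch.complMod 𝓘 F).F (FSch.complMod 𝓘 F).toPush k
      (ρc X 𝓘 h F U (k + 1) m) = ρc X 𝓘 h F U k m := by
  rw [trans_eq_e]
  exact trans_ρc_aux4 X 𝓘 h F U k m _ (trans_ρc_aux3 X 𝓘 F k)

instance isClosedImmersion_completionToX (k : ℕ) :
    IsClosedImmersion (FSch.completionToX X 𝓘 k) :=
  inferInstanceAs (IsClosedImmersion (𝓘 ^ (k + 1)).subschemeι)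

theorem isAffineOpen_lv {U : X.Opens} (hU : IsAffineOpen U) (k : ℕ) :
    IsAffineOpen ((FSch.completionAlong X 𝓘).lvU h k (U0 X 𝓘 U)) := by
  rw [← lv_eq X 𝓘 h U k]
  exact hU.preimage (FSch.completionToX X 𝓘 k)

theorem isBC_ρc (F : X.Modules) [F.IsQuasicoherent] {U : X.Opens} (hU : IsAffineOpen U) (k : ℕ) :
    IsBC ((FSch.completionToX X 𝓘 k).appLE U ((FSch.completionAlong X 𝓘).lvU h k (U0 X 𝓘 U))
      (lv_eq X 𝓘 h U k).ge).hom (ρc X 𝓘 h F U k) :=
  isBC_ρ (FSch.completionToX X 𝓘 k) hU (isAffineOpen_lv X 𝓘 h hU k) (lv_eq X 𝓘 h U k).ge F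

theorem appLE_surjective {U : X.Opens} (hU : IsAffineOpen U) (k : ℕ) :
    Function.Surjective ((FSch.completionToX X 𝓘 k).appLE U
      ((FSch.completionAlong X 𝓘).lvU h k (U0 X 𝓘 U)) (lv_eq X 𝓘 h U k).ge).hom :=
  appLE_surjective_of_eq (FSch.completionToX X 𝓘 k) U _ (lv_eq X 𝓘 h U k) hU

theorem ker_appLE {U : X.Opens} (hU : IsAffineOpen U) (k : ℕ) :
    RingHom.ker ((FSch.completionToX X 𝓘 k).appLE U
      ((FSch.completionAlong X 𝓘).lvU h k (U0 X 𝓘 U)) (lv_eq X 𝓘 h U k).ge).hom =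
      (𝓘.ideal ⟨U, hU⟩) ^ (k + 1) := by
  rw [ker_appLE_of_eq (FSch.completionToX X 𝓘 k) U _ (lv_eq X 𝓘 h U k)]
  have h1 := Scheme.IdealSheafData.ker_subschemeι_app (𝓘 ^ (k + 1)) ⟨U, hU⟩
  rw [Scheme.IdealSheafData.ideal_pow] at h1
  exact h1

theorem ρc_surjective (F : X.Modules) [F.IsQuasicoherent] {U : X.Opens} (hU : IsAffineOpen U)
    (k : ℕ) : Function.Surjective (ρc X 𝓘 h F U k) := by
  letI := ((FSch.completionToX X 𝓘 k).appLE U ((FSch.completionAlong X 𝓘).lvU h k (U0 X 𝓘 U))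
      (lv_eq X 𝓘 h U k).ge).hom.toAlgebra
  exact Groth.Agent.Lib.helper11.Thick.surjective_of_isBC (appLE_surjective X 𝓘 h hU k) _
    (isBC_ρc X 𝓘 h F hU k)

theorem ρc_eq_zero_iff (F : X.Modules) [F.IsQuasicoherent] {U : X.Opens} (hU : IsAffineOpen U)
    (k : ℕ) (m : Γ(F, U)) :
    ρc X 𝓘 h F U k m = 0 ↔
      m ∈ ((𝓘.ideal ⟨U, hU⟩) ^ (k + 1) • ⊤ : Submodule Γ(X, U) Γ(F, U)) := by
  letI := ((FSch.completionToX X 𝓘 k).appLE U ((FSch.completionAlong X 𝓘).lvU h k (U0 X 𝓘 U))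
      (lv_eq X 𝓘 h U k).ge).hom.toAlgebra
  constructor
  · intro hm
    exact Groth.Agent.Lib.helper11.FibMono.mem_smul_top_of_isBC _ (appLE_surjective X 𝓘 h hU k)
      (ker_appLE X 𝓘 h hU k) _ (isBC_ρc X 𝓘 h F hU k) m hm
  · intro hm
    exact Groth.Agent.Lib.helper11.FibMono.isBC_eq_zero_of_mem_smul_top _
      (ker_appLE X 𝓘 h hU k) _ (isBC_ρc X 𝓘 h F hU k) m hm

theorem ρc_natural {F G : X.Modules} (φ : F ⟶ G) (U : X.Opens) (k : ℕ) (m : Γ(F, U)) :
    (((FSch.complModMap 𝓘 φ).app k).app ((FSch.completionAlong X 𝓘).lvU h k (U0 X 𝓘 U))).hom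
      (ρc X 𝓘 h F U k m) = ρc X 𝓘 h G U k ((φ.app U).hom m) :=
  ρ_natural (FSch.completionToX X 𝓘 k) (lv_eq X 𝓘 h U k).ge φ m


open Groth.Agent.Lib.helper11.AdicModel in
/-- the tower model of the completion of the sections of `F` over an affine open -/
noncomputable def model (F : X.Modules) [F.IsQuasicoherent] {U : X.Opens} (hU : IsAffineOpen U) :
    Model (𝓘.ideal ⟨U, hU⟩) Γ(F, U)
      (fun k => MU (FSch.completionAlong X 𝓘) h (U0 X 𝓘 U) (FSch.complMod 𝓘 F).F k)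
      (FU (FSch.completionAlong X 𝓘) h (U0 X 𝓘 U) (FSch.complMod 𝓘 F).F
        (FSch.complMod 𝓘 F).toPush) where
  ρ := ρc X 𝓘 h F U
  τ := trans (FSch.completionAlong X 𝓘) h (U0 X 𝓘 U) (FSch.complMod 𝓘 F).F
    (FSch.complMod 𝓘 F).toPush
  π := secProj (FSch.completionAlong X 𝓘) h (U0 X 𝓘 U) (FSch.complMod 𝓘 F).F
    (FSch.complMod 𝓘 F).toPush
  ρ_surj := ρc_surjective X 𝓘 h F hU
  ρ_ker := ρc_eq_zero_iff X 𝓘 h F hU
  τ_ρ := trans_ρc X 𝓘 h F U
  τ_π := trans_secProj _ _ _ _ _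
  ext := fun _ _ hy => sec_ext _ _ _ _ _ hy
  exists_lim := sec_exists _ _ _ _ _

/-- `realModMap` on sections, levelwise -/
theorem secProj_realModMap {𝔛 : FSch.Sys.{u}} (h : 𝔛.IsFormal) {𝔐 𝔑 : FSch.ModSys 𝔛} (φ : 𝔐 ⟶ 𝔑)
    (U : (𝔛.X 0).Opens) (k : ℕ) (y : FU 𝔛 h U 𝔐.F 𝔐.toPush) :
    secProj 𝔛 h U 𝔑.F 𝔑.toPush k (((FSch.ModSys.realModMap h φ).val.app (op U)).hom y) =
      ((φ.app k).app (𝔛.lvU h k U)).hom (secProj 𝔛 h U 𝔐.F 𝔐.toPush k y) := by
  have h1 := FSch.realLimMap_realProj 𝔛 h φ.app (FSch.ModSys.Hom.toPush_comm φ) k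
  have h2 := congrArg (fun ψ => (ψ.val.app (op U)).hom y) h1
  exact h2


open Groth.Agent.Lib.helper11.AdicModel in
/-- **Completion is exact on coherent modules, on sections over the opens `U0 U`, `U` affine.** -/
theorem sections_exact [IsLocallyNoetherian X] (S : ShortComplex X.Modules) (hS : S.ShortExact)
    (h1 : Coh.IsCoh S.X₁) (h2 : Coh.IsCoh S.X₂) (h3 : Coh.IsCoh S.X₃) {U : X.Opens}
    (hU : IsAffineOpen U) :
    Function.Injective
      ((FSch.ModSys.realModMap h (FSch.complModMap 𝓘 S.f)).val.app (op (U0 X 𝓘 U))).hom ∧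
    Function.Exact
      ((FSch.ModSys.realModMap h (FSch.complModMap 𝓘 S.f)).val.app (op (U0 X 𝓘 U))).hom
      ((FSch.ModSys.realModMap h (FSch.complModMap 𝓘 S.g)).val.app (op (U0 X 𝓘 U))).hom ∧
    Function.Surjective
      ((FSch.ModSys.realModMap h (FSch.complModMap 𝓘 S.g)).val.app (op (U0 X 𝓘 U))).hom := by
  haveI := h1.1
  haveI := h2.1
  haveI := h3.1
  haveI : IsNoetherianRing Γ(X, U) := IsLocallyNoetherian.component_noetherian ⟨U, hU⟩
  haveI : Module.Finite Γ(X, U) Γ(S.X₂, U) :=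
    Groth.Agent.Lib.helper16.CohFinite.finite_sections_of_isCoh S.X₂ h2 hU
  haveI := hS.mono_f
  haveI := hS.epi_g
  obtain ⟨hinj, hex⟩ := Groth.Agent.Lib.helper7.KerSections.sections_leftExact S hS.exact U
  have hsurj := Groth.Agent.Lib.helper16.QCohEpi.surjective_app_of_epi S.g hU
  let f : Γ(S.X₁, U) →ₗ[Γ(X, U)] Γ(S.X₂, U) :=
    { toFun := (S.f.app U).hom
      map_add' := map_add _
      map_smul' := fun r x => Scheme.Modules.Hom.app_smul S.f r x }
  let g : Γ(S.X₂, U) →ₗ[Γ(X, U)] Γ(S.X₃, U) :=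
    { toFun := (S.g.app U).hom
      map_add' := map_add _
      map_smul' := fun r x => Scheme.Modules.Hom.app_smul S.g r x }
  have hfg : Function.Exact f g := by
    intro y
    constructor
    · intro hy
      exact hex y hy
    · rintro ⟨x, rfl⟩
      have h0 := S.zero
      have := congrArg (fun ψ => (Scheme.Modules.Hom.app ψ U).hom x) h0
      exact this
  have key := exact_of_models (model X 𝓘 h S.X₂ hU) (model X 𝓘 h S.X₁ hU) (model X 𝓘 h S.X₃ hU)
    f g hinj hfg hsurj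
    (fun k => (((FSch.complModMap 𝓘 S.f).app k).app
      ((FSch.completionAlong X 𝓘).lvU h k (U0 X 𝓘 U))).hom)
    (fun k => (((FSch.complModMap 𝓘 S.g).app k).app
      ((FSch.completionAlong X 𝓘).lvU h k (U0 X 𝓘 U))).hom)
    ((FSch.ModSys.realModMap h (FSch.complModMap 𝓘 S.f)).val.app (op (U0 X 𝓘 U))).hom.toAddMonoidHom
    ((FSch.ModSys.realModMap h (FSch.complModMap 𝓘 S.g)).val.app (op (U0 X 𝓘 U))).hom.toAddMonoidHom
    (fun k m => ρc_natural X 𝓘 h S.f U k m)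
    (fun k y => secProj_realModMap h (FSch.complModMap 𝓘 S.f) (U0 X 𝓘 U) k y)
    (fun k m => ρc_natural X 𝓘 h S.g U k m)
    (fun k y => secProj_realModMap h (FSch.complModMap 𝓘 S.g) (U0 X 𝓘 U) k y)
  exact key

end Groth.Agent.Lib.helper11.ComplSec
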