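import Groth.Agent.Lib.Helper11.FormalPull3
import Groth.Agent.Lib.Helper11.LocCoker

/-!
# Nakayama for coherent modules on a formal scheme (helper11; EGA I 10.11.5)

A coherent `O_𝔛`-module with zero reduction `u_0^* 𝔉` is zero; a morphism of coherent
`O_𝔛`-modules is an epimorphism iff its reduction is.
-/

set_option autoImplicit false
set_option backward.isDefEq.respectTransparency false
universe u
open CategoryTheory CategoryTheory.Limits AlgebraicGeometry TopologicalSpace Opposite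

namespace Groth.Agent.Lib.helper11.FormalPull

open FSch Groth.Agent.Lib.helper11.RealLimSec Groth.Agent.Lib.helper11.LocGen
  Groth.Agent.Lib.helper11.OverGen
  Groth.Agent.Lib.helper11.LocPres Groth.Agent.Lib.helper8.PullbackUnit

/-- sections of a zero object vanish -/
theorem section_eq_zero_of_isZero {C : Type*} [Category C] {J : GrothendieckTopology C}
    {R : Sheaf J RingCat.{u}} {M : SheafOfModules.{u} R} (hM : IsZero M) (U : Cᵒᵖ)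
    (s : M.val.obj U) : s = 0 := by
  have h1 : 𝟙 M = 0 := (IsZero.iff_id_eq_zero M).mp hM
  have h2 := congrArg (fun φ => (φ.val.app U).hom s) h1
  exact h2

variable (𝔛 : FSch.Sys.{u}) (h𝔛 : 𝔛.IsLocNoethFormal) (𝔉 : FSch.ModF 𝔛 h𝔛.1)
  (h𝔉 : FSch.IsCohF 𝔛 h𝔛.1 𝔉)

include h𝔉 in
/-- **Nakayama**: a coherent `O_𝔛`-module with zero reduction is zero -/
theorem isZero_of_isZero_pull (h0 : IsZero ((levelMor 𝔛 h𝔛.1 0).pull.obj 𝔉)) : IsZero 𝔉 := by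
  have h𝔐 := isCoh_sys 𝔛 h𝔛.1 𝔉 h𝔉
  haveI := isIso_eta 𝔛 h𝔛 𝔉 h𝔉
  refine IsZero.of_iso ?_ (asIso (eta 𝔛 h𝔛.1 𝔉))
  rw [IsZero.iff_id_eq_zero]
  refine ModTop.eq_zero_of_basis _ ((𝔛.X 0).affineOpens) (𝔛.X 0).isBasis_affineOpens
    (fun D hD s => ?_)
  change s = 0
  haveI := RealModBC.finite_FU 𝔛 h𝔛 D hD (sys 𝔛 h𝔛.1 𝔉) h𝔐
  have h1 := FormalAlg.span_eq_top_of_isBC (prU 𝔛 h𝔛.1 D 0)
    (LevelPushFF.prU_surjective 𝔛 h𝔛.1 D hD 0) (RealModBC.ker_prU_zero_le_jacobson 𝔛 h𝔛 D hD)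
    (secProj 𝔛 h𝔛.1 D (sys 𝔛 h𝔛.1 𝔉).F (sys 𝔛 h𝔛.1 𝔉).toPush 0)
    (RealModBC.isBC_secProj 𝔛 h𝔛 D hD (sys 𝔛 h𝔛.1 𝔉) h𝔐 0)
    (fun e : PEmpty.{1} => e.elim) (fun y => by
      have : y = 0 := section_eq_zero_of_isZero h0 _ y
      rw [this]
      exact Submodule.zero_mem _)
  have h2 : s ∈ Submodule.span (OU 𝔛 h𝔛.1 D)
      (Set.range fun e : PEmpty.{1} =>
        (e.elim : FU 𝔛 h𝔛.1 D (sys 𝔛 h𝔛.1 𝔉).F (sys 𝔛 h𝔛.1 𝔉).toPush)) := by
    rw [h1]; trivial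
  rw [Set.range_eq_empty, Submodule.span_empty] at h2
  exact (Submodule.mem_bot _).mp h2

variable {𝔉} {𝔊 : FSch.ModF 𝔛 h𝔛.1} (h𝔊 : FSch.IsCohF 𝔛 h𝔛.1 𝔊)

include h𝔉 h𝔊 in
/-- **EGA I 10.11.5**: a morphism of coherent `O_𝔛`-modules is an epimorphism iff its reduction is -/
theorem epi_iff_epi_pull (θ : 𝔉 ⟶ 𝔊) :
    Epi θ ↔ Epi ((levelMor 𝔛 h𝔛.1 0).pull.map θ) := by
  haveI : (levelMor 𝔛 h𝔛.1 0).pull.IsLeftAdjoint := (levelMor 𝔛 h𝔛.1 0).adj.isLeftAdjoint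
  constructor
  · intro hθ
    infer_instance
  · intro hθ
    haveI : SheafOfModules.IsFinitePresentation (R := ModSite.ringSh (𝔛.Osh h𝔛.1)) 𝔉 := h𝔉
    haveI : SheafOfModules.IsFinitePresentation (R := ModSite.ringSh (𝔛.Osh h𝔛.1)) 𝔊 := h𝔊
    have hK : FSch.IsCohF 𝔛 h𝔛.1 (cokernel θ) := LocCoker.isFinitePresentation_cokernel θ
    have h1 : (levelMor 𝔛 h𝔛.1 0).pull.map (cokernel.π θ) = 0 := by
      rw [← cancel_epi ((levelMor 𝔛 h𝔛.1 0).pull.map θ), ← Functor.map_comp, cokernel.condition,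
        Functor.map_zero, comp_zero]
    have h2 : IsZero ((levelMor 𝔛 h𝔛.1 0).pull.obj (cokernel θ)) :=
      IsZero.of_epi_eq_zero _ h1
    have h3 := isZero_of_isZero_pull 𝔛 h𝔛 (cokernel θ) hK h2
    exact Abelian.epi_of_cokernel_π_eq_zero θ (h3.eq_of_tgt _ _)

end Groth.Agent.Lib.helper11.FormalPull
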