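import Groth.Agent.Lib.Helper11.ComplAdic
import Groth.Agent.Lib.Helper11.ComplSec
import Groth.Agent.Lib.Helper11.FormalPull4
import Groth.Agent.Lib.Helper16.QCohPullback2

/-!
# The inverse image of a coherent module to the completion is its completion (helper11; EGA I 10.8.8)
-/

set_option autoImplicit false
set_option backward.isDefEq.respectTransparency false
universe u
open CategoryTheory CategoryTheory.Limits AlgebraicGeometry TopologicalSpace Opposite

namespace Groth.Agent.Lib.helper11.ComplPullIso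

open FSch Groth.Agent.Lib.helper11.RealLimSec Groth.Agent.Lib.helper11.ComplSec
  Groth.Agent.Lib.helper11.LocGen Groth.Agent.Lib.helper11.OverGen
  Groth.Agent.Lib.helper11.LocPres Groth.Agent.Lib.helper8.PullbackUnit

variable (X : Scheme.{u}) (𝓘 : X.IdealSheafData) (h : (FSch.completionAlong X 𝓘).IsFormal)
  (F : X.Modules)

/-- the components of the cone -/
noncomputable def comp (k : ℕ) :
    F ⟶ (FSch.toSchemeMor (FSch.completionAlong X 𝓘) h (FSch.completionToX X 𝓘)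
      (FSch.completionToX_comm X 𝓘)).push.obj ((levelMor (FSch.completionAlong X 𝓘) h k).push.obj
        ((FSch.complMod 𝓘 F).F k)) :=
  (Scheme.Modules.pullbackPushforwardAdjunction (FSch.completionToX X 𝓘 k)).unit.app F ≫
    (FSch.schPushCompare (FSch.completionAlong X 𝓘) h (FSch.completionToX X 𝓘)
      (FSch.completionToX_comm X 𝓘) k).app _

theorem comp_succ (k : ℕ) :
    comp X 𝓘 h F (k + 1) ≫ (FSch.toSchemeMor (FSch.completionAlong X 𝓘) h (FSch.completionToX X 𝓘)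
      (FSch.completionToX_comm X 𝓘)).push.map
        ((levelSysOf (FSch.completionAlong X 𝓘) h (FSch.complMod 𝓘 F).F
          (FSch.complMod 𝓘 F).toPush).map (homOfLE (Nat.le_succ k)).op) = comp X 𝓘 h F k := by
  ext U m
  exact trans_ρc X 𝓘 h F U k m

/-- the cone of the units over the pushed forward system -/
noncomputable def cone : Cone (levelSysOf (FSch.completionAlong X 𝓘) h (FSch.complMod 𝓘 F).F
    (FSch.complMod 𝓘 F).toPush ⋙ (FSch.toSchemeMor (FSch.completionAlong X 𝓘) h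
      (FSch.completionToX X 𝓘) (FSch.completionToX_comm X 𝓘)).push) where
  pt := F
  π := NatTrans.ofOpSequence (fun k => comp X 𝓘 h F k) (fun k => by
    simp only [Functor.const_obj_obj, Functor.const_obj_map, Category.id_comp, Functor.comp_map]
    exact (comp_succ X 𝓘 h F k).symm)

/-- the direct image preserves the limit -/
noncomputable def isLimitPush : IsLimit ((FSch.toSchemeMor (FSch.completionAlong X 𝓘) h
    (FSch.completionToX X 𝓘) (FSch.completionToX_comm X 𝓘)).push.mapCone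
      (limit.cone (levelSysOf (FSch.completionAlong X 𝓘) h (FSch.complMod 𝓘 F).F
        (FSch.complMod 𝓘 F).toPush))) :=
  haveI := (FSch.toSchemeMor (FSch.completionAlong X 𝓘) h
    (FSch.completionToX X 𝓘) (FSch.completionToX_comm X 𝓘)).adj.rightAdjoint_preservesLimits
  isLimitOfPreserves _ (limit.isLimit _)

/-- the canonical morphism `F ⟶ u_* F̂` -/
noncomputable def e₀ : F ⟶ (FSch.toSchemeMor (FSch.completionAlong X 𝓘) h (FSch.completionToX X 𝓘)
    (FSch.completionToX_comm X 𝓘)).push.obj ((FSch.complMod 𝓘 F).realMod h) :=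
  (isLimitPush X 𝓘 h F).lift (cone X 𝓘 h F)

theorem e₀_proj (k : ℕ) :
    e₀ X 𝓘 h F ≫ (FSch.toSchemeMor (FSch.completionAlong X 𝓘) h (FSch.completionToX X 𝓘)
      (FSch.completionToX_comm X 𝓘)).push.map
        (FSch.realProj (FSch.completionAlong X 𝓘) h (FSch.complMod 𝓘 F).F
          (FSch.complMod 𝓘 F).toPush k) = comp X 𝓘 h F k :=
  (isLimitPush X 𝓘 h F).fac (cone X 𝓘 h F) (op k)

/-- the canonical morphism `u^* F ⟶ F̂` -/
noncomputable def eHom : (FSch.toSchemeMor (FSch.completionAlong X 𝓘) h (FSch.completionToX X 𝓘)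
    (FSch.completionToX_comm X 𝓘)).pull.obj F ⟶ (FSch.complMod 𝓘 F).realMod h :=
  ((FSch.toSchemeMor (FSch.completionAlong X 𝓘) h (FSch.completionToX X 𝓘)
    (FSch.completionToX_comm X 𝓘)).adj.homEquiv _ _).symm (e₀ X 𝓘 h F)

theorem homEquiv_eHom :
    (FSch.toSchemeMor (FSch.completionAlong X 𝓘) h (FSch.completionToX X 𝓘)
      (FSch.completionToX_comm X 𝓘)).adj.homEquiv _ _ (eHom X 𝓘 h F) = e₀ X 𝓘 h F :=
  Equiv.apply_symm_apply _ _

section local_

variable [IsLocallyNoetherian X] (hF : Coh.IsCoh F)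
variable (W : X.Opens) (hW : IsAffineOpen W) {I K : Type u} [Fintype I] [Fintype K]
  (m : I → F.val.obj (op W)) (a : K → I → X.ringCatSheaf.obj.obj (op W))

/-- the images of the generators in the completion -/
noncomputable def g (l : I) : FU (FSch.completionAlong X 𝓘) h (U0 X 𝓘 W) (FSch.complMod 𝓘 F).F
    (FSch.complMod 𝓘 F).toPush :=
  ((eHom X 𝓘 h F).val.app (op (U0 X 𝓘 W))).hom
    (PullPres.m' (FSch.completionToX X 𝓘 0).base
      (FSch.schSharp (FSch.completionAlong X 𝓘) h (FSch.completionToX X 𝓘)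
        (FSch.completionToX_comm X 𝓘)) F W m l)

theorem secProj_g (k : ℕ) (l : I) :
    secProj (FSch.completionAlong X 𝓘) h (U0 X 𝓘 W) (FSch.complMod 𝓘 F).F
      (FSch.complMod 𝓘 F).toPush k (g X 𝓘 h F W m l) = ρc X 𝓘 h F W k (m l) := by
  have h1 := PullPres.homEquiv_app (FSch.completionToX X 𝓘 0).base
    (FSch.schSharp (FSch.completionAlong X 𝓘) h (FSch.completionToX X 𝓘)
      (FSch.completionToX_comm X 𝓘)) F (eHom X 𝓘 h F) W (m l)
  have h3 : ((PullPres.f (FSch.completionToX X 𝓘 0).base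
      (FSch.schSharp (FSch.completionAlong X 𝓘) h (FSch.completionToX X 𝓘)
        (FSch.completionToX_comm X 𝓘))).adj.homEquiv F
          ((FSch.complMod 𝓘 F).realMod h)) (eHom X 𝓘 h F) = e₀ X 𝓘 h F := homEquiv_eHom X 𝓘 h F
  rw [h3] at h1
  have h2 := congrArg (fun φ => (φ.val.app (op W)).hom (m l)) (e₀_proj X 𝓘 h F k)
  exact (congrArg (secProj (FSch.completionAlong X 𝓘) h (U0 X 𝓘 W) (FSch.complMod 𝓘 F).F
      (FSch.complMod 𝓘 F).toPush k) h1.symm).trans h2

include hF in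
/-- the completion of a coherent module is a coherent system -/
theorem isCoh_complMod : (FSch.complMod 𝓘 F).IsCoh := by
  intro k
  haveI : F.IsQuasicoherent := hF.1
  exact ⟨Groth.Agent.Lib.helper16.QCohPullback.isQuasicoherent_pullback _ F,
    Groth.Agent.Lib.helper16.QCohPullback2.isFiniteType_pullback _ F hF.2⟩

include hF hW in
theorem genW (hgen : LocSpan F W m) (n : Γ(F, W)) : ∃ c : I → Γ(X, W), n = ∑ i, c i • m i := by
  haveI : F.IsQuasicoherent := hF.1
  have h2 := SchemeLocGlob.span_affine F m hgen hW (le_refl _) n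
  simp only [ClosedPushMod.resM_refl] at h2
  obtain ⟨c, hc⟩ := (Submodule.mem_span_range_iff_exists_fun _).mp h2
  exact ⟨c, hc.symm⟩

include hW in
theorem syzW (hsyz : LocSyz F W m a) (c : I → X.ringCatSheaf.obj.obj (op W))
    (hc : ∑ i, c i • m i = 0) :
    ∃ e : K → X.ringCatSheaf.obj.obj (op W), ∀ i, c i = ∑ κ, e κ * a κ i := by
  obtain ⟨e, he⟩ := SchemeLocGlob.syz_affine F m a hsyz hW (le_refl _) c (by
    simp only [ClosedPushMod.resM_refl]
    exact hc)
  refine ⟨e, fun i => ?_⟩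
  rw [he i]
  refine Finset.sum_congr rfl (fun κ _ => ?_)
  rw [ClosedPushMod.resR_refl]

include hF hW in
/-- the images of local generators generate the sections of the completion -/
theorem gen_g (hgen : LocSpan F W m)
    (n : FU (FSch.completionAlong X 𝓘) h (U0 X 𝓘 W) (FSch.complMod 𝓘 F).F
      (FSch.complMod 𝓘 F).toPush) :
    ∃ c : I → OU (FSch.completionAlong X 𝓘) h (U0 X 𝓘 W), n = ∑ i, c i • g X 𝓘 h F W m i := by
  have h𝔛 := ComplAdic.isLocNoethFormal X 𝓘 h
  have h𝔐 := isCoh_complMod X 𝓘 F hF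
  haveI : F.IsQuasicoherent := hF.1
  have hU' : IsAffineOpen (U0 X 𝓘 W) := hW.preimage (FSch.completionToX X 𝓘 0)
  haveI := RealModBC.finite_FU (FSch.completionAlong X 𝓘) h𝔛 (U0 X 𝓘 W) hU' (FSch.complMod 𝓘 F) h𝔐
  have h1 := FormalAlg.span_eq_top_of_isBC (prU (FSch.completionAlong X 𝓘) h (U0 X 𝓘 W) 0)
    (LevelPushFF.prU_surjective (FSch.completionAlong X 𝓘) h (U0 X 𝓘 W) hU' 0)
    (RealModBC.ker_prU_zero_le_jacobson (FSch.completionAlong X 𝓘) h𝔛 (U0 X 𝓘 W) hU')
    (secProj (FSch.completionAlong X 𝓘) h (U0 X 𝓘 W) (FSch.complMod 𝓘 F).F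
      (FSch.complMod 𝓘 F).toPush 0)
    (RealModBC.isBC_secProj (FSch.completionAlong X 𝓘) h𝔛 (U0 X 𝓘 W) hU' (FSch.complMod 𝓘 F) h𝔐 0)
    (g X 𝓘 h F W m) ?_
  · have h2 : n ∈ Submodule.span (OU (FSch.completionAlong X 𝓘) h (U0 X 𝓘 W))
        (Set.range (g X 𝓘 h F W m)) := by
      rw [h1]; trivial
    obtain ⟨c, hc⟩ := (Submodule.mem_span_range_iff_exists_fun _).mp h2
    exact ⟨c, hc.symm⟩
  · intro y
    obtain ⟨n₀, rfl⟩ := ρc_surjective X 𝓘 h F hW 0 y
    obtain ⟨c, rfl⟩ := genW X F hF W hW m hgen n₀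
    rw [map_sum]
    refine Submodule.sum_mem _ (fun l _ => ?_)
    rw [(isBC_ρc X 𝓘 h F hW 0).map_smul, ← secProj_g X 𝓘 h F W m 0 l]
    exact Submodule.smul_mem _ _ (Submodule.subset_span ⟨l, rfl⟩)

theorem prU_cS (k : ℕ) (r : X.ringCatSheaf.obj.obj (op W)) :
    prU (FSch.completionAlong X 𝓘) h (U0 X 𝓘 W) k
      (PushSec.cS (FSch.completionToX X 𝓘 0).base
        (FSch.schSharp (FSch.completionAlong X 𝓘) h (FSch.completionToX X 𝓘)
          (FSch.completionToX_comm X 𝓘)) W r) =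
      ((FSch.completionToX X 𝓘 k).appLE W ((FSch.completionAlong X 𝓘).lvU h k (U0 X 𝓘 W))
        (lv_eq X 𝓘 h W k).ge).hom r := by
  have h1 := FSch.schSharp_proj (FSch.completionAlong X 𝓘) h (FSch.completionToX X 𝓘)
    (FSch.completionToX_comm X 𝓘) k
  exact congrArg (fun φ => (φ.hom.app (op W)).hom r) h1

/-- the images of the relations -/
noncomputable def aC (κ : K) (l : I) : OU (FSch.completionAlong X 𝓘) h (U0 X 𝓘 W) :=
  PullPres.a' (FSch.completionToX X 𝓘 0).base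
    (FSch.schSharp (FSch.completionAlong X 𝓘) h (FSch.completionToX X 𝓘)
      (FSch.completionToX_comm X 𝓘)) W a κ l

include hF hW in
/-- the syzygies of the images of the generators are generated by the images of the relations -/
theorem syz_g (hgen : LocSpan F W m) (hsyz : LocSyz F W m a)
    (c : I → OU (FSch.completionAlong X 𝓘) h (U0 X 𝓘 W))
    (hc : ∑ i, c i • g X 𝓘 h F W m i = 0) :
    ∃ e : K → OU (FSch.completionAlong X 𝓘) h (U0 X 𝓘 W), ∀ i, c i = ∑ κ, e κ *
      aC X 𝓘 h W a κ i := by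
  classical
  have h𝔛 := ComplAdic.isLocNoethFormal X 𝓘 h
  have h𝔐 := isCoh_complMod X 𝓘 F hF
  haveI : F.IsQuasicoherent := hF.1
  have hU' : IsAffineOpen (U0 X 𝓘 W) := hW.preimage (FSch.completionToX X 𝓘 0)
  haveI := RealModBC.isNoetherianRing_OU (FSch.completionAlong X 𝓘) h𝔛 (U0 X 𝓘 W) hU'
  apply FormalAlg.syz_of_levels (RingHom.ker (prU (FSch.completionAlong X 𝓘) h (U0 X 𝓘 W) 0))
    (RealModBC.ker_prU_zero_le_jacobson (FSch.completionAlong X 𝓘) h𝔛 (U0 X 𝓘 W) hU') _ c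
  intro k
  have h1 : ∑ i, prU (FSch.completionAlong X 𝓘) h (U0 X 𝓘 W) k (c i) • ρc X 𝓘 h F W k (m i) = 0 := by
    have h2 := congrArg (secProj (FSch.completionAlong X 𝓘) h (U0 X 𝓘 W) (FSch.complMod 𝓘 F).F
      (FSch.complMod 𝓘 F).toPush k) hc
    rw [map_sum, map_zero] at h2
    simp only [secProj_smul, secProj_g] at h2
    exact h2
  obtain ⟨e', he'⟩ := BCLim.IsBC.syz (isBC_ρc X 𝓘 h F hW k) m a (genW X F hF W hW m hgen)
    (syzW X F W hW m a hsyz) (fun i => prU (FSch.completionAlong X 𝓘) h (U0 X 𝓘 W) k (c i)) h1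
  choose e he using fun κ =>
    LevelPushFF.prU_surjective (FSch.completionAlong X 𝓘) h (U0 X 𝓘 W) hU' k (e' κ)
  refine ⟨e, fun l => ?_⟩
  have h3 : c l - ∑ κ, e κ * aC X 𝓘 h W a κ l ∈
      RingHom.ker (prU (FSch.completionAlong X 𝓘) h (U0 X 𝓘 W) k) := by
    rw [RingHom.mem_ker, map_sub, map_sum, sub_eq_zero]
    refine (he' l).trans (Finset.sum_congr rfl (fun κ _ => ?_))
    rw [map_mul, he κ]
    congr 1
    exact (prU_cS X 𝓘 h W k (a κ l)).symm
  rw [RealModBC.ker_prU_eq_pow_ker (FSch.completionAlong X 𝓘) h𝔛 (U0 X 𝓘 W) hU' k] at h3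
  exact Ideal.pow_le_pow_right (Nat.le_succ k) h3

end local_

variable [IsLocallyNoetherian X] (hF : Coh.IsCoh F)

include hF in
/-- **EGA I 10.8.8**: for a coherent module on a locally Noetherian scheme the canonical morphism
`u^* F ⟶ F̂` is an isomorphism -/
theorem isIso_eHom : IsIso (eHom X 𝓘 h F) := by
  classical
  have h𝔛 := ComplAdic.isLocNoethFormal X 𝓘 h
  have h𝔐 := isCoh_complMod X 𝓘 F hF
  apply LocIso.isIso_of_locPres_image
  intro x
  haveI := Groth.Agent.Lib.helper16.CohFinite.isFinitePresentation_of_isCoh F hF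
  obtain ⟨U, hxU, I, K, fI, fK, m, a, hm, ha⟩ :=
    LocPres.exists_locPres_of_isFinitePresentation (R := X.ringCatSheaf) F
      ((FSch.completionToX X 𝓘 0).base x)
  obtain ⟨W, hW, hxW, hWU⟩ := Opens.isBasis_iff_nbhd.mp X.isBasis_affineOpens hxU
  have hmW := hm.mono hWU
  have haW := LocKer.LocSyz.mono hWU ha
  have hU' : IsAffineOpen (U0 X 𝓘 W) := hW.preimage (FSch.completionToX X 𝓘 0)
  have hm' := PullPres.locSpan_pull (FSch.completionToX X 𝓘 0).base
    (FSch.schSharp (FSch.completionAlong X 𝓘) h (FSch.completionToX X 𝓘)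
      (FSch.completionToX_comm X 𝓘)) F W _ hmW
  have ha' := PullPres.locSyz_pull (FSch.completionToX X 𝓘 0).base
    (FSch.schSharp (FSch.completionAlong X 𝓘) h (FSch.completionToX X 𝓘)
      (FSch.completionToX_comm X 𝓘)) F W _ _ hmW haW
  refine ⟨U0 X 𝓘 W, hxW, I, K, fI, fK, _, _, hm', ha'.1, ?_, ?_, ?_⟩
  · -- local generation
    intro D hD y x' hx'
    obtain ⟨D', hD'a, hx'D', hD'⟩ := Opens.isBasis_iff_nbhd.mp
      ((FSch.completionAlong X 𝓘).X 0).isBasis_affineOpens hx'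
    refine ⟨D', hD', hx'D', ?_⟩
    obtain ⟨c', hc'⟩ := RealModCoh.gen_D (FSch.completionAlong X 𝓘) h𝔛 (FSch.complMod 𝓘 F) h𝔐
      (U0 X 𝓘 W) hU' (g X 𝓘 h F W fun l => resM F hWU (m l))
      (gen_g X 𝓘 h F hF W hW _ hmW) hD'a (hD'.trans hD) (resM _ hD' y)
    rw [Submodule.mem_span_range_iff_exists_fun]
    exact ⟨c', hc'.symm⟩
  · intro κ
    rw [← LocKer.app_sum_smul, ha'.1 κ, map_zero]
  · intro D hD c hc x' hx'
    obtain ⟨D', hD'a, hx'D', hD'⟩ := Opens.isBasis_iff_nbhd.mp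
      ((FSch.completionAlong X 𝓘).X 0).isBasis_affineOpens hx'
    refine ⟨D', hD', hx'D', ?_⟩
    refine RealModCoh.syz_D (FSch.completionAlong X 𝓘) h𝔛 (FSch.complMod 𝓘 F) h𝔐 (U0 X 𝓘 W) hU'
      (g X 𝓘 h F W fun l => resM F hWU (m l)) (aC X 𝓘 h W fun κ l => resR hWU (a κ l))
      (gen_g X 𝓘 h F hF W hW _ hmW) (syz_g X 𝓘 h F hF W hW _ _ hmW haW) hD'a (hD'.trans hD)
      (fun l => resR hD' (c l)) ?_
    have h1 := congrArg (resM _ hD') hc
    rw [resM_zero, LocKer.resM_sum_smul] at h1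
    refine Eq.trans ?_ h1
    refine Finset.sum_congr rfl (fun l _ => ?_)
    rw [resM_resM]
    rfl

end Groth.Agent.Lib.helper11.ComplPullIso
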