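import Mathlib
import Groth.Agent.S0392

/-!
# Fibre criterion for freeness of a finite module (helper11)

`free_of_free_fibre`: `A → B` local homomorphism of Noetherian local rings, `B → B'` surjective with
kernel `m_A B`, `M` a finite `B`-module flat over `A` with `B' ⊗_B M` free over `B'`.  Then `M` is
free over `B`, of the same rank.
-/

set_option autoImplicit false
universe u

namespace Groth.Agent.Lib.helper11.ConsFLF

open TensorProduct IsLocalRing

/-- flatness over `B ⧸ J` of `(B ⧸ J) ⊗ M` from flatness over a ring `B'` which is `B ⧸ J`. -/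
theorem flat_quot_tensor {B B' M : Type u} [CommRing B] [CommRing B'] [Algebra B B']
    [AddCommGroup M] [Module B M] (J : Ideal B)
    (hsurj : Function.Surjective (algebraMap B B')) (hker : RingHom.ker (algebraMap B B') = J)
    [Module.Flat B' (B' ⊗[B] M)] :
    Module.Flat (B ⧸ J) ((B ⧸ J) ⊗[B] M) := by
  -- `B'` as a `B ⧸ J`-algebra
  let φ : B ⧸ J →+* B' := Ideal.Quotient.lift J (algebraMap B B') (fun a ha => by
    rw [← hker] at ha; exact ha)
  have hφ : Function.Bijective φ := by
    constructor
    · rw [injective_iff_map_eq_zero]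
      intro a ha
      obtain ⟨b, rfl⟩ := Ideal.Quotient.mk_surjective a
      have : algebraMap B B' b = 0 := ha
      rw [Ideal.Quotient.eq_zero_iff_mem, ← hker]
      exact this
    · intro b'
      obtain ⟨b, rfl⟩ := hsurj b'
      exact ⟨Ideal.Quotient.mk J b, rfl⟩
  letI : Algebra (B ⧸ J) B' := φ.toAlgebra
  haveI : IsScalarTower B (B ⧸ J) B' := IsScalarTower.of_algebraMap_eq (fun b => rfl)
  haveI : Module.Flat (B ⧸ J) B' := by
    have : (algebraMap (B ⧸ J) B').Flat := RingHom.Flat.of_bijective hφ
    exact (RingHom.flat_algebraMap_iff).mp this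
  haveI : Module.Flat (B ⧸ J) (B' ⊗[B] M) := Module.Flat.trans (B ⧸ J) B' (B' ⊗[B] M)
  let σ : (B ⧸ J) ≃ₗ[B ⧸ J] B' :=
    LinearEquiv.ofBijective (Algebra.linearMap (B ⧸ J) B') hφ
  exact Module.Flat.of_linearEquiv
    (TensorProduct.AlgebraTensorModule.congr σ (LinearEquiv.refl B M))

theorem free_of_free_fibre {A B B' M : Type u} [CommRing A] [CommRing B] [CommRing B']
    [IsLocalRing A] [IsLocalRing B] [IsNoetherianRing A] [IsNoetherianRing B] [Nontrivial B']
    [Algebra A B] [Algebra B B'] [IsLocalHom (algebraMap A B)]
    [AddCommGroup M] [Module B M] [Module A M] [IsScalarTower A B M] [Module.Finite B M]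
    [Module.Flat A M]
    (hsurj : Function.Surjective (algebraMap B B'))
    (hker : RingHom.ker (algebraMap B B') = (maximalIdeal A).map (algebraMap A B))
    [Module.Free B' (B' ⊗[B] M)] :
    Module.Free B M ∧ Module.finrank B M = Module.finrank B' (B' ⊗[B] M) := by
  have hfree : Module.Free B M := by
    rcases subsingleton_or_nontrivial M with hM | hM
    · exact Module.Free.of_subsingleton B M
    · have hfl := flat_quot_tensor (M := M) ((maximalIdeal A).map (algebraMap A B)) hsurj hker
      haveI : IsLocalHom (algebraMap B B) := by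
        rw [Algebra.algebraMap_self]; infer_instance
      have := (Groth.Agent.S0392.result (R := A) (S := B) (S' := B) (M := M) hfl).2
      exact Module.free_of_flat_of_isLocalRing
  exact ⟨hfree, Module.finrank_baseChange.symm⟩

end Groth.Agent.Lib.helper11.ConsFLF
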