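import Groth.Agent.Lib.Helper11.ConsFLF1
import Groth.Agent.Lib.Helper16.PullStalk
import Groth.Agent.Lib.Helper17.FibreStalk
import Groth.Agent.Lib.Helper16.FLF7
import Groth.Agent.Lib.Helper16.CohFinite
import Groth.Agent.Lib.Helper16.QCohPullback2
import Groth.Prelude.Def_FlatMod2

/-!
# Freeness of stalks along the fibres (helper11)

* `QN N F x`: the stalk `F_x` is free of rank in `N`.
* `isOpen_QN`: an open condition for finitely presented quasi-coherent `F`.
* `QN_pullback`: stable under any pullback.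
* `QN_of_fibre`: fibre criterion: if `F_x` is flat over `O_{S, u x}` and the stalk of the restriction
  to the fibre is free of rank in `N`, so is `F_x` (Noetherian case).
* `isFinLocFree_iff_QN`, `isFinLocFreeOfRank_iff_QN`.
-/

set_option autoImplicit false
universe u
open CategoryTheory CategoryTheory.Limits AlgebraicGeometry TopologicalSpace TensorProduct

namespace Groth.Agent.Lib.helper11.ConsFLF

open Groth.Agent.Lib.helper16.FLF

variable {X : Scheme.{u}}

/-- the stalk `F_x` is free of rank in `N`. -/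
def QN (N : Set ℕ) (F : X.Modules) (x : X) : Prop :=
  Module.Free (X.presheaf.stalk x) (F.presheaf.stalk x) ∧
    Module.finrank (X.presheaf.stalk x) (F.presheaf.stalk x) ∈ N

/-- the stalk of a pullback as a base change. -/
noncomputable def stalkEquiv {Z : Scheme.{u}} (ι : Z ⟶ X) (z : Z) (F : X.Modules) :
    letI := (ι.stalkMap z).hom.toAlgebra
    ((Scheme.Modules.pullback ι).obj F).presheaf.stalk z ≃ₗ[Z.presheaf.stalk z]
      (Z.presheaf.stalk z ⊗[X.presheaf.stalk (ι z)] F.presheaf.stalk (ι z)) :=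
  (Groth.Agent.Lib.helper16.PullStalk.theta ι z F).toLinearEquiv

theorem QN_pullback {Z : Scheme.{u}} (ι : Z ⟶ X) (z : Z) (F : X.Modules) (N : Set ℕ)
    (h : QN N F (ι z)) : QN N ((Scheme.Modules.pullback ι).obj F) z := by
  letI := (ι.stalkMap z).hom.toAlgebra
  obtain ⟨h1, h2⟩ := h
  haveI := h1
  have e := stalkEquiv ι z F
  refine ⟨Module.Free.of_equiv e.symm, ?_⟩
  rw [e.finrank_eq, Module.finrank_baseChange]
  exact h2

/-- **Fibre criterion**: for `x` in the fibre `X_s`, if `F_x` is flat over `O_{S,s}` and the stalk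
of `F_s` at `x` is free of rank in `N`, then so is `F_x`. -/
theorem QN_of_fibre {S : Scheme.{u}} [IsLocallyNoetherian X] [IsLocallyNoetherian S] (u : X ⟶ S)
    (s : S) (z : u.fiber s) (F : X.Modules) (N : Set ℕ)
    [Module.Finite (X.presheaf.stalk (u.fiberι s z)) (F.presheaf.stalk (u.fiberι s z))]
    (hfl : FlatMod.IsFlatOverAt u F (u.fiberι s z))
    (h : QN N ((Scheme.Modules.pullback (u.fiberι s)).obj F) z) : QN N F (u.fiberι s z) := by
  set x := u.fiberι s z with hx
  letI algAB : Algebra (S.presheaf.stalk (u x)) (X.presheaf.stalk x) :=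
    (u.stalkMap x).hom.toAlgebra
  letI algBB' : Algebra (X.presheaf.stalk x) ((u.fiber s).presheaf.stalk z) :=
    ((u.fiberι s).stalkMap z).hom.toAlgebra
  letI modA : Module (S.presheaf.stalk (u x)) (F.presheaf.stalk x) :=
    FlatMod.moduleStalkOver u F x
  haveI : IsScalarTower (S.presheaf.stalk (u x)) (X.presheaf.stalk x) (F.presheaf.stalk x) :=
    ⟨fun a b m => by
      change ((u.stalkMap x).hom a * b) • m = (u.stalkMap x).hom a • (b • m)
      rw [mul_smul]⟩
  haveI : IsLocalHom (algebraMap (S.presheaf.stalk (u x)) (X.presheaf.stalk x)) :=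
    inferInstanceAs (IsLocalHom (u.stalkMap x).hom)
  haveI : Module.Flat (S.presheaf.stalk (u x)) (F.presheaf.stalk x) := hfl
  obtain ⟨h1, h2⟩ := h
  have e := stalkEquiv (u.fiberι s) z F
  haveI : Module.Free ((u.fiber s).presheaf.stalk z)
      ((u.fiber s).presheaf.stalk z ⊗[X.presheaf.stalk x] F.presheaf.stalk x) :=
    Module.Free.of_equiv e
  have hsurj : Function.Surjective
      (algebraMap (X.presheaf.stalk x) ((u.fiber s).presheaf.stalk z)) := by
    haveI : IsPreimmersion (u.fiberι s) := inferInstance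
    exact (u.fiberι s).stalkMap_surjective z
  have hker : RingHom.ker (algebraMap (X.presheaf.stalk x) ((u.fiber s).presheaf.stalk z)) =
      (IsLocalRing.maximalIdeal (S.presheaf.stalk (u x))).map
        (algebraMap (S.presheaf.stalk (u x)) (X.presheaf.stalk x)) :=
    Groth.Agent.Lib.helper17.FibreStalk.ker_fiberι_stalkMap u s z
  obtain ⟨r1, r2⟩ := free_of_free_fibre (A := S.presheaf.stalk (u x)) (B := X.presheaf.stalk x)
    (B' := (u.fiber s).presheaf.stalk z) (M := F.presheaf.stalk x) hsurj hker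
  refine ⟨r1, ?_⟩
  rw [r2, ← e.finrank_eq]
  exact h2

open Groth.Agent.Lib.helper16.CohFP in
/-- the locus where the stalk is free of rank in `N` is open (`F` finitely presented). -/
theorem isOpen_QN (F : X.Modules) [F.IsQuasicoherent] (hfp : CohB1.IsFP F) (N : Set ℕ) :
    IsOpen {x : X | QN N F x} := by
  rw [isOpen_iff_forall_mem_open]
  intro x hx
  obtain ⟨V, hV, hxV, -⟩ := Opens.isBasis_iff_nbhd.mp X.isBasis_affineOpens
    (show x ∈ (⊤ : X.Opens) from trivial)
  haveI := fp_sections_of_isFinitePresentation F hfp hV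
  obtain ⟨f, n, hxf, ⟨he⟩⟩ := exists_basicOpen_free_sections F hV x hxV hx.1
  have iso := restrict_iso_freeMod_of_sections F (hV.basicOpen f) n he
  obtain ⟨iso⟩ := iso
  have hn : n ∈ N := by
    have := (free_stalk_of_restrict_iso_freeMod F n iso x hxf).2
    rw [← this]; exact hx.2
  refine ⟨X.basicOpen f, fun y hy => ?_, (X.basicOpen f).2, hxf⟩
  obtain ⟨h1, h2⟩ := free_stalk_of_restrict_iso_freeMod F n iso y hy
  exact ⟨h1, by rw [h2]; exact hn⟩

theorem isFinLocFree_iff_QN (F : X.Modules) [F.IsQuasicoherent] (hfp : CohB1.IsFP F) :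
    FlatMod.IsFinLocFree F ↔ ∀ x : X, QN Set.univ F x := by
  rw [← isFinLocFree_iff_fp_free_stalks]
  exact ⟨fun h x => ⟨h.2 x, Set.mem_univ _⟩, fun h => ⟨hfp, fun x => (h x).1⟩⟩

theorem isFinLocFreeOfRank_iff_QN (F : X.Modules) [F.IsQuasicoherent] (hfp : CohB1.IsFP F)
    (n : ℕ) : FlatMod.IsFinLocFreeOfRank n F ↔ ∀ x : X, QN {n} F x := by
  constructor
  · intro h x
    exact ⟨(free_stalk_of_isFinLocFree F (isFinLocFree_of_isFinLocFreeOfRank h) x).1,
      finrank_stalk_of_isFinLocFreeOfRank F h x⟩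
  · intro h
    have hflf : FlatMod.IsFinLocFree F :=
      (isFinLocFree_iff_fp_free_stalks F).mp ⟨hfp, fun x => (h x).1⟩
    exact (isFinLocFreeOfRank_iff_finrank_stalk F hflf).mpr (fun x => (h x).2)

end Groth.Agent.Lib.helper11.ConsFLF
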