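import Mathlib
import Groth.Prelude.Def_FlatMod2
import Groth.Agent.Lib.Helper11.GenFree4
import Groth.Agent.Lib.Helper17.FlatOver1
import Groth.Agent.Lib.Helper16.CohFinite

set_option autoImplicit false
set_option linter.style.haveILetI false
universe u
open CategoryTheory AlgebraicGeometry TopologicalSpace Opposite TensorProduct

namespace Groth.Agent.Lib.helper11.GenFlatSch

open Scheme.Modules Groth.Agent.Lib.helper11.GenFree Groth.Agent.Lib.helper17.FlatOver1
  Groth.Agent.Lib.helper16.CohFinite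

variable {X Y : Scheme.{u}} (u : X ⟶ Y) (F : X.Modules)

/-- chart-level: if `Γ(F,W)_a` is free over `Γ(Y,V)_a` then `F` is flat over `Y` at all points of
`W` lying over `D(a)`. -/
theorem isFlatOverAt_of_PF [F.IsQuasicoherent] {V : Y.Opens} {W : X.Opens} (hV : IsAffineOpen V)
    (hW : IsAffineOpen W) (e : W ≤ u ⁻¹ᵁ V) (a : Γ(Y, V))
    (h : @PF Γ(Y, V) _ a Γ(F, W) _ (modSecBase u F e)) (x : X) (hxW : x ∈ W)
    (hxa : u.base x ∈ Y.basicOpen a) : FlatMod.IsFlatOverAt u F x := by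
  let a' : Γ(X, W) := (u.appLE V W e).hom a
  let W' : X.Opens := X.basicOpen a'
  have hW'W : W' ≤ W := X.basicOpen_le a'
  have e' : W' ≤ u ⁻¹ᵁ V := hW'W.trans e
  have hxW' : x ∈ W' := by
    have h1 : x ∈ u ⁻¹ᵁ (Y.basicOpen a) := hxa
    rw [Scheme.preimage_basicOpen] at h1
    have h2 : a' = (X.presheaf.map (homOfLE e).op).hom ((u.app V).hom a) := rfl
    change x ∈ X.basicOpen a'
    rw [h2, Scheme.basicOpen_res]
    exact ⟨hxW, h1⟩
  refine isFlatOverAt_of_flat_sections u F e' (hW.basicOpen a') hV ?_ x hxW'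
  letI := (u.appLE V W e).hom.toAlgebra
  letI := modSecBase u F e
  letI := modSecBase u F e'
  letI := modOfLE F hW'W
  haveI : IsScalarTower Γ(Y, V) Γ(X, W) Γ(F, W) := isScalarTower_sections u F e
  haveI : IsScalarTower Γ(Y, V) Γ(X, W) Γ(F, W') := ⟨fun r b m => by
    change (resRing hW'W ((u.appLE V W e).hom r * b)) • m =
      (u.appLE V W' e').hom r • (resRing hW'W b • m)
    rw [map_mul, mul_smul]
    congr 1
    have := Scheme.Hom.appLE_map u e (homOfLE hW'W).op
    exact congrArg (fun φ => φ.hom r) this⟩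
  haveI : IsLocalizedModule (Submonoid.powers (algebraMap Γ(Y, V) Γ(X, W) a)) (resLin F hW'W) :=
    isLocalizedModule_of_eq_basicOpen F hW a' hW'W rfl
  haveI : IsLocalizedModule (Submonoid.powers a) ((resLin F hW'W).restrictScalars Γ(Y, V)) :=
    IsLocalizedModule.restrictScalars_powers a (resLin F hW'W)
  have hfree : Module.Free (Localization.Away a) (LocalizedModule (Submonoid.powers a) Γ(F, W)) :=
    (PF_iff_free_localizedModule a Γ(F, W)).mp h
  have hflat1 : Module.Flat (Localization.Away a)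
      (LocalizedModule (Submonoid.powers a) Γ(F, W)) := inferInstance
  have hflat2 : Module.Flat Γ(Y, V) (LocalizedModule (Submonoid.powers a) Γ(F, W)) :=
    Module.Flat.trans Γ(Y, V) (Localization.Away a) _
  exact Module.Flat.of_linearEquiv
    (IsLocalizedModule.iso (Submonoid.powers a)
      ((resLin F hW'W).restrictScalars Γ(Y, V))).symm

/-- globalization: generic freeness of the sections over all affine charts above a nonempty affine
open `V₀` of an integral scheme gives generic flatness. -/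
theorem exists_open_isFlatOverAt [IsIntegral Y] [QuasiCompact u] [F.IsQuasicoherent]
    {V₀ : Y.Opens} (hV₀ : IsAffineOpen V₀) (hne : (V₀ : Set Y).Nonempty)
    (H : ∀ (W : X.Opens) (_ : IsAffineOpen W) (e : W ≤ u ⁻¹ᵁ V₀),
      @GF Γ(Y, V₀) _ Γ(F, W) _ (modSecBase u F e)) :
    ∃ U : Y.Opens, (U : Set Y).Nonempty ∧ ∀ x : X, u.base x ∈ U → FlatMod.IsFlatOverAt u F x := by
  classical
  haveI : Nonempty V₀ := hne.to_subtype
  haveI : IsDomain Γ(Y, V₀) := inferInstance
  have hqc : IsCompact (u ⁻¹ᵁ V₀ : Set X) := u.isCompact_preimage hV₀.isCompact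
  obtain ⟨s, hs, hcov⟩ := isCompact_iff_finite_and_eq_biUnion_affineOpens.mp hqc
  have hle : ∀ W : s, (W.1 : X.Opens) ≤ u ⁻¹ᵁ V₀ := by
    intro W
    rw [hcov]
    exact le_iSup₂ (f := fun (i : X.affineOpens) (_ : i ∈ s) => (i : X.Opens)) W.1 W.2
  have H' : ∀ W : s, ∃ a : Γ(Y, V₀), a ≠ 0 ∧
      @PF Γ(Y, V₀) _ a Γ(F, (W.1 : X.Opens)) _ (modSecBase u F (hle W)) :=
    fun W => H W.1 W.1.2 (hle W)
  choose a ha hPF using H'
  haveI : Fintype s := hs.fintype
  let a₀ : Γ(Y, V₀) := ∏ W : s, a W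
  have ha₀ : a₀ ≠ 0 := Finset.prod_ne_zero_iff.mpr (fun W _ => ha W)
  refine ⟨Y.basicOpen a₀, ?_, ?_⟩
  · by_contra hemp
    rw [Set.not_nonempty_iff_eq_empty] at hemp
    have : Y.basicOpen a₀ = ⊥ := by
      apply SetLike.coe_injective
      rw [hemp]
      rfl
    exact ha₀ ((basicOpen_eq_bot_iff a₀).mp this)
  · intro x hx
    have hxV : x ∈ u ⁻¹ᵁ V₀ := Y.basicOpen_le a₀ hx
    rw [hcov] at hxV
    simp only [Opens.mem_iSup] at hxV
    obtain ⟨W, hWs, hxW⟩ := hxV
    let W' : s := ⟨W, hWs⟩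
    have hPF' : @PF Γ(Y, V₀) _ a₀ Γ(F, (W : X.Opens)) _ (modSecBase u F (hle W')) :=
      letI := modSecBase u F (hle W')
      (hPF W').of_dvd (Finset.dvd_prod_of_mem a (Finset.mem_univ W'))
    exact isFlatOverAt_of_PF u F hV₀ W.2 (hle W') a₀ hPF' x hxW hx

/-- **Generic flatness** (EGA IV 6.9.1): `Y` integral locally Noetherian, `u : X ⟶ Y` of finite
type, `F` coherent: `F` is flat over `Y` above a nonempty open of `Y`. -/
theorem generic_flatness_coherent [IsIntegral Y] [IsLocallyNoetherian Y]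
    [LocallyOfFiniteType u] [QuasiCompact u] (hF : Coh.IsCoh F) :
    ∃ U : Y.Opens, (U : Set Y).Nonempty ∧ ∀ x : X, u.base x ∈ U → FlatMod.IsFlatOverAt u F x := by
  haveI : F.IsQuasicoherent := hF.1
  obtain ⟨y⟩ : Nonempty Y := inferInstance
  obtain ⟨_, ⟨V₀, hV₀ : IsAffineOpen V₀, rfl⟩, hyV, -⟩ :=
    Y.isBasis_affineOpens.exists_subset_of_mem_open (Set.mem_univ y) isOpen_univ
  have hne : (V₀ : Set Y).Nonempty := ⟨y, hyV⟩
  haveI : Nonempty V₀ := hne.to_subtype
  haveI : IsDomain Γ(Y, V₀) := inferInstance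
  haveI : IsNoetherianRing Γ(Y, V₀) := IsLocallyNoetherian.component_noetherian ⟨V₀, hV₀⟩
  refine exists_open_isFlatOverAt u F hV₀ hne ?_
  intro W hW e
  letI := (u.appLE V₀ W e).hom.toAlgebra
  letI := modSecBase u F e
  haveI : IsScalarTower Γ(Y, V₀) Γ(X, W) Γ(F, W) := isScalarTower_sections u F e
  haveI : Algebra.FiniteType Γ(Y, V₀) Γ(X, W) :=
    HasRingHomProperty.appLE (P := @LocallyOfFiniteType) u inferInstance ⟨V₀, hV₀⟩ ⟨W, hW⟩ e
  haveI : Module.Finite Γ(X, W) Γ(F, W) := finite_sections_of_isCoh F hF hW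
  exact GF_of_finiteType Γ(X, W) Γ(F, W)

end Groth.Agent.Lib.helper11.GenFlatSch
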