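import Mathlib
import Groth.Prelude.Def_FlatMod2
import Groth.Agent.Lib.Helper11.GenFree8
import Groth.Agent.Lib.Helper11.GenFlatSch

set_option autoImplicit false
set_option linter.style.haveILetI false
universe u
open CategoryTheory AlgebraicGeometry TopologicalSpace Opposite TensorProduct

namespace Groth.Agent.Lib.helper11.GenFlatSch

open Scheme.Modules Groth.Agent.Lib.helper11.GenFree Groth.Agent.Lib.helper17.FlatOver1
  Groth.Agent.Lib.helper16.CohFinite

variable {X Y : Scheme.{u}} (u : X ⟶ Y) (F : X.Modules)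

/-- **Generic flatness over an arbitrary integral base**: `Y` integral, `u : X ⟶ Y` quasi-compact
locally of finite type, `F` quasi-coherent of finite type: `F` is flat over `Y` above a nonempty
open of `Y`. -/
theorem generic_flatness_of_finiteType [IsIntegral Y] [LocallyOfFiniteType u] [QuasiCompact u]
    (hF : Coh.IsCoh F) :
    ∃ U : Y.Opens, (U : Set Y).Nonempty ∧ ∀ x : X, u.base x ∈ U → FlatMod.IsFlatOverAt u F x := by
  haveI : F.IsQuasicoherent := hF.1
  obtain ⟨y⟩ : Nonempty Y := inferInstance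
  obtain ⟨_, ⟨V₀, hV₀ : IsAffineOpen V₀, rfl⟩, hyV, -⟩ :=
    Y.isBasis_affineOpens.exists_subset_of_mem_open (Set.mem_univ y) isOpen_univ
  have hne : (V₀ : Set Y).Nonempty := ⟨y, hyV⟩
  haveI : Nonempty V₀ := hne.to_subtype
  haveI : IsDomain Γ(Y, V₀) := inferInstance
  refine exists_open_isFlatOverAt u F hV₀ hne ?_
  intro W hW e
  letI := (u.appLE V₀ W e).hom.toAlgebra
  letI := modSecBase u F e
  haveI : IsScalarTower Γ(Y, V₀) Γ(X, W) Γ(F, W) := isScalarTower_sections u F e
  haveI : Algebra.FiniteType Γ(Y, V₀) Γ(X, W) :=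
    HasRingHomProperty.appLE (P := @LocallyOfFiniteType) u inferInstance ⟨V₀, hV₀⟩ ⟨W, hW⟩ e
  haveI : Module.Finite Γ(X, W) Γ(F, W) := finite_sections_of_isCoh F hF hW
  exact GF_of_finiteType_domain Γ(X, W) Γ(F, W)

end Groth.Agent.Lib.helper11.GenFlatSch
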