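import Groth.Agent.Lib.Helper11.ConsFLF2
import Groth.Agent.Lib.Helper11.GenFlatSch2
import Groth.Agent.Lib.Helper5.ConsSep3
import Groth.Agent.Lib.Helper5.ConsFibre3
import Groth.Agent.Lib.Helper16.FLF8
import Groth.Agent.Lib.Helper11.LimStageRank
import Groth.Agent.Lib.Helper11.ConsMod3

/-!
# Local freeness of the fibres of a module is a constructible property (EGA IV 9.4.7) (helper11)

* `generic_QN`: generic clause for "all stalks of `F_s` are free of rank in `N`".
* `isConsMod_isFinLocFree`, `isConsMod_isFinLocFreeOfRank`.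
* `isLocallyConstructible_isFinLocFree`, `isLocallyConstructible_isFinLocFreeOfRank`.
-/

set_option autoImplicit false
universe u
open CategoryTheory CategoryTheory.Limits AlgebraicGeometry Topology TopologicalSpace

namespace Groth.Agent.Lib.helper11.ConsFLF

open Groth.Agent.Lib.helper16.FLF Groth.Agent.Lib.helper5.ConsSep
  Groth.Agent.Lib.helper5.ConsFibre

theorem generic_QN (N : Set ℕ) {X S : Scheme.{u}} (u : X ⟶ S) [IsIntegral S] [IsNoetherian S]
    [LocallyOfFiniteType u] [QuasiCompact u] (F : X.Modules) (hF : Coh.IsCoh F) :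
    (interior {s : S | ∀ z : u.fiber s,
        QN N ((Scheme.Modules.pullback (u.fiberι s)).obj F) z}).Nonempty ∨
      (interior {s : S | ∀ z : u.fiber s,
        QN N ((Scheme.Modules.pullback (u.fiberι s)).obj F) z}ᶜ).Nonempty := by
  haveI : IsNoetherian X := isNoetherian_of_lft u
  haveI : F.IsQuasicoherent := hF.1
  have hfp : CohB1.IsFP F :=
    Groth.Agent.Lib.helper16.CohFinite.isFinitePresentation_of_isCoh F hF
  set L : Set S := {s : S | ∀ z : u.fiber s,
        QN N ((Scheme.Modules.pullback (u.fiberι s)).obj F) z} with hL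
  set E : Set X := {x : X | QN N F x}ᶜ with hE
  have hEc : IsClosed E := (isOpen_QN F hfp N).isClosed_compl
  have hEcons : IsConstructible E :=
    Groth.Agent.Lib.helper9.isConstructible_of_isLocallyClosed hEc.isLocallyClosed
  obtain ⟨V, hVne, hV⟩ :=
    Groth.Agent.Lib.helper11.GenFlatSch.generic_flatness_of_finiteType u F hF
  have hηV := genericPoint_mem_of_nonempty V hVne
  have hfib : ∀ (s : S) (z : u.fiber s), u (u.fiberι s z) = s := by
    intro s z
    have : u.fiberι s z ∈ u ⁻¹' {s} := by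
      rw [← u.range_fiberι s]; exact ⟨z, rfl⟩
    exact this
  have key : ∀ s ∈ V, (s ∈ L ↔ s ∉ u '' E) := by
    intro s hs
    constructor
    · rintro hsL ⟨x, hxE, hxs⟩
      have hxr : x ∈ Set.range (u.fiberι s) := by
        rw [u.range_fiberι s]; exact hxs
      obtain ⟨z, rfl⟩ := hxr
      haveI : Module.Finite (X.presheaf.stalk (u.fiberι s z))
          (F.presheaf.stalk (u.fiberι s z)) := finite_stalk_of_isFinitePresentation F hfp _
      exact hxE (QN_of_fibre u s z F N (hV _ (by rw [hxs]; exact hs)) (hsL z))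
    · intro hn z
      apply QN_pullback
      by_contra hxn
      exact hn ⟨u.fiberι s z, hxn, hfib s z⟩
  by_cases hη : genericPoint S ∈ u '' E
  · right
    obtain ⟨V₁, hηV₁, hV₁⟩ := exists_open_subset_image u E hEcons hη
    refine ⟨genericPoint S, interior_maximal (fun s hs => ?_) (V ⊓ V₁).2 ⟨hηV, hηV₁⟩⟩
    intro hsl
    exact ((key s hs.1).mp hsl) (hV₁ hs.2)
  · left
    obtain ⟨V₁, hηV₁, hV₁⟩ := exists_open_disjoint_image u E hEcons hη
    refine ⟨genericPoint S, interior_maximal (fun s hs => ?_) (V ⊓ V₁).2 ⟨hηV, hηV₁⟩⟩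
    exact (key s hs.1).mpr (fun hsE => Set.disjoint_left.mp hV₁ hs.2 hsE)

open Groth.Agent.Lib.helper16.QCohPullback Groth.Agent.Lib.helper16.QCohPullback2 in
theorem locusMod_isFinLocFree_eq {X S : Scheme.{u}} (u : X ⟶ S) (F : X.Modules)
    [F.IsQuasicoherent] (hfp : CohB1.IsFP F) :
    ConsProp.locusMod (fun Y T (_ : Y ⟶ T) (G : Y.Modules) => FlatMod.IsFinLocFree G) u F =
      {s : S | ∀ z : u.fiber s,
        QN Set.univ ((Scheme.Modules.pullback (u.fiberι s)).obj F) z} := by
  ext s
  haveI := isQuasicoherent_pullback (u.fiberι s) F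
  exact isFinLocFree_iff_QN _ (isFinitePresentation_pullback (u.fiberι s) F hfp)

open Groth.Agent.Lib.helper16.QCohPullback Groth.Agent.Lib.helper16.QCohPullback2 in
theorem locusMod_isFinLocFreeOfRank_eq {X S : Scheme.{u}} (u : X ⟶ S) (F : X.Modules)
    [F.IsQuasicoherent] (hfp : CohB1.IsFP F) (n : ℕ) :
    ConsProp.locusMod (fun Y T (_ : Y ⟶ T) (G : Y.Modules) =>
        FlatMod.IsFinLocFreeOfRank n G) u F =
      {s : S | ∀ z : u.fiber s,
        QN {n} ((Scheme.Modules.pullback (u.fiberι s)).obj F) z} := by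
  ext s
  haveI := isQuasicoherent_pullback (u.fiberι s) F
  exact isFinLocFreeOfRank_iff_QN _ (isFinitePresentation_pullback (u.fiberι s) F hfp) n

theorem isFieldStableMod_isFinLocFree :
    ConsProp.IsFieldStableMod.{u}
      (fun Y T (_ : Y ⟶ T) (G : Y.Modules) => FlatMod.IsFinLocFree G) := by
  intro Y Y' T T' g g' e h _ _ _ _ _ _ sq F F' hF iso
  have hh := fpqc_of_subsingleton h
  have he : (@Surjective ⊓ @Flat ⊓ @QuasiCompact : MorphismProperty Scheme.{u}) e :=
    MorphismProperty.of_isPullback sq.flip hh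
  haveI : Surjective e := he.1.1
  haveI : Flat e := he.1.2
  haveI : QuasiCompact e := he.2
  haveI : F.IsQuasicoherent := hF.1
  constructor
  · intro hP
    exact isFinLocFree_of_iso iso.symm (isFinLocFree_pullback e hP)
  · intro hP'
    exact isFinLocFree_of_pullback_fpqc F e (isFinLocFree_of_iso iso hP')

open Groth.Agent.Lib.helper11.LimStageRank in
theorem isFieldStableMod_isFinLocFreeOfRank (n : ℕ) :
    ConsProp.IsFieldStableMod.{u}
      (fun Y T (_ : Y ⟶ T) (G : Y.Modules) => FlatMod.IsFinLocFreeOfRank n G) := by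
  intro Y Y' T T' g g' e h _ _ _ _ _ _ sq F F' hF iso
  have hh := fpqc_of_subsingleton h
  have he : (@Surjective ⊓ @Flat ⊓ @QuasiCompact : MorphismProperty Scheme.{u}) e :=
    MorphismProperty.of_isPullback sq.flip hh
  haveI : Surjective e := he.1.1
  haveI : Flat e := he.1.2
  haveI : QuasiCompact e := he.2
  haveI : F.IsQuasicoherent := hF.1
  constructor
  · intro hP
    exact isFinLocFreeOfRank_of_iso iso.symm (isFinLocFreeOfRank_pullback e hP)
  · intro hP'
    have h1 : FlatMod.IsFinLocFreeOfRank n ((Scheme.Modules.pullback e).obj F) :=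
      isFinLocFreeOfRank_of_iso iso hP'
    have h2 : FlatMod.IsFinLocFree F :=
      isFinLocFree_of_pullback_fpqc F e (isFinLocFree_of_isFinLocFreeOfRank h1)
    show FlatMod.IsFinLocFreeOfRank n F
    rw [isFinLocFreeOfRank_iff_srank F h2]
    intro y
    obtain ⟨y', rfl⟩ := ‹Surjective e›.surj y
    rw [← srank_pullback e F h2 y']
    exact (isFinLocFreeOfRank_iff_srank _ (isFinLocFree_of_isFinLocFreeOfRank h1)).mp h1 y'

theorem isConsMod_isFinLocFree :
    ConsProp.IsConsMod.{u}
      (fun Y T (_ : Y ⟶ T) (G : Y.Modules) => FlatMod.IsFinLocFree G) := by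
  refine ⟨isFieldStableMod_isFinLocFree, ?_⟩
  intro X S u _ _ _ _ F hF
  haveI : IsNoetherian X := isNoetherian_of_lft u
  haveI : F.IsQuasicoherent := hF.1
  have hfp : CohB1.IsFP F :=
    Groth.Agent.Lib.helper16.CohFinite.isFinitePresentation_of_isCoh F hF
  rw [locusMod_isFinLocFree_eq u F hfp]
  exact generic_QN Set.univ u F hF

theorem isConsMod_isFinLocFreeOfRank (n : ℕ) :
    ConsProp.IsConsMod.{u}
      (fun Y T (_ : Y ⟶ T) (G : Y.Modules) => FlatMod.IsFinLocFreeOfRank n G) := by
  refine ⟨isFieldStableMod_isFinLocFreeOfRank n, ?_⟩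
  intro X S u _ _ _ _ F hF
  haveI : IsNoetherian X := isNoetherian_of_lft u
  haveI : F.IsQuasicoherent := hF.1
  have hfp : CohB1.IsFP F :=
    Groth.Agent.Lib.helper16.CohFinite.isFinitePresentation_of_isCoh F hF
  rw [locusMod_isFinLocFreeOfRank_eq u F hfp n]
  exact generic_QN {n} u F hF

/-- EGA IV 9.4.7: the locus where the fibre module is finite locally free is locally
constructible. -/
theorem isLocallyConstructible_isFinLocFree {X S : Scheme.{u}} (f : X ⟶ S)
    [LocallyOfFinitePresentation f] [QuasiCompact f] [QuasiSeparated f]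
    (F : X.Modules) [F.IsQuasicoherent] (hF : CohB1.IsFP F) :
    IsLocallyConstructible
      {s : S | FlatMod.IsFinLocFree ((Scheme.Modules.pullback (f.fiberι s)).obj F)} :=
  Groth.Agent.Lib.helper11.ConsMod.isLocallyConstructible_locusMod isConsMod_isFinLocFree f F hF

theorem isLocallyConstructible_isFinLocFreeOfRank {X S : Scheme.{u}} (f : X ⟶ S)
    [LocallyOfFinitePresentation f] [QuasiCompact f] [QuasiSeparated f]
    (F : X.Modules) [F.IsQuasicoherent] (hF : CohB1.IsFP F) (n : ℕ) :
    IsLocallyConstructible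
      {s : S | FlatMod.IsFinLocFreeOfRank n ((Scheme.Modules.pullback (f.fiberι s)).obj F)} :=
  Groth.Agent.Lib.helper11.ConsMod.isLocallyConstructible_locusMod
    (isConsMod_isFinLocFreeOfRank n) f F hF

end Groth.Agent.Lib.helper11.ConsFLF
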