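import Groth.Agent.Lib.Helper5.ConsApprox5
import Groth.Agent.Lib.Helper16.QCohPullback2
import Groth.Agent.Lib.Helper7.QCohProd
import Groth.Agent.Lib.Helper7.CohKer

/-!
# Loci of constructible relations involving a module (helper11)

Module analogue of helper5's `ConsApprox2`.
* `isCoh_pullback`
* `locusMod_eq_preimage` : base change of the locus of a field-stable relation with a module.
* `isConstructible_locusMod`, `isIndConstructible_locusMod` over a Noetherian base.
-/

set_option autoImplicit false
set_option backward.isDefEq.respectTransparency false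
universe u
open CategoryTheory CategoryTheory.Limits AlgebraicGeometry Topology TopologicalSpace

namespace Groth.Agent.Lib.helper11.ConsMod

open Groth.Agent.Lib.helper5.ConsFibre Groth.Agent.Lib.helper5.ConsApprox

theorem isCoh_pullback {X Y : Scheme.{u}} (f : Y ⟶ X) (F : X.Modules) (hF : Coh.IsCoh F) :
    Coh.IsCoh ((Scheme.Modules.pullback f).obj F) := by
  haveI : F.IsQuasicoherent := hF.1
  exact ⟨Groth.Agent.Lib.helper16.QCohPullback.isQuasicoherent_pullback f F,
    Groth.Agent.Lib.helper16.QCohPullback2.isFiniteType_pullback f F hF.2⟩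

theorem isCoh_of_iso {X : Scheme.{u}} {F G : X.Modules} (e : F ≅ G) (hF : Coh.IsCoh F) :
    Coh.IsCoh G := by
  haveI : F.IsQuasicoherent := hF.1
  haveI : G.IsQuasicoherent :=
    Groth.Agent.Lib.helper7.QCohProd.isQuasicoherent_of_iso e hF.1
  haveI : Epi e.hom := inferInstance
  exact ⟨inferInstance, Groth.Agent.Lib.helper7.CohKer.isFiniteType_of_epi e.hom hF.2⟩

variable {P : ∀ ⦃Y T : Scheme.{u}⦄, (Y ⟶ T) → Y.Modules → Prop}

/-- the locus of a field-stable relation with a module is compatible with base change. -/
theorem locusMod_eq_preimage (hP : ConsProp.IsFieldStableMod P)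
    {X' T' X T : Scheme.{u}} {u' : X' ⟶ T'} {u : X ⟶ T} {e : X' ⟶ X} {h : T' ⟶ T}
    (sq : IsPullback e u' u h) [LocallyOfFiniteType u] [QuasiCompact u]
    (F : X.Modules) (hF : Coh.IsCoh F) (F' : X'.Modules)
    (iso : F' ≅ (Scheme.Modules.pullback e).obj F) :
    ConsProp.locusMod P u' F' = h ⁻¹' ConsProp.locusMod P u F := by
  ext t'
  have big := isPullback_fiberToSpecResidueField_of_isPullback sq t'
  haveI : LocallyOfFiniteType (u.fiberToSpecResidueField (h t')) :=
    MorphismProperty.pullback_snd (P := @LocallyOfFiniteType) u _ inferInstance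
  haveI : QuasiCompact (u.fiberToSpecResidueField (h t')) :=
    MorphismProperty.pullback_snd (P := @QuasiCompact) u _ inferInstance
  let efib : u'.fiber t' ⟶ u.fiber (h t') :=
    pullback.map _ _ _ _ e (Spec.map (h.residueFieldMap t')) h sq.w.symm (by simp)
  have hcomm : u'.fiberι t' ≫ e = efib ≫ u.fiberι (h t') := by
    simp [efib, Scheme.Hom.fiberι]
  let isoFib : (Scheme.Modules.pullback (u'.fiberι t')).obj F' ≅
      (Scheme.Modules.pullback efib).obj ((Scheme.Modules.pullback (u.fiberι (h t'))).obj F) :=
    (Scheme.Modules.pullback (u'.fiberι t')).mapIso iso ≪≫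
      (Scheme.Modules.pullbackComp (u'.fiberι t') e).app F ≪≫
      (Scheme.Modules.pullbackCongr hcomm).app F ≪≫
      ((Scheme.Modules.pullbackComp efib (u.fiberι (h t'))).app F).symm
  exact (hP (u.fiberToSpecResidueField (h t')) (u'.fiberToSpecResidueField t') efib
    (Spec.map (h.residueFieldMap t')) big _ _ (isCoh_pullback _ F hF) isoFib).symm

/-- EGA IV 9.2.3, Noetherian step, module version, constructible case. -/
theorem isConstructible_locusMod (hP : ConsProp.IsConsMod P) {X S : Scheme.{u}}
    [IsNoetherian S] (u : X ⟶ S) [LocallyOfFiniteType u] [QuasiCompact u]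
    (F : X.Modules) (hF : Coh.IsCoh F) :
    IsConstructible (ConsProp.locusMod P u F) := by
  refine isConstructible_of_forall_integral _ fun Z ι hι hZ => ?_
  haveI := hι
  haveI := hZ
  haveI : IsNoetherian Z := isNoetherian_of_lft ι
  have sq := IsPullback.of_hasPullback u ι
  haveI : LocallyOfFiniteType (pullback.snd u ι) :=
    MorphismProperty.pullback_snd (P := @LocallyOfFiniteType) u _ inferInstance
  haveI : QuasiCompact (pullback.snd u ι) :=
    MorphismProperty.pullback_snd (P := @QuasiCompact) u _ inferInstance
  have := hP.2 (pullback.snd u ι) ((Scheme.Modules.pullback (pullback.fst u ι)).obj F)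
    (isCoh_pullback _ F hF)
  rwa [locusMod_eq_preimage hP.1 sq F hF _ (Iso.refl _)] at this

/-- EGA IV 9.2.3, Noetherian step, module version, ind-constructible case. -/
theorem isIndConstructible_locusMod (hP : ConsProp.IsIndConsMod P) {X S : Scheme.{u}}
    [IsNoetherian S] (u : X ⟶ S) [LocallyOfFiniteType u] [QuasiCompact u]
    (F : X.Modules) (hF : Coh.IsCoh F) :
    ProCons.IsIndConstructible (ConsProp.locusMod P u F) := by
  refine isIndConstructible_of_forall_integral _ fun Z ι _ _ hgen => ?_
  haveI : IsNoetherian Z := isNoetherian_of_lft ι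
  have sq := IsPullback.of_hasPullback u ι
  haveI : LocallyOfFiniteType (pullback.snd u ι) :=
    MorphismProperty.pullback_snd (P := @LocallyOfFiniteType) u _ inferInstance
  haveI : QuasiCompact (pullback.snd u ι) :=
    MorphismProperty.pullback_snd (P := @QuasiCompact) u _ inferInstance
  have := hP.2 (pullback.snd u ι) ((Scheme.Modules.pullback (pullback.fst u ι)).obj F)
    (isCoh_pullback _ F hF)
  rw [locusMod_eq_preimage hP.1 sq F hF _ (Iso.refl _)] at this
  exact this hgen

end Groth.Agent.Lib.helper11.ConsMod
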