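import Groth.Agent.Lib.Helper11.ConsMod1
import Groth.Agent.Lib.Helper11.FPDesc
import Groth.Agent.Lib.Helper9.LimBaseChange

/-!
# Approximation of a finitely presented family with a finitely presented module (helper11)

* `exists_mod_model` : `S = lim S_i` (qcqs stages, affine transition maps), `u : X ⟶ S` of finite
  presentation and `F` a finitely presented quasi-coherent module on `X`: the pair `(X, F)` comes
  from a stage.
-/

set_option autoImplicit false
set_option backward.isDefEq.respectTransparency false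
set_option linter.style.haveILetI false
universe u
open CategoryTheory CategoryTheory.Limits AlgebraicGeometry Topology TopologicalSpace

namespace Groth.Agent.Lib.helper11.ConsMod

open Groth.Agent.Lib.helper9

section PullId

variable {X Y : Scheme.{u}}

/-- `F ≅ a^* b^* F` for `a ≫ b = 𝟙` -/
noncomputable def pullbackOfCompEqId (a : X ⟶ Y) (b : Y ⟶ X) (h : a ≫ b = 𝟙 X) (F : X.Modules) :
    F ≅ (Scheme.Modules.pullback a).obj ((Scheme.Modules.pullback b).obj F) :=
  ((Scheme.Modules.pullbackId X).app F).symm ≪≫ ((Scheme.Modules.pullbackCongr h).app F).symm ≪≫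
    ((Scheme.Modules.pullbackComp a b).app F).symm

end PullId

variable {I : Type u} [SmallCategory I] [IsCofiltered I] (D : I ⥤ Scheme.{u}) (c : Cone D)
  (hc : IsLimit c) [hD : ∀ (i j : I) (f : i ⟶ j), IsAffineHom (D.map f)]
  [hcomp : ∀ i, CompactSpace (D.obj i)] [hqs : ∀ i, QuasiSeparatedSpace (D.obj i)]

include hc in
theorem exists_mod_model {X : Scheme.{u}} (u : X ⟶ c.pt)
    [LocallyOfFinitePresentation u] [QuasiCompact u] [QuasiSeparated u]
    (F : X.Modules) [F.IsQuasicoherent] (hF : CohB1.IsFP F) :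
    ∃ (k : I) (Xk : Scheme.{u}) (uk : Xk ⟶ D.obj k) (e : X ⟶ Xk) (Fk : Xk.Modules),
      LocallyOfFinitePresentation uk ∧ QuasiCompact uk ∧ QuasiSeparated uk ∧
      IsPullback e u uk (c.π.app k) ∧ Fk.IsQuasicoherent ∧ CohB1.IsFP Fk ∧
      Nonempty (F ≅ (Scheme.Modules.pullback e).obj Fk) := by
  obtain ⟨i, Xi, ui, g, h1, h2, h3, sq⟩ := Groth.Agent.S0591.result D c hc X u
  haveI := h1; haveI := h2; haveI := h3
  let D' : Over i ⥤ Scheme.{u} := bcDiagram D i ui
  let c' : Cone D' := bcCone D c i ui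
  have hc' : IsLimit c' := isLimitBcCone D c i ui hc
  haveI hD' : ∀ (j j' : Over i) (f : j ⟶ j'), IsAffineHom (D'.map f) := fun j j' f => by
    show IsAffineHom ((bcDiagram D i ui).map f)
    infer_instance
  -- `X` is the vertex of the base-changed cone
  let ε : X ≅ pullback (c.π.app i) ui := sq.flip.isoPullback
  have hε1 : ε.hom ≫ pullback.fst (c.π.app i) ui = u := sq.flip.isoPullback_hom_fst
  have hε2 : ε.hom ≫ pullback.snd (c.π.app i) ui = g := sq.flip.isoPullback_hom_snd
  let F' : c'.pt.Modules := (Scheme.Modules.pullback ε.inv).obj F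
  haveI hF'q : F'.IsQuasicoherent :=
    Groth.Agent.Lib.helper16.QCohPullback.isQuasicoherent_pullback ε.inv F
  have hF' : CohB1.IsFP F' :=
    Groth.Agent.Lib.helper16.QCohPullback2.isFinitePresentation_pullback ε.inv F hF
  -- the initial stage is qcqs
  have hqc : ∀ j : Over i, QuasiCompact (pullback.fst (D.map j.hom) ui) := fun j =>
    MorphismProperty.pullback_fst (P := @QuasiCompact) _ _ h2
  have hqs' : ∀ j : Over i, QuasiSeparated (pullback.fst (D.map j.hom) ui) := fun j =>
    MorphismProperty.pullback_fst (P := @QuasiSeparated) _ _ h3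
  haveI : CompactSpace (D'.obj (Over.mk (𝟙 i))) := by
    haveI := hqc (Over.mk (𝟙 i))
    haveI : CompactSpace (D.obj (Over.mk (𝟙 i)).left) := hcomp _
    exact QuasiCompact.compactSpace_of_compactSpace
      (pullback.fst (D.map (Over.mk (𝟙 i)).hom) ui)
  haveI : QuasiSeparatedSpace (D'.obj (Over.mk (𝟙 i))) := by
    haveI := hqs' (Over.mk (𝟙 i))
    haveI : QuasiSeparatedSpace (D.obj (Over.mk (𝟙 i)).left) := hqs _
    exact quasiSeparatedSpace_of_quasiSeparated
      (pullback.fst (D.map (Over.mk (𝟙 i)).hom) ui)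
  obtain ⟨k, φ, Fk, hq, hfp, ⟨iso⟩⟩ :=
    Groth.Agent.Lib.helper11.FPDesc.exists_fp_stage D' c' hc' (Over.mk (𝟙 i)) F' hF'
  let e : X ⟶ D'.obj k := ε.hom ≫ c'.π.app k
  have he_snd : e ≫ pullback.snd (D.map k.hom) ui = g := by
    simp only [e, c', bcCone_π_app, Category.assoc, pullback.map]
    rw [pullback.lift_snd, Category.comp_id, hε2]
  have he_fst : e ≫ pullback.fst (D.map k.hom) ui = u ≫ c.π.app k.left := by
    simp only [e, c', bcCone_π_app, Category.assoc, pullback.map]
    rw [pullback.lift_fst, ← Category.assoc, hε1]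
  have sqk : IsPullback e u (pullback.fst (D.map k.hom) ui) (c.π.app k.left) := by
    refine IsPullback.of_right ?_ he_fst (IsPullback.of_hasPullback (D.map k.hom) ui).flip
    rw [he_snd, c.w]
    exact sq
  refine ⟨k.left, D'.obj k, pullback.fst (D.map k.hom) ui, e, Fk,
    MorphismProperty.pullback_fst (P := @LocallyOfFinitePresentation) _ _ h1, hqc k, hqs' k, sqk,
    hq, hfp, ⟨?_⟩⟩
  exact pullbackOfCompEqId ε.hom ε.inv ε.hom_inv_id F ≪≫
    (Scheme.Modules.pullback ε.hom).mapIso iso.symm ≪≫
    (Scheme.Modules.pullbackComp ε.hom (c'.π.app k)).app Fk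

end Groth.Agent.Lib.helper11.ConsMod
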