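import Groth.Agent.Lib.Helper11.ConsMod3

/-!
# Ind-constructible relations with a module and limits (EGA IV 9.3.3) (helper11)

`forall_locusMod_iff_eventually`: for `S = lim S_i`, an ind-constructible relation with a module holds
on all fibres over `S` iff it holds on all fibres at some stage.
-/

set_option autoImplicit false
set_option backward.isDefEq.respectTransparency false
set_option linter.style.haveILetI false
universe u
open CategoryTheory CategoryTheory.Limits AlgebraicGeometry Topology TopologicalSpace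

namespace Groth.Agent.Lib.helper11.ConsMod

open Groth.Agent.Lib.helper5.ConsFibre Groth.Agent.Lib.helper5.ConsApprox

/-- `q^* F ≅ e^* p^* F` for `e ≫ p = q` -/
noncomputable def pullbackIsoOfComp {X Y Z : Scheme.{u}} (e : X ⟶ Y) (p : Y ⟶ Z) (q : X ⟶ Z)
    (h : e ≫ p = q) (F : Z.Modules) :
    (Scheme.Modules.pullback q).obj F ≅
      (Scheme.Modules.pullback e).obj ((Scheme.Modules.pullback p).obj F) :=
  ((Scheme.Modules.pullbackCongr h).app F).symm ≪≫ ((Scheme.Modules.pullbackComp e p).app F).symm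

variable {P : ∀ ⦃Y T : Scheme.{u}⦄, (Y ⟶ T) → Y.Modules → Prop}

theorem forall_locusMod_iff_eventually (hP : ConsProp.IsIndConsMod P)
    {I : Type u} [SmallCategory I] [IsCofiltered I]
    (D : I ⥤ Scheme.{u}) (c : Limits.Cone D) (hc : Limits.IsLimit c)
    [∀ (i j : I) (a : i ⟶ j), IsAffineHom (D.map a)] (i₀ : I) [CompactSpace ↥(D.obj i₀)]
    {X₀ : Scheme.{u}} (u₀ : X₀ ⟶ D.obj i₀)
    [LocallyOfFinitePresentation u₀] [QuasiCompact u₀] [QuasiSeparated u₀]
    (F₀ : X₀.Modules) [F₀.IsQuasicoherent] (hF₀ : CohB1.IsFP F₀)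
    {X : Scheme.{u}} (u : X ⟶ c.pt) (q : X ⟶ X₀) (hX : IsPullback q u u₀ (c.π.app i₀)) :
    (∀ s : ↥c.pt, s ∈ ConsProp.locusMod P u ((Scheme.Modules.pullback q).obj F₀)) ↔
      ∃ (j : I) (φ : j ⟶ i₀) (Xj : Scheme.{u}) (uj : Xj ⟶ D.obj j) (p : Xj ⟶ X₀),
        IsPullback p uj u₀ (D.map φ) ∧
          ∀ t : ↥(D.obj j), t ∈ ConsProp.locusMod P uj ((Scheme.Modules.pullback p).obj F₀) := by
  have hcoh : ∀ {Y : Scheme.{u}} (p : Y ⟶ X₀), Coh.IsCoh ((Scheme.Modules.pullback p).obj F₀) :=
    fun p => isCoh_pullback p F₀ (isCoh_of_isFP F₀ hF₀)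
  have stage : ∀ (j : I) (φ : j ⟶ i₀) (Xj : Scheme.{u}) (uj : Xj ⟶ D.obj j) (p : Xj ⟶ X₀),
      IsPullback p uj u₀ (D.map φ) →
      ConsProp.locusMod P u ((Scheme.Modules.pullback q).obj F₀) =
        ⇑(c.π.app j) ⁻¹' ConsProp.locusMod P uj ((Scheme.Modules.pullback p).obj F₀) := by
    intro j φ Xj uj p sq
    obtain ⟨e, he, sX⟩ := exists_isPullback_of_comp (c.w φ) sq hX
    haveI : LocallyOfFiniteType uj :=
      MorphismProperty.of_isPullback (P := @LocallyOfFiniteType) sq inferInstance
    haveI : QuasiCompact uj :=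
      MorphismProperty.of_isPullback (P := @QuasiCompact) sq inferInstance
    exact locusMod_eq_preimage hP.1 sX _ (hcoh p) _ (pullbackIsoOfComp e p q he F₀)
  constructor
  · intro h
    let F : ∀ a : Over i₀, Set (D.obj a.left) := fun a =>
      ConsProp.locusMod P (pullback.snd u₀ (D.map a.hom))
        ((Scheme.Modules.pullback (pullback.fst u₀ (D.map a.hom))).obj F₀)
    have sqa : ∀ a : Over i₀, IsPullback (pullback.fst u₀ (D.map a.hom))
        (pullback.snd u₀ (D.map a.hom)) u₀ (D.map a.hom) := fun a => IsPullback.of_hasPullback _ _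
    have hF : ∀ a, ProCons.IsIndConstructible (F a) := by
      intro a
      haveI : LocallyOfFinitePresentation (pullback.snd u₀ (D.map a.hom)) :=
        MorphismProperty.pullback_snd (P := @LocallyOfFinitePresentation) _ _ inferInstance
      haveI : QuasiCompact (pullback.snd u₀ (D.map a.hom)) :=
        MorphismProperty.pullback_snd (P := @QuasiCompact) _ _ inferInstance
      haveI : QuasiSeparated (pullback.snd u₀ (D.map a.hom)) :=
        MorphismProperty.pullback_snd (P := @QuasiSeparated) _ _ inferInstance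
      haveI : ((Scheme.Modules.pullback (pullback.fst u₀ (D.map a.hom))).obj F₀).IsQuasicoherent :=
        Groth.Agent.Lib.helper16.QCohPullback.isQuasicoherent_pullback _ F₀
      exact isIndConstructible_locusMod' hP _ _
        (Groth.Agent.Lib.helper16.QCohPullback2.isFinitePresentation_pullback _ F₀ hF₀)
    have hFm : ∀ (a b : Over i₀) (m : a ⟶ b), ⇑(D.map m.left) ⁻¹' F b ⊆ F a := by
      intro a b m
      have hw : D.map m.left ≫ D.map b.hom = D.map a.hom := by
        rw [← D.map_comp, Over.w]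
      obtain ⟨e, he, sX⟩ := exists_isPullback_of_comp hw (sqa b) (sqa a)
      haveI : LocallyOfFiniteType (pullback.snd u₀ (D.map b.hom)) :=
        MorphismProperty.pullback_snd (P := @LocallyOfFiniteType) _ _ inferInstance
      haveI : QuasiCompact (pullback.snd u₀ (D.map b.hom)) :=
        MorphismProperty.pullback_snd (P := @QuasiCompact) _ _ inferInstance
      exact (locusMod_eq_preimage hP.1 sX _ (hcoh _) _ (pullbackIsoOfComp e _ _ he F₀)).ge
    have key := (univ_subset_iff_eventually D c hc i₀ F hF hFm).mp (by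
      intro s _
      refine Set.mem_iUnion.mpr ⟨Over.mk (𝟙 i₀), ?_⟩
      have := stage i₀ (𝟙 i₀) _ _ _ (sqa (Over.mk (𝟙 i₀)))
      have hs := h s
      rw [this] at hs
      exact hs)
    obtain ⟨a, ha⟩ := key
    refine ⟨a.left, a.hom, _, _, _, sqa a, fun t => ?_⟩
    have : t ∈ F a := by rw [ha]; trivial
    exact this
  · rintro ⟨j, φ, Xj, uj, p, sq, h⟩ s
    rw [stage j φ Xj uj p sq]
    exact h _

end Groth.Agent.Lib.helper11.ConsMod
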