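import Mathlib

/-!
# Flatness of the cokernel of a universally injective map into a flat module (helper11)

`flat_of_exact_of_forall_lTensor_injective`: if `0 → M → M' → C → 0` is exact, `M'` is flat and
`N ⊗ M → N ⊗ M'` is injective for every module `N`, then `C` is flat.
-/

set_option autoImplicit false
universe u
open TensorProduct

namespace Groth.Agent.Lib.helper11.ContentFlat

theorem flat_of_exact_of_forall_lTensor_injective {R : Type u} [CommRing R] {M M' C : Type u}
    [AddCommGroup M] [AddCommGroup M'] [AddCommGroup C] [Module R M] [Module R M'] [Module R C]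
    [Module.Flat R M'] (g : M →ₗ[R] M') (π : M' →ₗ[R] C) (hπ : Function.Surjective π)
    (H : Function.Exact g π)
    (hg : ∀ (N : Type u) [AddCommGroup N] [Module R N], Function.Injective (g.lTensor N)) :
    Module.Flat R C := by
  rw [Module.Flat.iff_rTensor_preserves_injective_linearMap]
  intro N' N _ _ _ _ i hi
  rw [injective_iff_map_eq_zero]
  intro x hx
  -- the quotient `N'' = N / N'`
  let p : N →ₗ[R] (N ⧸ LinearMap.range i) := (LinearMap.range i).mkQ
  have hp : Function.Surjective p := Submodule.mkQ_surjective _
  have Hip : Function.Exact i p := LinearMap.exact_map_mkQ_range i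
  -- lift `x`
  obtain ⟨y, rfl⟩ := LinearMap.lTensor_surjective N' hπ x
  have h1 : π.lTensor N (i.rTensor M' y) = 0 := by
    have : π.lTensor N (i.rTensor M' y) = i.rTensor C (π.lTensor N' y) := by
      rw [← LinearMap.comp_apply, ← LinearMap.comp_apply, LinearMap.lTensor_comp_rTensor,
        LinearMap.rTensor_comp_lTensor]
    rw [this, hx]
  obtain ⟨w, hw⟩ := (lTensor_exact N H hπ (i.rTensor M' y)).1 h1
  -- `w` comes from `N' ⊗ M`
  have h2 : g.lTensor (N ⧸ LinearMap.range i) (p.rTensor M w) = 0 := by
    have : g.lTensor (N ⧸ LinearMap.range i) (p.rTensor M w) = p.rTensor M' (g.lTensor N w) := by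
      rw [← LinearMap.comp_apply, ← LinearMap.comp_apply, LinearMap.lTensor_comp_rTensor,
        LinearMap.rTensor_comp_lTensor]
    rw [this, hw, ← LinearMap.comp_apply, ← LinearMap.rTensor_comp, Hip.linearMap_comp_eq_zero,
      LinearMap.rTensor_zero, LinearMap.zero_apply]
  have h3 : p.rTensor M w = 0 := (injective_iff_map_eq_zero _).1 (hg _) _ h2
  obtain ⟨w', rfl⟩ := (rTensor_exact M Hip hp w).1 h3
  have h4 : i.rTensor M' (y - g.lTensor N' w') = 0 := by
    rw [map_sub, ← hw]
    have : i.rTensor M' (g.lTensor N' w') = g.lTensor N (i.rTensor M w') := by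
      rw [← LinearMap.comp_apply, ← LinearMap.comp_apply, LinearMap.lTensor_comp_rTensor,
        LinearMap.rTensor_comp_lTensor]
    rw [this, sub_self]
  have h5 : y - g.lTensor N' w' = 0 :=
    (injective_iff_map_eq_zero _).1
      (Module.Flat.rTensor_preserves_injective_linearMap (M := M') i hi) _ h4
  rw [sub_eq_zero] at h5
  rw [h5, ← LinearMap.comp_apply, ← LinearMap.lTensor_comp, H.linearMap_comp_eq_zero,
    LinearMap.lTensor_zero, LinearMap.zero_apply]

end Groth.Agent.Lib.helper11.ContentFlat
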