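import Mathlib
import Groth.Agent.Lib.Helper3.AlgClosedTensor

/-!
# Multiplication by an element of `R ⊗[k] A` on `N ⊗[k] A` (helper11)

For a `k`-basis `b` of `A`, a finitely supported family `c : ι →₀ R` (the coefficients of
`f = ∑ c i ⊗ b i`) and an `R`-module `N`, `mulF b c N` is the endomorphism `∑ (c i • ·) ⊗ (b i * ·)`
of `N ⊗[k] A`.
-/

set_option autoImplicit false
universe u
open TensorProduct

namespace Groth.Agent.Lib.helper11.ContentFlat

theorem isDomain_tensor_of_isAlgClosed (k : Type u) [Field k] [IsAlgClosed k] (D₁ D₂ : Type u)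
    [CommRing D₁] [CommRing D₂] [IsDomain D₁] [IsDomain D₂] [Algebra k D₁] [Algebra k D₂] :
    IsDomain (D₁ ⊗[k] D₂) := by
  haveI := Groth.Agent.Lib.helper3.AlgClosedTensor.isDomain_tensor k (FractionRing D₁)
    (FractionRing D₂)
  let φ : D₁ ⊗[k] D₂ →ₐ[k] FractionRing D₁ ⊗[k] FractionRing D₂ :=
    Algebra.TensorProduct.map (IsScalarTower.toAlgHom k D₁ (FractionRing D₁))
      (IsScalarTower.toAlgHom k D₂ (FractionRing D₂))
  have hφ : Function.Injective φ := by
    have h := TensorProduct.map_injective_of_flat_flat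
      (IsScalarTower.toAlgHom k D₁ (FractionRing D₁)).toLinearMap
      (IsScalarTower.toAlgHom k D₂ (FractionRing D₂)).toLinearMap
      (IsFractionRing.injective D₁ (FractionRing D₁))
      (IsFractionRing.injective D₂ (FractionRing D₂))
    exact h
  exact hφ.isDomain φ.toRingHom

variable {k : Type u} [Field k] {A : Type u} [CommRing A] [Algebra k A] {ι : Type*}
  (b : Module.Basis ι k A)

section Def

variable {R : Type u} [CommRing R] [Algebra k R] (c : ι →₀ R) (N : Type u) [AddCommGroup N]
  [Module R N] [Module k N] [IsScalarTower k R N]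

/-- the endomorphism `∑ (c i • ·) ⊗ (b i * ·)` of `N ⊗[k] A`. -/
noncomputable def mulF : N ⊗[k] A →ₗ[k] N ⊗[k] A :=
  c.sum fun i r =>
    TensorProduct.map ((LinearMap.lsmul R N r).restrictScalars k) (LinearMap.mulLeft k (b i))

theorem mulF_tmul (n : N) (a : A) :
    mulF b c N (n ⊗ₜ[k] a) = c.sum fun i r => (r • n) ⊗ₜ[k] (b i * a) := by
  unfold mulF
  rw [LinearMap.finsupp_sum_apply]
  rfl

variable {N}

theorem mulF_comp_rTensor {N' : Type u} [AddCommGroup N'] [Module R N'] [Module k N']
    [IsScalarTower k R N'] (φ : N →ₗ[R] N') (x : N ⊗[k] A) :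
    mulF b c N' ((φ.restrictScalars k).rTensor A x) =
      (φ.restrictScalars k).rTensor A (mulF b c N x) := by
  induction x using TensorProduct.induction_on with
  | zero => simp
  | tmul n a =>
    rw [LinearMap.rTensor_tmul, mulF_tmul, mulF_tmul, map_finsuppSum]
    refine Finsupp.sum_congr fun i _ => ?_
    rw [LinearMap.rTensor_tmul]
    simp
  | add x y hx hy => simp only [map_add, hx, hy]

theorem mulF_injective_of_injective {N' : Type u} [AddCommGroup N'] [Module R N'] [Module k N']
    [IsScalarTower k R N'] (φ : N →ₗ[R] N') (hφ : Function.Injective φ)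
    (h : Function.Injective (mulF b c N')) : Function.Injective (mulF b c N) := by
  have hφA : Function.Injective ((φ.restrictScalars k).rTensor A) :=
    Module.Flat.rTensor_preserves_injective_linearMap (φ.restrictScalars k) hφ
  intro x y hxy
  apply hφA
  apply h
  rw [mulF_comp_rTensor, mulF_comp_rTensor, hxy]

theorem mulF_injective_of_exact {N₁ N₂ N₃ : Type u} [AddCommGroup N₁] [Module R N₁] [Module k N₁]
    [IsScalarTower k R N₁] [AddCommGroup N₂] [Module R N₂] [Module k N₂] [IsScalarTower k R N₂]
    [AddCommGroup N₃] [Module R N₃] [Module k N₃] [IsScalarTower k R N₃]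
    (f : N₁ →ₗ[R] N₂) (g : N₂ →ₗ[R] N₃) (hf : Function.Injective f) (hg : Function.Surjective g)
    (H : Function.Exact f g) (h₁ : Function.Injective (mulF b c N₁))
    (h₃ : Function.Injective (mulF b c N₃)) : Function.Injective (mulF b c N₂) := by
  have hfA : Function.Injective ((f.restrictScalars k).rTensor A) :=
    Module.Flat.rTensor_preserves_injective_linearMap (f.restrictScalars k) hf
  have HA : Function.Exact ((f.restrictScalars k).rTensor A) ((g.restrictScalars k).rTensor A) :=
    rTensor_exact A (f := f.restrictScalars k) (g := g.restrictScalars k) H hg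
  rw [injective_iff_map_eq_zero]
  intro x hx
  have h1 : (g.restrictScalars k).rTensor A x = 0 := by
    apply (injective_iff_map_eq_zero _).1 h₃
    rw [mulF_comp_rTensor, hx, map_zero]
  obtain ⟨y, rfl⟩ := (HA x).1 h1
  have h2 : mulF b c N₁ y = 0 := by
    apply (injective_iff_map_eq_zero _).1 hfA
    rw [← mulF_comp_rTensor, hx]
  rw [(injective_iff_map_eq_zero _).1 h₁ y h2, map_zero]

end Def

end Groth.Agent.Lib.helper11.ContentFlat
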