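import Groth.Agent.Lib.Helper11.ContentFlat2

/-!
# `mulF` is injective when the coefficients generate the unit ideal (Noetherian base) (helper11)

`k` algebraically closed, `A` a `k`-domain, `R` a Noetherian `k`-algebra, `c : ι →₀ R` such that
no prime of `R` contains all the `c i`. Then `mulF b c N` is injective for every `R`-module `N`
(dévissage).
-/

set_option autoImplicit false
universe u
open TensorProduct

namespace Groth.Agent.Lib.helper11.ContentFlat

variable {k : Type u} [Field k] {A : Type u} [CommRing A] [Algebra k A] {ι : Type*}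
  (b : Module.Basis ι k A)

section Base

variable {R : Type u} [CommRing R] [Algebra k R] (c : ι →₀ R)
  (D : Type u) [CommRing D] [Algebra k D] [Algebra R D] [IsScalarTower k R D]

theorem mulF_eq_mulLeft :
    mulF b c D = LinearMap.mulLeft k (c.sum fun i r => algebraMap R D r ⊗ₜ[k] b i) := by
  refine TensorProduct.ext' fun d a => ?_
  rw [mulF_tmul, LinearMap.mulLeft_apply, Finsupp.sum_mul]
  refine Finsupp.sum_congr fun i _ => ?_
  rw [Algebra.TensorProduct.tmul_mul_tmul, Algebra.smul_def]

omit [Algebra k R] [IsScalarTower k R D] in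
theorem sum_tmul_ne_zero (i₀ : ι) (h : algebraMap R D (c i₀) ≠ 0) :
    (c.sum fun i r => algebraMap R D r ⊗ₜ[k] b i) ≠ 0 := by
  classical
  intro h0
  apply h
  have h1 := congrArg (fun x => (Algebra.TensorProduct.basis D b).repr x i₀) h0
  simp only [map_zero, Finsupp.zero_apply] at h1
  rw [← h1, map_finsuppSum, Finsupp.sum_apply]
  have h2 : ∀ (i : ι) (r : R), ((Algebra.TensorProduct.basis D b).repr
      (algebraMap R D r ⊗ₜ[k] b i)) i₀ = if i = i₀ then algebraMap R D r else 0 := by
    intro i r
    rw [Algebra.TensorProduct.basis_repr_tmul, Module.Basis.repr_self, Finsupp.mapRange_single,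
      map_one, Finsupp.smul_apply, Finsupp.single_apply, smul_eq_mul]
    split_ifs <;> simp
  simp_rw [h2]
  rw [Finsupp.sum, Finset.sum_ite_eq']
  split_ifs with hi
  · rfl
  · rw [Finsupp.notMem_support_iff.mp hi, map_zero]

end Base

section Devissage

variable [IsAlgClosed k] [IsDomain A] {R : Type u} [CommRing R] [Algebra k R] (c : ι →₀ R)

theorem mulF_injective_quotient (𝔮 : Ideal R) [𝔮.IsPrime] (i₀ : ι) (h : c i₀ ∉ 𝔮) :
    Function.Injective (mulF b c (R ⧸ 𝔮)) := by
  rw [mulF_eq_mulLeft]
  haveI : IsDomain ((R ⧸ 𝔮) ⊗[k] A) := isDomain_tensor_of_isAlgClosed k _ _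
  refine mul_right_injective₀ (sum_tmul_ne_zero b c (R ⧸ 𝔮) i₀ ?_)
  rw [Ideal.Quotient.algebraMap_eq, Ne, Ideal.Quotient.eq_zero_iff_mem]
  exact h

omit [IsAlgClosed k] [IsDomain A] in
theorem isScalarTower_compHom (N : Type u) [AddCommGroup N] [Module R N] :
    letI := Module.compHom N (algebraMap k R)
    IsScalarTower k R N := by
  letI := Module.compHom N (algebraMap k R)
  refine ⟨fun a r n => ?_⟩
  show (a • r) • n = algebraMap k R a • (r • n)
  rw [Algebra.smul_def, mul_smul]

variable [IsNoetherianRing R] (hc : ∀ 𝔮 : Ideal R, 𝔮.IsPrime → ∃ i, c i ∉ 𝔮)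

include hc in
theorem mulF_injective_of_finite (N : Type u) [AddCommGroup N] [Module R N] [hfin : Module.Finite R N]
    [Module k N] [IsScalarTower k R N] : Function.Injective (mulF b c N) := by
  have key : ∀ (_ : Module k N) (_ : IsScalarTower k R N), Function.Injective (mulF b c N) := by
    refine IsNoetherianRing.induction_on_isQuotientEquivQuotientPrime R hfin
      (motive := fun N _ _ _ => ∀ (_ : Module k N) (_ : IsScalarTower k R N),
        Function.Injective (mulF b c N)) ?_ ?_ ?_
    · intro N _ _ _ _ _ _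
      exact Function.injective_of_subsingleton _
    · intro N _ _ _ p e _ _
      obtain ⟨i₀, hi₀⟩ := hc p.asIdeal p.2
      exact mulF_injective_of_injective b c e.toLinearMap e.injective
        (mulF_injective_quotient b c p.asIdeal i₀ hi₀)
    · intro N₁ _ _ _ N₂ _ _ _ N₃ _ _ _ f g hf hg H h₁ h₃ m₂ t₂
      letI : Module k N₁ := Module.compHom N₁ (algebraMap k R)
      haveI : IsScalarTower k R N₁ := isScalarTower_compHom N₁
      letI : Module k N₃ := Module.compHom N₃ (algebraMap k R)
      haveI : IsScalarTower k R N₃ := isScalarTower_compHom N₃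
      exact mulF_injective_of_exact b c f g hf hg H (h₁ _ _) (h₃ _ _)
  exact key _ _

omit [IsAlgClosed k] [IsDomain A] [IsNoetherianRing R] in
theorem exists_fg_submodule (N : Type u) [AddCommGroup N] [Module R N] [Module k N]
    [IsScalarTower k R N] (x : N ⊗[k] A) :
    ∃ N' : Submodule R N, N'.FG ∧
      x ∈ LinearMap.range ((N'.subtype.restrictScalars k).rTensor A) := by
  have mono : ∀ (N₁ N₂ : Submodule R N), N₁ ≤ N₂ →
      LinearMap.range ((N₁.subtype.restrictScalars k).rTensor A) ≤
        LinearMap.range ((N₂.subtype.restrictScalars k).rTensor A) := by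
    intro N₁ N₂ h
    rintro _ ⟨y, rfl⟩
    refine ⟨((Submodule.inclusion h).restrictScalars k).rTensor A y, ?_⟩
    rw [← LinearMap.comp_apply, ← LinearMap.rTensor_comp]
    rfl
  induction x using TensorProduct.induction_on with
  | zero => exact ⟨⊥, Submodule.fg_bot, zero_mem _⟩
  | tmul n a =>
    refine ⟨Submodule.span R {n}, Submodule.fg_span_singleton n,
      ⟨⟨n, Submodule.mem_span_singleton_self n⟩ ⊗ₜ[k] a, ?_⟩⟩
    rw [LinearMap.rTensor_tmul]
    rfl
  | add x y hx hy =>
    obtain ⟨N₁, h₁, hx⟩ := hx
    obtain ⟨N₂, h₂, hy⟩ := hy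
    exact ⟨N₁ ⊔ N₂, h₁.sup h₂, add_mem (mono _ _ le_sup_left hx) (mono _ _ le_sup_right hy)⟩

include hc in
/-- **Injectivity for all modules.** -/
theorem mulF_injective (N : Type u) [AddCommGroup N] [Module R N] [Module k N]
    [IsScalarTower k R N] : Function.Injective (mulF b c N) := by
  rw [injective_iff_map_eq_zero]
  intro x hx
  obtain ⟨N', hfg, x', rfl⟩ := exists_fg_submodule (R := R) (A := A) N x
  haveI : Module.Finite R ↥N' := Module.Finite.iff_fg.mpr hfg
  have hinj : Function.Injective ((N'.subtype.restrictScalars k).rTensor A) :=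
    Module.Flat.rTensor_preserves_injective_linearMap (N'.subtype.restrictScalars k)
      N'.injective_subtype
  have h1 : mulF b c ↥N' x' = 0 := by
    apply (injective_iff_map_eq_zero _).1 hinj
    rw [← mulF_comp_rTensor, hx]
  rw [(injective_iff_map_eq_zero _).1 (mulF_injective_of_finite b c hc ↥N') x' h1, map_zero]

end Devissage

end Groth.Agent.Lib.helper11.ContentFlat
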