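import Groth.Agent.Lib.Helper11.ContentFlat1
import Groth.Agent.Lib.Helper11.ContentFlat3

/-!
# An element of `R ⊗[k] A` with a unit coefficient is a non-zero-divisor with flat quotient (helper11)

`k` algebraically closed, `A` a `k`-domain with `k`-basis `b`, `R` any `k`-algebra, `f ∈ R ⊗[k] A`
one of whose coefficients with respect to `1 ⊗ b i` is `1`. Then `f` is a non-zero-divisor and
`(R ⊗[k] A) / (f)` is flat over `R`.
-/

set_option autoImplicit false
universe u
open TensorProduct

namespace Groth.Agent.Lib.helper11.ContentFlat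

variable {k : Type u} [Field k] {A : Type u} [CommRing A] [Algebra k A] {ι : Type u}
  (b : Module.Basis ι k A)

section ChangeOfRing

variable [IsAlgClosed k] [IsDomain A] {R₁ R' : Type u} [CommRing R₁] [CommRing R'] [Algebra k R₁]
  [Algebra k R'] [IsNoetherianRing R₁]

theorem mulF_injective_of_algHom (ψ : R₁ →ₐ[k] R') (c₁ : ι →₀ R₁)
    (hc : ∀ 𝔮 : Ideal R₁, 𝔮.IsPrime → ∃ i, c₁ i ∉ 𝔮) (N : Type u) [AddCommGroup N] [Module R' N]
    [Module k N] [IsScalarTower k R' N] :
    Function.Injective (mulF b (c₁.mapRange ψ (map_zero ψ)) N) := by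
  letI : Module R₁ N := Module.compHom N ψ.toRingHom
  haveI : IsScalarTower k R₁ N := ⟨fun a r n => by
    show ψ (a • r) • n = a • (ψ r • n)
    rw [map_smul, smul_assoc]⟩
  have h := mulF_injective b c₁ hc N
  have heq : mulF b (c₁.mapRange ψ (map_zero ψ)) N = mulF b c₁ N := by
    unfold mulF
    rw [Finsupp.sum_mapRange_index]
    · rfl
    · intro i
      have : (LinearMap.lsmul R' N (0 : R')).restrictScalars k = 0 := by
        ext n
        simp
      rw [this, TensorProduct.map_zero_left]
  rw [heq]
  exact h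

end ChangeOfRing

section Main

variable [IsAlgClosed k] [IsDomain A] {R' : Type u} [CommRing R'] [Algebra k R'] [Nontrivial R']

/-- for an element with a coefficient equal to `1`, `mulF` is injective on every module. -/
theorem mulF_injective_of_coeff_eq_one (c' : ι →₀ R') (i₀ : ι) (h₀ : c' i₀ = 1) (N : Type u)
    [AddCommGroup N] [Module R' N] [Module k N] [IsScalarTower k R' N] :
    Function.Injective (mulF b c' N) := by
  classical
  let σ := ↥c'.support
  let R₁ := MvPolynomial σ k
  have hi₀ : i₀ ∈ c'.support := by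
    rw [Finsupp.mem_support_iff, h₀]
    exact one_ne_zero
  let c₁ : ι →₀ R₁ := Finsupp.onFinset c'.support
    (fun i => if h : i ∈ c'.support then (if i = i₀ then 1 else MvPolynomial.X ⟨i, h⟩) else 0)
    (by
      intro i hi
      by_contra h
      simp [h] at hi)
  let ψ : R₁ →ₐ[k] R' := MvPolynomial.aeval (fun j : σ => c' j.1)
  have hmap : c₁.mapRange ψ (map_zero ψ) = c' := by
    ext i
    rw [Finsupp.mapRange_apply, Finsupp.onFinset_apply]
    by_cases h : i ∈ c'.support
    · rw [dif_pos h]
      by_cases hi : i = i₀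
      · rw [if_pos hi, map_one, hi, h₀]
      · rw [if_neg hi]
        exact MvPolynomial.aeval_X _ _
    · rw [dif_neg h, map_zero, Finsupp.notMem_support_iff.mp h]
  have hc : ∀ 𝔮 : Ideal R₁, 𝔮.IsPrime → ∃ i, c₁ i ∉ 𝔮 := by
    intro 𝔮 h𝔮
    refine ⟨i₀, ?_⟩
    rw [Finsupp.onFinset_apply, dif_pos hi₀, if_pos rfl]
    exact fun h1 => h𝔮.ne_top ((Ideal.eq_top_iff_one _).mpr h1)
  have := mulF_injective_of_algHom b ψ c₁ hc N
  rwa [hmap] at this

omit [IsAlgClosed k] [IsDomain A] [Nontrivial R'] in
theorem eq_sum_tmul (f : R' ⊗[k] A) :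
    f = ((Algebra.TensorProduct.basis R' b).repr f).sum fun i r => r ⊗ₜ[k] b i := by
  conv_lhs => rw [← (Algebra.TensorProduct.basis R' b).linearCombination_repr f]
  rw [Finsupp.linearCombination_apply]
  refine Finsupp.sum_congr fun i _ => ?_
  rw [Algebra.TensorProduct.basis_repr_symm_apply']

/-- **Main claim.** -/
theorem nzd_and_flat_of_coeff_eq_one (f : R' ⊗[k] A) (i₀ : ι)
    (h₀ : (Algebra.TensorProduct.basis R' b).repr f i₀ = 1) :
    f ∈ nonZeroDivisors (R' ⊗[k] A) ∧ Module.Flat R' ((R' ⊗[k] A) ⧸ Ideal.span {f}) := by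
  set c' := (Algebra.TensorProduct.basis R' b).repr f with hc'
  have hf : f = c'.sum fun i r => r ⊗ₜ[k] b i := eq_sum_tmul b f
  constructor
  · -- non-zero-divisor
    have h1 := mulF_injective_of_coeff_eq_one b c' i₀ h₀ R'
    rw [mulF_eq_mulLeft] at h1
    have h2 : (c'.sum fun i r => algebraMap R' R' r ⊗ₜ[k] b i) = f := by
      rw [hf]
      rfl
    rw [h2] at h1
    rw [mem_nonZeroDivisors_iff_left]
    intro x hx
    apply h1
    rw [LinearMap.mulLeft_apply, LinearMap.mulLeft_apply, hx, mul_zero]
  · -- flatness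
    let g : (R' ⊗[k] A) →ₗ[R'] (R' ⊗[k] A) := LinearMap.mulLeft R' f
    let π : (R' ⊗[k] A) →ₗ[R'] ((R' ⊗[k] A) ⧸ Ideal.span {f}) :=
      (Submodule.mkQ (Ideal.span {f})).restrictScalars R'
    have hπ : Function.Surjective π := Submodule.mkQ_surjective _
    have H : Function.Exact g π := by
      intro y
      show Submodule.mkQ (Ideal.span {f}) y = 0 ↔ y ∈ Set.range g
      rw [Submodule.mkQ_apply, Submodule.Quotient.mk_eq_zero, Ideal.mem_span_singleton']
      constructor
      · rintro ⟨a, rfl⟩
        exact ⟨a, mul_comm _ _⟩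
      · rintro ⟨a, rfl⟩
        exact ⟨a, mul_comm _ _⟩
    refine flat_of_exact_of_forall_lTensor_injective g π hπ H ?_
    intro N _ _
    letI : Module k N := Module.compHom N (algebraMap k R')
    haveI : IsScalarTower k R' N := isScalarTower_compHom N
    let θ : N ⊗[R'] (R' ⊗[k] A) ≃ₗ[R'] N ⊗[k] A :=
      TensorProduct.AlgebraTensorModule.cancelBaseChange k R' R' N A
    have hθ : ∀ x, θ (g.lTensor N x) = mulF b c' N (θ x) := by
      intro x
      induction x using TensorProduct.induction_on with
      | zero => simp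
      | add x y hx hy => simp only [map_add, hx, hy]
      | tmul n s =>
        induction s using TensorProduct.induction_on with
        | zero => simp
        | add s t hs ht =>
          rw [TensorProduct.tmul_add, map_add, map_add, hs, ht, map_add, map_add]
        | tmul r a =>
          rw [LinearMap.lTensor_tmul]
          have h3 : g (r ⊗ₜ[k] a) = c'.sum fun i ri => (ri * r) ⊗ₜ[k] (b i * a) := by
            show f * (r ⊗ₜ[k] a) = _
            rw [hf, Finsupp.sum_mul]
            refine Finsupp.sum_congr fun i _ => ?_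
            rw [Algebra.TensorProduct.tmul_mul_tmul]
          rw [h3, Finsupp.sum, TensorProduct.tmul_sum, map_sum]
          show _ = mulF b c' N ((r • n) ⊗ₜ[k] a)
          rw [mulF_tmul, Finsupp.sum]
          refine Finset.sum_congr rfl fun i _ => ?_
          show ((c' i * r) • n) ⊗ₜ[k] (b i * a) = _
          rw [mul_smul]
    intro x y hxy
    apply θ.injective
    apply mulF_injective_of_coeff_eq_one b c' i₀ h₀ N
    rw [← hθ, ← hθ, hxy]

end Main

end Groth.Agent.Lib.helper11.ContentFlat
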