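import Mathlib

/-!
# Functors preserving finite coproducts and filtered colimits preserve coproducts (helper11)

`preservesColimit_discrete_of_finite_of_filtered`: if `G : C ⥤ D` preserves finite coproducts and colimits indexed by
the directed poset `Finset (Discrete α)`, then `G` preserves the coproduct of every family `f : α → C`.
-/

set_option autoImplicit false
set_option backward.isDefEq.respectTransparency false
universe w v₁ v₂ u₁ u₂

open CategoryTheory CategoryTheory.Limits

namespace Groth.Agent.Lib.helper11.CoprodFilt

open CoproductsFromFiniteFiltered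

variable {C : Type u₁} [Category.{v₁} C] {D : Type u₂} [Category.{v₂} D]
  [HasFiniteCoproducts C] {α : Type w} [HasColimitsOfShape (Finset (Discrete α)) C]
  (G : C ⥤ D) [PreservesFiniteCoproducts G] [PreservesColimitsOfShape (Finset (Discrete α)) G]
  (f : α → C) [HasCoproduct f]

/-- the finite partial coproducts, as a family indexed by a finite set -/
abbrev part (S : Finset (Discrete α)) : {x // x ∈ S} → C := fun x => f x.1.as

/-- `G` of a finite partial coproduct is a coproduct -/
noncomputable def isColimitPart (S : Finset (Discrete α)) :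
    IsColimit (Cofan.mk (G.obj (∐ part f S)) (fun x => G.map (Sigma.ι (part f S) x))) :=
  isColimitOfHasCoproductOfPreservesColimit G (part f S)

/-- the induced map out of `G` of a partial coproduct -/
noncomputable def tS (s : Cocone (Discrete.functor f ⋙ G)) (S : Finset (Discrete α)) :
    G.obj (∐ part f S) ⟶ s.pt :=
  (isColimitPart G f S).desc (Cofan.mk s.pt (fun x : {x // x ∈ S} => s.ι.app x.1))

theorem ι_tS (s : Cocone (Discrete.functor f ⋙ G)) (S : Finset (Discrete α)) (x : {x // x ∈ S}) :
    G.map (Sigma.ι (part f S) x) ≫ tS G f s S = s.ι.app x.1 :=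
  (isColimitPart G f S).fac (Cofan.mk s.pt (fun x : {x // x ∈ S} => s.ι.app x.1)) ⟨x⟩

theorem part_hom_ext {S : Finset (Discrete α)} {Z : D} (a b : G.obj (∐ part f S) ⟶ Z)
    (h : ∀ x : {x // x ∈ S}, G.map (Sigma.ι (part f S) x) ≫ a = G.map (Sigma.ι (part f S) x) ≫ b) :
    a = b :=
  (isColimitPart G f S).hom_ext (fun ⟨x⟩ => h x)

/-- the cocone over the diagram of `G` of the partial coproducts induced by a cocone over `G ∘ f` -/
noncomputable def coconeT (s : Cocone (Discrete.functor f ⋙ G)) :
    Cocone (liftToFinsetObj (Discrete.functor f) ⋙ G) where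
  pt := s.pt
  ι :=
    { app := fun S => tS G f s S
      naturality := fun S S' h => by
        refine part_hom_ext G f _ _ (fun x => ?_)
        simp only [Functor.comp_obj, Functor.comp_map, Functor.const_obj_obj, Functor.const_obj_map,
          Category.comp_id]
        rw [ι_tS, ← Category.assoc, ← G.map_comp]
        have h1 : Sigma.ι (part f S) x ≫ (liftToFinsetObj (Discrete.functor f)).map h =
            Sigma.ι (part f S') ⟨x.1, h.down.down x.2⟩ := by
          simp [liftToFinsetObj]
        rw [h1, ι_tS] }

/-- **`G` preserves the coproduct of `f`** -/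
theorem preservesColimit_discrete_of_finite_of_filtered :
    PreservesColimit (Discrete.functor f) G := by
  classical
  let c := finiteSubcoproductsCocone f
  have hc : IsColimit c := isColimitFiniteSubproductsCocone f
  have hGc : IsColimit (G.mapCocone c) := isColimitOfPreserves G hc
  have hleg : ∀ (S : Finset (Discrete α)) (x : {x // x ∈ S}),
      Sigma.ι (part f S) x ≫ c.ι.app S = Sigma.ι f x.1.as := fun S x => by
    simp [c, finiteSubcoproductsCocone]
  refine preservesColimit_of_preserves_colimit_cocone (colimit.isColimit (Discrete.functor f)) ?_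
  refine
    { desc := fun s => hGc.desc (coconeT G f s)
      fac := fun s j => ?_
      uniq := fun s m hm => ?_ }
  · have hj : j ∈ ({j} : Finset (Discrete α)) := Finset.mem_singleton_self j
    have h1 : G.map (Sigma.ι (part f {j}) ⟨j, hj⟩) ≫ (G.mapCocone c).ι.app {j} =
        (G.mapCocone (colimit.cocone (Discrete.functor f))).ι.app j := by
      change G.map _ ≫ G.map _ = G.map _
      rw [← G.map_comp, hleg]
      rfl
    rw [← h1, Category.assoc, hGc.fac]
    exact ι_tS G f s {j} ⟨j, hj⟩
  · refine hGc.hom_ext (fun S => ?_)
    rw [hGc.fac]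
    refine part_hom_ext G f _ _ (fun x => ?_)
    change _ = G.map _ ≫ tS G f s S
    rw [ι_tS, ← hm x.1]
    change G.map _ ≫ G.map _ ≫ m = G.map _ ≫ m
    rw [← Category.assoc, ← G.map_comp, hleg]
    rfl

end Groth.Agent.Lib.helper11.CoprodFilt
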