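import Mathlib
import Groth.Agent.Lib.Helper11.ClosedPush

/-!
# Pushforward of sheaves of sets along an inducing map is fully faithful (helper11)
-/

set_option autoImplicit false
universe u
open CategoryTheory TopologicalSpace Opposite

namespace Groth.Agent.Lib.helper11.EmbPush

open Groth.Agent.Lib.helper11.ClosedPush

variable {Z X : TopCat.{u}} (i : Z ⟶ X) (hi : Topology.IsInducing i)

/-- the largest open of `X` with trace contained in `V` -/
def UV (V : Opens Z) : Opens X := sSup {U : Opens X | (Opens.map i).obj U ≤ V}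

include hi in
lemma map_UV (V : Opens Z) : (Opens.map i).obj (UV i V) = V := by
  apply le_antisymm
  · intro z hz
    have hz' : i z ∈ UV i V := hz
    obtain ⟨U, hU, hzU⟩ := Opens.mem_sSup.mp hz'
    exact hU hzU
  · obtain ⟨t, ht, hVt⟩ := hi.isOpen_iff.mp V.isOpen
    intro z hz
    have h1 : (⟨t, ht⟩ : Opens X) ∈ {U : Opens X | (Opens.map i).obj U ≤ V} := by
      intro z' hz'
      have : z' ∈ i ⁻¹' t := hz'
      rw [hVt] at this
      exact this
    have h2 : i z ∈ (⟨t, ht⟩ : Opens X) := by
      have : z ∈ i ⁻¹' t := by rw [hVt]; exact hz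
      exact this
    exact Opens.mem_sSup.mpr ⟨_, h1, h2⟩

lemma UV_mono {V V' : Opens Z} (h : V' ≤ V) : UV i V' ≤ UV i V :=
  sSup_le_sSup (fun _ hU => le_trans hU h)

lemma le_UV_map (U : Opens X) : U ≤ UV i ((Opens.map i).obj U) :=
  le_sSup (le_refl ((Opens.map i).obj U))

section FullFaithful

variable {F G : Z.Sheaf (Type u)}

/-- the component over `V` of the preimage of `ψ` -/
def preApp (ψ : (TopCat.Sheaf.pushforward (Type u) i).obj F ⟶ (TopCat.Sheaf.pushforward (Type u) i).obj G)
    (V : Opens Z) (s : F.presheaf.obj (op V)) : G.presheaf.obj (op V) :=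
  G.presheaf.map (eqToHom (map_UV i hi V).symm).op
    (ψ.hom.app (op (UV i V)) (F.presheaf.map (eqToHom (map_UV i hi V)).op s))

/-- the preimage of `ψ` under `i_*` -/
def pre (ψ : (TopCat.Sheaf.pushforward (Type u) i).obj F ⟶ (TopCat.Sheaf.pushforward (Type u) i).obj G) :
    F ⟶ G :=
  ⟨{ app := fun V => TypeCat.ofHom (preApp i hi ψ V.unop)
     naturality := by
      intro V V' f
      ext s
      obtain ⟨V⟩ := V
      obtain ⟨V'⟩ := V'
      have hle : V' ≤ V := f.unop.le
      have hf : f = (homOfLE hle).op := Subsingleton.elim _ _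
      subst hf
      change preApp i hi ψ V' (F.presheaf.map (homOfLE hle).op s) =
        G.presheaf.map (homOfLE hle).op (preApp i hi ψ V s)
      unfold preApp
      have h1 : F.presheaf.map (eqToHom (map_UV i hi V')).op (F.presheaf.map (homOfLE hle).op s) =
          F.presheaf.map ((Opens.map i).map (homOfLE (UV_mono i hle))).op
            (F.presheaf.map (eqToHom (map_UV i hi V)).op s) := map_map_eq _ _ _ _ _ _
      rw [h1, ψ_res]
      exact map_map_eq _ _ _ _ _ _ }⟩

lemma map_pre (ψ : (TopCat.Sheaf.pushforward (Type u) i).obj F ⟶ (TopCat.Sheaf.pushforward (Type u) i).obj G) :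
    (TopCat.Sheaf.pushforward (Type u) i).map (pre i hi ψ) = ψ := by
  apply Sheaf.hom_ext
  ext ⟨U⟩ s
  change preApp i hi ψ ((Opens.map i).obj U) s = ψ.hom.app (op U) s
  unfold preApp
  have h2 : ψ.hom.app (op U) s = ψ.hom.app (op U)
      (F.presheaf.map ((Opens.map i).map (homOfLE (le_UV_map i U))).op
        (F.presheaf.map (eqToHom (map_UV i hi ((Opens.map i).obj U))).op s)) := by
    rw [map_map_eq' _ _ _ (𝟙 _), map_id']
  rw [h2, ψ_res]
  exact map_congr' _ _ _ _

lemma pre_map (φ : F ⟶ G) : pre i hi ((TopCat.Sheaf.pushforward (Type u) i).map φ) = φ := by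
  apply Sheaf.hom_ext
  ext ⟨V⟩ s
  change preApp i hi _ V s = φ.hom.app (op V) s
  unfold preApp
  change G.presheaf.map _ (φ.hom.app (op ((Opens.map i).obj (UV i V))) (F.presheaf.map _ s)) = _
  have h := NatTrans.naturality_apply φ.hom (eqToHom (map_UV i hi V)).op s
  rw [h]
  exact (map_map_eq' _ _ _ (𝟙 _) _).trans (map_id' _ _ _)

end FullFaithful

include hi in
theorem full : (TopCat.Sheaf.pushforward (Type u) i).Full :=
  ⟨fun ψ => ⟨pre i hi ψ, map_pre i hi ψ⟩⟩

include hi in
theorem faithful : (TopCat.Sheaf.pushforward (Type u) i).Faithful :=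
  ⟨fun {F G φ φ'} h => by rw [← pre_map i hi φ, ← pre_map i hi φ', h]⟩

end Groth.Agent.Lib.helper11.EmbPush
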