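import Mathlib

set_option autoImplicit false
universe v u v' u'
open CategoryTheory CategoryTheory.Limits Opposite

namespace Groth.Agent.Lib.helper11.EpiLocSurj

variable {C : Type u'} [Category.{v'} C] {J : GrothendieckTopology C} {R : Sheaf J RingCat.{u}}
  [HasSheafify J AddCommGrpCat.{v}] [J.WEqualsLocallyBijective AddCommGrpCat.{v}]

/-- sectionwise exactness of `f, cokernel.π f` for presheaves of modules -/
theorem exact_cokernel {R₀ : Cᵒᵖ ⥤ RingCat.{u}} {A B : PresheafOfModules.{v} R₀} (f : A ⟶ B)
    (X : Cᵒᵖ) (y : B.obj X) (hy : ((cokernel.π f).app X).hom y = 0) :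
    ∃ x : A.obj X, (f.app X).hom x = y := by
  let S : ShortComplex (PresheafOfModules.{v} R₀) := ShortComplex.mk f (cokernel.π f) (cokernel.condition f)
  have hS : S.Exact := S.exact_of_g_is_cokernel (cokernelIsCokernel f)
  have hS' : (S.map (PresheafOfModules.evaluation R₀ X)).Exact := hS.map _
  rw [ShortComplex.moduleCat_exact_iff] at hS'
  exact hS' y hy

/-- An epimorphism of sheaves of modules is locally surjective. -/
theorem locally_surjective_of_epi {F G : SheafOfModules.{v} R} (p : F ⟶ G) [Epi p]
    (X : C) (y : G.val.obj (op X)) :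
    ∃ S : Sieve X, S ∈ J X ∧ ∀ ⦃Y : C⦄ (f : Y ⟶ X), S f →
      ∃ x : F.val.obj (op Y), (p.val.app (op Y)).hom x = (G.val.map f.op).hom y := by
  let adj := PresheafOfModules.sheafificationAdjunction.{v} (𝟙 R.obj)
  let U := SheafOfModules.forget.{v} R ⋙ PresheafOfModules.restrictScalars (𝟙 R.obj)
  let a := PresheafOfModules.sheafification.{v} (𝟙 R.obj)
  let p' := U.map p
  let Q := cokernel p'
  let q : U.obj G ⟶ Q := cokernel.π p'
  have hepi : Epi (a.map p') := by
    have h1 : a.map p' ≫ adj.counit.app G = adj.counit.app F ≫ p := adj.counit.naturality p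
    have h2 : Epi (a.map p' ≫ adj.counit.app G) := by rw [h1]; infer_instance
    have h3 : a.map p' = (a.map p' ≫ adj.counit.app G) ≫ inv (adj.counit.app G) := by simp
    rw [h3]; infer_instance
  have hq0 : a.map q = 0 := by
    rw [← cancel_epi (a.map p'), ← a.map_comp, cokernel.condition]
    simp
  have hq1 : q ≫ adj.unit.app Q = 0 := by
    have := adj.unit.naturality q
    simp only [Functor.id_map] at this
    rw [this]
    show _ ≫ U.map (a.map q) = 0
    rw [hq0]; simp
  have hli : Presheaf.IsLocallyInjective J ((PresheafOfModules.toPresheaf _).map (adj.unit.app Q)) := by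
    rw [PresheafOfModules.toPresheaf_map_sheafificationAdjunction_unit_app]
    exact (J.W_toSheafify Q.presheaf).isLocallyInjective
  have hy0 : ((adj.unit.app Q).app (op X)).hom ((q.app (op X)).hom y) = 0 := by
    have := congr($(hq1).app (op X))
    exact congr($(this).hom y)
  have hmem := Presheaf.equalizerSieve_mem J ((PresheafOfModules.toPresheaf _).map (adj.unit.app Q))
    (X := op X) ((q.app (op X)).hom y) 0 (hy0.trans (map_zero _).symm)
  refine ⟨_, hmem, fun Y f hf => ?_⟩
  have hf' : (Q.map f.op).hom ((q.app (op X)).hom y) = (Q.map f.op).hom 0 := hf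
  rw [map_zero] at hf'
  have hnat := PresheafOfModules.naturality_apply q f.op y
  obtain ⟨x, hx⟩ := exact_cokernel p' (op Y) (((U.obj G).map f.op).hom y) (hnat.symm ▸ hf')
  exact ⟨x, hx⟩

end Groth.Agent.Lib.helper11.EpiLocSurj
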