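import Mathlib
import Groth.Agent.S5820
import Groth.Agent.S5833
import Groth.Agent.S5818

/-!
# Characteristic homomorphism of the extension attached to a derivation (helper11)
-/

set_option autoImplicit false
set_option linter.unusedSectionVars false
universe u v

namespace Groth.Agent.Lib.helper11.ExalChar

open TensorProduct Exal

attribute [local instance] Exal.opModule Exal.isCentralScalar_opModule

section concrete
variable {A : Type u} {B C L : Type v} [CommRing A] [CommRing B] [CommRing C]
    [Algebra A B] [Algebra B C] [Algebra A C] [IsScalarTower A B C]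
    [AddCommGroup L] [Module C L] [Module B L] [IsScalarTower B C L] [Module A L] [IsScalarTower A B L]
    [IsScalarTower A C L]
    (D : Derivation A B L)

/-- the `C`-linear map `C ⊗_B Ω_{B/A} → L` induced by `D`. -/
noncomputable def Dtilde : C ⊗[B] Ω[B⁄A] →ₗ[C] L := (D.liftKaehlerDifferential).liftBaseChange C

theorem Dtilde_tmul_D (c : C) (b : B) :
    Dtilde (C := C) D (c ⊗ₜ[B] KaehlerDifferential.D A B b) = c • D b := by
  rw [Dtilde, LinearMap.liftBaseChange_tmul, Derivation.liftKaehlerDifferential_comp_D]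

set_option quotPrecheck false in
local notation "XD" => Exal.Ext.ofDerivation (C := C) D
set_option quotPrecheck false in
local notation "EE" => Exal.Ext.CharCarrier A (Exal.Ext.ofDerivation (C := C) D)

/-- `inl` as an element of the char carrier -/
def inlE (c : C) : EE := (TrivSqZeroExt.inl c : TrivSqZeroExt C L)

/-- `inr` as an element of the char carrier -/
def inrE (l : L) : EE := (TrivSqZeroExt.inr l : TrivSqZeroExt C L)

theorem algebraMap_B_EE (b : B) : algebraMap B EE b = inlE D (algebraMap B C b) + inrE D (D b) := rfl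

theorem algebraMap_EE_C (e : EE) : algebraMap EE C e = TrivSqZeroExt.fst (R := C) (M := L) e := rfl

theorem inclC_eq (l : L) : (XD).inclC A l = inrE D l := rfl

/-- the `A`-algebra section `c ↦ (c, 0)` of the extension attached to `D`. -/
noncomputable def sec : C →ₐ[A] EE where
  toFun c := inlE D c
  map_one' := rfl
  map_mul' x y := TrivSqZeroExt.inl_mul L x y
  map_zero' := TrivSqZeroExt.inl_zero L
  map_add' x y := TrivSqZeroExt.inl_add L x y
  commutes' a := by
    change (TrivSqZeroExt.inl (algebraMap A C a) : TrivSqZeroExt C L) =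
      TrivSqZeroExt.inl (algebraMap B C (algebraMap A B a)) + TrivSqZeroExt.inr (D (algebraMap A B a))
    rw [D.map_algebraMap, ← IsScalarTower.algebraMap_apply, TrivSqZeroExt.inr_zero, add_zero]

theorem sec_apply (c : C) : sec D c = inlE D c := rfl

theorem hsec : (IsScalarTower.toAlgHom A EE C).comp (sec D) = AlgHom.id A C := by
  ext c
  rfl

theorem inlE_mul_inrE (c : C) (l : L) : inlE D c * inrE D l = inrE D (c • l) := by
  exact TrivSqZeroExt.inl_mul_inr (R := C) (M := L) c l

/-- the retraction applied to the base-change map computes `Dtilde`. -/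
theorem retraction_baseChangeToMiddle (w : C ⊗[B] Ω[B⁄A]) :
    ((retractionOfSectionOfKerSqZero (sec D)
      (Groth.Agent.S5820.ker_sq (A := A) XD) (hsec D) ((XD).baseChangeToMiddle A w) :
        RingHom.ker (algebraMap EE C)) : EE) = inrE D (Dtilde (C := C) D w) := by
  induction w using Groth.Agent.S5833.tmul_D_induction with
  | zero =>
    rw [map_zero, map_zero, map_zero]
    exact (TrivSqZeroExt.inr_zero C).symm
  | add x y hx hy =>
    rw [map_add, map_add, map_add, Submodule.coe_add, hx, hy]
    exact (TrivSqZeroExt.inr_add C _ _).symm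
  | tmul_D c b =>
    have key : algebraMap EE C (algebraMap B EE b) = algebraMap B C b :=
      (IsScalarTower.algebraMap_apply B EE C b).symm
    rw [Groth.Agent.S5820.baseChangeToMiddle_tmul, KaehlerDifferential.map_D,
      retractionOfSectionOfKerSqZero_tmul_D, Dtilde_tmul_D, ← mul_sub, key,
      sec_apply, sec_apply, algebraMap_B_EE, add_sub_cancel_left, inlE_mul_inrE]

/-- A characteristic homomorphism of the extension attached to `D` is the restriction of `Dtilde`. -/
theorem charHom_eq_Dtilde (χ : ↥(EGA41.imperfection A B C) →ₗ[C] L) (hχ : (XD).IsCharHom A χ)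
    (z : ↥(EGA41.imperfection A B C)) : χ z = Dtilde (C := C) D z.1 := by
  have h1 := retraction_baseChangeToMiddle D z.1
  rw [← hχ z, Groth.Agent.S5820.deltaL_eq] at h1
  have h2 := LinearMap.congr_fun (retractionOfSectionOfKerSqZero_comp_kerToTensor
    (sec D) (Groth.Agent.S5820.ker_sq (A := A) XD) (hsec D))
    ⟨(XD).inclC A (χ z), Groth.Agent.S5820.incl_mem_ker XD (χ z)⟩
  rw [LinearMap.comp_apply, LinearMap.id_apply] at h2
  rw [h2] at h1
  exact TrivSqZeroExt.inr_injective h1

/-- the shear map on `C ⊕ L` attached to a derivation `δ : C → L`. -/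
def shear (δ : Derivation A C L) (x : TrivSqZeroExt C L) : TrivSqZeroExt C L :=
  x + TrivSqZeroExt.inr (δ (TrivSqZeroExt.fst x))

theorem fst_shear (δ : Derivation A C L) (x : TrivSqZeroExt C L) :
    TrivSqZeroExt.fst (shear δ x) = TrivSqZeroExt.fst x := by
  simp [shear]

theorem snd_shear (δ : Derivation A C L) (x : TrivSqZeroExt C L) :
    TrivSqZeroExt.snd (shear δ x) = TrivSqZeroExt.snd x + δ (TrivSqZeroExt.fst x) := by
  simp [shear]

theorem shear_mul (δ : Derivation A C L) (x y : TrivSqZeroExt C L) :
    shear δ (x * y) = shear δ x * shear δ y := by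
  apply TrivSqZeroExt.ext
  · simp [fst_shear]
  · simp only [snd_shear, fst_shear, TrivSqZeroExt.snd_mul, TrivSqZeroExt.fst_mul, Derivation.leibniz,
      op_smul_eq_smul, smul_add]
    abel

theorem shear_add (δ : Derivation A C L) (x y : TrivSqZeroExt C L) :
    shear δ (x + y) = shear δ x + shear δ y := by
  apply TrivSqZeroExt.ext
  · simp [fst_shear]
  · simp only [snd_shear, TrivSqZeroExt.snd_add, TrivSqZeroExt.fst_add, map_add]
    abel

theorem shear_neg_shear (δ : Derivation A C L) (x : TrivSqZeroExt C L) :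
    shear (-δ) (shear δ x) = x := by
  apply TrivSqZeroExt.ext
  · simp [fst_shear]
  · simp [snd_shear, fst_shear]

theorem shear_algebraMap (D₁ D₂ : Derivation A B L) (δ : Derivation A C L)
    (hδ : ∀ b, δ (algebraMap B C b) = D₂ b - D₁ b) (b : B) :
    shear δ (algebraMap B (Exal.Ext.ofDerivation (C := C) D₁).E b) =
      algebraMap B (Exal.Ext.ofDerivation (C := C) D₂).E b := by
  change shear δ (TrivSqZeroExt.inl (algebraMap B C b) + TrivSqZeroExt.inr (D₁ b)) =
    TrivSqZeroExt.inl (algebraMap B C b) + TrivSqZeroExt.inr (D₂ b)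
  apply TrivSqZeroExt.ext
  · simp [fst_shear]
  · simp [snd_shear, hδ]

/-- the shear as an algebra equivalence. -/
noncomputable def shearEquiv (D₁ D₂ : Derivation A B L) (δ : Derivation A C L)
    (hδ : ∀ b, δ (algebraMap B C b) = D₂ b - D₁ b) :
    (Exal.Ext.ofDerivation (C := C) D₁).E ≃ₐ[B] (Exal.Ext.ofDerivation (C := C) D₂).E where
  toFun x := shear δ x
  invFun x := shear (-δ) x
  left_inv x := shear_neg_shear δ x
  right_inv x := by
    have := shear_neg_shear (-δ) x
    rwa [neg_neg] at this
  map_mul' x y := shear_mul δ x y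
  map_add' x y := shear_add δ x y
  commutes' b := shear_algebraMap D₁ D₂ δ hδ b

/-- Two derivations differing by the restriction of a derivation of `C` give equivalent extensions. -/
theorem equiv_ofDerivation (D₁ D₂ : Derivation A B L) (δ : Derivation A C L)
    (hδ : ∀ b, δ (algebraMap B C b) = D₂ b - D₁ b) :
    Nonempty ((Exal.Ext.ofDerivation (C := C) D₁).Equiv (Exal.Ext.ofDerivation (C := C) D₂)) := by
  refine ⟨⟨shearEquiv D₁ D₂ δ hδ, fun x => fst_shear δ x, fun z => ?_⟩⟩
  change shear δ (TrivSqZeroExt.inr z) = TrivSqZeroExt.inr z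
  apply TrivSqZeroExt.ext
  · simp [fst_shear]
  · simp [snd_shear]

end concrete

section transport
variable {A : Type u} {B C L : Type v} [CommRing A] [CommRing B] [CommRing C]
    [Algebra A B] [Algebra B C] [Algebra A C] [IsScalarTower A B C]
    [AddCommGroup L] [Module C L]

/-- Characteristic homomorphisms are invariant under equivalence of extensions. -/
theorem isCharHom_of_equiv {X Y : Exal.Ext B C L} (e : X.Equiv Y)
    (χ : ↥(EGA41.imperfection A B C) →ₗ[C] L) (h : X.IsCharHom A χ) : Y.IsCharHom A χ := by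
  let alg : Algebra (X.CharCarrier A) (Y.CharCarrier A) :=
    (e.toAlgEquiv.toAlgHom.toRingHom : X.E →+* Y.E).toAlgebra
  have halg : ∀ x : X.CharCarrier A, algebraMap (X.CharCarrier A) (Y.CharCarrier A) x =
      e.toAlgEquiv x := fun _ => rfl
  have st1 : IsScalarTower A (X.CharCarrier A) (Y.CharCarrier A) :=
    IsScalarTower.of_algebraMap_eq (fun a => by
      rw [halg]
      change algebraMap B Y.E (algebraMap A B a) = e.toAlgEquiv (algebraMap B X.E (algebraMap A B a))
      rw [AlgEquiv.commutes])
  have st2 : IsScalarTower (X.CharCarrier A) (Y.CharCarrier A) C :=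
    IsScalarTower.of_algebraMap_eq (fun x => by
      rw [halg]
      exact (e.proj_apply x).symm)
  let τ := Groth.Agent.S5833.iota (Λ := A) (B := X.CharCarrier A) (P := Y.CharCarrier A) (C := C)
  have hτ : ∀ (c : C) (x : X.CharCarrier A),
      τ (c ⊗ₜ[X.CharCarrier A] KaehlerDifferential.D A (X.CharCarrier A) x) =
        c ⊗ₜ[Y.CharCarrier A] KaehlerDifferential.D A (Y.CharCarrier A) (e.toAlgEquiv x) :=
    fun c x => Groth.Agent.S5833.iota_tmul_D (Λ := A) (P := Y.CharCarrier A) c x
  have h1 : ∀ l : L, τ (X.deltaL A l) = Y.deltaL A l := by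
    intro l
    change τ ((1 : C) ⊗ₜ[X.CharCarrier A] KaehlerDifferential.D A (X.CharCarrier A) (X.inclC A l)) = _
    rw [hτ]
    change _ = (1 : C) ⊗ₜ[Y.CharCarrier A] KaehlerDifferential.D A (Y.CharCarrier A) (Y.inclC A l)
    congr 2
    exact e.apply_incl l
  have h2 : ∀ w : C ⊗[B] Ω[B⁄A], τ (X.baseChangeToMiddle A w) = Y.baseChangeToMiddle A w := by
    intro w
    induction w using Groth.Agent.S5833.tmul_D_induction with
    | zero => rw [map_zero, map_zero, map_zero]
    | add x y hx hy => rw [map_add, map_add, map_add, hx, hy]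
    | tmul_D c b =>
      rw [Groth.Agent.S5820.baseChangeToMiddle_tmul, Groth.Agent.S5820.baseChangeToMiddle_tmul,
        KaehlerDifferential.map_D, KaehlerDifferential.map_D, hτ]
      congr 2
      exact e.toAlgEquiv.commutes b
  intro z
  rw [← h1, h z, h2]

end transport

section linalg
variable {R : Type u} {M N L : Type v} [CommRing R] [AddCommGroup M] [AddCommGroup N] [AddCommGroup L]
  [Module R M] [Module R N] [Module R L]

/-- Factor a map killing `ker m` through `m`, extending to all of the target when `L` is injective or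
the range of `m` has a linear projection. -/
theorem exists_factor_through (m : M →ₗ[R] N) (ψ₀ : M →ₗ[R] L) (hker : ∀ w, m w = 0 → ψ₀ w = 0)
    (h : Module.Injective R L ∨
      ∃ π : N →ₗ[R] N, (∀ n, π n ∈ LinearMap.range m) ∧ ∀ w, π (m w) = m w) :
    ∃ θ : N →ₗ[R] L, ∀ w, θ (m w) = ψ₀ w := by
  have hker' : LinearMap.ker m ≤ LinearMap.ker ψ₀ := fun w hw => hker w hw
  rcases h with hinj | ⟨π, hπ1, hπ2⟩
  · let f : (M ⧸ LinearMap.ker m) →ₗ[R] N := (LinearMap.ker m).liftQ m le_rfl
    have hf : Function.Injective f := by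
      rw [← LinearMap.ker_eq_bot]
      exact Submodule.ker_liftQ_eq_bot _ _ _ le_rfl
    obtain ⟨θ, hθ⟩ := hinj.out f hf ((LinearMap.ker m).liftQ ψ₀ hker')
    refine ⟨θ, fun w => ?_⟩
    have := hθ ((LinearMap.ker m).mkQ w)
    simpa [f] using this
  · let ψbar : LinearMap.range m →ₗ[R] L :=
      ((LinearMap.ker m).liftQ ψ₀ hker') ∘ₗ m.quotKerEquivRange.symm.toLinearMap
    have hψbar : ∀ w (hw : m w ∈ LinearMap.range m), ψbar ⟨m w, hw⟩ = ψ₀ w := by
      intro w hw
      change ((LinearMap.ker m).liftQ ψ₀ hker') (m.quotKerEquivRange.symm ⟨m w, hw⟩) = ψ₀ w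
      rw [LinearMap.quotKerEquivRange_symm_apply_image]
      rfl
    refine ⟨ψbar ∘ₗ π.codRestrict (LinearMap.range m) hπ1, fun w => ?_⟩
    rw [LinearMap.comp_apply]
    have : π.codRestrict (LinearMap.range m) hπ1 (m w) = ⟨m w, LinearMap.mem_range_self m w⟩ :=
      Subtype.ext (hπ2 w)
    rw [this, hψbar]

/-- Extend a map from a submodule when `L` is injective or the submodule has a retraction. -/
theorem exists_extension (U : Submodule R M) (χ : U →ₗ[R] L)
    (h : Module.Injective R L ∨ ∃ r : M →ₗ[R] U, ∀ z : U, r z = z) :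
    ∃ φ : M →ₗ[R] L, ∀ z : U, φ z = χ z := by
  rcases h with hinj | ⟨r, hr⟩
  · exact hinj.out U.subtype U.injective_subtype χ
  · exact ⟨χ ∘ₗ r, fun z => by rw [LinearMap.comp_apply, hr]⟩

end linalg

section concrete2
variable {A : Type u} {B C L : Type v} [CommRing A] [CommRing B] [CommRing C]
    [Algebra A B] [Algebra B C] [Algebra A C] [IsScalarTower A B C]
    [AddCommGroup L] [Module C L] [Module B L] [IsScalarTower B C L] [Module A L] [IsScalarTower A B L]
    [IsScalarTower A C L]

/-- If `Dtilde D₁` and `Dtilde D₂` agree on the imperfection module, the difference `D₂ - D₁` is the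
restriction of an `A`-derivation of `C` (under hypothesis (i) or the second half of (ii)). -/
theorem exists_derivation_diff (D₁ D₂ : Derivation A B L)
    (hD : ∀ z : ↥(EGA41.imperfection A B C), Dtilde (C := C) D₁ z.1 = Dtilde (C := C) D₂ z.1)
    (h : Module.Injective C L ∨
      ∃ s : Ω[C⁄B] →ₗ[C] Ω[C⁄A], ∀ ω : Ω[C⁄B], KaehlerDifferential.map A B C C (s ω) = ω) :
    ∃ δ : Derivation A C L, ∀ b, δ (algebraMap B C b) = D₂ b - D₁ b := by
  have hex := KaehlerDifferential.exact_mapBaseChange_map A B C
  have h' : Module.Injective C L ∨ ∃ π : Ω[C⁄A] →ₗ[C] Ω[C⁄A],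
      (∀ n, π n ∈ LinearMap.range (KaehlerDifferential.mapBaseChange A B C)) ∧
        ∀ w, π (KaehlerDifferential.mapBaseChange A B C w) =
          KaehlerDifferential.mapBaseChange A B C w := by
    rcases h with hi | ⟨s, hs⟩
    · exact Or.inl hi
    · refine Or.inr ⟨LinearMap.id - s ∘ₗ (KaehlerDifferential.map A B C C), fun n => ?_, fun w => ?_⟩
      · rw [KaehlerDifferential.range_mapBaseChange, LinearMap.mem_ker,
          LinearMap.sub_apply, map_sub, LinearMap.id_apply, LinearMap.comp_apply, hs, sub_self]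
      · have h0 : KaehlerDifferential.map A B C C (KaehlerDifferential.mapBaseChange A B C w) = 0 :=
          hex.apply_apply_eq_zero w
        rw [LinearMap.sub_apply, LinearMap.id_apply, LinearMap.comp_apply, h0, map_zero, sub_zero]
  obtain ⟨θ, hθ⟩ := exists_factor_through (KaehlerDifferential.mapBaseChange A B C)
    (Dtilde (C := C) D₂ - Dtilde (C := C) D₁) (fun w hw => by
      have := hD ⟨w, hw⟩
      rw [LinearMap.sub_apply, ← this, sub_self]) h'
  refine ⟨θ.compDer (KaehlerDifferential.D A C), fun b => ?_⟩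
  have h1 := hθ ((1 : C) ⊗ₜ[B] KaehlerDifferential.D A B b)
  rw [KaehlerDifferential.mapBaseChange_tmul, one_smul, KaehlerDifferential.map_D,
    LinearMap.sub_apply, Dtilde_tmul_D, Dtilde_tmul_D, one_smul, one_smul] at h1
  exact h1

end concrete2

end Groth.Agent.Lib.helper11.ExalChar
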