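import Mathlib.RingTheory.PowerSeries.Exp
import Mathlib.RingTheory.PowerSeries.Derivative
import Mathlib.RingTheory.PowerSeries.Substitution
import Mathlib.Algebra.Algebra.Rat
import Mathlib.Algebra.CharP.Algebra

/-!
# Formal exponential of a power series with zero constant term (helper11)

`E F = exp(F)` for `F ∈ X·K⟦X⟧`, via `PowerSeries.subst`.  ODE uniqueness, `E (F+G) = E F * E G`,
`E(-log(1 - cX)) * (1 - cX) = 1`, `E(-log(1 - X^r)) * (1 - X^r) = 1`, truncation.
-/

set_option autoImplicit false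

namespace Groth.Agent.Lib.helper11

open PowerSeries

variable {K : Type*} [Field K] [Algebra ℚ K]

/-- Uniqueness for the linear ODE `Y' = H Y`, `Y(0) = 0`. -/
theorem ode_unique {Y H : K⟦X⟧} (hY : d⁄dX K Y = H * Y) (h0 : constantCoeff Y = 0) : Y = 0 := by
  have : CharZero K := charZero_of_injective_algebraMap (algebraMap ℚ K).injective
  ext n
  induction n using Nat.strong_induction_on with
  | _ n ih =>
    cases n with
    | zero => simpa using h0
    | succ n =>
      have h1 := congrArg (coeff n) hY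
      rw [coeff_derivative, coeff_mul] at h1
      have h2 : ∑ p ∈ Finset.antidiagonal n, coeff p.1 H * coeff p.2 Y = 0 := by
        refine Finset.sum_eq_zero fun p hp => ?_
        have hp' : p.1 + p.2 = n := Finset.mem_antidiagonal.mp hp
        have : p.2 < n + 1 := by omega
        rw [ih p.2 this]; simp
      rw [h2] at h1
      have h3 : ((n : K) + 1) ≠ 0 := by exact_mod_cast Nat.succ_ne_zero n
      simpa using (mul_eq_zero.mp h1).resolve_right h3

theorem ode_unique' {Y Z H : K⟦X⟧} (hY : d⁄dX K Y = H * Y) (hZ : d⁄dX K Z = H * Z)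
    (h0 : constantCoeff Y = constantCoeff Z) : Y = Z := by
  have : Y - Z = 0 := by
    apply ode_unique (H := H)
    · rw [map_sub, hY, hZ, mul_sub]
    · rw [map_sub, h0, sub_self]
  exact sub_eq_zero.mp this

/-- `exp(F)` for `F` with zero constant term. -/
noncomputable def E (F : K⟦X⟧) : K⟦X⟧ := (exp K).subst F

theorem hasSubst {F : K⟦X⟧} (hF : constantCoeff F = 0) : HasSubst F :=
  HasSubst.of_constantCoeff_zero' hF

theorem derivative_E {F : K⟦X⟧} (hF : constantCoeff F = 0) :
    d⁄dX K (E F) = d⁄dX K F * E F := by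
  unfold E
  rw [derivative_subst (hasSubst hF), derivative_exp, mul_comm]

theorem constantCoeff_E {F : K⟦X⟧} (hF : constantCoeff F = 0) : constantCoeff (E F) = 1 := by
  unfold E
  have h1 : (exp K - 1).subst F = (exp K).subst F - 1 := by
    rw [subst_sub (hasSubst hF)]
    congr 1
    rw [← coe_substAlgHom (hasSubst hF), map_one]
  have h2 : constantCoeff ((exp K - 1).subst F) = 0 := by
    apply constantCoeff_subst_eq_zero hF
    simp
  rw [h1, map_sub, map_one, sub_eq_zero] at h2
  exact h2

theorem E_zero : E (0 : K⟦X⟧) = 1 := by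
  unfold E
  rw [subst_zero_eq_C_constantCoeff]
  simp

theorem E_add {F G : K⟦X⟧} (hF : constantCoeff F = 0) (hG : constantCoeff G = 0) :
    E (F + G) = E F * E G := by
  have hFG : constantCoeff (F + G) = 0 := by rw [map_add, hF, hG, add_zero]
  apply ode_unique' (H := d⁄dX K F + d⁄dX K G)
  · rw [derivative_E hFG, map_add]
  · rw [Derivation.leibniz, derivative_E hF, derivative_E hG]
    simp only [smul_eq_mul]
    ring
  · rw [constantCoeff_E hFG, map_mul, constantCoeff_E hF, constantCoeff_E hG, mul_one]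

theorem E_neg_mul {F : K⟦X⟧} (hF : constantCoeff F = 0) : E (-F) * E F = 1 := by
  have hF' : constantCoeff (-F) = 0 := by rw [map_neg, hF, neg_zero]
  rw [← E_add hF' hF, neg_add_cancel, E_zero]

theorem E_nsmul {F : K⟦X⟧} (hF : constantCoeff F = 0) (n : ℕ) : E (n • F) = E F ^ n := by
  induction n with
  | zero => simp [E_zero]
  | succ n ih =>
    have h1 : constantCoeff (n • F) = 0 := by rw [map_nsmul, hF, smul_zero]
    rw [succ_nsmul, E_add h1 hF, ih, pow_succ]

theorem E_sum {ι : Type*} (s : Finset ι) (F : ι → K⟦X⟧) (hF : ∀ i ∈ s, constantCoeff (F i) = 0) :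
    E (∑ i ∈ s, F i) = ∏ i ∈ s, E (F i) := by
  classical
  induction s using Finset.induction_on with
  | empty => simp [E_zero]
  | insert a s ha ih =>
    have h1 : constantCoeff (∑ i ∈ s, F i) = 0 := by
      rw [map_sum]
      exact Finset.sum_eq_zero fun i hi => hF i (Finset.mem_insert_of_mem hi)
    rw [Finset.sum_insert ha, Finset.prod_insert ha,
      E_add (hF a (Finset.mem_insert_self a s)) h1, ih fun i hi => hF i (Finset.mem_insert_of_mem hi)]

/-- If `F` vanishes to order `> n` then `E F ≡ 1 mod X^(n+1)`. -/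
theorem coeff_E_eq_zero {F : K⟦X⟧} (n : ℕ) (hF : ∀ m ≤ n, coeff m F = 0) :
    ∀ m, 1 ≤ m → m ≤ n → coeff m (E F) = 0 := by
  have : CharZero K := charZero_of_injective_algebraMap (algebraMap ℚ K).injective
  have hF0 : constantCoeff F = 0 := by
    rw [← coeff_zero_eq_constantCoeff_apply]; exact hF 0 (Nat.zero_le n)
  intro m
  induction m using Nat.strong_induction_on with
  | _ m ih =>
    intro hm1 hmn
    obtain ⟨k, rfl⟩ : ∃ k, m = k + 1 := ⟨m - 1, by omega⟩
    have h1 := congrArg (coeff k) (derivative_E hF0)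
    rw [coeff_derivative, coeff_mul] at h1
    have h2 : ∑ p ∈ Finset.antidiagonal k, coeff p.1 (d⁄dX K F) * coeff p.2 (E F) = 0 := by
      refine Finset.sum_eq_zero fun p hp => ?_
      have hp' : p.1 + p.2 = k := Finset.mem_antidiagonal.mp hp
      rw [coeff_derivative, hF (p.1 + 1) (by omega)]
      simp
    rw [h2] at h1
    have h3 : ((k : K) + 1) ≠ 0 := by exact_mod_cast Nat.succ_ne_zero k
    exact (mul_eq_zero.mp h1).resolve_right h3

/-- `-log(1 - cX) = ∑_{m ≥ 1} c^m X^m / m`. -/
noncomputable def Lc (c : K) : K⟦X⟧ := PowerSeries.mk fun m => c ^ m / (m : K)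

theorem constantCoeff_Lc (c : K) : constantCoeff (Lc c) = 0 := by
  rw [← coeff_zero_eq_constantCoeff_apply, Lc, coeff_mk]; simp

theorem derivative_Lc_mul (c : K) : d⁄dX K (Lc c) * (1 - C c * X) = C c := by
  have : CharZero K := charZero_of_injective_algebraMap (algebraMap ℚ K).injective
  have h1 : d⁄dX K (Lc c) = PowerSeries.mk fun n => c ^ (n + 1) := by
    ext n
    rw [coeff_derivative, Lc, coeff_mk, coeff_mk]
    have h3 : ((n : K) + 1) ≠ 0 := by exact_mod_cast Nat.succ_ne_zero n
    push_cast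
    field_simp
  rw [h1]
  ext n
  rw [mul_sub, mul_one, map_sub, ← mul_assoc, coeff_mk]
  cases n with
  | zero =>
    rw [coeff_zero_mul_X, coeff_zero_C]
    simp
  | succ n =>
    rw [coeff_succ_mul_X, mul_comm _ (C c), coeff_C_mul, coeff_mk, coeff_C, if_neg (Nat.succ_ne_zero n)]
    ring

theorem E_Lc_mul (c : K) : E (Lc c) * (1 - C c * X) = 1 := by
  have : CharZero K := charZero_of_injective_algebraMap (algebraMap ℚ K).injective
  apply derivative.ext
  · rw [Derivation.leibniz, derivative_E (constantCoeff_Lc c)]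
    simp only [smul_eq_mul, map_sub, Derivation.leibniz, derivative_X, derivative_C]
    have h := derivative_Lc_mul c
    have h2 : (d⁄dX K) (1 : K⟦X⟧) = 0 := by
      rw [← map_one (C (R := K)), derivative_C]
    rw [h2]
    calc E (Lc c) * (0 - (C c * 1 + X * 0)) + (1 - C c * X) * (d⁄dX K (Lc c) * E (Lc c))
        = E (Lc c) * (d⁄dX K (Lc c) * (1 - C c * X) - C c) := by ring
      _ = 0 := by rw [h, sub_self, mul_zero]
  · rw [map_mul, constantCoeff_E (constantCoeff_Lc c)]
    simp

/-- `-log(1 - X^r) = ∑_{r ∣ m, m ≥ 1} (r / m) X^m`. -/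
noncomputable def Lr (r : ℕ) : K⟦X⟧ := PowerSeries.mk fun m => if r ∣ m then (r : K) / (m : K) else 0

theorem constantCoeff_Lr (r : ℕ) : constantCoeff (Lr (K := K) r) = 0 := by
  rw [← coeff_zero_eq_constantCoeff_apply, Lr, coeff_mk]; simp

theorem derivative_Lr_mul (r : ℕ) (hr : 1 ≤ r) :
    d⁄dX K (Lr (K := K) r) * (1 - X ^ r) = C (r : K) * X ^ (r - 1) := by
  have : CharZero K := charZero_of_injective_algebraMap (algebraMap ℚ K).injective
  have h1 : d⁄dX K (Lr (K := K) r) = PowerSeries.mk fun n => if r ∣ n + 1 then (r : K) else 0 := by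
    ext n
    rw [coeff_derivative, Lr, coeff_mk, coeff_mk]
    have h3 : ((n : K) + 1) ≠ 0 := by exact_mod_cast Nat.succ_ne_zero n
    split_ifs
    · push_cast; field_simp
    · simp
  rw [h1]
  ext n
  rw [mul_sub, mul_one, map_sub, coeff_mk, coeff_mul_X_pow', coeff_C_mul, coeff_X_pow]
  by_cases hn : r ≤ n
  · rw [if_pos hn, coeff_mk]
    have h4 : (r ∣ n - r + 1) ↔ (r ∣ n + 1) := by
      have : n + 1 = (n - r + 1) + r := by omega
      rw [this, Nat.dvd_add_self_right]
    have h5 : n ≠ r - 1 := by omega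
    rw [if_neg h5, mul_zero]
    simp only [h4, sub_self]
  · rw [if_neg hn, sub_zero]
    by_cases h6 : n = r - 1
    · subst h6
      have : r ∣ r - 1 + 1 := by rw [Nat.sub_add_cancel hr]
      rw [if_pos this, if_pos rfl, mul_one]
    · rw [if_neg h6, mul_zero, if_neg]
      intro hdvd
      have := Nat.le_of_dvd (Nat.succ_pos n) hdvd
      omega

theorem E_Lr_mul (r : ℕ) (hr : 1 ≤ r) : E (Lr (K := K) r) * (1 - X ^ r) = 1 := by
  have : CharZero K := charZero_of_injective_algebraMap (algebraMap ℚ K).injective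
  apply derivative.ext
  · rw [Derivation.leibniz, derivative_E (constantCoeff_Lr r)]
    have h := derivative_Lr_mul (K := K) r hr
    have h2 : (d⁄dX K) (1 : K⟦X⟧) = 0 := by
      rw [← map_one (C (R := K)), derivative_C]
    have h3 : (d⁄dX K) (1 - X ^ r : K⟦X⟧) = - (C (r : K) * X ^ (r - 1)) := by
      rw [map_sub, h2, derivative_pow, derivative_X, zero_sub, mul_one, map_natCast]
    rw [h2, h3]
    simp only [smul_eq_mul]
    calc E (Lr r) * -(C (r : K) * X ^ (r - 1)) + (1 - X ^ r) * (d⁄dX K (Lr r) * E (Lr r))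
        = E (Lr r) * (d⁄dX K (Lr r) * (1 - X ^ r) - C (r : K) * X ^ (r - 1)) := by ring
      _ = 0 := by rw [h, sub_self, mul_zero]
  · rw [map_mul, constantCoeff_E (constantCoeff_Lr r)]
    have : constantCoeff (1 - X ^ r : K⟦X⟧) = 1 := by
      rw [map_sub, map_one, map_pow, constantCoeff_X, zero_pow (by omega), sub_zero]
    rw [this, mul_one, map_one]

end Groth.Agent.Lib.helper11
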