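import Mathlib
import Groth.Prelude.Def_FEt

set_option autoImplicit false
universe u
open CategoryTheory CategoryTheory.Limits AlgebraicGeometry Opposite TopologicalSpace

namespace Groth.Agent.Lib.helper11.FEtConn

variable (W : Scheme.{u})

instance : IsFinite (coprod.desc (𝟙 W) (𝟙 W)) := inferInstance

instance etale_codiag : Etale (coprod.desc (𝟙 W) (𝟙 W)) := by
  refine IsZariskiLocalAtSource.of_openCover (P := @Etale) (coprodOpenCover.{_, 0} W W) ?_
  intro i
  rcases i with i | i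
  · change Etale (coprod.inl ≫ coprod.desc (𝟙 W) (𝟙 W))
    rw [coprod.inl_desc]
    infer_instance
  · change Etale (coprod.inr ≫ coprod.desc (𝟙 W) (𝟙 W))
    rw [coprod.inr_desc]
    infer_instance

/-- the trivial double cover `W ⊔ W ⟶ W` -/
noncomputable def Zobj (W : Scheme.{u}) : FEt.Cat W :=
  MorphismProperty.Over.mk ⊤ (coprod.desc (𝟙 W) (𝟙 W)) ⟨inferInstance, inferInstance⟩

/-- the trivial cover `W ⟶ W` -/
noncomputable def Tobj (W : Scheme.{u}) : FEt.Cat W :=
  MorphismProperty.Over.mk ⊤ (𝟙 W) ⟨inferInstance, inferInstance⟩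

variable {W}

lemma isClopen_range_inl : IsClopen (Set.range (coprod.inl : W ⟶ W ⨿ W)) := by
  refine ⟨?_, (coprod.inl : W ⟶ W ⨿ W).isOpenEmbedding.isOpen_range⟩
  rw [← isOpen_compl_iff, (isCompl_range_inl_inr W W).compl_eq]
  exact (coprod.inr : W ⟶ W ⨿ W).isOpenEmbedding.isOpen_range

/-- (A) a clopen subset `C` of `S` gives a morphism `S ⟶ W ⊔ W` over `s : S ⟶ W` whose preimage of
the first copy is `C`. -/
lemma exists_map_of_isClopen {S : Scheme.{u}} (s : S ⟶ W) (C : Set S) (hC : IsClopen C) :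
    ∃ g : S ⟶ W ⨿ W, g ≫ coprod.desc (𝟙 W) (𝟙 W) = s ∧
      g ⁻¹' (Set.range (coprod.inl : W ⟶ W ⨿ W)) = C := by
  let C₁ : S.Opens := ⟨C, hC.isOpen⟩
  let C₂ : S.Opens := ⟨Cᶜ, hC.compl.isOpen⟩
  have hcompl : IsCompl C₁.ι.opensRange C₂.ι.opensRange := by
    rw [Scheme.Opens.opensRange_ι, Scheme.Opens.opensRange_ι]
    constructor
    · rw [disjoint_iff]
      ext x
      simp [C₁, C₂]
    · rw [codisjoint_iff]
      ext x
      simp [C₁, C₂]
  obtain ⟨hcol⟩ := nonempty_isColimit_binaryCofanMk_of_isCompl C₁.ι C₂.ι hcompl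
  let g : S ⟶ W ⨿ W := hcol.desc (BinaryCofan.mk (C₁.ι ≫ s ≫ coprod.inl) (C₂.ι ≫ s ≫ coprod.inr))
  have hg₁ : C₁.ι ≫ g = C₁.ι ≫ s ≫ coprod.inl :=
    hcol.fac (BinaryCofan.mk (C₁.ι ≫ s ≫ coprod.inl) (C₂.ι ≫ s ≫ coprod.inr)) ⟨WalkingPair.left⟩
  have hg₂ : C₂.ι ≫ g = C₂.ι ≫ s ≫ coprod.inr :=
    hcol.fac (BinaryCofan.mk (C₁.ι ≫ s ≫ coprod.inl) (C₂.ι ≫ s ≫ coprod.inr)) ⟨WalkingPair.right⟩
  refine ⟨g, ?_, ?_⟩
  · apply BinaryCofan.IsColimit.hom_ext hcol
    · change C₁.ι ≫ g ≫ _ = C₁.ι ≫ s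
      rw [← Category.assoc, hg₁, Category.assoc, Category.assoc, coprod.inl_desc, Category.comp_id]
    · change C₂.ι ≫ g ≫ _ = C₂.ι ≫ s
      rw [← Category.assoc, hg₂, Category.assoc, Category.assoc, coprod.inr_desc, Category.comp_id]
  · ext x
    simp only [Set.mem_preimage]
    constructor
    · intro hx
      by_contra hxC
      have h1 : g (C₂.ι ⟨x, hxC⟩) = (coprod.inr : W ⟶ W ⨿ W) (s (C₂.ι ⟨x, hxC⟩)) := by
        rw [← Scheme.Hom.comp_apply, hg₂]
        rfl
      obtain ⟨y, hy⟩ := hx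
      have h2 : C₂.ι ⟨x, hxC⟩ = x := rfl
      rw [h2] at h1
      rw [h1] at hy
      exact inl_ne_inr _ _ _ _ hy
    · intro hxC
      have h1 : g (C₁.ι ⟨x, hxC⟩) = (coprod.inl : W ⟶ W ⨿ W) (s (C₁.ι ⟨x, hxC⟩)) := by
        rw [← Scheme.Hom.comp_apply, hg₁]
        rfl
      have h2 : C₁.ι ⟨x, hxC⟩ = x := rfl
      rw [h2] at h1
      exact ⟨_, h1.symm⟩

variable {W' : Scheme.{u}} (j : W' ⟶ W)

/-- **P1**: if restriction of finite étale covers along `j : W' ⟶ W` is fully faithful and `W` is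
connected then `W'` is connected. -/
theorem connectedSpace_of_full_faithful [ConnectedSpace W] [(FEt.restrict j).Full]
    [(FEt.restrict j).Faithful] : ConnectedSpace W' := by
  rw [connectedSpace_iff_clopen]
  constructor
  · by_contra hne
    rw [not_nonempty_iff] at hne
    let σ₁ : Tobj W ⟶ Zobj W := MorphismProperty.Over.homMk (coprod.inl : W ⟶ W ⨿ W)
      (coprod.inl_desc _ _) trivial
    let σ₂ : Tobj W ⟶ Zobj W := MorphismProperty.Over.homMk (coprod.inr : W ⟶ W ⨿ W)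
      (coprod.inr_desc _ _) trivial
    have hE : IsEmpty ↥((FEt.restrict j).obj (Tobj W)).left :=
      Function.isEmpty (pullback.snd (Tobj W).hom j)
    have h12 : (FEt.restrict j).map σ₁ = (FEt.restrict j).map σ₂ := by
      apply MorphismProperty.Over.Hom.ext
      exact (isInitialOfIsEmpty (X := ((FEt.restrict j).obj (Tobj W)).left)).hom_ext _ _
    have h3 : σ₁ = σ₂ := (FEt.restrict j).map_injective h12
    have h4 : (coprod.inl : W ⟶ W ⨿ W) = coprod.inr := congrArg (fun σ => σ.left) h3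
    obtain ⟨x⟩ := (inferInstance : Nonempty W)
    exact inl_ne_inr W W x x (by rw [h4])
  · intro C hC
    obtain ⟨g, hg₁, hg₂⟩ := exists_map_of_isClopen j C hC
    let φ : (FEt.restrict j).obj (Tobj W) ⟶ (FEt.restrict j).obj (Zobj W) :=
      MorphismProperty.Over.homMk
        (pullback.lift (pullback.snd (Tobj W).hom j ≫ g) (pullback.snd (Tobj W).hom j) (by
          rw [Category.assoc]
          exact congrArg (fun z => pullback.snd (Tobj W).hom j ≫ z) hg₁))
        (pullback.lift_snd _ _ _) trivial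
    obtain ⟨σ, hσ⟩ := (FEt.restrict j).map_surjective φ
    let σl : W ⟶ W ⨿ W := σ.left
    have h1 := congrArg (fun ψ => ψ.left ≫ pullback.fst (Zobj W).hom j) hσ
    have e1 : ((FEt.restrict j).map σ).left ≫ pullback.fst (Zobj W).hom j =
        pullback.fst (𝟙 W) j ≫ σl := pullback.lift_fst _ _ _
    have e2 : φ.left ≫ pullback.fst (Zobj W).hom j = pullback.snd (𝟙 W) j ≫ g :=
      pullback.lift_fst _ _ _
    have h2 : pullback.fst (𝟙 W) j ≫ σl = pullback.snd (𝟙 W) j ≫ g :=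
      e1.symm.trans (h1.trans e2)
    have h3 : pullback.fst (𝟙 W) j = pullback.snd (𝟙 W) j ≫ j := by
      have := pullback.condition (f := 𝟙 W) (g := j)
      rwa [Category.comp_id] at this
    have h4 : j ≫ σl = g := by
      rw [← cancel_epi (pullback.snd (𝟙 W) j), ← Category.assoc, ← h3, h2]
    have hD : IsClopen (σl ⁻¹' (Set.range (coprod.inl : W ⟶ W ⨿ W))) :=
      isClopen_range_inl.preimage σl.continuous
    have hCD : C = j ⁻¹' (σl ⁻¹' (Set.range (coprod.inl : W ⟶ W ⨿ W))) := by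
      rw [← hg₂, ← h4]
      rfl
    rcases isClopen_iff.mp hD with h | h
    · left
      rw [hCD, h]
      rfl
    · right
      rw [hCD, h]
      rfl

end Groth.Agent.Lib.helper11.FEtConn
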