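import Groth.Agent.Lib.Helper11.FPQuot1
import Groth.Agent.Lib.Helper16.QCohEpi

/-!
# Finitely presented covers (helper11)

* `isFP_biprod`
* `exists_fp_sections_family`
* `exists_fp_epi`: on a qcqs scheme every finite type quasi-coherent module is a quotient of a
  finitely presented one.
-/

set_option autoImplicit false
set_option linter.style.haveILetI false
universe u
open CategoryTheory CategoryTheory.Limits AlgebraicGeometry TopologicalSpace Opposite
open Scheme.Modules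

namespace Groth.Agent.Lib.helper11.FPExt

open Groth.Agent.Lib.helper16.Satur Groth.Agent.Lib.helper16.CohFinite
  Groth.Agent.Lib.helper16.CohFP

variable {X : Scheme.{u}}

theorem isFP_biprod (E₁ E₂ : X.Modules) [E₁.IsQuasicoherent] [E₂.IsQuasicoherent]
    (h₁ : CohB1.IsFP E₁) (h₂ : CohB1.IsFP E₂) :
    (E₁ ⊞ E₂).IsQuasicoherent ∧ CohB1.IsFP (E₁ ⊞ E₂) := by
  haveI : (E₁ ⊞ E₂).IsQuasicoherent :=
    Groth.Agent.Lib.helper7.QCohProd.isQuasicoherent_biprod E₁ E₂ inferInstance inferInstance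
  refine ⟨inferInstance, ?_⟩
  rw [← fpOn_top_iff]
  intro U hU _
  haveI := (fpOn_top_iff E₁).mpr h₁ U hU le_top
  haveI := (fpOn_top_iff E₂).mpr h₂ U hU le_top
  let φ : (Γ(E₁, U) × Γ(E₂, U)) →ₗ[Γ(X, U)] Γ(E₁ ⊞ E₂, U) :=
    (secLin (biprod.inl : E₁ ⟶ E₁ ⊞ E₂) U).coprod (secLin (biprod.inr : E₂ ⟶ E₁ ⊞ E₂) U)
  have hsurj : Function.Surjective φ := by
    intro s
    refine ⟨((biprod.fst : E₁ ⊞ E₂ ⟶ E₁).app U s, (biprod.snd : E₁ ⊞ E₂ ⟶ E₂).app U s), ?_⟩
    change (biprod.inl : E₁ ⟶ E₁ ⊞ E₂).app U ((biprod.fst : E₁ ⊞ E₂ ⟶ E₁).app U s) +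
      (biprod.inr : E₂ ⟶ E₁ ⊞ E₂).app U ((biprod.snd : E₁ ⊞ E₂ ⟶ E₂).app U s) = s
    have h : (biprod.fst ≫ biprod.inl + biprod.snd ≫ biprod.inr :
        E₁ ⊞ E₂ ⟶ E₁ ⊞ E₂).app U s = s := by
      rw [biprod.total]; rfl
    exact h
  have hinj : Function.Injective φ := by
    rw [← LinearMap.ker_eq_bot, LinearMap.ker_eq_bot']
    rintro ⟨a, b⟩ hab
    change (biprod.inl : E₁ ⟶ E₁ ⊞ E₂).app U a + (biprod.inr : E₂ ⟶ E₁ ⊞ E₂).app U b = 0 at hab
    have ha : a = 0 := by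
      have := congrArg (fun z => (biprod.fst : E₁ ⊞ E₂ ⟶ E₁).app U z) hab
      simp only [map_add, map_zero] at this
      have e1 : (biprod.fst : E₁ ⊞ E₂ ⟶ E₁).app U ((biprod.inl : E₁ ⟶ E₁ ⊞ E₂).app U a) = a := by
        have h : ((biprod.inl : E₁ ⟶ E₁ ⊞ E₂) ≫ biprod.fst : E₁ ⟶ E₁).app U a = a := by
          rw [biprod.inl_fst]; rfl
        exact h
      have e2 : (biprod.fst : E₁ ⊞ E₂ ⟶ E₁).app U ((biprod.inr : E₂ ⟶ E₁ ⊞ E₂).app U b) = 0 := by
        have h : ((biprod.inr : E₂ ⟶ E₁ ⊞ E₂) ≫ biprod.fst : E₂ ⟶ E₁).app U b = 0 := by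
          rw [biprod.inr_fst]; rfl
        exact h
      rw [e1, e2, add_zero] at this
      exact this
    have hb : b = 0 := by
      have := congrArg (fun z => (biprod.snd : E₁ ⊞ E₂ ⟶ E₂).app U z) hab
      simp only [map_add, map_zero] at this
      have e1 : (biprod.snd : E₁ ⊞ E₂ ⟶ E₂).app U ((biprod.inl : E₁ ⟶ E₁ ⊞ E₂).app U a) = 0 := by
        have h : ((biprod.inl : E₁ ⟶ E₁ ⊞ E₂) ≫ biprod.snd : E₁ ⟶ E₂).app U a = 0 := by
          rw [biprod.inl_snd]; rfl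
        exact h
      have e2 : (biprod.snd : E₁ ⊞ E₂ ⟶ E₂).app U ((biprod.inr : E₂ ⟶ E₁ ⊞ E₂).app U b) = b := by
        have h : ((biprod.inr : E₂ ⟶ E₁ ⊞ E₂) ≫ biprod.snd : E₂ ⟶ E₂).app U b = b := by
          rw [biprod.inr_snd]; rfl
        exact h
      rw [e1, e2, zero_add] at this
      exact this
    rw [ha, hb]; rfl
  exact Module.FinitePresentation.of_equiv (LinearEquiv.ofBijective φ ⟨hinj, hsurj⟩)

/-- finitely many finite sets of sections over affine opens lie in the image of a finitely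
presented quasi-coherent module. -/
theorem exists_fp_sections_family [CompactSpace X] [QuasiSeparatedSpace X] (F : X.Modules)
    [F.IsQuasicoherent] (S : Finset X.affineOpens) (T : ∀ U : X.affineOpens, Finset Γ(F, U.1)) :
    ∃ (H : X.Modules) (h : H ⟶ F), H.IsQuasicoherent ∧ CohB1.IsFP H ∧
      ∀ U ∈ S, ∀ t ∈ T U, t ∈ Set.range (h.app U.1) := by
  classical
  induction S using Finset.induction_on with
  | empty =>
    obtain ⟨G, i, hq, hfp, -⟩ := exists_fp_sections F (isAffineOpen_bot X) ∅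
    exact ⟨G, i, hq, hfp, by simp⟩
  | insert V S hV ih =>
    obtain ⟨G₁, i₁, hq₁, hfp₁, h1⟩ := ih
    obtain ⟨G₂, i₂, hq₂, hfp₂, h2⟩ := exists_fp_sections F V.2 (T V)
    haveI := hq₁
    haveI := hq₂
    obtain ⟨hq, hfp⟩ := isFP_biprod G₁ G₂ hfp₁ hfp₂
    refine ⟨G₁ ⊞ G₂, biprod.desc i₁ i₂, hq, hfp, ?_⟩
    intro U hU t ht
    rcases Finset.mem_insert.mp hU with rfl | hU
    · obtain ⟨x, rfl⟩ := h2 t ht
      refine ⟨(biprod.inr : G₂ ⟶ G₁ ⊞ G₂).app U.1 x, ?_⟩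
      have h : (biprod.inr ≫ biprod.desc i₁ i₂ : G₂ ⟶ F).app U.1 x = i₂.app U.1 x := by
        rw [biprod.inr_desc]
      exact h
    · obtain ⟨x, rfl⟩ := h1 U hU t ht
      refine ⟨(biprod.inl : G₁ ⟶ G₁ ⊞ G₂).app U.1 x, ?_⟩
      have h : (biprod.inl ≫ biprod.desc i₁ i₂ : G₁ ⟶ F).app U.1 x = i₁.app U.1 x := by
        rw [biprod.inl_desc]
      exact h

/-- a morphism whose sections over an affine open `U` contain a generating set is surjective on
sections over `U` -/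
theorem surjective_app_of_span {A B : X.Modules} (h : A ⟶ B) (U : X.Opens) (T : Set Γ(B, U))
    (hT : Submodule.span Γ(X, U) T = ⊤) (hr : T ⊆ Set.range (h.app U)) :
    Function.Surjective (h.app U) := by
  have hle : Submodule.span Γ(X, U) T ≤ LinearMap.range (secLin h U) := by
    rw [Submodule.span_le]
    intro t ht
    obtain ⟨x, hx⟩ := hr ht
    exact ⟨x, hx⟩
  rw [hT] at hle
  intro y
  obtain ⟨x, hx⟩ := hle (Submodule.mem_top : y ∈ ⊤)
  exact ⟨x, hx⟩

/-- **On a qcqs scheme every finite type quasi-coherent module is a quotient of a finitely presented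
quasi-coherent module.** -/
theorem exists_fp_epi [CompactSpace X] [QuasiSeparatedSpace X] (G : X.Modules) [G.IsQuasicoherent]
    (hG : CohB1.IsFT G) :
    ∃ (H : X.Modules) (h : H ⟶ G), H.IsQuasicoherent ∧ CohB1.IsFP H ∧ Epi h := by
  classical
  obtain ⟨S, hS, hcov⟩ := (isCompact_iff_finite_and_eq_biUnion_affineOpens (U := (⊤ : X.Opens))).mp
    isCompact_univ
  have hgen : ∀ U : X.affineOpens, ∃ T : Finset Γ(G, U.1),
      Submodule.span Γ(X, U.1) (T : Set Γ(G, U.1)) = ⊤ := by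
    intro U
    haveI : Module.Finite Γ(X, U.1) Γ(G, U.1) := finite_sections_of_isFiniteType G hG U.2
    exact (Module.Finite.fg_top : (⊤ : Submodule Γ(X, U.1) Γ(G, U.1)).FG)
  choose T hT using hgen
  obtain ⟨H, h, hq, hfp, hr⟩ := exists_fp_sections_family G hS.toFinset T
  refine ⟨H, h, hq, hfp, ?_⟩
  refine Groth.Agent.Lib.helper16.QCohEpi.epi_of_surjective_on_affine_cover h
    (fun U : S => (U.1 : X.Opens)) (fun U => U.1.2) ?_ ?_
  · intro x
    have hx : x ∈ (⊤ : X.Opens) := trivial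
    rw [hcov] at hx
    obtain ⟨U, hU⟩ := Opens.mem_iSup.mp hx
    obtain ⟨hUS, hxU⟩ := Opens.mem_iSup.mp hU
    exact ⟨⟨U, hUS⟩, hxU⟩
  · intro U
    exact surjective_app_of_span h U.1.1 _ (hT U.1)
      (fun t ht => hr U.1 (hS.mem_toFinset.mpr U.2) t ht)

end Groth.Agent.Lib.helper11.FPExt
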