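import Mathlib
import Groth.Agent.Lib.Helper16.Satur5
import Groth.Agent.Lib.Helper16.QCAlg2
import Groth.Agent.Lib.Helper16.QCohEpi
import Groth.Agent.Lib.Helper21.ModGroth
import Groth.Agent.Lib.Helper21.ModSh
import Groth.Agent.Lib.Helper7.CohKer
import Groth.Agent.Lib.Helper7.QCohProd
import Groth.Agent.S0800

/-!
# Quasi-coherent modules on a qcqs scheme are filtered colimits of finite type submodules (helper11)

* `exists_filtered_colimit_ft`: `F` quasi-coherent on a qcqs scheme is the colimit of a small filtered diagram of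
  quasi-coherent modules of finite type (its finite type quasi-coherent subobjects; EGA I 9.4.9).
* `isZero_RpushAb_of_ft`: vanishing of `R^i f_*` on finite type quasi-coherent modules implies vanishing on all
  quasi-coherent modules (`f` qcqs, source qcqs).
-/

set_option autoImplicit false
universe u

open CategoryTheory CategoryTheory.Limits AlgebraicGeometry Opposite TopologicalSpace
open Scheme.Modules

namespace Groth.Agent.Lib.helper11.QCohColim

variable {X : Scheme.{u}}

/-- subobjects which are quasi-coherent of finite type -/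
def FTSub (F : X.Modules) (s : Subobject F) : Prop :=
  (Subobject.underlying.obj s).IsQuasicoherent ∧ CohB1.IsFT (Subobject.underlying.obj s)

theorem ftSub_mk {F G : X.Modules} (i : G ⟶ F) [Mono i] (hq : G.IsQuasicoherent)
    (hft : CohB1.IsFT G) : FTSub F (Subobject.mk i) := by
  have e : Subobject.underlying.obj (Subobject.mk i) ≅ G := Subobject.underlyingIso i
  exact ⟨Groth.Agent.Lib.helper7.QCohProd.isQuasicoherent_of_iso e.symm hq,
    Groth.Agent.Lib.helper7.CohKer.isFiniteType_of_epi e.inv hft⟩

instance instGA : IsGrothendieckAbelian.{u} X.Modules :=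
  Groth.Agent.Lib.Helper21.ModGroth.isGrothendieckAbelian_mod _

instance (F : X.Modules) : Small.{u} (Subobject F) := by
  haveI : WellPowered.{u} X.Modules := IsGrothendieckAbelian.wellPowered.{u} X.Modules
  exact WellPowered.subobject_small F

/-- the (small) index type: finite type quasi-coherent subobjects -/
def JJ (F : X.Modules) : Type u :=
  {t : Shrink.{u} (Subobject F) // FTSub F ((equivShrink (Subobject F)).symm t)}

/-- the subobject attached to an index -/
noncomputable def JJ.sub {F : X.Modules} (t : JJ F) : Subobject F :=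
  (equivShrink (Subobject F)).symm t.1

noncomputable instance (F : X.Modules) : Preorder (JJ F) := Preorder.lift JJ.sub

/-- the index attached to a finite type quasi-coherent subobject -/
noncomputable def JJ.mk {F : X.Modules} (s : Subobject F) (hs : FTSub F s) : JJ F :=
  ⟨equivShrink (Subobject F) s, by simpa using hs⟩

@[simp] theorem JJ.sub_mk {F : X.Modules} (s : Subobject F) (hs : FTSub F s) :
    (JJ.mk s hs).sub = s := by
  simp [JJ.mk, JJ.sub]

theorem JJ.ftSub {F : X.Modules} (t : JJ F) : FTSub F t.sub := t.2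


theorem JJ.le_iff {F : X.Modules} (a b : JJ F) : a ≤ b ↔ a.sub ≤ b.sub := Iff.rfl

section Directed

variable (F : X.Modules) [F.IsQuasicoherent]

/-- the sum of two finite type quasi-coherent subobjects is contained in such a subobject -/
theorem exists_ub (a b : JJ F) : ∃ c : JJ F, a ≤ c ∧ b ≤ c := by
  obtain ⟨haq, haf⟩ := a.ftSub
  obtain ⟨hbq, hbf⟩ := b.ftSub
  haveI := haq
  haveI := hbq
  obtain ⟨hq, hft⟩ := Groth.Agent.Lib.helper16.Satur.isFT_biprod _ _ haf hbf
  haveI := hq
  let p : Subobject.underlying.obj a.sub ⊞ Subobject.underlying.obj b.sub ⟶ F :=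
    biprod.desc a.sub.arrow b.sub.arrow
  haveI : (cokernel p).IsQuasicoherent :=
    Groth.Agent.Lib.helper7.CohKer.isQuasicoherent_cokernel p
  have hiq : (Abelian.image p).IsQuasicoherent :=
    Groth.Agent.Lib.helper7.CohKer.isQuasicoherent_kernel (cokernel.π p)
  have hif : CohB1.IsFT (Abelian.image p) :=
    Groth.Agent.Lib.helper7.CohKer.isFiniteType_of_epi (Abelian.factorThruImage p) hft
  refine ⟨JJ.mk (Subobject.mk (Abelian.image.ι p)) (ftSub_mk _ hiq hif), ?_, ?_⟩
  · rw [JJ.le_iff, JJ.sub_mk]
    exact Subobject.le_mk_of_comm (biprod.inl ≫ Abelian.factorThruImage p) (by simp [p])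
  · rw [JJ.le_iff, JJ.sub_mk]
    exact Subobject.le_mk_of_comm (biprod.inr ≫ Abelian.factorThruImage p) (by simp [p])

instance : IsDirected (JJ F) (· ≤ ·) := ⟨fun a b => exists_ub F a b⟩

variable [CompactSpace X] [QuasiSeparatedSpace X]

/-- a section over an affine open lies in a finite type quasi-coherent subobject -/
theorem exists_index_of_section {U : X.Opens} (hU : IsAffineOpen U) (t : Γ(F, U)) :
    ∃ (G : X.Modules) (i : G ⟶ F) (_ : Mono i) (j : JJ F), j.sub = Subobject.mk i ∧
      t ∈ Set.range (i.app U) := by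
  classical
  obtain ⟨G, i, hm, hq, hft, h⟩ := Groth.Agent.Lib.helper16.Satur.exists_ft_sub_sections F hU {t}
  haveI := hm
  exact ⟨G, i, hm, JJ.mk (Subobject.mk i) (ftSub_mk i hq hft), JJ.sub_mk _ _,
    h t (Finset.mem_singleton_self t)⟩

instance : Nonempty (JJ F) := by
  obtain ⟨G, i, hm, j, -, -⟩ := exists_index_of_section F (isAffineOpen_bot X) 0
  exact ⟨j⟩

instance : IsFiltered (JJ F) := isFiltered_of_directed_le_nonempty _

/-- the supremum of the finite type quasi-coherent subobjects is everything -/
theorem iSup_sub_eq_top : (⨆ j : JJ F, j.sub) = ⊤ := by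
  set S : Subobject F := ⨆ j : JJ F, j.sub with hS
  haveI : Epi S.arrow := by
    refine Groth.Agent.Lib.helper16.QCohEpi.epi_of_surjective_on_basis _ {U | IsAffineOpen U}
      X.isBasis_affineOpens (fun U hU t => ?_)
    obtain ⟨G, i, hm, j, hj, g, hg⟩ := exists_index_of_section F hU t
    haveI := hm
    have hle : Subobject.mk i ≤ S := by
      rw [← hj]
      exact le_iSup (fun j : JJ F => j.sub) j
    have hfac : Subobject.ofMkLE i S hle ≫ S.arrow = i := Subobject.ofMkLE_arrow hle
    refine ⟨((Subobject.ofMkLE i S hle).app U).hom g, ?_⟩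
    rw [← hg]
    have h2 : (Subobject.ofMkLE i S hle ≫ S.arrow).app U = i.app U := by rw [hfac]
    exact congr($(h2).hom g)
  haveI : IsIso S.arrow := isIso_of_mono_of_epi _
  exact Subobject.eq_top_of_isIso_arrow S

end Directed

section Colimit

variable (F : X.Modules)

/-- the diagram of finite type quasi-coherent subobjects, in `MonoOver F` -/
noncomputable def Φ : JJ F ⥤ MonoOver F :=
  (Monotone.functor (f := fun t : JJ F => t.sub) (fun _ _ h => h)) ⋙ Subobject.representative

theorem mk_Φ_hom (j : JJ F) : Subobject.mk ((Φ F).obj j).obj.hom = j.sub := by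
  exact Subobject.mk_arrow j.sub

/-- the cocone with vertex `F` -/
noncomputable def cc : Cocone (Φ F ⋙ MonoOver.forget F) where
  pt := Over.mk (𝟙 F)
  ι :=
    { app := fun j => Over.homMk ((Φ F).obj j).obj.hom (by simp)
      naturality := fun j j' a => by
        ext
        simp }

variable [F.IsQuasicoherent] [CompactSpace X] [QuasiSeparatedSpace X]

/-- **EGA I 9.4.9**: a quasi-coherent module on a qcqs scheme is the filtered colimit of its finite type
quasi-coherent submodules. -/
theorem exists_filtered_colimit_ft :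
    ∃ (J : Type u) (_ : SmallCategory J) (_ : IsFiltered J) (D : J ⥤ X.Modules) (c : Cocone D),
      Nonempty (IsColimit c) ∧ c.pt = F ∧
        ∀ j, (D.obj j).IsQuasicoherent ∧ CohB1.IsFT (D.obj j) := by
  haveI : Mono (cc F).pt.hom := inferInstanceAs (Mono (𝟙 F))
  have h : Subobject.mk (cc F).pt.hom = ⨆ j, Subobject.mk ((Φ F).obj j).obj.hom := by
    have h1 : (fun j => Subobject.mk ((Φ F).obj j).obj.hom) = fun j : JJ F => j.sub :=
      funext (mk_Φ_hom F)
    rw [h1, iSup_sub_eq_top F]
    exact (Subobject.top_eq_id F).symm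
  have hc := IsGrothendieckAbelian.isColimitMapCoconeOfSubobjectMkEqISup (Φ F) (cc F) h
  refine ⟨JJ F, inferInstance, inferInstance, (Φ F ⋙ MonoOver.forget F) ⋙ Over.forget F,
    (Over.forget F).mapCocone (cc F), ⟨hc⟩, rfl, fun j => ?_⟩
  exact j.ftSub

end Colimit

section Vanish

variable {Y : Scheme.{u}}

/-- vanishing of `R^i f_*` on finite type quasi-coherent modules implies vanishing on all quasi-coherent
modules -/
theorem isZero_RpushAb_of_ft (f : X ⟶ Y) [QuasiCompact f] [QuasiSeparated f] [CompactSpace X]
    [QuasiSeparatedSpace X] (i : ℕ)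
    (h : ∀ G : X.Modules, G.IsQuasicoherent → CohB1.IsFT G →
      IsZero ((Coh.RpushAb f i).obj (Coh.toAb G)))
    (M : X.Modules) [M.IsQuasicoherent] :
    IsZero ((Coh.RpushAb f i).obj (Coh.toAb M)) := by
  obtain ⟨J, _, _, D, c, ⟨hc⟩, hpt, hD⟩ := exists_filtered_colimit_ft M
  subst hpt
  haveI := Groth.Agent.Lib.Helper21.ModSh.toSheaf_preservesColimits X.ringCatSheaf
  haveI : PreservesColimitsOfShape J (Coh.RpushAb f i) := Groth.Agent.S0800.result f i J
  have hc' := isColimitOfPreserves
    (SheafOfModules.toSheaf.{u} X.ringCatSheaf ⋙ Coh.RpushAb f i) hc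
  rw [IsZero.iff_id_eq_zero]
  refine hc'.hom_ext (fun j => ?_)
  exact (h (D.obj j) (hD j).1 (hD j).2).eq_of_src _ _

end Vanish

end Groth.Agent.Lib.helper11.QCohColim
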