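import Mathlib
import Groth.Agent.Lib.Helper11.QCohColim
import Groth.Agent.Lib.Helper27.FibreVan2
import Groth.Agent.Lib.Helper27.PBCMain
import Groth.Agent.Lib.Helper17.FieldBCDim
import Groth.Agent.Lib.Helper3.RelDim
import Groth.Agent.Lib.Helper3.FibreDimBC
import Groth.Agent.Lib.Helper3.QFinTop
import Groth.Agent.Lib.Helper3.TopDim

/-!
# Vanishing of `R^i f_*` above the fibre dimension, quasi-coherent modules: Noetherian case (helper11)

* `fibreDimAt_le_of_fiber_dim_le`, `fiber_dim_le_of_fibreDimAt_le`: fibre dimension bounds, pointwise on the source.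
* `fiber_dim_le_of_isPullback`: fibre dimension bounds are stable under base change.
* `isZero_RpushAb_noeth`: `f` proper over a Noetherian base with all fibres of dimension `≤ d`: `R^i f_* M = 0` for
  every quasi-coherent `M` and `i > d`.
-/

set_option autoImplicit false
universe u

open CategoryTheory CategoryTheory.Limits AlgebraicGeometry Opposite TopologicalSpace
open Scheme.Modules

namespace Groth.Agent.Lib.helper11.FibreVanQC

variable {X Y : Scheme.{u}}

theorem fibreDimAt_le_of_fiber_dim_le (f : X ⟶ Y) (d : ℕ) (x : X)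
    (h : topologicalKrullDim ↥(f.fiber (f x)) ≤ d) : FlatMor.fibreDimAt f x ≤ d :=
  (Groth.Agent.Lib.helper3.TopDim.localDim_le_dim (X := ↥(f.fiber (f x))) (f.asFiber x)).trans h

theorem fiber_dim_le_of_fibreDimAt_le (f : X ⟶ Y) (d : ℕ) (s : Y)
    (h : ∀ x : X, f x = s → FlatMor.fibreDimAt f x ≤ d) :
    topologicalKrullDim ↥(f.fiber s) ≤ d := by
  rw [Groth.Agent.Lib.helper17.FieldBCDim.dim_eq_iSup_localDim]
  refine iSup_le (fun z => ?_)
  have hz := Groth.Agent.Lib.helper3.QFinTop.fiberι_mem f s z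
  rw [Groth.Agent.Lib.helper3.RelDim.localDim_fiber_eq f s _ hz z rfl]
  exact h _ hz

/-- a bound on all fibre dimensions is stable under base change -/
theorem fiber_dim_le_of_isPullback {X' Y' : Scheme.{u}} (f : X ⟶ Y) [LocallyOfFiniteType f]
    (g : Y' ⟶ Y) (g' : X' ⟶ X) (f' : X' ⟶ Y') (hsq : IsPullback g' f' f g) (d : ℕ)
    (hd : ∀ s : Y, topologicalKrullDim ↥(f.fiber s) ≤ d) (s' : Y') :
    topologicalKrullDim ↥(f'.fiber s') ≤ d := by
  refine fiber_dim_le_of_fibreDimAt_le f' d s' (fun x' _ => ?_)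
  rw [Groth.Agent.Lib.helper3.FibreDimBC.fibreDimAt_eq_of_isPullback f g g' f' hsq x']
  exact fibreDimAt_le_of_fiber_dim_le f d _ (hd _)

/-- **Noetherian case**. -/
theorem isZero_RpushAb_noeth (f : X ⟶ Y) [IsProper f] [IsNoetherian Y] (d : ℕ)
    (hd : ∀ y : Y, topologicalKrullDim ↥(f.fiber y) ≤ d) (M : X.Modules) [M.IsQuasicoherent]
    (i : ℕ) (hi : d < i) :
    IsZero ((Coh.RpushAb f i).obj (Coh.toAb M)) := by
  haveI : CompactSpace X := QuasiCompact.compactSpace_of_compactSpace f
  haveI : QuasiSeparatedSpace X := quasiSeparatedSpace_of_quasiSeparated f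
  refine Groth.Agent.Lib.helper11.QCohColim.isZero_RpushAb_of_ft f i (fun G hq hft => ?_) M
  refine Groth.Agent.Lib.helper27.PBCMain.isZero_of_stalks _ (fun y => ?_)
  exact Groth.Agent.Lib.helper27.FibreVan.isZero_stalk f y d (hd y) G ⟨hq, hft⟩ i hi

end Groth.Agent.Lib.helper11.FibreVanQC
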