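import Mathlib
import Groth.Agent.Lib.Helper11.FibreVanQC1
import Groth.Agent.Lib.Helper5.ConsApprox5
import Groth.Agent.Lib.Helper5.ConsApprox4
import Groth.Agent.S0591
import Groth.Agent.S2074
import Groth.Agent.S0403

/-!
# Noetherian models of proper morphisms with bounded fibre dimension (helper11)

`exists_noetherian_proper_model`: `f : X ⟶ Y` proper of finite presentation over an affine base with all fibres of
dimension `≤ d` is a base change of a proper morphism over a Noetherian base with all fibres of dimension `≤ d`.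
-/

set_option autoImplicit false
set_option backward.isDefEq.respectTransparency false
universe u

open CategoryTheory CategoryTheory.Limits AlgebraicGeometry Opposite TopologicalSpace

namespace Groth.Agent.Lib.helper11.FibreVanQC

open Groth.Agent.Lib.helper5.ConsApprox Groth.Agent.Lib.helper5.FGLimit

attribute [local instance] ULift.algebra'

/-- Noetherian proper model (no control of fibre dimensions) -/
theorem exists_noetherian_proper_model₀ {X Y : Scheme.{u}} [IsAffine Y] (f : X ⟶ Y) [IsProper f]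
    [LocallyOfFinitePresentation f] :
    ∃ (S₀ X₀ : Scheme.{u}) (_ : IsNoetherian S₀) (b : Y ⟶ S₀) (f₀ : X₀ ⟶ S₀) (e : X ⟶ X₀),
      IsProper f₀ ∧ IsPullback e f f₀ b := by
  let K : Type u := Γ(Y, ⊤)
  let ε : Y ≅ Spec (CommRingCat.of K) := Y.isoSpec
  let D := specDiagram (ULift.{u} ℤ) K
  let c := specCone (ULift.{u} ℤ) K
  have hc : IsLimit c := isLimitSpecCone (ULift.{u} ℤ) K
  let f' : X ⟶ c.pt := f ≫ ε.hom
  haveI : LocallyOfFinitePresentation f' :=
    inferInstanceAs (LocallyOfFinitePresentation (f ≫ ε.hom))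
  haveI : QuasiCompact f' := inferInstanceAs (QuasiCompact (f ≫ ε.hom))
  haveI : QuasiSeparated f' := inferInstanceAs (QuasiSeparated (f ≫ ε.hom))
  haveI : IsProper f' := inferInstanceAs (IsProper (f ≫ ε.hom))
  obtain ⟨k, X₀, f₀, gX, h1, h2, h3, sq⟩ := Groth.Agent.S0591.result D c hc X f'
  haveI := h1; haveI := h2; haveI := h3
  have hY : IsPullback (c.π.app k) (𝟙 c.pt) (𝟙 (D.obj k)) (c.π.app k) := IsPullback.id_vert _
  haveI haffk : IsAffine (D.obj k) :=
    inferInstanceAs (IsAffine (Spec (CommRingCat.of (adj (ULift.{u} ℤ) K k.unop))))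
  haveI : CompactSpace X₀ := QuasiCompact.compactSpace_of_compactSpace f₀
  haveI : QuasiSeparatedSpace X₀ := quasiSeparatedSpace_of_quasiSeparated f₀
  obtain ⟨j, φ, Xj, Yj, fj, gj, pY, pX, sqY, sqX, hj⟩ :=
    Groth.Agent.S2074.result D c hc k f₀ (𝟙 (D.obj k)) f' (𝟙 c.pt) (c.π.app k) gX hY sq
  haveI : IsIso gj := sqY.isIso_snd_of_isIso
  have big := sqX.paste_vert sqY
  rw [Category.comp_id] at big
  obtain ⟨e, -, sqe⟩ := exists_isPullback_of_comp (c.w φ) big sq
  refine ⟨D.obj j, Xj, isNoetherian_specDiagram_obj K j, ε.hom ≫ c.π.app j, fj ≫ gj, e,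
    inferInstance, ?_⟩
  have := (IsPullback.of_horiz_isIso (fst := 𝟙 X) (snd := f) (f := f') (g := ε.hom)
    ⟨by simp [f']⟩).paste_horiz sqe
  rwa [Category.id_comp] at this

/-- **Noetherian proper model with bounded fibre dimension**. -/
theorem exists_noetherian_proper_model {X Y : Scheme.{u}} [IsAffine Y] (f : X ⟶ Y) [IsProper f]
    [LocallyOfFinitePresentation f] (d : ℕ)
    (hd : ∀ y : Y, topologicalKrullDim ↥(f.fiber y) ≤ d) :
    ∃ (S₀ X₀ : Scheme.{u}) (_ : IsNoetherian S₀) (b : Y ⟶ S₀) (f₀ : X₀ ⟶ S₀) (e : X ⟶ X₀),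
      IsProper f₀ ∧ (∀ s : S₀, topologicalKrullDim ↥(f₀.fiber s) ≤ d) ∧ IsPullback e f f₀ b := by
  obtain ⟨S₁, X₁, hS₁, b, f₁, e, hf₁, sq⟩ := exists_noetherian_proper_model₀ f
  haveI := hS₁; haveI := hf₁
  -- the open locus of the base where the fibre dimension is `≤ d`
  let U₀ : S₁.Opens := ⟨{s | topologicalKrullDim ↥(f₁.fiber s) ≤ (d : WithBot ℕ∞)},
    Groth.Agent.S0403.result f₁ d⟩
  have hb : ∀ y : Y, b y ∈ U₀ := by
    intro y
    refine fiber_dim_le_of_fibreDimAt_le f₁ d (b y) (fun x₁ hx₁ => ?_)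
    obtain ⟨z, hz1, hz2⟩ := Scheme.Pullback.exists_preimage_pullback x₁ y hx₁
    let x : X := sq.isoPullback.inv z
    have hex : e x = x₁ := by
      have h1 : sq.isoPullback.inv ≫ e = pullback.fst f₁ b := sq.isoPullback_inv_fst
      have h2 := congrArg (fun ψ : pullback f₁ b ⟶ X₁ => ψ z) h1
      simp only [Scheme.Hom.comp_apply] at h2
      exact h2.trans hz1
    rw [← hex, ← Groth.Agent.Lib.helper3.FibreDimBC.fibreDimAt_eq_of_isPullback f₁ b e f sq x]
    exact fibreDimAt_le_of_fiber_dim_le f d x (hd _)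
  have hbr : Set.range b ⊆ Set.range U₀.ι := by
    rintro _ ⟨y, rfl⟩
    rw [Scheme.Opens.range_ι]
    exact hb y
  have her : Set.range e ⊆ Set.range (f₁ ⁻¹ᵁ U₀).ι := by
    rintro _ ⟨x, rfl⟩
    rw [Scheme.Opens.range_ι]
    show f₁ (e x) ∈ U₀
    have h1 : f₁ (e x) = b (f x) := by
      rw [← Scheme.Hom.comp_apply, ← Scheme.Hom.comp_apply, sq.w]
    rw [h1]
    exact hb _
  let b' : Y ⟶ (↑U₀ : Scheme.{u}) := IsOpenImmersion.lift U₀.ι b hbr
  let e' : X ⟶ (↑(f₁ ⁻¹ᵁ U₀) : Scheme.{u}) := IsOpenImmersion.lift (f₁ ⁻¹ᵁ U₀).ι e her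
  have hb' : b' ≫ U₀.ι = b := IsOpenImmersion.lift_fac _ _ _
  have he' : e' ≫ (f₁ ⁻¹ᵁ U₀).ι = e := IsOpenImmersion.lift_fac _ _ _
  have hN : IsNoetherian (↑U₀ : Scheme.{u}) := by
    haveI : CompactSpace (↑U₀ : Scheme.{u}) :=
      isCompact_iff_compactSpace.mp (TopologicalSpace.NoetherianSpace.isCompact (U₀ : Set S₁))
    exact {}
  refine ⟨↑U₀, ↑(f₁ ⁻¹ᵁ U₀), hN, b', f₁ ∣_ U₀, e', inferInstance, ?_, ?_⟩
  · intro s
    refine fiber_dim_le_of_fibreDimAt_le (f₁ ∣_ U₀) d s (fun x _ => ?_)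
    rw [Groth.Agent.Lib.helper3.FibreDimBC.fibreDimAt_eq_of_isPullback f₁ U₀.ι (f₁ ⁻¹ᵁ U₀).ι
      (f₁ ∣_ U₀) (isPullback_morphismRestrict f₁ U₀).flip x]
    refine fibreDimAt_le_of_fiber_dim_le f₁ d _ ?_
    exact x.2
  · refine IsPullback.of_right ?_ ?_ (isPullback_morphismRestrict f₁ U₀).flip
    · rw [he', hb']
      exact sq
    · rw [← cancel_mono U₀.ι, Category.assoc, morphismRestrict_ι, ← Category.assoc, he',
        Category.assoc, hb', sq.w]

end Groth.Agent.Lib.helper11.FibreVanQC
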