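import Mathlib
import Groth.Agent.Lib.Helper11.FibreVanQC2
import Groth.Agent.Lib.Helper27.BCVan
import Groth.Agent.Lib.Helper7.QCohPushQC
import Groth.Agent.S2079
import Groth.Agent.S9216
import Groth.Agent.S4456
import Groth.Agent.S0032

/-!
# Vanishing of `R^i f_*` above the fibre dimension, quasi-coherent modules: affine base (helper11)

`isZero_RpushAb_of_affine`: `f : X ⟶ Y` proper, `Y` affine (not necessarily Noetherian), all fibres of dimension `≤ d`:
`R^i f_* M = 0` for every quasi-coherent `M` and all `i > d` (Stacks 0E7D).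
-/

set_option autoImplicit false
set_option backward.isDefEq.respectTransparency false
universe u

open CategoryTheory CategoryTheory.Limits AlgebraicGeometry Opposite TopologicalSpace

namespace Groth.Agent.Lib.helper11.FibreVanQC

/-- finitely presented case -/
theorem isZero_RpushAb_of_affine_fp {X Y : Scheme.{u}} [IsAffine Y] (f : X ⟶ Y) [IsProper f]
    [LocallyOfFinitePresentation f] (d : ℕ)
    (hd : ∀ y : Y, topologicalKrullDim ↥(f.fiber y) ≤ d) (M : X.Modules) [M.IsQuasicoherent]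
    (i : ℕ) (hi : d < i) :
    IsZero ((Coh.RpushAb f i).obj (Coh.toAb M)) := by
  obtain ⟨S₀, X₀, hS₀, b, f₀, e, hf₀, hd₀, sq⟩ := exists_noetherian_proper_model f d hd
  haveI := hS₀; haveI := hf₀
  haveI : CompactSpace X₀ := QuasiCompact.compactSpace_of_compactSpace f₀
  haveI : QuasiSeparatedSpace X₀ := quasiSeparatedSpace_of_quasiSeparated f₀
  refine Groth.Agent.Lib.helper27.BCVan.main sq i (fun M₀ hM₀ => ?_) M
  haveI : M₀.IsQuasicoherent := hM₀
  exact isZero_RpushAb_noeth f₀ d hd₀ M₀ i hi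

/-- **Stacks 0E7D**, affine base. -/
theorem isZero_RpushAb_of_affine {X Y : Scheme.{u}} [IsAffine Y] (f : X ⟶ Y) [IsProper f] (d : ℕ)
    (hd : ∀ y : Y, topologicalKrullDim ↥(f.fiber y) ≤ d) (M : X.Modules) [M.IsQuasicoherent]
    (i : ℕ) (hi : d < i) :
    IsZero ((Coh.RpushAb f i).obj (Coh.toAb M)) := by
  obtain ⟨I, hI1, hI2, D, c, hc, e, hcl, hD⟩ := Groth.Agent.S2079.result f
  obtain ⟨i₁⟩ := IsCofiltered.nonempty (C := I)
  obtain ⟨hj, hp, hfp⟩ := hD i₁
  let X' : Scheme.{u} := (D.obj i₁).left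
  let f' : X' ⟶ Y := (D.obj i₁).hom
  let j : X ⟶ X' := e.inv.left ≫ (c.π.app i₁).left
  haveI : IsProper f' := hp
  haveI : LocallyOfFinitePresentation f' := hfp
  haveI : IsClosedImmersion (c.π.app i₁).left := hj
  haveI : IsClosedImmersion j := inferInstanceAs (IsClosedImmersion (e.inv.left ≫ (c.π.app i₁).left))
  have hjf : j ≫ f' = f := by
    have h1 := Over.w (c.π.app i₁)
    have h2 := Over.w e.inv
    simp only [j, f', Category.assoc]
    rw [h1]; exact h2
  obtain ⟨Z', ι', k, hι', hι'fp, hk, hdZ⟩ := Groth.Agent.S9216.result f' d j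
    (fun s => by rw [hjf]; exact hd s)
  haveI := hι'; haveI := hι'fp
  haveI : IsClosedImmersion k := by
    haveI : IsClosedImmersion (k ≫ ι') := by rw [hk]; infer_instance
    exact IsClosedImmersion.of_comp k ι'
  let f'' : Z' ⟶ Y := ι' ≫ f'
  have hkf : k ≫ f'' = f := by
    simp only [f'', ← Category.assoc, hk, hjf]
  haveI : (((Coh.push k).obj M) : Z'.Modules).IsQuasicoherent :=
    Groth.Agent.Lib.helper7.QCohPushQC.isQuasicoherent_pushforward k M
  have h0 := isZero_RpushAb_of_affine_fp f'' d hdZ ((Coh.push k).obj M) i hi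
  obtain ⟨φ⟩ := Groth.Agent.S4456.result k f'' M i
  have h1 := h0.of_iso φ.symm
  rw [hkf] at h1
  exact h1

/-- fibre dimension bound for the restriction over an open of the base -/
theorem fiber_dim_le_morphismRestrict {X Y : Scheme.{u}} (f : X ⟶ Y) [LocallyOfFiniteType f] (d : ℕ)
    (V : Y.Opens) (hV : ∀ s ∈ V, topologicalKrullDim ↥(f.fiber s) ≤ d) (s : (↑V : Scheme.{u})) :
    topologicalKrullDim ↥((f ∣_ V).fiber s) ≤ d := by
  refine fiber_dim_le_of_fibreDimAt_le (f ∣_ V) d s (fun x _ => ?_)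
  rw [Groth.Agent.Lib.helper3.FibreDimBC.fibreDimAt_eq_of_isPullback f V.ι (f ⁻¹ᵁ V).ι
    (f ∣_ V) (isPullback_morphismRestrict f V).flip x]
  refine fibreDimAt_le_of_fiber_dim_le f d _ (hV _ ?_)
  exact x.2

/-- **Stacks 0E7D**, local on the base: vanishing over every affine open where the fibre dimensions are bounded. -/
theorem isZero_RpushAb_morphismRestrict {X Y : Scheme.{u}} (f : X ⟶ Y) [IsProper f] (d : ℕ)
    (V : Y.Opens) (hVaff : IsAffineOpen V) (hV : ∀ s ∈ V, topologicalKrullDim ↥(f.fiber s) ≤ d)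
    (M : (↑(f ⁻¹ᵁ V) : Scheme.{u}).Modules) [M.IsQuasicoherent] (i : ℕ) (hi : d < i) :
    IsZero ((Coh.RpushAb (f ∣_ V) i).obj (Coh.toAb M)) := by
  haveI : IsAffine (↑V : Scheme.{u}) := hVaff
  exact isZero_RpushAb_of_affine (f ∣_ V) d (fiber_dim_le_morphismRestrict f d V hV) M i hi

/-- **Stacks 0E7D**, affine base, cohomology form. -/
theorem subsingleton_HH_of_affine {X Y : Scheme.{u}} [IsAffine Y] (f : X ⟶ Y) [IsProper f] (d : ℕ)
    (hd : ∀ y : Y, topologicalKrullDim ↥(f.fiber y) ≤ d) (M : X.Modules) [M.IsQuasicoherent]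
    (i : ℕ) (hi : d < i) : Subsingleton (Coh.HH X M i) := by
  have h0 := isZero_RpushAb_of_affine f d hd M i hi
  obtain ⟨φ⟩ := Groth.Agent.S0032.result f M i
  have hsub : Subsingleton ↑(((Coh.RpushAb f i).obj (Coh.toAb M)).obj.obj (Opposite.op ⊤)) := by
    have hz : IsZero (((Coh.RpushAb f i).obj (Coh.toAb M)).obj.obj (Opposite.op ⊤)) := by
      have h1 : IsZero ((sheafToPresheaf _ _).obj ((Coh.RpushAb f i).obj (Coh.toAb M))) :=
        Functor.map_isZero _ h0
      exact Functor.map_isZero ((evaluation _ _).obj (Opposite.op ⊤)) h1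
    exact AddCommGrpCat.subsingleton_of_isZero hz
  exact φ.toEquiv.subsingleton

/-- all fibres of the base change of a proper `f` to `Spec O_{Y,y}` have dimension `≤ d` as soon as the fibre over `y` does -/
theorem fiber_dim_le_local {X Y : Scheme.{u}} (f : X ⟶ Y) [IsProper f] (y : Y) (d : ℕ)
    (hd : topologicalKrullDim ↥(f.fiber y) ≤ d)
    (s : Spec (CommRingCat.of (Y.presheaf.stalk y))) :
    topologicalKrullDim ↥((pullback.snd f (Y.fromSpecStalk y)).fiber s) ≤ d := by
  refine fiber_dim_le_of_fibreDimAt_le _ d s (fun x₁ _ => ?_)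
  rw [Groth.Agent.Lib.helper3.FibreDimBC.fibreDimAt_eq_of_isPullback f (Y.fromSpecStalk y)
    (pullback.fst f (Y.fromSpecStalk y)) (pullback.snd f (Y.fromSpecStalk y))
    (IsPullback.of_hasPullback _ _) x₁]
  refine fibreDimAt_le_of_fiber_dim_le f d _ ?_
  have hspec : f (pullback.fst f (Y.fromSpecStalk y) x₁) ⤳ y := by
    have h1 : f (pullback.fst f (Y.fromSpecStalk y) x₁) =
        Y.fromSpecStalk y (pullback.snd f (Y.fromSpecStalk y) x₁) := by
      rw [← Scheme.Hom.comp_apply, ← Scheme.Hom.comp_apply, pullback.condition]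
    have h2 : Y.fromSpecStalk y (pullback.snd f (Y.fromSpecStalk y) x₁) ∈
        Set.range (Y.fromSpecStalk y) := ⟨_, rfl⟩
    rw [Scheme.range_fromSpecStalk] at h2
    rw [h1]
    exact h2
  exact hspec.mem_open (Groth.Agent.S0403.result f d) hd

end Groth.Agent.Lib.helper11.FibreVanQC
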