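import Mathlib
import Groth.Agent.Lib.Helper11.FibreVanQC3
import Groth.Agent.Lib.Helper9.ProConsMore

/-!
# Noetherian *affine* models of proper morphisms with bounded fibre dimension (helper11)

`exists_noetherian_affine_proper_model`: `f : X ⟶ Y` proper of finite presentation over an affine base with all fibres
of dimension `≤ d` is a base change of a proper morphism over `Spec A₀`, `A₀` a Noetherian ring, with all fibres of
dimension `≤ d`.
-/

set_option autoImplicit false
set_option backward.isDefEq.respectTransparency false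
universe u

open CategoryTheory CategoryTheory.Limits AlgebraicGeometry Opposite TopologicalSpace

namespace Groth.Agent.Lib.helper11.FibreVanQC

open Groth.Agent.Lib.helper5.ConsApprox Groth.Agent.Lib.helper5.FGLimit

attribute [local instance] ULift.algebra'

/-- **Noetherian affine proper model with bounded fibre dimension**. -/
theorem exists_noetherian_affine_proper_model {X Y : Scheme.{u}} [IsAffine Y] (f : X ⟶ Y)
    [IsProper f] [LocallyOfFinitePresentation f] (d : ℕ)
    (hd : ∀ y : Y, topologicalKrullDim ↥(f.fiber y) ≤ d) :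
    ∃ (A₀ : Type u) (_ : CommRing A₀) (_ : IsNoetherianRing A₀) (X₀ : Scheme.{u})
      (b : Y ⟶ Spec (CommRingCat.of A₀)) (f₀ : X₀ ⟶ Spec (CommRingCat.of A₀)) (e : X ⟶ X₀),
      IsProper f₀ ∧ (∀ s, topologicalKrullDim ↥(f₀.fiber s) ≤ d) ∧ IsPullback e f f₀ b := by
  let K : Type u := Γ(Y, ⊤)
  let ε : Y ≅ Spec (CommRingCat.of K) := Y.isoSpec
  let D := specDiagram (ULift.{u} ℤ) K
  let c := specCone (ULift.{u} ℤ) K
  have hc : IsLimit c := isLimitSpecCone (ULift.{u} ℤ) K
  let f' : X ⟶ c.pt := f ≫ ε.hom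
  haveI : LocallyOfFinitePresentation f' :=
    inferInstanceAs (LocallyOfFinitePresentation (f ≫ ε.hom))
  haveI : QuasiCompact f' := inferInstanceAs (QuasiCompact (f ≫ ε.hom))
  haveI : QuasiSeparated f' := inferInstanceAs (QuasiSeparated (f ≫ ε.hom))
  haveI : IsProper f' := inferInstanceAs (IsProper (f ≫ ε.hom))
  have hsq0 : IsPullback (𝟙 X) f' f ε.inv := by
    refine IsPullback.of_horiz_isIso ⟨?_⟩
    simp [f']
  have hd' : ∀ y : c.pt, topologicalKrullDim ↥(f'.fiber y) ≤ d :=
    fun y => fiber_dim_le_of_isPullback f ε.inv (𝟙 X) f' hsq0 d hd y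
  obtain ⟨k, X₁, f₁, gX, h1, h2, h3, sq⟩ := Groth.Agent.S0591.result D c hc X f'
  haveI := h1; haveI := h2; haveI := h3
  have hY : IsPullback (c.π.app k) (𝟙 c.pt) (𝟙 (D.obj k)) (c.π.app k) := IsPullback.id_vert _
  haveI haffk : IsAffine (D.obj k) :=
    inferInstanceAs (IsAffine (Spec (CommRingCat.of (adj (ULift.{u} ℤ) K k.unop))))
  haveI : CompactSpace X₁ := QuasiCompact.compactSpace_of_compactSpace f₁
  haveI : QuasiSeparatedSpace X₁ := quasiSeparatedSpace_of_quasiSeparated f₁
  obtain ⟨j, φ, Xj, Yj, fj, gj, pY, pX, sqY, sqX, hj⟩ :=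
    Groth.Agent.S2074.result D c hc k f₁ (𝟙 (D.obj k)) f' (𝟙 c.pt) (c.π.app k) gX hY sq
  haveI : IsIso gj := sqY.isIso_snd_of_isIso
  have big := sqX.paste_vert sqY
  rw [Category.comp_id] at big
  obtain ⟨e, -, sqe⟩ := exists_isPullback_of_comp (c.w φ) big sq
  -- the proper model over `D.obj j`
  let f₂ : Xj ⟶ D.obj j := fj ≫ gj
  haveI : IsProper f₂ := inferInstanceAs (IsProper (fj ≫ gj))
  -- the open locus of the base where the fibre dimension is `≤ d`
  let U₀ : (D.obj j).Opens := ⟨{s | topologicalKrullDim ↥(f₂.fiber s) ≤ (d : WithBot ℕ∞)},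
    Groth.Agent.S0403.result f₂ d⟩
  have hb : ∀ y : c.pt, c.π.app j y ∈ U₀ := by
    intro y
    refine fiber_dim_le_of_fibreDimAt_le f₂ d _ (fun x₁ hx₁ => ?_)
    obtain ⟨z, hz1, hz2⟩ := Scheme.Pullback.exists_preimage_pullback x₁ y hx₁
    let x : X := sqe.isoPullback.inv z
    have hex : e x = x₁ := by
      have h1 : sqe.isoPullback.inv ≫ e = pullback.fst f₂ (c.π.app j) := sqe.isoPullback_inv_fst
      have h2 := congrArg (fun ψ : pullback f₂ (c.π.app j) ⟶ Xj => ψ z) h1
      simp only [Scheme.Hom.comp_apply] at h2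
      exact h2.trans hz1
    rw [← hex, ← Groth.Agent.Lib.helper3.FibreDimBC.fibreDimAt_eq_of_isPullback f₂ (c.π.app j) e f'
      sqe x]
    exact fibreDimAt_le_of_fiber_dim_le f' d x (hd' _)
  -- pass to a later stage where the whole base lies in the locus
  haveI : CompactSpace ↥(D.obj j) := inferInstance
  let F : ∀ a : Over j, Set (D.obj a.left) := fun a => ⇑(D.map a.hom) ⁻¹' (U₀ : Set (D.obj j))
  have hF : ∀ a, ProCons.IsIndConstructible (F a) := fun a =>
    Groth.Agent.Lib.helper9.isIndConstructible_of_isOpen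
      (U₀.isOpen.preimage (D.map a.hom).continuous)
  have hFm : ∀ (a b : Over j) (m : a ⟶ b), ⇑(D.map m.left) ⁻¹' F b ⊆ F a := by
    intro a b m x hx
    have h1 : D.map m.left ≫ D.map b.hom = D.map a.hom := by
      rw [← D.map_comp, Over.w m]
    change D.map a.hom x ∈ U₀
    rw [← h1]
    exact hx
  have hev := (univ_subset_iff_eventually D c hc j F hF hFm).1 (by
    intro y _
    refine Set.mem_iUnion.2 ⟨Over.mk (𝟙 j), ?_⟩
    change D.map (𝟙 j) (c.π.app j y) ∈ U₀
    rw [D.map_id]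
    exact hb y)
  obtain ⟨a, ha⟩ := hev
  let j' := a.left
  let ψ : j' ⟶ j := a.hom
  have hψ : ∀ t : D.obj j', D.map ψ t ∈ U₀ := fun t => by
    have : t ∈ F a := by rw [ha]; trivial
    exact this
  let X₀ : Scheme.{u} := pullback f₂ (D.map ψ)
  let f₀ : X₀ ⟶ D.obj j' := pullback.snd f₂ (D.map ψ)
  haveI : IsProper f₀ := inferInstanceAs (IsProper (pullback.snd f₂ (D.map ψ)))
  have hsq₀ : IsPullback (pullback.fst f₂ (D.map ψ)) f₀ f₂ (D.map ψ) := IsPullback.of_hasPullback _ _
  obtain ⟨e', -, sqe'⟩ := exists_isPullback_of_comp (c.w ψ) hsq₀ sqe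
  refine ⟨↥(adj (ULift.{u} ℤ) K j'.unop), inferInstance, isNoetherianRing_adj K j'.unop, X₀,
    ε.hom ≫ c.π.app j', f₀, e', inferInstance, ?_, ?_⟩
  · intro s
    refine fiber_dim_le_of_fibreDimAt_le f₀ d s (fun x _ => ?_)
    rw [Groth.Agent.Lib.helper3.FibreDimBC.fibreDimAt_eq_of_isPullback f₂ (D.map ψ)
      (pullback.fst f₂ (D.map ψ)) f₀ hsq₀ x]
    refine fibreDimAt_le_of_fiber_dim_le f₂ d _ ?_
    have h1 : f₂ (pullback.fst f₂ (D.map ψ) x) = D.map ψ (f₀ x) := by
      rw [← Scheme.Hom.comp_apply, ← Scheme.Hom.comp_apply, pullback.condition]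
    rw [h1]
    exact hψ _
  · have := (IsPullback.of_horiz_isIso (fst := 𝟙 X) (snd := f) (f := f') (g := ε.hom)
      ⟨by simp [f']⟩).paste_horiz sqe'
    rwa [Category.id_comp] at this

end Groth.Agent.Lib.helper11.FibreVanQC
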