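import Mathlib
import Groth.Agent.Lib.Helper11.QCohColim
import Groth.Agent.Lib.Helper7.KerSections
import Groth.Agent.Lib.Helper18.HHConseq
import Groth.Agent.Lib.Helper18.HHSum0
import Groth.Agent.Lib.Helper27.FiltCohTop
import Groth.Agent.Lib.Helper27.DeltaF4
import Groth.Agent.Lib.Lead.RpushCoh

/-!
# Generation of the top cohomology by a jointly surjective family (helper11)

`mem_closure_range_map`: on a qcqs scheme `X` with `H^{d+1}(X, K) = 0` for all quasi-coherent `K`, if a family
`φ a : N a ⟶ G` of morphisms of quasi-coherent modules is jointly surjective on sections over the members of a finite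
affine open cover, then `H^d(X, G)` is generated (as a group) by the images of the `H^d(X, N a)`.
-/

set_option autoImplicit false
set_option backward.isDefEq.respectTransparency false
universe u

open CategoryTheory CategoryTheory.Limits AlgebraicGeometry Opposite TopologicalSpace
open Scheme.Modules

namespace Groth.Agent.Lib.helper11.FinTop

open Groth.Agent.Lib.Helper18

variable {X : Scheme.{u}}

/-- a morphism from a quasi-coherent module vanishing on sections over an affine open cover is zero -/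
theorem eq_zero_of_app_eq_zero {F Q : X.Modules} [F.IsQuasicoherent] (t : F ⟶ Q) {ι : Type*}
    (U : ι → X.Opens) (hU : ∀ i, IsAffineOpen (U i)) (hcov : ∀ x : X, ∃ i, x ∈ U i)
    (h : ∀ i (s : Γ(F, U i)), (t.app (U i)).hom s = 0) : t = 0 := by
  haveI : Epi (kernel.ι t) :=
    Groth.Agent.Lib.helper16.QCohEpi.epi_of_surjective_on_affine_cover (kernel.ι t) U hU hcov
      (fun i s => Groth.Agent.Lib.helper7.KerSections.exists_kernel_section t (U i) s (h i s))
  rw [← cancel_epi (kernel.ι t), kernel.condition, comp_zero]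

/-- every class in `H^d(X, G)` comes from a finite type quasi-coherent module mapping to `G` -/
theorem exists_ft_stage [CompactSpace X] [QuasiSeparatedSpace X] (G : X.Modules)
    [G.IsQuasicoherent] (d : ℕ) (x : Coh.HH X G d) :
    ∃ (G' : X.Modules) (i : G' ⟶ G) (_ : G'.IsQuasicoherent) (_ : CohB1.IsFT G')
      (x' : Coh.HH X G' d), HH.map i d x' = x := by
  obtain ⟨J, _, _, D, c, ⟨hc⟩, hpt, hD⟩ :=
    Groth.Agent.Lib.helper11.QCohColim.exists_filtered_colimit_ft G
  subst hpt
  haveI := Groth.Agent.Lib.Helper21.ModSh.toSheaf_preservesColimits X.ringCatSheaf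
  let Φ := SheafOfModules.toSheaf.{u} X.ringCatSheaf
  have hc' : IsColimit (Φ.mapCocone c) := isColimitOfPreserves Φ hc
  let T := (Sheaf.cohomologyPresheafFunctor (Opens.grothendieckTopology X) d).flip.obj
    (op (⊤ : Opens X))
  let 𝔅 : Set (Opens X) := {W | IsCompact (W : Set X)}
  haveI : PreservesColimit (D ⋙ Φ) T := by
    refine Groth.Agent.Lib.helper27.FiltCoh.preservesColimit_H_top 𝔅 (fun W hW => hW)
      (fun W hW W' hW' => ?_) (fun W hW V hVW x hx => ?_) ⊤ isCompact_univ d (D ⋙ Φ)
    · exact QuasiSeparatedSpace.inter_isCompact _ _ W.isOpen hW W'.isOpen hW'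
    · obtain ⟨W', hW', hxW', hle⟩ :=
        (Opens.isBasis_iff_nbhd.1 X.isBasis_affineOpens) hx
      exact ⟨W', hW'.isCompact, hxW', hle⟩
  have hc'' : IsColimit (T.mapCocone (Φ.mapCocone c)) := isColimitOfPreserves T hc'
  let x₀ : (T.obj (Coh.toAb c.pt) : AddCommGrpCat.{u}) :=
    (Groth.Agent.Lib.helper27.SerreVan.HEquivHU (Coh.toAb c.pt) d).symm x
  obtain ⟨j, y, hy⟩ := Groth.Agent.Lib.helper27.ab_colimit_exists_rep _ _ hc'' x₀
  refine ⟨D.obj j, c.ι.app j, (hD j).1, (hD j).2,
    Groth.Agent.Lib.helper27.SerreVan.HEquivHU (Coh.toAb (D.obj j)) d y, ?_⟩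
  rw [HH.map_apply]
  have h1 := Groth.Agent.Lib.Lead.RpushCoh.HEquivHU_map (HH.abMap (c.ι.app j)) d y
  refine h1.symm.trans ?_
  have h2 : CohTop.HUmap (HH.abMap (c.ι.app j)) d ⊤ y = x₀ := hy
  refine (congrArg _ h2).trans ?_
  exact (Groth.Agent.Lib.helper27.SerreVan.HEquivHU (Coh.toAb c.pt) d).apply_symm_apply x

local instance instFB : HasFiniteBiproducts X.Modules := Abelian.hasFiniteBiproducts

/-- sections of a morphism over an open, as a linear map -/
noncomputable def appLin {M N : X.Modules} (φ : M ⟶ N) (U : X.Opens) : Γ(M, U) →ₗ[Γ(X, U)] Γ(N, U) where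
  toFun := (φ.app U).hom
  map_add' := map_add _
  map_smul' r x := Hom.app_smul φ r x

/-- finite biproducts of quasi-coherent modules are quasi-coherent -/
theorem isQuasicoherent_biproduct' {J : Type*} [Finite J] (f : J → X.Modules)
    (h : ∀ j, (f j).IsQuasicoherent) : (⨁ f).IsQuasicoherent :=
  Groth.Agent.Lib.helper7.QCohProd.isQuasicoherent_of_iso (biproduct.isoProduct f).symm
    (Groth.Agent.Lib.helper7.QCohProd.isQuasicoherent_piObj f h)

open Groth.Agent.Lib.helper16.CohFinite in
/-- **generation of the top cohomology** by a family which is jointly surjective on sections over a finite affine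
cover -/
theorem mem_closure_range_map [CompactSpace X] [QuasiSeparatedSpace X] (d : ℕ)
    (hvan : ∀ K : X.Modules, K.IsQuasicoherent → Subsingleton (Coh.HH X K (d + 1)))
    (G : X.Modules) [G.IsQuasicoherent] {I : Type*} (N : I → X.Modules)
    (hN : ∀ a, (N a).IsQuasicoherent) (φ : ∀ a, N a ⟶ G) {ι : Type*} [Finite ι]
    (U : ι → X.Opens) (hU : ∀ i, IsAffineOpen (U i)) (hcov : ∀ x : X, ∃ i, x ∈ U i)
    (hspan : ∀ i, Submodule.span Γ(X, U i) (⋃ a, Set.range ((φ a).app (U i)).hom) = ⊤)
    (x : Coh.HH X G d) :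
    x ∈ AddSubgroup.closure (⋃ a, Set.range (HH.map (φ a) d)) := by
  classical
  obtain ⟨G', i', hq', hft', x', hx'⟩ := exists_ft_stage G d x
  haveI := hq'
  -- Step 2: a finite set of indices suffices over each member of the cover
  have key : ∀ i : ι, ∃ F : Finset I, ∀ s : Γ(G', U i), (i'.app (U i)).hom s ∈
      ⨆ a ∈ F, Submodule.span Γ(X, U i) (Set.range ((φ a).app (U i)).hom) := by
    intro i
    haveI : Module.Finite Γ(X, U i) Γ(G', U i) :=
      finite_sections_of_isFiniteType G' hft' (hU i)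
    obtain ⟨s, hs⟩ := (Module.Finite.fg_top : (⊤ : Submodule Γ(X, U i) Γ(G', U i)).FG)
    have h1 : ∀ g : Γ(G', U i), ∃ F : Finset I, (i'.app (U i)).hom g ∈
        ⨆ a ∈ F, Submodule.span Γ(X, U i) (Set.range ((φ a).app (U i)).hom) := by
      intro g
      have h0 : (i'.app (U i)).hom g ∈ (⊤ : Submodule Γ(X, U i) Γ(G, U i)) := trivial
      rw [← hspan i, Submodule.span_iUnion] at h0
      exact (Submodule.mem_iSup_iff_exists_finset).1 h0
    choose Fg hFg using h1
    refine ⟨s.biUnion Fg, fun t => ?_⟩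
    have ht : t ∈ Submodule.span Γ(X, U i) (s : Set Γ(G', U i)) := by rw [hs]; trivial
    have hle : Submodule.span Γ(X, U i) (s : Set Γ(G', U i)) ≤
        Submodule.comap (appLin i' (U i))
          (⨆ a ∈ s.biUnion Fg, Submodule.span Γ(X, U i) (Set.range ((φ a).app (U i)).hom)) := by
      rw [Submodule.span_le]
      intro g hg
      have h2 := hFg g
      change (i'.app (U i)).hom g ∈
        (⨆ a ∈ s.biUnion Fg, Submodule.span Γ(X, U i) (Set.range ((φ a).app (U i)).hom))
      refine (iSup₂_le (fun a ha => ?_) :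
        (⨆ a ∈ Fg g, Submodule.span Γ(X, U i) (Set.range ((φ a).app (U i)).hom)) ≤ _) h2
      exact le_iSup₂_of_le a (Finset.mem_biUnion.2 ⟨g, hg, ha⟩) le_rfl
    exact hle ht
  choose Fi hFi using key
  haveI := Fintype.ofFinite ι
  let F : Finset I := Finset.univ.biUnion Fi
  let NF : ↥F → X.Modules := fun a => N a.1
  let B : X.Modules := ⨁ NF
  let Ψ : B ⟶ G := biproduct.desc (fun a : ↥F => φ a.1)
  let p := cokernel.π Ψ
  have hφp : ∀ a ∈ F, φ a ≫ p = 0 := by
    intro a haF
    have h1 : φ a = biproduct.ι NF ⟨a, haF⟩ ≫ Ψ := by simp [Ψ, NF]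
    rw [h1, Category.assoc, cokernel.condition, comp_zero]
  have hzero : i' ≫ p = 0 := by
    refine eq_zero_of_app_eq_zero _ U hU hcov (fun i s => ?_)
    have h1 := hFi i s
    have hle : (⨆ a ∈ Fi i, Submodule.span Γ(X, U i) (Set.range ((φ a).app (U i)).hom)) ≤
        LinearMap.ker (appLin p (U i)) := by
      refine iSup₂_le (fun a ha => ?_)
      rw [Submodule.span_le]
      rintro _ ⟨n, rfl⟩
      have haF : a ∈ F := Finset.mem_biUnion.2 ⟨i, Finset.mem_univ _, ha⟩
      have h3 := hφp a haF
      have h4 : ((φ a ≫ p).app (U i)).hom n = 0 := by rw [h3]; rfl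
      exact h4
    exact hle h1
  -- Step 3
  let τ : G' ⟶ kernel p := kernel.lift p i' hzero
  let π' : B ⟶ kernel p := Abelian.factorThruImage Ψ
  have hfac : π' ≫ kernel.ι p = Ψ := Abelian.image.fac Ψ
  haveI : Epi π' := inferInstanceAs (Epi (Abelian.factorThruImage Ψ))
  let S : ShortComplex X.Modules := ShortComplex.mk (kernel.ι π') π' (kernel.condition π')
  have hS : S.ShortExact :=
    { exact := ShortComplex.exact_of_f_is_kernel _ (kernelIsKernel π')
      mono_f := inferInstanceAs (Mono (kernel.ι π'))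
      epi_g := inferInstanceAs (Epi π') }
  haveI hB : B.IsQuasicoherent := isQuasicoherent_biproduct' NF (fun a => hN a.1)
  haveI : (cokernel Ψ).IsQuasicoherent :=
    Groth.Agent.Lib.helper7.CohKer.isQuasicoherent_cokernel Ψ
  haveI : (kernel p).IsQuasicoherent := Groth.Agent.Lib.helper7.CohKer.isQuasicoherent_kernel p
  have hK : (kernel π').IsQuasicoherent := Groth.Agent.Lib.helper7.CohKer.isQuasicoherent_kernel π'
  obtain ⟨w, hw⟩ := HH.surjective_map_g hS d (hvan _ hK) (HH.map τ d x')
  have hw' : HH.map π' d w = HH.map τ d x' := hw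
  have hxw : x = HH.map Ψ d w := by
    rw [← hfac, HH.map_comp_apply, hw', ← HH.map_comp_apply, kernel.lift_ι, hx']
  -- Step 4
  have hsum : w = ∑ a : ↥F, HH.map (biproduct.π NF a ≫ biproduct.ι NF a) d w := by
    have ht : ∑ a : ↥F, biproduct.π NF a ≫ biproduct.ι NF a = 𝟙 (⨁ NF) :=
      CategoryTheory.Limits.IsBilimit.total (biproduct.isBilimit NF)
    have h1 := HH.map_sum Finset.univ (fun a : ↥F => biproduct.π NF a ≫ biproduct.ι NF a) d
    rw [ht, HH.map_id] at h1
    have h2 := congrArg (fun L => L w) h1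
    simpa using h2
  rw [hxw, hsum, map_sum]
  refine AddSubgroup.sum_mem _ (fun a _ => ?_)
  refine AddSubgroup.subset_closure (Set.mem_iUnion.2 ⟨a.1, HH.map (biproduct.π NF a) d w, ?_⟩)
  rw [← HH.map_comp_apply, ← HH.map_comp_apply]
  congr 2
  simp [Ψ, NF]

end Groth.Agent.Lib.helper11.FinTop
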