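import Mathlib

/-!
# Two algebra lemmas for the finiteness of the top cohomology (helper11)

* `closure_range_eq_top_of_isPushout`: a pushout of commutative rings is generated by the images of the two factors.
* `eq_top_of_stable`: a subgroup of a module which contains a generating set and is stable under two families of scalars
  generating the ring is everything.
-/

set_option autoImplicit false
universe u

open CategoryTheory CategoryTheory.Limits

namespace Groth.Agent.Lib.helper11.FinTop

/-- a pushout of commutative rings is generated, as a ring, by the images of the two factors -/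
theorem closure_range_eq_top_of_isPushout {R S T P : CommRingCat.{u}} {f : R ⟶ S} {g : R ⟶ T}
    {inl : S ⟶ P} {inr : T ⟶ P} (h : IsPushout f g inl inr) :
    Subring.closure (Set.range inl.hom ∪ Set.range inr.hom) = ⊤ := by
  set P' : Subring P := Subring.closure (Set.range inl.hom ∪ Set.range inr.hom) with hP'
  let Q : CommRingCat.{u} := CommRingCat.of P'
  let ι : Q ⟶ P := CommRingCat.ofHom P'.subtype
  let inl' : S ⟶ Q := CommRingCat.ofHom (inl.hom.codRestrict P'
    (fun s => Subring.subset_closure (Or.inl ⟨s, rfl⟩)))
  let inr' : T ⟶ Q := CommRingCat.ofHom (inr.hom.codRestrict P'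
    (fun s => Subring.subset_closure (Or.inr ⟨s, rfl⟩)))
  have hl : inl' ≫ ι = inl := by ext s; rfl
  have hr : inr' ≫ ι = inr := by ext s; rfl
  haveI : Mono ι := ConcreteCategory.mono_of_injective ι Subtype.val_injective
  have comm : f ≫ inl' = g ≫ inr' := by
    rw [← cancel_mono ι, Category.assoc, Category.assoc, hl, hr, h.w]
  have hid : h.desc inl' inr' comm ≫ ι = 𝟙 P := by
    apply h.hom_ext
    · rw [← Category.assoc, h.inl_desc, hl, Category.comp_id]
    · rw [← Category.assoc, h.inr_desc, hr, Category.comp_id]
  rw [eq_top_iff]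
  intro x _
  have hx : ι.hom ((h.desc inl' inr' comm).hom x) = x := by
    have := congrArg (fun ψ : P ⟶ P => ψ.hom x) hid
    exact this
  rw [← hx]
  exact ((h.desc inl' inr' comm).hom x).2

/-- a submodule (over `R₀`) of an `R`-module which contains an `R`-generating set and is stable under two families of
scalars generating the ring `R` is everything -/
theorem eq_top_of_stable {R₀ R A' Mod : Type*} [CommRing R₀] [CommRing R] [CommRing A']
    [AddCommGroup Mod] [Module R Mod] (inl : R₀ →+* R) (inr : A' →+* R)
    (hgen : Subring.closure (Set.range inl ∪ Set.range inr) = ⊤)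
    (s : Set Mod) (hs : Submodule.span R s = ⊤) (T : AddSubgroup Mod) (h1 : s ⊆ T)
    (h2 : ∀ (u : R₀) (m : Mod), m ∈ T → inl u • m ∈ T)
    (h3 : ∀ (a : A') (m : Mod), m ∈ T → inr a • m ∈ T) : T = ⊤ := by
  let R' : Subring R :=
    { carrier := {r | ∀ m ∈ T, r • m ∈ T}
      mul_mem' := fun {a b} ha hb m hm => by rw [mul_smul]; exact ha _ (hb m hm)
      one_mem' := fun m hm => by rwa [one_smul]
      add_mem' := fun {a b} ha hb m hm => by rw [add_smul]; exact T.add_mem (ha m hm) (hb m hm)
      zero_mem' := fun m _ => by rw [zero_smul]; exact T.zero_mem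
      neg_mem' := fun {a} ha m hm => by rw [neg_smul]; exact T.neg_mem (ha m hm) }
  have hR' : R' = ⊤ := by
    rw [eq_top_iff, ← hgen, Subring.closure_le]
    rintro r (⟨u, rfl⟩ | ⟨a, rfl⟩)
    · exact fun m hm => h2 u m hm
    · exact fun m hm => h3 a m hm
  have hall : ∀ (r : R) (m : Mod), m ∈ T → r • m ∈ T := fun r m hm => by
    have : r ∈ R' := by rw [hR']; trivial
    exact this m hm
  let T' : Submodule R Mod :=
    { carrier := T
      add_mem' := T.add_mem
      zero_mem' := T.zero_mem
      smul_mem' := fun r m hm => hall r m hm }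
  have hT' : T' = ⊤ := by
    rw [eq_top_iff, ← hs, Submodule.span_le]
    exact h1
  rw [eq_top_iff]
  intro m _
  have : m ∈ T' := by rw [hT']; trivial
  exact this

end Groth.Agent.Lib.helper11.FinTop
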