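import Mathlib
import Groth.Agent.Lib.Helper11.FinTop3
import Groth.Agent.Lib.Helper20.SmulHom

/-!
# The direct image of a module along an affine base change is spanned by translates of a generating submodule (helper11)

For a pullback square `X = X₀ ×_{S₀} Y` with `Y`, `S₀` affine, and `M` on `X`, the endomorphisms
`ρ r = e_*(f^♯ r ·)` (`r ∈ Γ(Y, O_Y)`) of `e_* M` are such that, over an affine open `U₀` of `X₀`, the sections of `e_* M`
are spanned over `Γ(X₀, U₀)` by the `ρ r`-translates of any set of sections generating `Γ(M, e⁻¹ U₀)` over `Γ(X, e⁻¹ U₀)`.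
-/

set_option autoImplicit false
set_option backward.isDefEq.respectTransparency false
universe u

open CategoryTheory CategoryTheory.Limits AlgebraicGeometry Opposite TopologicalSpace
open Scheme.Modules

namespace Groth.Agent.Lib.helper11.FinTop

open Groth.Agent.Lib.Helper20.SmulHom

variable {X X₀ Y S₀ : Scheme.{u}} {e : X ⟶ X₀} {f : X ⟶ Y} {f₀ : X₀ ⟶ S₀} {b : Y ⟶ S₀}

/-- the endomorphism of `e_* M` given by multiplication by `f^♯ r` -/
noncomputable def rho (e : X ⟶ X₀) (f : X ⟶ Y) (M : X.Modules) (r : Γ(Y, ⊤)) :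
    (pushforward e).obj M ⟶ (pushforward e).obj M :=
  (pushforward e).map (smulHom (f.appTop.hom r) M)

theorem rho_one (M : X.Modules) : rho e f M 1 = 𝟙 _ := by
  unfold rho
  rw [map_one, smulHom_one, CategoryTheory.Functor.map_id]

theorem rho_mul (M : X.Modules) (r r₁ : Γ(Y, ⊤)) :
    rho e f M r₁ ≫ rho e f M r = rho e f M (r * r₁) := by
  unfold rho
  rw [← Functor.map_comp, map_mul, smulHom_mul]

theorem rho_app (M : X.Modules) (r : Γ(Y, ⊤)) (U₀ : X₀.Opens)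
    (m : Γ((pushforward e).obj M, U₀)) :
    ((rho e f M r).app U₀).hom m =
      ((f.appLE ⊤ (e ⁻¹ᵁ U₀) le_top).hom r • (show Γ(M, e ⁻¹ᵁ U₀) from m) : Γ(M, e ⁻¹ᵁ U₀)) := by
  rfl

/-- **the span lemma** -/
theorem span_rho_eq_top (sq : IsPullback e f f₀ b) [IsAffine Y] [IsAffine S₀] (M : X.Modules)
    {U₀ : X₀.Opens} (hU₀ : IsAffineOpen U₀) {N : X₀.Modules} (ψ : N ⟶ (pushforward e).obj M)
    (s : Set Γ(M, e ⁻¹ᵁ U₀)) (hs : Submodule.span Γ(X, e ⁻¹ᵁ U₀) s = ⊤)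
    (hsψ : ∀ t ∈ s, t ∈ Set.range (ψ.app U₀).hom) :
    Submodule.span Γ(X₀, U₀) (⋃ r : Γ(Y, ⊤), Set.range ((ψ ≫ rho e f M r).app U₀).hom) = ⊤ := by
  set T : Submodule Γ(X₀, U₀) Γ((pushforward e).obj M, U₀) :=
    Submodule.span Γ(X₀, U₀) (⋃ r : Γ(Y, ⊤), Set.range ((ψ ≫ rho e f M r).app U₀).hom) with hT
  -- the pushout square of rings
  have hUST : (⊤ : Y.Opens) ≤ b ⁻¹ᵁ (⊤ : S₀.Opens) := le_top
  have hUSX : U₀ ≤ f₀ ⁻¹ᵁ (⊤ : S₀.Opens) := le_top
  have hUY : e ⁻¹ᵁ U₀ = e ⁻¹ᵁ U₀ ⊓ f ⁻¹ᵁ (⊤ : Y.Opens) := by simp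
  have hpo := (isIso_pushoutSection_iff sq hUST hUSX hUY).1
    (isIso_pushoutSection_of_isAffineOpen sq hUST hUSX hUY (isAffineOpen_top S₀)
      (isAffineOpen_top Y) hU₀)
  have hgen := closure_range_eq_top_of_isPushout hpo
  have key := eq_top_of_stable (Mod := Γ(M, e ⁻¹ᵁ U₀))
    (e.appLE U₀ (e ⁻¹ᵁ U₀) (by simp)).hom (f.appLE ⊤ (e ⁻¹ᵁ U₀) (by simp)).hom hgen s hs
    T.toAddSubgroup ?_ ?_ ?_
  · rw [eq_top_iff]
    intro m _
    have : m ∈ T.toAddSubgroup := by rw [key]; trivial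
    exact this
  · intro t ht
    obtain ⟨n, hn⟩ := hsψ t ht
    have h0 : (show Γ((pushforward e).obj M, U₀) from t) ∈ T := by
      refine Submodule.subset_span (Set.mem_iUnion.2 ⟨1, n, ?_⟩)
      rw [rho_one, Category.comp_id]
      exact hn
    exact h0
  · intro u m hm
    have h1 : ((e.appLE U₀ (e ⁻¹ᵁ U₀) (by simp)).hom u • m : Γ(M, e ⁻¹ᵁ U₀)) =
        (u • (show Γ((pushforward e).obj M, U₀) from m) : Γ((pushforward e).obj M, U₀)) := by
      change _ = ((e.app U₀).hom u • m : Γ(M, e ⁻¹ᵁ U₀))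
      congr 2
      rw [Scheme.Hom.appLE]
      simp
    rw [h1]
    exact T.smul_mem u hm
  · intro r m hm
    have h1 : ((f.appLE ⊤ (e ⁻¹ᵁ U₀) (by simp)).hom r • m : Γ(M, e ⁻¹ᵁ U₀)) =
        ((rho e f M r).app U₀).hom m := (rho_app M r U₀ m).symm
    rw [h1]
    -- `T` is stable under `rho r`
    let L : Γ((pushforward e).obj M, U₀) →ₗ[Γ(X₀, U₀)] Γ((pushforward e).obj M, U₀) :=
      { toFun := ((rho e f M r).app U₀).hom
        map_add' := map_add _
        map_smul' := fun u x => Hom.app_smul (rho e f M r) u x }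
    have hle : T ≤ T.comap L := by
      rw [hT, Submodule.span_le]
      rintro _ ⟨_, ⟨r₁, rfl⟩, n, rfl⟩
      refine Submodule.subset_span (Set.mem_iUnion.2 ⟨r * r₁, n, ?_⟩)
      rw [← rho_mul, ← Category.assoc]
      rfl
    exact hle hm

end Groth.Agent.Lib.helper11.FinTop
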