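import Mathlib
import Groth.Agent.Lib.Helper11.FinTop1
import Groth.Agent.Lib.Helper11.FinTop2
import Groth.Agent.Lib.Helper11.FinTop4
import Groth.Agent.Lib.Helper18.HHPush
import Groth.Agent.Lib.Helper16.FinPushCoh
import Groth.Agent.S0002

/-!
# Finiteness of the top cohomology `H^d(X, M)` for `X` proper over an arbitrary affine base with fibres of dimension `≤ d`
(helper11)
-/

set_option autoImplicit false
set_option backward.isDefEq.respectTransparency false
universe u

open CategoryTheory CategoryTheory.Limits AlgebraicGeometry Opposite TopologicalSpace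
open Scheme.Modules

namespace Groth.Agent.Lib.helper11.FinTop

open Groth.Agent.Lib.Helper18 Groth.Agent.Lib.helper11.FibreVanQC

/-- a finite affine open cover of a quasi-compact scheme -/
theorem exists_finite_affine_cover (X : Scheme.{u}) [CompactSpace X] :
    ∃ cov : Finset X.affineOpens, ∀ x : X, ∃ U ∈ cov, x ∈ U.1 := by
  obtain ⟨t, ht⟩ := isCompact_univ.elim_finite_subcover
    (fun U : X.affineOpens => ((U.1 : X.Opens) : Set X)) (fun U => U.1.isOpen) (fun x _ => by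
      have hx : x ∈ (⨆ U : X.affineOpens, (U.1 : X.Opens)) := by
        rw [iSup_affineOpens_eq_top]; trivial
      obtain ⟨U, hU⟩ := Opens.mem_iSup.1 hx
      exact Set.mem_iUnion.2 ⟨U, hU⟩)
  refine ⟨t, fun x => ?_⟩
  obtain ⟨U, hU⟩ := Set.mem_iUnion.1 (ht (Set.mem_univ x))
  obtain ⟨hUt, hxU⟩ := Set.mem_iUnion.1 hU
  exact ⟨U, hUt, hxU⟩

/-- the map on abelian sheaves underlying `rho` -/
theorem abMap_rho {X X₀ Y : Scheme.{u}} (e : X ⟶ X₀) (f : X ⟶ Y) (M : X.Modules) (r : Γ(Y, ⊤)) :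
    HH.abMap (rho e f M r) = (Coh.pushAb e).map (Coh.smulAb M (f.appTop.hom r)) := rfl


section Lin

variable (A : Type u) [CommRing A] {X X₀ : Scheme.{u}} [X.Over (Spec (CommRingCat.of A))]
  (e : X ⟶ X₀) [IsAffineHom e] (M : X.Modules) [M.IsQuasicoherent] (d : ℕ)

theorem toGlobal_ΓSpecIso_hom (r : Γ(Spec (CommRingCat.of A), ⊤)) :
    Coh.toGlobal (X ↘ Spec (CommRingCat.of A)) ((Scheme.ΓSpecIso (CommRingCat.of A)).hom.hom r) =
      (X ↘ Spec (CommRingCat.of A)).appTop.hom r := by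
  unfold Coh.toGlobal
  change (X ↘ Spec (CommRingCat.of A)).appTop.hom ((Scheme.ΓSpecIso (CommRingCat.of A)).inv.hom
      ((Scheme.ΓSpecIso (CommRingCat.of A)).hom.hom r)) = _
  congr 1
  exact ConcreteCategory.congr_hom (Scheme.ΓSpecIso (CommRingCat.of A)).hom_inv_id r

/-- the comparison `H^d(X₀, e_* M) ≃ H^d(X, M)` intertwines `rho r` with the scalar `r` -/
theorem pushEquiv_rho (r : Γ(Spec (CommRingCat.of A), ⊤))
    (z : Coh.HH X₀ ((pushforward e).obj M) d) :
    HH.pushEquivAdd e M d (HH.map (rho e (X ↘ Spec (CommRingCat.of A)) M r) d z) =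
      (Scheme.ΓSpecIso (CommRingCat.of A)).hom.hom r • HH.pushEquivAdd e M d z := by
  have h1 := HH.pushEquivAdd_natural e M
    (Coh.smulAb M ((X ↘ Spec (CommRingCat.of A)).appTop.hom r)) d z
  have h2 : HH.map (rho e (X ↘ Spec (CommRingCat.of A)) M r) d z =
      Sheaf.H.map ((Coh.pushAb e).map
        (Coh.smulAb M ((X ↘ Spec (CommRingCat.of A)).appTop.hom r))) d z := rfl
  have h3 : (Scheme.ΓSpecIso (CommRingCat.of A)).hom.hom r • HH.pushEquivAdd e M d z =
      Sheaf.H.map (Coh.smulAb M (Coh.toGlobal (X ↘ Spec (CommRingCat.of A))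
        ((Scheme.ΓSpecIso (CommRingCat.of A)).hom.hom r))) d (HH.pushEquivAdd e M d z) := rfl
  rw [h2, h3, toGlobal_ΓSpecIso_hom]
  exact h1

variable (A₀ : Type u) [CommRing A₀] [X₀.Over (Spec (CommRingCat.of A₀))]

/-- the comparison `H^d(X₀, e_* M) ≃ H^d(X, M)` is semilinear for scalars of the base -/
theorem pushEquiv_smul (b : Spec (CommRingCat.of A) ⟶ Spec (CommRingCat.of A₀))
    (hw : e ≫ (X₀ ↘ Spec (CommRingCat.of A₀)) = (X ↘ Spec (CommRingCat.of A)) ≫ b)
    (c : A₀) (z : Coh.HH X₀ ((pushforward e).obj M) d) :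
    ∃ a : A, HH.pushEquivAdd e M d (c • z) = a • HH.pushEquivAdd e M d z := by
  refine ⟨(Scheme.ΓSpecIso (CommRingCat.of A)).hom.hom (b.appTop.hom
    ((Scheme.ΓSpecIso (CommRingCat.of A₀)).inv.hom c)), ?_⟩
  have h1 : c • z = Coh.toGlobal (X₀ ↘ Spec (CommRingCat.of A₀)) c • z := rfl
  have h2 := HH.pushEquivAdd_smul e M d (Coh.toGlobal (X₀ ↘ Spec (CommRingCat.of A₀)) c) z
  have h3 : (Scheme.ΓSpecIso (CommRingCat.of A)).hom.hom (b.appTop.hom
      ((Scheme.ΓSpecIso (CommRingCat.of A₀)).inv.hom c)) • HH.pushEquivAdd e M d z =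
      Coh.toGlobal (X ↘ Spec (CommRingCat.of A)) ((Scheme.ΓSpecIso (CommRingCat.of A)).hom.hom
        (b.appTop.hom ((Scheme.ΓSpecIso (CommRingCat.of A₀)).inv.hom c))) •
        HH.pushEquivAdd e M d z := rfl
  rw [h1, h2, h3, toGlobal_ΓSpecIso_hom]
  congr 1
  have h4 : (X₀ ↘ Spec (CommRingCat.of A₀)).appTop ≫ e.appTop =
      b.appTop ≫ (X ↘ Spec (CommRingCat.of A)).appTop := by
    rw [← Scheme.Hom.comp_appTop, ← Scheme.Hom.comp_appTop, hw]
  exact ConcreteCategory.congr_hom h4 _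

end Lin

open Groth.Agent.Lib.helper16.CohFinite in
/-- **finiteness of the top cohomology**, finitely presented case -/
theorem finite_HH_top_fp (A : Type u) [CommRing A] (X : Scheme.{u})
    [X.Over (Spec (CommRingCat.of A))] [IsProper (X ↘ Spec (CommRingCat.of A))]
    [LocallyOfFinitePresentation (X ↘ Spec (CommRingCat.of A))] (d : ℕ)
    (hd : ∀ s, topologicalKrullDim ↥((X ↘ Spec (CommRingCat.of A)).fiber s) ≤ d)
    (M : X.Modules) (hM : Coh.IsCoh M) : Module.Finite A (Coh.HH X M d) := by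
  classical
  haveI : M.IsQuasicoherent := hM.1
  let f : X ⟶ Spec (CommRingCat.of A) := X ↘ Spec (CommRingCat.of A)
  obtain ⟨A₀, _, _, X₀, b, f₀, e, hf₀, hd₀, sq⟩ := exists_noetherian_affine_proper_model f d hd
  haveI := hf₀
  letI : X₀.Over (Spec (CommRingCat.of A₀)) := ⟨f₀⟩
  haveI : IsProper (X₀ ↘ Spec (CommRingCat.of A₀)) := hf₀
  haveI : IsAffineHom e :=
    MorphismProperty.of_isPullback (P := @IsAffineHom) sq.flip inferInstance
  haveI : CompactSpace X₀ := QuasiCompact.compactSpace_of_compactSpace f₀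
  haveI : QuasiSeparatedSpace X₀ := quasiSeparatedSpace_of_quasiSeparated f₀
  let G : X₀.Modules := (pushforward e).obj M
  haveI : G.IsQuasicoherent :=
    Groth.Agent.Lib.helper7.QCohPushQC.isQuasicoherent_pushforward e M
  obtain ⟨cov, hcov⟩ := exists_finite_affine_cover X₀
  -- for each affine open: a coherent submodule whose translates span
  have hdata : ∀ U : X₀.affineOpens, ∃ (N : X₀.Modules) (ψ : N ⟶ G), Coh.IsCoh N ∧
      Submodule.span Γ(X₀, U.1) (⋃ r : Γ(Spec (CommRingCat.of A), ⊤),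
        Set.range ((ψ ≫ rho e f M r).app U.1).hom) = ⊤ := by
    intro U
    have hW : IsAffineOpen (e ⁻¹ᵁ U.1) := U.2.preimage e
    haveI : Module.Finite Γ(X, e ⁻¹ᵁ U.1) Γ(M, e ⁻¹ᵁ U.1) :=
      finite_sections_of_isFiniteType M hM.2 hW
    obtain ⟨s, hs⟩ :=
      (Module.Finite.fg_top : (⊤ : Submodule Γ(X, e ⁻¹ᵁ U.1) Γ(M, e ⁻¹ᵁ U.1)).FG)
    obtain ⟨N, ψ, hmono, hq, hft, hmem⟩ :=
      Groth.Agent.Lib.helper16.Satur.exists_ft_sub_sections G U.2 s
    exact ⟨N, ψ, ⟨hq, hft⟩, span_rho_eq_top sq M U.2 ψ (s : Set _) hs (fun t ht => hmem t ht)⟩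
  choose N ψ hNcoh hNspan using hdata
  have hvan : ∀ K : X₀.Modules, K.IsQuasicoherent → Subsingleton (Coh.HH X₀ K (d + 1)) :=
    fun K hK => by
      haveI := hK
      exact subsingleton_HH_of_affine f₀ d hd₀ K (d + 1) (by omega)
  have hgen := fun x => mem_closure_range_map d hvan G
    (I := Γ(Spec (CommRingCat.of A), ⊤) × ↥cov) (fun p => N p.2.1) (fun p => (hNcoh p.2.1).1)
    (fun p => ψ p.2.1 ≫ rho e f M p.1) (ι := ↥cov) (fun i => i.1.1) (fun i => i.1.2)
    (fun x => by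
      obtain ⟨U, hU, hx⟩ := hcov x
      exact ⟨⟨U, hU⟩, hx⟩)
    (fun i => by
      rw [eq_top_iff, ← hNspan i.1]
      refine Submodule.span_mono (Set.iUnion_subset (fun r => ?_))
      exact Set.subset_iUnion_of_subset (r, i) le_rfl) x
  have hfin : ∀ U : X₀.affineOpens, Module.Finite A₀ (Coh.HH X₀ (N U) d) :=
    fun U => Groth.Agent.S0002.result A₀ X₀ (N U) (hNcoh U) d
  have hg : ∀ U : X₀.affineOpens, ∃ g : Finset (Coh.HH X₀ (N U) d),
      Submodule.span A₀ (g : Set (Coh.HH X₀ (N U) d)) = ⊤ := fun U => by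
    haveI := hfin U
    exact (Module.Finite.fg_top : (⊤ : Submodule A₀ (Coh.HH X₀ (N U) d)).FG)
  choose gens hgens using hg
  obtain ⟨E, hrho, hsm⟩ : ∃ E : Coh.HH X₀ G d ≃+ Coh.HH X M d,
      (∀ (r : Γ(Spec (CommRingCat.of A), ⊤)) (z : Coh.HH X₀ G d),
        E (HH.map (rho e f M r) d z) = (Scheme.ΓSpecIso (CommRingCat.of A)).hom.hom r • E z) ∧
      (∀ (c : A₀) (z : Coh.HH X₀ G d), ∃ a : A, E (c • z) = a • E z) :=
    ⟨HH.pushEquivAdd e M d, fun r z => pushEquiv_rho A e M d r z,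
      fun c z => pushEquiv_smul A e M d A₀ b sq.w c z⟩
  let S : Set (Coh.HH X M d) :=
    ⋃ U ∈ cov, (fun g => E (HH.map (ψ U) d g)) '' (gens U : Set (Coh.HH X₀ (N U) d))
  have hSfin : S.Finite :=
    Set.Finite.biUnion cov.finite_toSet (fun U _ => (gens U).finite_toSet.image _)
  refine Module.finite_def.2 (Submodule.fg_def.2 ⟨S, hSfin, ?_⟩)
  rw [eq_top_iff]
  intro y _
  have hy : E (E.symm y) ∈ Submodule.span A S := by
    refine AddSubgroup.closure_induction (p := fun x _ => E x ∈ Submodule.span A S)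
      ?_ ?_ ?_ ?_ (hgen (E.symm y))
    · rintro x hx
      obtain ⟨⟨r, U⟩, t, rfl⟩ := Set.mem_iUnion.1 hx
      have ht : t ∈ Submodule.span A₀ (gens U.1 : Set (Coh.HH X₀ (N U.1) d)) := by
        rw [hgens U.1]; trivial
      change E (HH.map (ψ U.1 ≫ rho e f M r) d t) ∈ Submodule.span A S
      rw [HH.map_comp_apply, hrho]
      refine Submodule.smul_mem _ _ ?_
      refine Submodule.span_induction (p := fun t _ => E (HH.map (ψ U.1) d t) ∈ Submodule.span A S)
        ?_ ?_ ?_ ?_ ht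
      · intro g hg
        refine Submodule.subset_span (Set.mem_iUnion₂.2 ⟨U.1, U.2, g, hg, rfl⟩)
      · rw [map_zero, map_zero]; exact Submodule.zero_mem _
      · intro t₁ t₂ _ _ h1 h2
        rw [map_add, map_add]; exact Submodule.add_mem _ h1 h2
      · intro c t₁ _ h1
        have h2 : HH.map (ψ U.1) d (c • t₁) = c • HH.map (ψ U.1) d t₁ :=
          (HH.mapOver A₀ (ψ U.1) d).map_smul c t₁
        obtain ⟨a, ha⟩ := hsm c (HH.map (ψ U.1) d t₁)
        have h3 : E (HH.map (ψ U.1) d (c • t₁)) = a • E (HH.map (ψ U.1) d t₁) :=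
          (congrArg E h2).trans ha
        rw [h3]
        exact Submodule.smul_mem _ a h1
    · rw [map_zero]; exact Submodule.zero_mem _
    · intro x₁ x₂ _ _ h1 h2
      rw [map_add]; exact Submodule.add_mem _ h1 h2
    · intro x₁ _ h1
      rw [map_neg]; exact Submodule.neg_mem _ h1
  rwa [E.apply_symm_apply] at hy

/-- **finiteness of the top cohomology**: `X` proper over `Spec A` (`A` any ring) with all fibres of dimension `≤ d`,
`M` quasi-coherent of finite type: `H^d(X, M)` is a finite `A`-module. -/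
theorem finite_HH_top (A : Type u) [CommRing A] (X : Scheme.{u})
    [X.Over (Spec (CommRingCat.of A))] [IsProper (X ↘ Spec (CommRingCat.of A))] (d : ℕ)
    (hd : ∀ s, topologicalKrullDim ↥((X ↘ Spec (CommRingCat.of A)).fiber s) ≤ d)
    (M : X.Modules) (hM : Coh.IsCoh M) : Module.Finite A (Coh.HH X M d) := by
  haveI : M.IsQuasicoherent := hM.1
  let f : X ⟶ Spec (CommRingCat.of A) := X ↘ Spec (CommRingCat.of A)
  obtain ⟨I, hI1, hI2, D, c, hc, ε, hcl, hD⟩ := Groth.Agent.S2079.result f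
  obtain ⟨i₁⟩ := IsCofiltered.nonempty (C := I)
  obtain ⟨hj, hp, hfp⟩ := hD i₁
  let X' : Scheme.{u} := (D.obj i₁).left
  let f' : X' ⟶ Spec (CommRingCat.of A) := (D.obj i₁).hom
  let j : X ⟶ X' := ε.inv.left ≫ (c.π.app i₁).left
  haveI : IsProper f' := hp
  haveI : LocallyOfFinitePresentation f' := hfp
  haveI : IsClosedImmersion (c.π.app i₁).left := hj
  haveI : IsClosedImmersion j :=
    inferInstanceAs (IsClosedImmersion (ε.inv.left ≫ (c.π.app i₁).left))
  have hjf : j ≫ f' = f := by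
    have h1 := Over.w (c.π.app i₁)
    have h2 := Over.w ε.inv
    simp only [j, f', Category.assoc]
    rw [h1]; exact h2
  obtain ⟨Z', ι', k, hι', hι'fp, hk, hdZ⟩ := Groth.Agent.S9216.result f' d j
    (fun s => by rw [hjf]; exact hd s)
  haveI := hι'; haveI := hι'fp
  haveI : IsClosedImmersion k := by
    haveI : IsClosedImmersion (k ≫ ι') := by rw [hk]; infer_instance
    exact IsClosedImmersion.of_comp k ι'
  let f'' : Z' ⟶ Spec (CommRingCat.of A) := ι' ≫ f'
  have hkf : k ≫ f'' = f := by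
    simp only [f'', ← Category.assoc, hk, hjf]
  letI : Z'.Over (Spec (CommRingCat.of A)) := ⟨f''⟩
  haveI : k.IsOver (Spec (CommRingCat.of A)) := ⟨hkf⟩
  haveI : IsProper (Z' ↘ Spec (CommRingCat.of A)) := inferInstanceAs (IsProper (ι' ≫ f'))
  haveI : LocallyOfFinitePresentation (Z' ↘ Spec (CommRingCat.of A)) :=
    inferInstanceAs (LocallyOfFinitePresentation (ι' ≫ f'))
  refine (HH.finite_iff_push k M A d).2 ?_
  exact finite_HH_top_fp A Z' d hdZ _
    (Groth.Agent.Lib.helper16.FinPushCoh.isCoh_push_of_isFinite k M hM)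

end Groth.Agent.Lib.helper11.FinTop
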