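import Mathlib
import Groth.Prelude.Def_QCohCat
import Groth.Agent.Lib.Helper7.CohKer
import Groth.Agent.Lib.Helper7.QCohProd
import Groth.Agent.Lib.Helper11.QCohSigma

/-!
# `QCoh(X)` is an abelian category with all small colimits (helper11)

Closure properties of the object property `QCohCat.isQCoh X` (zero object, kernels, cokernels, finite
products, all small colimits) packaged as Mathlib `ObjectProperty` instances, so that
`QCohCat.QCoh X` is `Abelian` and `HasColimitsOfSize.{u, u}`.
-/

set_option autoImplicit false
set_option backward.isDefEq.respectTransparency false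
universe u

open CategoryTheory CategoryTheory.Limits AlgebraicGeometry Opposite TopologicalSpace
open Scheme.Modules
open scoped ZeroObject

namespace Groth.Agent.Lib.helper11.QCohSAFT

variable (X : Scheme.{u})

theorem isQCoh_iff (F : X.Modules) : QCohCat.isQCoh X F ↔ F.IsQuasicoherent := Iff.rfl

instance instIso : (QCohCat.isQCoh X).IsClosedUnderIsomorphisms where
  of_iso e h := Groth.Agent.Lib.helper7.QCohProd.isQuasicoherent_of_iso e h

instance instZero : (QCohCat.isQCoh X).ContainsZero where
  exists_zero := by
    have : HasZeroObject X.Modules := inferInstance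
    exact ⟨(0 : X.Modules), isZero_zero _,
      Groth.Agent.Lib.helper7.CohKer.isQuasicoherent_of_isZero (isZero_zero _)⟩

instance instKer : (QCohCat.isQCoh X).IsClosedUnderKernels where
  kernels_le := by
    rintro _ ⟨f, k, hk, ⟨hX, hY⟩⟩
    have hX' : (_ : X.Modules).IsQuasicoherent := hX
    have hY' : (_ : X.Modules).IsQuasicoherent := hY
    have h1 : (kernel f).IsQuasicoherent :=
      Groth.Agent.Lib.helper7.CohKer.isQuasicoherent_kernel f
    exact Groth.Agent.Lib.helper7.QCohProd.isQuasicoherent_of_iso
      (IsLimit.conePointUniqueUpToIso (kernelIsKernel f) hk) h1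

instance instCoker : (QCohCat.isQCoh X).IsClosedUnderCokernels where
  cokernels_le := by
    rintro _ ⟨f, k, hk, ⟨hX, hY⟩⟩
    have hX' : (_ : X.Modules).IsQuasicoherent := hX
    have hY' : (_ : X.Modules).IsQuasicoherent := hY
    have h1 : (cokernel f).IsQuasicoherent :=
      Groth.Agent.Lib.helper7.CohKer.isQuasicoherent_cokernel f
    exact Groth.Agent.Lib.helper7.QCohProd.isQuasicoherent_of_iso
      (IsColimit.coconePointUniqueUpToIso (cokernelIsCokernel f) hk) h1

instance instFinProd : (QCohCat.isQCoh X).IsClosedUnderFiniteProducts := by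
  refine ObjectProperty.IsClosedUnderFiniteProducts.of_isClosedUnderLimitsOfShape
    (fun (J : Type) _ => ?_)
  refine ObjectProperty.IsClosedUnderLimitsOfShape.mk' ?_
  rintro _ ⟨F, hF⟩
  let f : J → X.Modules := fun j => F.obj ⟨j⟩
  have e : F ≅ Discrete.functor f := Discrete.natIso (fun ⟨j⟩ => Iso.refl _)
  have h1 : (∏ᶜ f).IsQuasicoherent :=
    Groth.Agent.Lib.helper7.QCohProd.isQuasicoherent_piObj f (fun j => hF ⟨j⟩)
  exact Groth.Agent.Lib.helper7.QCohProd.isQuasicoherent_of_iso
    (HasLimit.isoOfNatIso e).symm h1

noncomputable instance instAbelian : Abelian (QCohCat.QCoh X) :=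
  inferInstanceAs (Abelian (QCohCat.isQCoh X).FullSubcategory)

instance instCoprod (J : Type u) : (QCohCat.isQCoh X).IsClosedUnderColimitsOfShape (Discrete J) := by
  refine ObjectProperty.IsClosedUnderColimitsOfShape.mk' ?_
  rintro _ ⟨F, hF⟩
  let f : J → X.Modules := fun j => F.obj ⟨j⟩
  have e : F ≅ Discrete.functor f := Discrete.natIso (fun ⟨j⟩ => Iso.refl _)
  have h1 : (∐ f).IsQuasicoherent :=
    Groth.Agent.Lib.helper11.QCohSigma.isQuasicoherent_sigma f (fun j => hF ⟨j⟩)
  exact Groth.Agent.Lib.helper7.QCohProd.isQuasicoherent_of_iso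
    (HasColimit.isoOfNatIso e).symm h1

instance instHasCoproducts : HasCoproducts.{u} (QCohCat.QCoh X) := fun J =>
  inferInstanceAs (HasColimitsOfShape (Discrete J) (QCohCat.isQCoh X).FullSubcategory)

instance instHasColimits : HasColimitsOfSize.{u, u} (QCohCat.QCoh X) :=
  has_colimits_of_hasCoequalizers_and_coproducts

/-- the inclusion `QCoh(X) ⥤ Mod(O_X)` preserves coproducts -/
instance instPresCoprod (J : Type u) :
    PreservesColimitsOfShape (Discrete J) (QCohCat.isQCoh X).ι := inferInstance

end Groth.Agent.Lib.helper11.QCohSAFT
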