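import Mathlib
import Groth.Agent.Lib.Helper11.QCohSAFT1
import Groth.Agent.Lib.Helper11.QCohColim
import Groth.Agent.Lib.Helper11.CounitEpi
import Groth.Agent.Lib.Helper21.SchShriek
import Groth.Agent.Lib.Helper16.CohFinite
import Groth.Agent.Lib.Helper11.FinTop5

/-!
# A small separating family in `QCoh(X)` for quasi-compact quasi-separated `X` (helper11)

For a finite affine open cover `𝒰` of `X`, every finite type quasi-coherent module is a quotient of the single
`O_X`-module `BB 𝒰 = ∐_{(U, l) ∈ 𝒰 × ℕ} j_{U!} O_U`.  Hence the quasi-coherent quotients of `BB 𝒰` form a small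
family containing all finite type quasi-coherent modules up to isomorphism; it is separating in `QCoh(X)`
since every quasi-coherent module is the union of its finite type quasi-coherent submodules.
-/

set_option autoImplicit false
set_option backward.isDefEq.respectTransparency false
universe u

open CategoryTheory CategoryTheory.Limits AlgebraicGeometry Opposite TopologicalSpace
open Scheme.Modules

namespace Groth.Agent.Lib.helper11.QCohSAFT

open Groth.Agent.Lib.helper21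

variable {X : Scheme.{u}}

section Big

variable (𝒰 : Finset X.Opens)

/-- index type of the big coproduct -/
abbrev KK : Type u := {U : X.Opens // U ∈ 𝒰} × ℕ

/-- summand of the big coproduct: `j_! O_U` -/
noncomputable def PP (U : X.Opens) : X.Modules :=
  (SchShriek.shriek U).obj (SheafOfModules.unit (U : Scheme.{u}).ringCatSheaf)

/-- the big object `∐_{(U, l)} j_{U!} O_U` -/
noncomputable def BB : X.Modules := ∐ (fun p : KK 𝒰 => PP p.1.1)

variable {𝒰}

/-- the morphism `j_! O_U ⟶ G` attached to a morphism `O_U ⟶ G|_U` -/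
noncomputable def ofRestr {U : X.Opens} {G : X.Modules}
    (ψ : SheafOfModules.unit (U : Scheme.{u}).ringCatSheaf ⟶ (restrictFunctor U.ι).obj G) :
    PP U ⟶ G :=
  ((SchShriek.adj U).homEquiv _ _).symm ψ

theorem unit_ofRestr {U : X.Opens} {G : X.Modules}
    (ψ : SheafOfModules.unit (U : Scheme.{u}).ringCatSheaf ⟶ (restrictFunctor U.ι).obj G) :
    (SchShriek.adj U).unit.app _ ≫ (restrictFunctor U.ι).map (ofRestr ψ) = ψ := by
  have h := ((SchShriek.adj U).homEquiv _ _).apply_symm_apply ψ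
  rw [Adjunction.homEquiv_unit] at h
  exact h

theorem exists_epi_BB (hcov : ∀ x : X, ∃ U ∈ 𝒰, x ∈ U)
    (G : X.Modules) [G.IsQuasicoherent]
    (hG : ∀ U ∈ 𝒰, ∃ σ : SheafOfModules.GeneratingSections (G.restrict U.ι), Finite σ.I) :
    ∃ π : BB 𝒰 ⟶ G, Epi π := by
  classical
  choose σ hσ using hG
  -- enumerations
  have he : ∀ (U : X.Opens) (hU : U ∈ 𝒰), ∃ n : ℕ, Nonempty ((σ U hU).I ≃ Fin n) := fun U hU =>
    haveI := hσ U hU
    Finite.exists_equiv_fin _
  choose n e using he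
  let ψ : ∀ p : KK 𝒰, SheafOfModules.unit (p.1.1 : Scheme.{u}).ringCatSheaf ⟶
      (restrictFunctor p.1.1.ι).obj G := fun p =>
    if h : p.2 < n p.1.1 p.1.2 then
      (G.restrict p.1.1.ι).unitHomEquiv.symm
        ((σ p.1.1 p.1.2).s ((e p.1.1 p.1.2).some.symm ⟨p.2, h⟩))
    else 0
  let π : BB 𝒰 ⟶ G := Sigma.desc (fun p => ofRestr (ψ p))
  refine ⟨π, ?_⟩
  refine Groth.Agent.Lib.helper11.CounitEpi.epi_of_forall_restrict π (fun x => ?_)
  obtain ⟨U, hU, hxU⟩ := hcov x
  refine ⟨U, hxU, ?_⟩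
  let R := restrictFunctor U.ι
  let ρ : SheafOfModules.free (σ U hU).I ⟶ R.obj (BB 𝒰) :=
    Sigma.desc (fun i => (SchShriek.adj U).unit.app _ ≫
      R.map (Sigma.ι (fun p : KK 𝒰 => PP p.1.1) (⟨⟨U, hU⟩, ((e U hU).some i : ℕ)⟩ : KK 𝒰)))
  have hfac : ρ ≫ R.map π = (σ U hU).π := by
    refine Sigma.hom_ext _ _ (fun i => ?_)
    have h1 : SheafOfModules.ιFree i ≫ (σ U hU).π =
        (G.restrict U.ι).unitHomEquiv.symm ((σ U hU).s i) := by
      rw [← SheafOfModules.unitHomEquiv_symm_freeHomEquiv_apply]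
      congr 1
      exact congrFun ((G.restrict U.ι).freeHomEquiv.apply_symm_apply (σ U hU).s) i
    refine Eq.trans ?_ h1.symm
    have hlt : ((e U hU).some i : ℕ) < n U hU := ((e U hU).some i).2
    have hψ : ψ (⟨⟨U, hU⟩, ((e U hU).some i : ℕ)⟩ : KK 𝒰) =
        (G.restrict U.ι).unitHomEquiv.symm ((σ U hU).s i) := by
      simp only [ψ]
      rw [dif_pos hlt]
      congr 2
      exact (e U hU).some.symm_apply_apply i
    have h2 : Sigma.ι (fun _ : (σ U hU).I => SheafOfModules.unit (U : Scheme.{u}).ringCatSheaf) i ≫ ρ =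
        (SchShriek.adj U).unit.app _ ≫
          R.map (Sigma.ι (fun p : KK 𝒰 => PP p.1.1) (⟨⟨U, hU⟩, ((e U hU).some i : ℕ)⟩ : KK 𝒰)) :=
      colimit.ι_desc _ _
    have h3 : Sigma.ι (fun p : KK 𝒰 => PP p.1.1) (⟨⟨U, hU⟩, ((e U hU).some i : ℕ)⟩ : KK 𝒰) ≫ π =
        ofRestr (ψ (⟨⟨U, hU⟩, ((e U hU).some i : ℕ)⟩ : KK 𝒰)) :=
      colimit.ι_desc _ _
    rw [← Category.assoc, h2, Category.assoc, ← R.map_comp, h3]
    exact (unit_ofRestr _).trans hψ
  haveI := (σ U hU).epi
  haveI : Epi (ρ ≫ R.map π) := by rw [hfac]; infer_instance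
  exact epi_of_epi ρ (R.map π)

end Big

section Family

variable (𝒰 : Finset X.Opens)

/-- index type of the separating family: subobjects of `BB 𝒰` with quasi-coherent quotient -/
def II : Type u :=
  {t : Shrink.{u} (Subobject (BB 𝒰)) //
    (cokernel ((equivShrink (Subobject (BB 𝒰))).symm t).arrow).IsQuasicoherent}

/-- the members of the separating family -/
noncomputable def famObj (t : II 𝒰) : QCohCat.QCoh X :=
  ⟨cokernel ((equivShrink (Subobject (BB 𝒰))).symm t.1).arrow, t.2⟩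

/-- the separating family: quasi-coherent quotients of `BB 𝒰` -/
def fam : ObjectProperty (QCohCat.QCoh X) := ObjectProperty.ofObj (famObj 𝒰)

instance instSmallFam : ObjectProperty.Small.{u} (fam 𝒰) :=
  inferInstanceAs (ObjectProperty.Small.{u} (ObjectProperty.ofObj (famObj 𝒰)))

variable {𝒰}

/-- a quasi-coherent quotient of `BB 𝒰` is isomorphic to a member of the family -/
theorem exists_fam_iso (G : X.Modules) [hG : G.IsQuasicoherent] (π : BB 𝒰 ⟶ G) [Epi π] :
    ∃ t : II 𝒰, Nonempty ((famObj 𝒰 t).obj ≅ G) := by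
  let K : Subobject (BB 𝒰) := kernelSubobject π
  have hK : K.arrow = (kernelSubobjectIso π).hom ≫ kernel.ι π :=
    (kernelSubobject_arrow π).symm
  let e1 : cokernel K.arrow ≅ cokernel (kernel.ι π) :=
    cokernelIsoOfEq hK ≪≫ cokernelEpiComp (kernelSubobjectIso π).hom (kernel.ι π)
  let e2 : cokernel (kernel.ι π) ≅ G :=
    (cokernelIsCokernel (kernel.ι π)).coconePointUniqueUpToIso
      (Abelian.epiIsCokernelOfKernel (KernelFork.ofι (kernel.ι π) (kernel.condition π))
        (kernelIsKernel π))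
  have hq : (cokernel K.arrow).IsQuasicoherent :=
    Groth.Agent.Lib.helper7.QCohProd.isQuasicoherent_of_iso (e1 ≪≫ e2).symm hG
  have hK' : (equivShrink (Subobject (BB 𝒰))).symm (equivShrink (Subobject (BB 𝒰)) K) = K :=
    Equiv.symm_apply_apply _ _
  have key : ∀ K' : Subobject (BB 𝒰), K' = K →
      ((cokernel K'.arrow).IsQuasicoherent ∧ Nonempty (cokernel K'.arrow ≅ G)) := by
    rintro K' rfl
    exact ⟨hq, ⟨e1 ≪≫ e2⟩⟩
  exact ⟨⟨equivShrink (Subobject (BB 𝒰)) K, (key _ hK').1⟩, (key _ hK').2⟩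

/-- **the quasi-coherent quotients of `BB 𝒰` separate `QCoh(X)`** (`X` qcqs, `𝒰` a finite affine cover) -/
theorem isSeparating_fam [CompactSpace X] [QuasiSeparatedSpace X]
    (h𝒰 : ∀ U ∈ 𝒰, IsAffineOpen U) (hcov : ∀ x : X, ∃ U ∈ 𝒰, x ∈ U) :
    (fam 𝒰).IsSeparating := by
  intro F F' f g hfg
  apply ObjectProperty.hom_ext
  obtain ⟨Fo, hFo⟩ := F
  haveI : Fo.IsQuasicoherent := hFo
  obtain ⟨J, _, _, D, c, ⟨hc⟩, hpt, hD⟩ :=
    Groth.Agent.Lib.helper11.QCohColim.exists_filtered_colimit_ft Fo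
  subst hpt
  refine hc.hom_ext (fun j => ?_)
  haveI : (D.obj j).IsQuasicoherent := (hD j).1
  have hgen : ∀ U ∈ 𝒰, ∃ σ : SheafOfModules.GeneratingSections ((D.obj j).restrict U.ι),
      Finite σ.I := fun U hU => by
    haveI : Module.Finite Γ(X, U) Γ(D.obj j, U) :=
      Groth.Agent.Lib.helper16.CohFinite.finite_sections_of_isFiniteType (D.obj j) (hD j).2
        (h𝒰 U hU)
    exact Groth.Agent.Lib.helper16.CohFinite.exists_generatingSections_restrict_of_finite
      (D.obj j) (h𝒰 U hU)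
  obtain ⟨π, hπ⟩ := exists_epi_BB hcov (D.obj j) hgen
  obtain ⟨t, ⟨e⟩⟩ := exists_fam_iso (D.obj j) π
  let h : famObj 𝒰 t ⟶ (⟨c.pt, hFo⟩ : QCohCat.QCoh X) :=
    ObjectProperty.homMk (e.hom ≫ c.ι.app j)
  have h1 := hfg (famObj 𝒰 t) ⟨t⟩ h
  have h2 : (e.hom ≫ c.ι.app j) ≫ f.hom = (e.hom ≫ c.ι.app j) ≫ g.hom :=
    congrArg (fun k => k.hom) h1
  rw [Category.assoc, Category.assoc] at h2
  exact (cancel_epi e.hom).1 h2

/-- a finite affine cover as a finset of opens -/
theorem exists_finset_affine_cover (X : Scheme.{u}) [CompactSpace X] :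
    ∃ 𝒰 : Finset X.Opens, (∀ U ∈ 𝒰, IsAffineOpen U) ∧ ∀ x : X, ∃ U ∈ 𝒰, x ∈ U := by
  classical
  obtain ⟨cov, hcov⟩ := Groth.Agent.Lib.helper11.FinTop.exists_finite_affine_cover X
  refine ⟨cov.image (fun U => U.1), fun U hU => ?_, fun x => ?_⟩
  · obtain ⟨V, -, rfl⟩ := Finset.mem_image.1 hU
    exact V.2
  · obtain ⟨V, hV, hx⟩ := hcov x
    exact ⟨V.1, Finset.mem_image.2 ⟨V, hV, rfl⟩, hx⟩

end Family

end Groth.Agent.Lib.helper11.QCohSAFT
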