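import Mathlib
import Groth.Agent.Lib.Helper11.QCohSAFT2
import Groth.Agent.Lib.Helper11.FPQuot2
import Groth.Agent.Lib.Helper11.LocCoker
import Groth.Agent.Lib.Helper21.ModGroth

/-!
# A quasi-coherent module on a qcqs scheme is a filtered colimit of finitely presented modules (helper11)

Part 1: the small index category `Idx 𝒰 F` of finitely presented quotients `P` of the big module `BB 𝒰` equipped with
a map `P ⟶ F`, a full subcategory of `Over F`; it contains all finitely presented modules over `F` up to isomorphism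
(`exists_ob_iso`) and is filtered (`instIsFiltered`).
-/

set_option autoImplicit false
set_option backward.isDefEq.respectTransparency false
universe u

open CategoryTheory CategoryTheory.Limits AlgebraicGeometry Opposite TopologicalSpace
open Scheme.Modules

namespace Groth.Agent.Lib.helper11.FPColim

open Groth.Agent.Lib.helper11.QCohSAFT

variable {X : Scheme.{u}} (𝒰 : Finset X.Opens) (F : X.Modules)

/-- index type: finitely presented quotients of `BB 𝒰` with a map to `F` -/
def I₀ : Type u :=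
  Σ t : {t : Shrink.{u} (Subobject (BB 𝒰)) //
      CohB1.IsFP (cokernel ((equivShrink (Subobject (BB 𝒰))).symm t).arrow)},
    (cokernel ((equivShrink (Subobject (BB 𝒰))).symm t.1).arrow ⟶ F)

/-- the object of `Over F` attached to an index -/
noncomputable def ob (i : I₀ 𝒰 F) : Over F := Over.mk i.2

theorem isFP_ob (i : I₀ 𝒰 F) : CohB1.IsFP (ob 𝒰 F i).left := i.1.2

/-- the small index category -/
abbrev Idx : Type u := InducedCategory (Over F) (ob 𝒰 F)

/-- the diagram of finitely presented modules -/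
noncomputable def DD : Idx 𝒰 F ⥤ X.Modules := inducedFunctor (ob 𝒰 F) ⋙ Over.forget F

theorem isFP_DD (i : Idx 𝒰 F) : CohB1.IsFP ((DD 𝒰 F).obj i) := isFP_ob 𝒰 F i

/-- the canonical cocone with vertex `F` -/
noncomputable def cc : Cocone (DD 𝒰 F) where
  pt := F
  ι :=
    { app := fun i => (ob 𝒰 F i).hom
      naturality := fun i j f => by
        simp [DD] }

variable {𝒰 F}

theorem exists_ob_iso_of_sub (K : Subobject (BB 𝒰)) (hK : CohB1.IsFP (cokernel K.arrow))
    (a : cokernel K.arrow ⟶ F) : ∃ i : I₀ 𝒰 F, Nonempty (ob 𝒰 F i ≅ Over.mk a) := by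
  have key : ∀ (K' : Subobject (BB 𝒰)), K' = K →
      ∃ (_ : CohB1.IsFP (cokernel K'.arrow)) (a' : cokernel K'.arrow ⟶ F),
        Nonempty (Over.mk a' ≅ Over.mk a) := by
    rintro K' rfl
    exact ⟨hK, a, ⟨Iso.refl _⟩⟩
  obtain ⟨hfp, a', ⟨e⟩⟩ := key _ (Equiv.symm_apply_apply (equivShrink (Subobject (BB 𝒰))) K)
  exact ⟨⟨⟨equivShrink (Subobject (BB 𝒰)) K, hfp⟩, a'⟩, ⟨e⟩⟩

/-- every finitely presented module over `F` is isomorphic to a member of the family -/
theorem exists_ob_iso (h𝒰 : ∀ U ∈ 𝒰, IsAffineOpen U) (hcov : ∀ x : X, ∃ U ∈ 𝒰, x ∈ U)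
    (P : X.Modules) (hP : CohB1.IsFP P) (a : P ⟶ F) :
    ∃ i : I₀ 𝒰 F, Nonempty (ob 𝒰 F i ≅ Over.mk a) := by
  haveI hP' : SheafOfModules.IsFinitePresentation (R := X.ringCatSheaf) P := hP
  haveI hPq : P.IsQuasicoherent :=
    inferInstanceAs (SheafOfModules.IsQuasicoherent (R := X.ringCatSheaf) P)
  have hPft : CohB1.IsFT P := inferInstanceAs (SheafOfModules.IsFiniteType (R := X.ringCatSheaf) P)
  have hgen : ∀ U ∈ 𝒰, ∃ σ : SheafOfModules.GeneratingSections (P.restrict U.ι),
      Finite σ.I := fun U hU => by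
    haveI : Module.Finite Γ(X, U) Γ(P, U) :=
      Groth.Agent.Lib.helper16.CohFinite.finite_sections_of_isFiniteType P hPft (h𝒰 U hU)
    exact Groth.Agent.Lib.helper16.CohFinite.exists_generatingSections_restrict_of_finite
      P (h𝒰 U hU)
  obtain ⟨π, hπ⟩ := exists_epi_BB hcov P hgen
  let K : Subobject (BB 𝒰) := kernelSubobject π
  have hK : K.arrow = (kernelSubobjectIso π).hom ≫ kernel.ι π :=
    (kernelSubobject_arrow π).symm
  let e1 : cokernel K.arrow ≅ cokernel (kernel.ι π) :=
    cokernelIsoOfEq hK ≪≫ cokernelEpiComp (kernelSubobjectIso π).hom (kernel.ι π)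
  let e2 : cokernel (kernel.ι π) ≅ P :=
    (cokernelIsCokernel (kernel.ι π)).coconePointUniqueUpToIso
      (Abelian.epiIsCokernelOfKernel (KernelFork.ofι (kernel.ι π) (kernel.condition π))
        (kernelIsKernel π))
  let e : cokernel K.arrow ≅ P := e1 ≪≫ e2
  haveI hq : (cokernel K.arrow).IsQuasicoherent :=
    Groth.Agent.Lib.helper7.QCohProd.isQuasicoherent_of_iso e.symm hPq
  have hfp : CohB1.IsFP (cokernel K.arrow) :=
    Groth.Agent.Lib.helper11.FPExt.isFP_of_iso e.symm hP
  obtain ⟨i, ⟨ei⟩⟩ := exists_ob_iso_of_sub (F := F) K hfp (e.hom ≫ a)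
  exact ⟨i, ⟨ei ≪≫ Over.isoMk e (by simp)⟩⟩

end Groth.Agent.Lib.helper11.FPColim
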