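import Mathlib
import Groth.Agent.Lib.Helper11.FPColim1

/-!
# A quasi-coherent module on a qcqs scheme is a filtered colimit of finitely presented modules (helper11)

Part 2: the index category `Idx 𝒰 F` is filtered.
-/

set_option autoImplicit false
set_option backward.isDefEq.respectTransparency false
universe u

open CategoryTheory CategoryTheory.Limits AlgebraicGeometry Opposite TopologicalSpace
open Scheme.Modules

namespace Groth.Agent.Lib.helper11.FPColim

open Groth.Agent.Lib.helper11.QCohSAFT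

variable {X : Scheme.{u}} {𝒰 : Finset X.Opens} {F : X.Modules}

theorem isQuasicoherent_of_isFP {P : X.Modules} (hP : CohB1.IsFP P) : P.IsQuasicoherent :=
  haveI hP' : SheafOfModules.IsFinitePresentation (R := X.ringCatSheaf) P := hP
  inferInstanceAs (SheafOfModules.IsQuasicoherent (R := X.ringCatSheaf) P)

theorem isFT_of_isFP {P : X.Modules} (hP : CohB1.IsFP P) : CohB1.IsFT P :=
  haveI hP' : SheafOfModules.IsFinitePresentation (R := X.ringCatSheaf) P := hP
  inferInstanceAs (SheafOfModules.IsFiniteType (R := X.ringCatSheaf) P)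

/-- a morphism in the index category from a morphism of `Over F` into an isomorphic copy -/
theorem exists_hom_of_over (h𝒰 : ∀ U ∈ 𝒰, IsAffineOpen U) (hcov : ∀ x : X, ∃ U ∈ 𝒰, x ∈ U)
    (P : X.Modules) (hP : CohB1.IsFP P) (a : P ⟶ F) :
    ∃ (k : Idx 𝒰 F) (e : ob 𝒰 F k ≅ Over.mk a), True := by
  obtain ⟨k, ⟨e⟩⟩ := exists_ob_iso h𝒰 hcov P hP a
  exact ⟨k, e, trivial⟩

theorem isFilteredOrEmpty (h𝒰 : ∀ U ∈ 𝒰, IsAffineOpen U) (hcov : ∀ x : X, ∃ U ∈ 𝒰, x ∈ U) :
    IsFilteredOrEmpty (Idx 𝒰 F) where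
  cocone_objs := fun i j => by
    haveI := isQuasicoherent_of_isFP (isFP_ob 𝒰 F i)
    haveI := isQuasicoherent_of_isFP (isFP_ob 𝒰 F j)
    obtain ⟨k, e, -⟩ := exists_hom_of_over (F := F) h𝒰 hcov ((ob 𝒰 F i).left ⊞ (ob 𝒰 F j).left)
      (Groth.Agent.Lib.helper11.FPExt.isFP_biprod _ _ (isFP_ob 𝒰 F i) (isFP_ob 𝒰 F j)).2
      (biprod.desc (ob 𝒰 F i).hom (ob 𝒰 F j).hom)
    refine ⟨k, InducedCategory.homMk (Over.homMk biprod.inl (by simp) ≫ e.inv),
      InducedCategory.homMk (Over.homMk biprod.inr (by simp) ≫ e.inv), trivial⟩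
  cocone_maps := fun i j f g => by
    haveI hfp : SheafOfModules.IsFinitePresentation (R := X.ringCatSheaf) (ob 𝒰 F j).left :=
      isFP_ob 𝒰 F j
    haveI hft : SheafOfModules.IsFiniteType (R := X.ringCatSheaf) (ob 𝒰 F i).left :=
      isFT_of_isFP (isFP_ob 𝒰 F i)
    let φ : (ob 𝒰 F i).left ⟶ (ob 𝒰 F j).left := f.hom.left - g.hom.left
    have hφ : φ ≫ (ob 𝒰 F j).hom = 0 := by
      simp [φ, Preadditive.sub_comp]
    obtain ⟨k, e, -⟩ := exists_hom_of_over (F := F) h𝒰 hcov (cokernel φ)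
      (Groth.Agent.Lib.helper11.LocCoker.isFinitePresentation_cokernel φ)
      (cokernel.desc φ (ob 𝒰 F j).hom hφ)
    refine ⟨k, InducedCategory.homMk (Over.homMk (cokernel.π φ) (by simp) ≫ e.inv), ?_⟩
    apply InducedCategory.hom_ext
    simp only [InducedCategory.comp_hom, InducedCategory.homMk_hom, ← Category.assoc]
    congr 1
    apply Over.OverMorphism.ext
    simp only [Over.comp_left, Over.homMk_left]
    have h0 : φ ≫ cokernel.π φ = 0 := cokernel.condition φ
    rw [← sub_eq_zero, ← Preadditive.sub_comp]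
    exact h0

end Groth.Agent.Lib.helper11.FPColim
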