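import Mathlib
import Groth.Agent.Lib.Helper11.FPColim2

/-!
# A quasi-coherent module on a qcqs scheme is a filtered colimit of finitely presented modules (helper11)

Part 3: the canonical cocone `cc 𝒰 F` is a colimit cocone (Stacks 01PK), via AB5 in `X.Modules`.
-/

set_option autoImplicit false
set_option backward.isDefEq.respectTransparency false
universe u

open CategoryTheory CategoryTheory.Limits AlgebraicGeometry Opposite TopologicalSpace
open Scheme.Modules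

namespace Groth.Agent.Lib.helper11.FPColim

open Groth.Agent.Lib.helper11.QCohSAFT

variable {X : Scheme.{u}} {𝒰 : Finset X.Opens} {F : X.Modules}

section

variable [CompactSpace X] [QuasiSeparatedSpace X]

theorem nonempty_Idx (h𝒰 : ∀ U ∈ 𝒰, IsAffineOpen U) (hcov : ∀ x : X, ∃ U ∈ 𝒰, x ∈ U)
    [F.IsQuasicoherent] : Nonempty (Idx 𝒰 F) := by
  classical
  obtain ⟨H, h, -, hfp, -⟩ :=
    Groth.Agent.Lib.helper11.FPExt.exists_fp_sections F (isAffineOpen_bot X) ∅
  obtain ⟨k, -, -⟩ := exists_hom_of_over (F := F) h𝒰 hcov H hfp h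
  exact ⟨k⟩

/-- a morphism out of `F` vanishes if it vanishes on all finitely presented modules over `F` -/
theorem eq_zero_of_forall (h𝒰 : ∀ U ∈ 𝒰, IsAffineOpen U) (hcov : ∀ x : X, ∃ U ∈ 𝒰, x ∈ U)
    [F.IsQuasicoherent] {G : X.Modules} (h : F ⟶ G)
    (hh : ∀ i : Idx 𝒰 F, (ob 𝒰 F i).hom ≫ h = 0) : h = 0 := by
  obtain ⟨J, _, _, D, c, ⟨hc⟩, hpt, hD⟩ :=
    Groth.Agent.Lib.helper11.QCohColim.exists_filtered_colimit_ft F
  subst hpt
  refine hc.hom_ext (fun j => ?_)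
  rw [comp_zero]
  haveI : (D.obj j).IsQuasicoherent := (hD j).1
  obtain ⟨P, π, hPq, hPfp, hπ⟩ := Groth.Agent.Lib.helper11.FPExt.exists_fp_epi (D.obj j) (hD j).2
  obtain ⟨k, e, -⟩ := exists_hom_of_over (F := c.pt) h𝒰 hcov P hPfp (π ≫ c.ι.app j)
  have h1 : e.inv.left ≫ (ob 𝒰 c.pt k).hom = π ≫ c.ι.app j := Over.w e.inv
  have h2 : (π ≫ c.ι.app j) ≫ h = 0 := by
    rw [← h1, Category.assoc, hh k, comp_zero]
  rw [Category.assoc] at h2
  exact (cancel_epi π).1 (h2.trans comp_zero.symm)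

/-- a morphism from a quasi-coherent module into a member `P_i` of the diagram which is killed by `P_i ⟶ F` dies in
any cocone -/
theorem comp_ι_eq_zero (h𝒰 : ∀ U ∈ 𝒰, IsAffineOpen U) (hcov : ∀ x : X, ∃ U ∈ 𝒰, x ∈ U)
    (s : Cocone (DD 𝒰 F)) (i : Idx 𝒰 F) (K : X.Modules) [K.IsQuasicoherent]
    (κ : K ⟶ (DD 𝒰 F).obj i) (hκ : κ ≫ (ob 𝒰 F i).hom = 0) : κ ≫ s.ι.app i = 0 := by
  obtain ⟨J, _, _, D, c, ⟨hc⟩, hpt, hD⟩ :=
    Groth.Agent.Lib.helper11.QCohColim.exists_filtered_colimit_ft K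
  subst hpt
  refine hc.hom_ext (fun j => ?_)
  rw [comp_zero]
  haveI hfp : SheafOfModules.IsFinitePresentation (R := X.ringCatSheaf) (ob 𝒰 F i).left :=
    isFP_ob 𝒰 F i
  haveI hft : SheafOfModules.IsFiniteType (R := X.ringCatSheaf) (D.obj j) := (hD j).2
  obtain ⟨φ, hφd⟩ : ∃ φ : D.obj j ⟶ (ob 𝒰 F i).left, φ = c.ι.app j ≫ κ := ⟨_, rfl⟩
  have hφ : φ ≫ (ob 𝒰 F i).hom = 0 := by
    rw [hφd, Category.assoc, hκ, comp_zero]
  obtain ⟨k, e, -⟩ := exists_hom_of_over (F := F) h𝒰 hcov (cokernel φ)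
    (Groth.Agent.Lib.helper11.LocCoker.isFinitePresentation_cokernel φ)
    (cokernel.desc φ (ob 𝒰 F i).hom hφ)
  let m : i ⟶ k := InducedCategory.homMk (Over.homMk (cokernel.π φ) (by simp) ≫ e.inv)
  have hm : (DD 𝒰 F).map m = cokernel.π φ ≫ e.inv.left := rfl
  have hw : (DD 𝒰 F).map m ≫ s.ι.app k = s.ι.app i := s.w m
  have h3 : φ ≫ s.ι.app i = 0 := by
    rw [← hw, hm]
    have h0 : φ ≫ cokernel.π φ = 0 := cokernel.condition φ
    rw [Category.assoc, ← Category.assoc φ, h0, zero_comp]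
  rw [hφd] at h3
  exact h3

attribute [local instance] IsFiltered.isConnected

/-- **the canonical cocone is a colimit cocone** -/
theorem nonempty_isColimit_cc (h𝒰 : ∀ U ∈ 𝒰, IsAffineOpen U) (hcov : ∀ x : X, ∃ U ∈ 𝒰, x ∈ U)
    [F.IsQuasicoherent] [IsFiltered (Idx 𝒰 F)] : Nonempty (IsColimit (cc 𝒰 F)) := by
  haveI hab5 : AB5OfSize.{u, u} X.Modules := Groth.Agent.Lib.Helper21.ModGroth.ab5_mod X.ringCatSheaf
  haveI : HasExactColimitsOfShape (Idx 𝒰 F) X.Modules := hab5.ofShape (Idx 𝒰 F)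
  let δ : colimit (DD 𝒰 F) ⟶ F := colimit.desc (DD 𝒰 F) (cc 𝒰 F)
  have hδ : ∀ i, colimit.ι (DD 𝒰 F) i ≫ δ = (ob 𝒰 F i).hom := fun i =>
    colimit.ι_desc (cc 𝒰 F) i
  -- epi
  haveI hepi : Epi δ := by
    refine Preadditive.epi_of_cancel_zero δ (fun {G} h hh => ?_)
    refine eq_zero_of_forall h𝒰 hcov h (fun i => ?_)
    rw [← hδ i, Category.assoc, hh, comp_zero]
  -- mono
  haveI hmono : Mono δ := by
    let α : DD 𝒰 F ⟶ (Functor.const (Idx 𝒰 F)).obj F := (cc 𝒰 F).ι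
    let S : ShortComplex (Idx 𝒰 F ⥤ X.Modules) := ShortComplex.mk (kernel.ι α) α (kernel.condition α)
    have hS : S.Exact := ShortComplex.exact_of_f_is_kernel _ (kernelIsKernel α)
    let f : colimit (kernel α) ⟶ colimit (DD 𝒰 F) := colimMap (kernel.ι α)
    have hf : ∀ j, (colimit.cocone S.X₁).ι.app j ≫ f = S.f.app j ≫ (colimit.cocone S.X₂).ι.app j :=
      fun j => ι_colimMap (kernel.ι α) j
    have hg : ∀ j, (colimit.cocone S.X₂).ι.app j ≫ δ =
        S.g.app j ≫ (constCocone (Idx 𝒰 F) F).ι.app j := fun j => by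
      refine (hδ j).trans ?_
      exact (Category.comp_id _).symm
    have hex := colim.exact_mapShortComplex hS (colimit.isColimit S.X₁) (colimit.isColimit S.X₂)
      (isColimitConstCocone (Idx 𝒰 F) F) f δ hf hg
    have hf0 : f = 0 := by
      refine colimit.hom_ext (fun j => ?_)
      rw [comp_zero]
      refine (ι_colimMap (kernel.ι α) j).trans ?_
      let ev := (evaluation (Idx 𝒰 F) X.Modules).obj j
      let e : (kernel α).obj j ≅ kernel (α.app j) := PreservesKernel.iso ev α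
      haveI : ((DD 𝒰 F).obj j).IsQuasicoherent := isQuasicoherent_of_isFP (isFP_DD 𝒰 F j)
      haveI : (((Functor.const (Idx 𝒰 F)).obj F).obj j).IsQuasicoherent :=
        inferInstanceAs F.IsQuasicoherent
      haveI hq : (kernel (α.app j)).IsQuasicoherent :=
        Groth.Agent.Lib.helper7.CohKer.isQuasicoherent_kernel (α.app j)
      haveI : ((kernel α).obj j).IsQuasicoherent :=
        Groth.Agent.Lib.helper7.QCohProd.isQuasicoherent_of_iso e.symm hq
      refine comp_ι_eq_zero h𝒰 hcov (colimit.cocone (DD 𝒰 F)) j _ ((kernel.ι α).app j) ?_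
      have h1 : (kernel.ι α ≫ α).app j = 0 := by rw [kernel.condition]; rfl
      exact h1
    exact hex.mono_g hf0
  haveI : IsIso δ := isIso_of_mono_of_epi δ
  haveI : IsIso ((colimit.isColimit (DD 𝒰 F)).desc (cc 𝒰 F)) := ‹IsIso δ›
  exact ⟨IsColimit.ofPointIso (colimit.isColimit (DD 𝒰 F))⟩

end

/-- **Stacks 01PK**: on a quasi-compact quasi-separated scheme every quasi-coherent module is a small filtered colimit
of finitely presented modules. -/
theorem exists_filtered_colimit_fp [CompactSpace X] [QuasiSeparatedSpace X] (F : X.Modules)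
    [F.IsQuasicoherent] :
    ∃ (I : Type u) (_ : SmallCategory I) (_ : IsFiltered I) (D : I ⥤ X.Modules) (c : Cocone D)
      (_ : IsColimit c), (∀ i, CohB1.IsFP (D.obj i)) ∧ c.pt = F := by
  obtain ⟨𝒰, h𝒰, hcov⟩ := exists_finset_affine_cover X
  haveI := isFilteredOrEmpty (F := F) h𝒰 hcov
  haveI := nonempty_Idx (F := F) h𝒰 hcov
  haveI : IsFiltered (Idx 𝒰 F) := {}
  obtain ⟨hc⟩ := nonempty_isColimit_cc (F := F) h𝒰 hcov
  exact ⟨Idx 𝒰 F, inferInstance, inferInstance, DD 𝒰 F, cc 𝒰 F, hc, isFP_DD 𝒰 F, rfl⟩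

end Groth.Agent.Lib.helper11.FPColim
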