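import Groth.Agent.Lib.Helper16.Satur4
import Groth.Agent.Lib.Helper16.CohFP

/-!
# `FPOn`: finite presentation of a module over an open subset (helper11)

Analogue of helper16's `FTOn` calculus (Satur2) for finite presentation.
-/

set_option autoImplicit false
set_option linter.style.haveILetI false
universe u
open CategoryTheory CategoryTheory.Limits AlgebraicGeometry TopologicalSpace Opposite
open Scheme.Modules

namespace Groth.Agent.Lib.helper11.FPExt

open Groth.Agent.Lib.helper16.Satur Groth.Agent.Lib.helper16.CohFinite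
  Groth.Agent.Lib.helper16.CohFP

/-- finite presentation is invariant under a semilinear bijection over a ring isomorphism -/
theorem fp_of_ringEquiv_semilinear {R R' : Type u} [CommRing R] [CommRing R'] (σ : R ≃+* R')
    {M M' : Type u} [AddCommGroup M] [Module R M] [AddCommGroup M'] [Module R' M'] (f : M ≃+ M')
    (hf : ∀ (r : R) (m : M), f (r • m) = σ r • f m) [Module.FinitePresentation R M] :
    Module.FinitePresentation R' M' := by
  letI : Algebra R R' := σ.toRingHom.toAlgebra
  letI : Module R M' := Module.compHom M' σ.toRingHom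
  haveI : IsScalarTower R R' M' := IsScalarTower.of_algebraMap_smul (fun _ _ => rfl)
  let fl : M →ₗ[R] M' := { toFun := f, map_add' := map_add f, map_smul' := hf }
  have hbc : IsBaseChange R' fl := by
    apply IsBaseChange.of_lift_unique
    intro Q _ _ _ _ g
    have hsmul : ∀ (r : R) (q : Q), r • q = σ r • q := fun r q =>
      (algebraMap_smul R' r q).symm
    refine ⟨{ toFun := fun n => g (f.symm n)
              map_add' := fun a b => by rw [map_add, map_add]
              map_smul' := fun r' n => by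
                obtain ⟨r, rfl⟩ := σ.surjective r'
                have h1 : f.symm (σ r • n) = r • f.symm n := by
                  apply f.injective
                  rw [AddEquiv.apply_symm_apply, hf, AddEquiv.apply_symm_apply]
                simp only [RingHom.id_apply]
                rw [h1, LinearMap.map_smul, hsmul] }, ?_, ?_⟩
    · ext m
      show g (f.symm (f m)) = g m
      rw [AddEquiv.symm_apply_apply]
    · intro g' hg'
      ext n
      show g' n = g (f.symm n)
      rw [← hg']
      show g' n = g' (f (f.symm n))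
      rw [AddEquiv.apply_symm_apply]
  exact _root_.FinitePresentation.of_isBaseChange fl hbc

variable {X Y : Scheme.{u}}

/-- `H` has finitely presented sections over every affine open contained in `W`. -/
def FPOn (H : X.Modules) (W : X.Opens) : Prop :=
  ∀ U : X.Opens, IsAffineOpen U → U ≤ W → Module.FinitePresentation Γ(X, U) Γ(H, U)

theorem FPOn.mono {H : X.Modules} {W W' : X.Opens} (h : FPOn H W) (hle : W' ≤ W) : FPOn H W' :=
  fun U hU hUW => h U hU (hUW.trans hle)

theorem FPOn.ftOn {H : X.Modules} {W : X.Opens} (h : FPOn H W) : FTOn H W :=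
  fun U hU hUW => by
    haveI := h U hU hUW
    infer_instance

theorem fpOn_top_iff (H : X.Modules) [H.IsQuasicoherent] : FPOn H ⊤ ↔ CohB1.IsFP H := by
  rw [CohB1.IsFP, isFinitePresentation_iff_fp_sections]
  exact ⟨fun h U => h U.1 U.2 le_top, fun h U hU _ => h ⟨U, hU⟩⟩

theorem fpOn_of_isFP (H : X.Modules) (h : CohB1.IsFP H) (W : X.Opens) : FPOn H W :=
  fun U hU _ => fp_sections_of_isFinitePresentation H h hU

theorem FPOn.sup {H : X.Modules} [H.IsQuasicoherent] {A B : X.Opens} (h1 : FPOn H A)
    (h2 : FPOn H B) : FPOn H (A ⊔ B) := by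
  intro U hU hUW
  let t : Set Γ(X, U) := {f | Module.FinitePresentation Γ(X, X.basicOpen f) Γ(H, X.basicOpen f)}
  refine fp_of_basicOpen_cover H hU t ?_ (fun g => g.2)
  rw [← hU.self_le_iSup_basicOpen_iff]
  intro x hxU
  have hx : x ∈ A ⊔ B := hUW hxU
  rcases (Opens.mem_sup.mp hx) with hxA | hxB
  · obtain ⟨f, hf, hxf⟩ := hU.exists_basicOpen_le (V := A) ⟨x, hxA⟩ hxU
    exact Opens.mem_iSup.mpr ⟨⟨f, h1 _ (hU.basicOpen f) hf⟩, hxf⟩
  · obtain ⟨f, hf, hxf⟩ := hU.exists_basicOpen_le (V := B) ⟨x, hxB⟩ hxU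
    exact Opens.mem_iSup.mpr ⟨⟨f, h2 _ (hU.basicOpen f) hf⟩, hxf⟩

theorem FPOn.of_isoOn {A B : X.Modules} {φ : A ⟶ B} {W : X.Opens} (h : IsoOn φ W)
    (hB : FPOn B W) : FPOn A W := by
  intro U hU hUW
  haveI := hB U hU hUW
  let e : Γ(A, U) ≃ₗ[Γ(X, U)] Γ(B, U) := LinearEquiv.ofBijective (secLin φ U) (h U hUW)
  exact Module.FinitePresentation.of_equiv e.symm

theorem FPOn.of_isoOn' {A B : X.Modules} {φ : A ⟶ B} {W : X.Opens} (h : IsoOn φ W)
    (hA : FPOn A W) : FPOn B W := by
  intro U hU hUW
  haveI := hA U hU hUW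
  let e : Γ(A, U) ≃ₗ[Γ(X, U)] Γ(B, U) := LinearEquiv.ofBijective (secLin φ U) (h U hUW)
  exact Module.FinitePresentation.of_equiv e

theorem FPOn.of_iso {A B : X.Modules} (e : A ≅ B) {W : X.Opens} (hA : FPOn A W) : FPOn B W :=
  FPOn.of_isoOn' (isoOn_of_isIso e.hom W) hA

/-- Finite presentation of sections of a restriction. -/
theorem fp_of_fp_restrict (j : Y ⟶ X) [IsOpenImmersion j] (H : X.Modules) (U' : Y.Opens)
    (h : Module.FinitePresentation Γ(Y, U') Γ(H.restrict j, U')) :
    Module.FinitePresentation Γ(X, j ''ᵁ U') Γ(H, j ''ᵁ U') := by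
  let σ : Γ(Y, U') ≃+* Γ(X, j ''ᵁ U') := (j.appIso U').symm.commRingCatIsoToRingEquiv
  exact fp_of_ringEquiv_semilinear σ
    (AddEquiv.refl _ : Γ(H.restrict j, U') ≃+ Γ(H, j ''ᵁ U')) (fun _ _ => rfl)

theorem fp_restrict_of_fp (j : Y ⟶ X) [IsOpenImmersion j] (H : X.Modules) (U' : Y.Opens)
    (h : Module.FinitePresentation Γ(X, j ''ᵁ U') Γ(H, j ''ᵁ U')) :
    Module.FinitePresentation Γ(Y, U') Γ(H.restrict j, U') := by
  let σ : Γ(X, j ''ᵁ U') ≃+* Γ(Y, U') := (j.appIso U').commRingCatIsoToRingEquiv
  refine fp_of_ringEquiv_semilinear σ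
    (AddEquiv.refl _ : Γ(H, j ''ᵁ U') ≃+ Γ(H.restrict j, U')) (fun r x => ?_)
  change r • x = ((j.appIso U').inv.hom ((j.appIso U').hom.hom r)) • x
  simp

/-- If `H|_Y` is of finite presentation, then `H` is of finite presentation on the image of `Y`. -/
theorem fpOn_opensRange_of_isFP_restrict (j : Y ⟶ X) [IsOpenImmersion j] (H : X.Modules)
    (h : CohB1.IsFP (H.restrict j)) : FPOn H j.opensRange := by
  intro U hU hUW
  have e : j ''ᵁ (j ⁻¹ᵁ U) = U := by
    rw [Scheme.Hom.image_preimage_eq_opensRange_inf]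
    exact inf_eq_right.mpr hUW
  have hU' : IsAffineOpen (j ⁻¹ᵁ U) := hU.preimage_of_isOpenImmersion j hUW
  have h1 := fp_sections_of_isFinitePresentation (H.restrict j) h hU'
  have h2 := fp_of_fp_restrict j H _ h1
  exact e ▸ h2

/-- Conversely: if `H` (quasi-coherent) is of finite presentation on `W`, then `H|_W` is of finite
presentation. -/
theorem isFP_restrict_of_fpOn (H : X.Modules) [H.IsQuasicoherent] (W : X.Opens)
    (h : FPOn H W) : CohB1.IsFP (H.restrict W.ι) := by
  haveI : (H.restrict W.ι).IsQuasicoherent := inferInstance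
  rw [CohB1.IsFP, isFinitePresentation_iff_fp_sections]
  intro U'
  apply fp_restrict_of_fp
  apply h _ (U'.2.image_of_isOpenImmersion W.ι)
  intro x hx
  obtain ⟨y, -, rfl⟩ := hx
  exact y.2

end Groth.Agent.Lib.helper11.FPExt
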