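import Groth.Agent.S9157

/-!
# Multi-element version of S9157 (helper11)

If `M_f` is finitely presented over `R_f` for all `f` in a finite set `s`, there is a finitely
presented `R`-module `M'` and a linear map `M' → M` which becomes bijective after localizing at each
`f ∈ s`.
-/

set_option autoImplicit false
universe u

namespace Groth.Agent.Lib.helper11.FPExt

open Groth.Agent.S9157

theorem exists_fp_multi (R : Type u) [CommRing R] (s : Finset R)
    (M : Type u) [AddCommGroup M] [Module R M]
    (h : ∀ f ∈ s, Module.FinitePresentation (Localization (Submonoid.powers f))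
      (LocalizedModule (Submonoid.powers f) M)) :
    ∃ (M' : Type u) (_ : AddCommGroup M') (_ : Module R M') (φ : M' →ₗ[R] M),
      Module.FinitePresentation R M' ∧
        ∀ f ∈ s, Function.Bijective (LocalizedModule.map (Submonoid.powers f) φ) := by
  classical
  -- generators of the form `m / 1`
  have hgen : ∀ f ∈ s, ∃ W₀ : Finset M,
      (⊤ : Submodule (Localization (Submonoid.powers f)) (LocalizedModule (Submonoid.powers f) M)) =
        Submodule.span (Localization (Submonoid.powers f))
          ((fun w : M => LocalizedModule.mk w (1 : Submonoid.powers f)) '' (W₀ : Set M)) := by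
    intro f hf
    haveI := h f hf
    have hfin : Module.Finite (Localization (Submonoid.powers f))
      (LocalizedModule (Submonoid.powers f) M) := inferInstance
    exact exists_finset_span_mk_one (Submonoid.powers f) ⊤ hfin.fg_top
  choose! W₀f hW₀f using hgen
  let W₀ : Finset M := s.biUnion W₀f
  let ψ : (↥W₀ → R) →ₗ[R] M := Fintype.linearCombination R (fun i => (i : M))
  have hψsurj : ∀ f ∈ s, Function.Surjective (LocalizedModule.map (Submonoid.powers f) ψ) := by
    intro f hf
    rw [← LinearMap.range_eq_top, eq_top_iff, hW₀f f hf, Submodule.span_le]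
    rintro _ ⟨w, hw, rfl⟩
    have hw' : w ∈ W₀ := Finset.mem_biUnion.mpr ⟨f, hf, hw⟩
    refine ⟨LocalizedModule.mk (Pi.single ⟨w, hw'⟩ 1) 1, ?_⟩
    rw [LocalizedModule.map_mk, Fintype.linearCombination_apply_single, one_smul]
  -- the kernels are finitely generated, by elements `v / 1`
  have hker : ∀ f ∈ s, ∃ W : Finset (↥W₀ → R),
      LinearMap.ker (LocalizedModule.map (Submonoid.powers f) ψ) =
        Submodule.span (Localization (Submonoid.powers f))
          ((fun w : (↥W₀ → R) => LocalizedModule.mk w (1 : Submonoid.powers f)) '' (W : Set _)) := by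
    intro f hf
    haveI := h f hf
    exact exists_finset_span_mk_one (Submonoid.powers f) _
      (Module.FinitePresentation.fg_ker _ (hψsurj f hf))
  choose! Wf hWf using hker
  have hu : ∀ f ∈ s, ∀ v : ↥W₀ → R, v ∈ Wf f → ∃ u : Submonoid.powers f, u • ψ v = 0 := by
    intro f hf v hv
    have h1 : LocalizedModule.mk v (1 : Submonoid.powers f) ∈
        LinearMap.ker (LocalizedModule.map (Submonoid.powers f) ψ) := by
      rw [hWf f hf]
      exact Submodule.subset_span ⟨v, hv, rfl⟩
    rw [LinearMap.mem_ker, LocalizedModule.map_mk] at h1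
    exact (IsLocalizedModule.eq_zero_iff (Submonoid.powers f)
      (LocalizedModule.mkLinearMap (Submonoid.powers f) M)).mp h1
  choose! u hu using hu
  let T : Finset (↥W₀ → R) := s.biUnion (fun f => (Wf f).image (fun v => u f v • v))
  let K : Submodule R (↥W₀ → R) := Submodule.span R (T : Set _)
  have hKψ : K ≤ LinearMap.ker ψ := by
    rw [Submodule.span_le]
    intro x hx
    obtain ⟨f, hf, hx⟩ := Finset.mem_biUnion.mp (Finset.mem_coe.mp hx)
    obtain ⟨v, hv, rfl⟩ := Finset.mem_image.mp hx
    rw [SetLike.mem_coe, LinearMap.mem_ker]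
    change ψ (u f v • v) = 0
    rw [Submonoid.smul_def, map_smul, ← Submonoid.smul_def]
    exact hu f hf v hv
  have hKfg : K.FG := ⟨T, rfl⟩
  refine ⟨(↥W₀ → R) ⧸ K, inferInstance, inferInstance, K.liftQ ψ hKψ, ?_, ?_⟩
  · exact Module.finitePresentation_of_surjective K.mkQ K.mkQ_surjective
      (by rw [Submodule.ker_mkQ]; exact hKfg)
  intro f hf
  refine ⟨?_, ?_⟩
  · -- injectivity
    rw [injective_iff_map_eq_zero]
    intro x hx
    induction x using LocalizedModule.induction_on with
    | h m t =>
      obtain ⟨v, rfl⟩ := K.mkQ_surjective m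
      rw [LocalizedModule.map_mk, Submodule.mkQ_apply, Submodule.liftQ_apply] at hx
      have h1 : LocalizedModule.mk v t ∈
          LinearMap.ker (LocalizedModule.map (Submonoid.powers f) ψ) := by
        rw [LinearMap.mem_ker, LocalizedModule.map_mk]; exact hx
      have h2 : LinearMap.ker (LocalizedModule.map (Submonoid.powers f) ψ) ≤
          LinearMap.ker (LocalizedModule.map (Submonoid.powers f) K.mkQ) := by
        rw [hWf f hf, Submodule.span_le]
        rintro _ ⟨w, hw, rfl⟩
        rw [SetLike.mem_coe, LinearMap.mem_ker, LocalizedModule.map_mk]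
        rw [← LocalizedModule.mk_cancel_common_left (u f w) 1, Submonoid.smul_def, ← map_smul,
          ← Submonoid.smul_def]
        have : K.mkQ (u f w • w) = 0 := by
          rw [Submodule.mkQ_apply, Submodule.Quotient.mk_eq_zero]
          exact Submodule.subset_span (Finset.mem_coe.mpr (Finset.mem_biUnion.mpr
            ⟨f, hf, Finset.mem_image.mpr ⟨w, hw, rfl⟩⟩))
        rw [this, LocalizedModule.zero_mk]
      have h3 := h2 h1
      rw [LinearMap.mem_ker, LocalizedModule.map_mk] at h3
      exact h3
  · -- surjectivity
    intro y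
    obtain ⟨x, rfl⟩ := hψsurj f hf y
    induction x using LocalizedModule.induction_on with
    | h v t =>
      refine ⟨LocalizedModule.mk (K.mkQ v) t, ?_⟩
      rw [LocalizedModule.map_mk, LocalizedModule.map_mk, Submodule.mkQ_apply,
        Submodule.liftQ_apply]

end Groth.Agent.Lib.helper11.FPExt
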