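import Groth.Agent.Lib.Helper11.FPExt1
import Groth.Agent.Lib.Helper11.FPExt2
import Groth.Agent.S9827

/-!
# The affine step for extending finitely presented modules (helper11)

On `Spec R`: for a quasi-coherent module `M` whose sections over finitely many basic opens `D(f)` are
finitely presented, there is a finitely presented quasi-coherent module `N` with a map `N ⟶ M` which is
an isomorphism over each `D(f)`.
-/

set_option autoImplicit false
set_option linter.style.haveILetI false
universe u
open CategoryTheory CategoryTheory.Limits AlgebraicGeometry TopologicalSpace Opposite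
open Scheme.Modules

namespace Groth.Agent.Lib.helper11.FPExt

open Groth.Agent.Lib.helper16.Satur Groth.Agent.Lib.helper16.CohFinite
  Groth.Agent.Lib.helper16.CohFP

/-- Transport of finite presentation from any model of the localization to `LocalizedModule`. -/
theorem fp_localizedModule_of_fp {R : Type u} [CommRing R] (f : R) (Rf : Type u) [CommRing Rf]
    [Algebra R Rf] [IsLocalization.Away f Rf] {M Mf : Type u} [AddCommGroup M] [Module R M]
    [AddCommGroup Mf] [Module R Mf] [Module Rf Mf] [IsScalarTower R Rf Mf] (ρ : M →ₗ[R] Mf)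
    (_hρ : IsLocalizedModule (Submonoid.powers f) ρ) (_hfp : Module.FinitePresentation Rf Mf) :
    Module.FinitePresentation (Localization (Submonoid.powers f))
      (LocalizedModule (Submonoid.powers f) M) := by
  let σ : Rf ≃ₐ[R] Localization (Submonoid.powers f) :=
    IsLocalization.algEquiv (Submonoid.powers f) Rf (Localization (Submonoid.powers f))
  letI : Module Rf (LocalizedModule (Submonoid.powers f) M) :=
    Module.compHom _ σ.toRingEquiv.toRingHom
  haveI : IsScalarTower R Rf (LocalizedModule (Submonoid.powers f) M) :=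
    IsScalarTower.of_algebraMap_smul (fun r x => by
      show σ (algebraMap R Rf r) • x = r • x
      rw [σ.commutes, algebraMap_smul])
  let e : Mf ≃ₗ[R] LocalizedModule (Submonoid.powers f) M :=
    (IsLocalizedModule.iso (Submonoid.powers f) ρ).symm
  let e' : Mf ≃ₗ[Rf] LocalizedModule (Submonoid.powers f) M :=
    e.extendScalarsOfIsLocalization (Submonoid.powers f) Rf
  haveI : Module.FinitePresentation Rf (LocalizedModule (Submonoid.powers f) M) :=
    Module.FinitePresentation.of_equiv e'
  exact fp_of_ringEquiv_semilinear σ.toRingEquiv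
    (AddEquiv.refl (LocalizedModule (Submonoid.powers f) M)) (fun _ _ => rfl)

/-- A map between two localizations compatible with `φ` is bijective when `LocalizedModule.map S φ`
is. -/
theorem bijective_of_bijective_localizedModule_map {R : Type u} [CommRing R] (S : Submonoid R)
    {A Af B Bf : Type u} [AddCommGroup A] [Module R A] [AddCommGroup Af] [Module R Af]
    [AddCommGroup B] [Module R B] [AddCommGroup Bf] [Module R Bf] (α : A →ₗ[R] Af)
    (β : B →ₗ[R] Bf) (_hα : IsLocalizedModule S α) (_hβ : IsLocalizedModule S β) (φ : A →ₗ[R] B)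
    (φf : Af →ₗ[R] Bf) (hcomm : φf ∘ₗ α = β ∘ₗ φ)
    (h : Function.Bijective (LocalizedModule.map S φ)) : Function.Bijective φf := by
  let eA := IsLocalizedModule.iso S α
  let eB := IsLocalizedModule.iso S β
  have key : φf ∘ₗ eA.toLinearMap =
      eB.toLinearMap ∘ₗ (LocalizedModule.map S φ).restrictScalars R := by
    apply IsLocalizedModule.ext S (LocalizedModule.mkLinearMap S A) (IsLocalizedModule.map_units β)
    ext a
    simp only [LinearMap.comp_apply, LocalizedModule.mkLinearMap_apply, LinearEquiv.coe_coe,
      LinearMap.restrictScalars_apply]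
    rw [LocalizedModule.map_mk]
    show φf (eA (LocalizedModule.mk a 1)) = eB (LocalizedModule.mk (φ a) 1)
    rw [IsLocalizedModule.iso_mk_one, IsLocalizedModule.iso_mk_one]
    exact LinearMap.congr_fun hcomm a
  have h2 : (φf : Af → Bf) = eB ∘ (LocalizedModule.map S φ) ∘ eA.symm := by
    funext x
    have := LinearMap.congr_fun key (eA.symm x)
    simp only [LinearMap.comp_apply, LinearEquiv.coe_coe, LinearEquiv.apply_symm_apply,
      LinearMap.restrictScalars_apply] at this
    exact this
  rw [h2]
  exact eB.bijective.comp (h.comp eA.symm.bijective)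

section Spec

variable {R : CommRingCat.{u}} (M : (Spec R).Modules)

/-- the basic open `D(f)` as an open of `Spec R` -/
abbrev DD (f : R) : (Spec R).Opens := PrimeSpectrum.basicOpen f

/-- the restriction map to a basic open, as an `R`-linear map -/
noncomputable def ρD (f : R) : ((modulesSpecToSheaf.obj M).obj.obj (op ⊤)) →ₗ[R]
    ((modulesSpecToSheaf.obj M).obj.obj (op (DD f))) :=
  ((modulesSpecToSheaf.obj M).obj.map (Opens.leTop (DD f)).op).hom

instance isLocalizedModule_ρD [M.IsQuasicoherent] (f : R) :
    IsLocalizedModule (Submonoid.powers f) (ρD M f) :=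
  (isIso_fromTildeΓ_iff_isLocalizing M).mp (Scheme.Modules.isIso_fromTildeΓ_of_isQuasicoherent M) f

set_option backward.isDefEq.respectTransparency false in
theorem fp_localizedModule_sections [M.IsQuasicoherent] (f : R)
    (h : Module.FinitePresentation Γ(Spec R, DD f) Γ(M, DD f)) :
    Module.FinitePresentation (Localization (Submonoid.powers f))
      (LocalizedModule (Submonoid.powers f)
        ((modulesSpecToSheaf.obj M).obj.obj (op ⊤))) :=
  fp_localizedModule_of_fp f Γ(Spec R, DD f)
    (Mf := Γ(M, DD f)) (ρD M f) (isLocalizedModule_ρD M f) h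

theorem isLocalizedModule_toOpen (X : ModuleCat.{u} R) (f : R) :
    IsLocalizedModule (Submonoid.powers f) (tilde.toOpen X (DD f)).hom :=
  inferInstance

set_option backward.isDefEq.respectTransparency false in
/-- **Affine step on `Spec R`, finitely presented version.** -/
theorem exists_fp_spec [M.IsQuasicoherent] (s : Finset R)
    (hs : ∀ f ∈ s, Module.FinitePresentation Γ(Spec R, DD f) Γ(M, DD f)) :
    ∃ (N : (Spec R).Modules) (i : N ⟶ M), N.IsQuasicoherent ∧ CohB1.IsFP N ∧
      ∀ f ∈ s, IsoOn i (DD f) := by
  classical
  obtain ⟨M', _, _, φ, hfp, hbij⟩ := exists_fp_multi (R : Type u) s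
    ((modulesSpecToSheaf.obj M).obj.obj (op ⊤))
    (fun f hf => fp_localizedModule_sections M f (hs f hf))
  let N := tilde (ModuleCat.of R M')
  let i : N ⟶ M := tilde.map (ModuleCat.ofHom φ) ≫ M.fromTildeΓ
  refine ⟨N, i, inferInstance, (Groth.Agent.S9827.main R (ModuleCat.of R M')).mpr hfp, ?_⟩
  intro f hf
  refine isoOn_of_bijective_affine i _ (IsAffineOpen.Spec_basicOpen f) ?_
  have hcomm : tilde.toOpen (ModuleCat.of R M') (DD f) ≫
      (modulesSpecToSheaf.map i).1.app (op (DD f)) =
      ModuleCat.ofHom φ ≫ (modulesSpecToSheaf.obj M).obj.map (Opens.leTop (DD f)).op := by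
    have e1 : (modulesSpecToSheaf.map i) = modulesSpecToSheaf.map (tilde.map (ModuleCat.ofHom φ)) ≫
        modulesSpecToSheaf.map M.fromTildeΓ := modulesSpecToSheaf.map_comp _ _
    rw [e1]
    have e2 := tilde.toOpen_map_app_assoc (ModuleCat.ofHom φ) (DD f)
      ((modulesSpecToSheaf.map M.fromTildeΓ).1.app (op (DD f)))
    have e3 := Scheme.Modules.toOpen_fromTildeΓ_app M (DD f)
    exact e2.trans (congrArg (fun z => ModuleCat.ofHom φ ≫ z) e3)
  refine bijective_of_bijective_localizedModule_map (Submonoid.powers f)
    (tilde.toOpen (ModuleCat.of R M') (DD f)).hom (ρD M f)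
    (isLocalizedModule_toOpen (ModuleCat.of R M') f)
    (isLocalizedModule_ρD M f) φ
    ((modulesSpecToSheaf.map i).1.app (op (DD f))).hom ?_ (hbij f hf)
  have := congrArg ModuleCat.Hom.hom hcomm
  exact this

end Spec

end Groth.Agent.Lib.helper11.FPExt
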