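import Groth.Agent.Lib.Helper11.FPExt3

/-!
# Extension of finitely presented quasi-coherent modules on quasi-separated schemes (helper11)

* `isoOn_saturι`: non-mono version of `saturι_app_bijective`.
* `affine_step_fp`: one affine open at a time.
* `exists_fp_of_finset`: induction over a finite set of affine opens.
* `exists_fp_approx`: `K` quasi-coherent on a qcqs scheme, of finite presentation
  over a quasi-compact open `W`; then there is a finitely presented quasi-coherent module `H` with a map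
  `H ⟶ K` which is an isomorphism over `W`.
-/

set_option autoImplicit false
set_option linter.style.haveILetI false
universe u
open CategoryTheory CategoryTheory.Limits AlgebraicGeometry TopologicalSpace Opposite
open Scheme.Modules

namespace Groth.Agent.Lib.helper11.FPExt

open Groth.Agent.Lib.helper16.Satur Groth.Agent.Lib.helper16.CohFinite
  Groth.Agent.Lib.helper16.CohFP

variable {X Y : Scheme.{u}}

/-- If `i` is an isomorphism over `j⁻¹ W`, then `saturι j i` is an isomorphism over `W`. -/
theorem isoOn_saturι (j : Y ⟶ X) [IsOpenImmersion j] {K : X.Modules} {N : Y.Modules}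
    (i : N ⟶ K.restrict j) (W : X.Opens) (h : IsoOn i (j ⁻¹ᵁ W)) : IsoOn (saturι j i) W := by
  have h1 : IsoOn ((pushforward j).map i) W := by
    intro U hU
    exact h (j ⁻¹ᵁ U) (j.preimage_mono hU)
  rw [isoOn_iff_isIso_restrict] at h1 ⊢
  have hpb : IsPullback (saturι j i) (saturπ j i) ((restrictAdjunction j).unit.app K)
      ((pushforward j).map i) := IsPullback.of_hasPullback _ _
  have hpb' := hpb.map (restrictFunctor W.ι)
  haveI := h1
  exact hpb'.isIso_fst_of_isIso

/-- **Affine step.** -/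
theorem affine_step_fp [QuasiSeparatedSpace X] (V : X.Opens) (hV : IsAffineOpen V) (K : X.Modules)
    [K.IsQuasicoherent] (W : X.Opens) (hW : IsCompact (W : Set X)) (hK : FPOn K W) :
    ∃ (H : X.Modules) (h : H ⟶ K), H.IsQuasicoherent ∧ FPOn H V ∧ IsoOn h W := by
  classical
  let j := hV.fromSpec
  haveI : QuasiCompact j := inferInstance
  haveI : (K.restrict j).IsQuasicoherent := inferInstance
  -- a finite cover of `V ⊓ W` by basic opens of `V`
  have hVW : IsCompact ((V ⊓ W : X.Opens) : Set X) :=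
    QuasiSeparatedSpace.inter_isCompact _ _ V.isOpen hV.isCompact W.isOpen hW
  have hf : ∀ x : (V ⊓ W : X.Opens), ∃ f : Γ(X, V), X.basicOpen f ≤ V ⊓ W ∧ x.1 ∈ X.basicOpen f :=
    fun x => hV.exists_basicOpen_le (V := V ⊓ W) x x.2.1
  choose f hfle hxf using hf
  obtain ⟨t, ht⟩ := hVW.elim_finite_subcover (fun x : (V ⊓ W : X.Opens) => (X.basicOpen (f x) : Set X))
    (fun x => (X.basicOpen (f x)).isOpen) (fun x hx => Set.mem_iUnion.mpr ⟨⟨x, hx⟩, hxf ⟨x, hx⟩⟩)
  have hD : ∀ g : Γ(X, V), (DD g : (Spec Γ(X, V)).Opens) = j ⁻¹ᵁ X.basicOpen g :=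
    fun g => (hV.fromSpec_preimage_basicOpen g).symm
  let s : Finset Γ(X, V) := t.image f
  have hs : ∀ g ∈ s, Module.FinitePresentation Γ(Spec Γ(X, V), DD g) Γ(K.restrict j, DD g) := by
    intro g hg
    obtain ⟨x, -, rfl⟩ := Finset.mem_image.mp hg
    apply fp_restrict_of_fp
    apply hK _ ((IsAffineOpen.Spec_basicOpen _).image_of_isOpenImmersion j)
    refine (le_of_eq (congrArg (fun U => j ''ᵁ U) (hD (f x)))).trans ?_
    exact (j.image_preimage_le _).trans ((hfle x).trans inf_le_right)
  obtain ⟨N, i, hN, hNfp, hiso⟩ := exists_fp_spec (K.restrict j) s hs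
  haveI := hN
  refine ⟨satur j i, saturι j i, isQuasicoherent_satur j i, ?_, ?_⟩
  · have h1 : CohB1.IsFP ((satur j i).restrict j) := by
      haveI : (satur j i).IsQuasicoherent := isQuasicoherent_satur j i
      haveI : ((satur j i).restrict j).IsQuasicoherent := inferInstance
      rw [← fpOn_top_iff]
      exact FPOn.of_iso (saturRestrictIso j i).symm ((fpOn_top_iff N).mpr hNfp)
    have h2 := fpOn_opensRange_of_isFP_restrict j (satur j i) h1
    rwa [hV.opensRange_fromSpec] at h2
  · apply isoOn_saturι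
    have hall : IsoOn i (⨆ x : t, (DD (f x.1) : (Spec Γ(X, V)).Opens)) :=
      IsoOn.iSup (fun x => hiso _ (Finset.mem_image.mpr ⟨x.1, x.2, rfl⟩))
    refine hall.mono ?_
    intro y hy
    have hy1 : j y ∈ V := by
      have : j y ∈ j.opensRange := ⟨y, rfl⟩
      rwa [hV.opensRange_fromSpec] at this
    have hy2 : j y ∈ W := hy
    obtain ⟨x, hx⟩ := Set.mem_iUnion.mp (ht ⟨hy1, hy2⟩)
    obtain ⟨hxt, hx⟩ := Set.mem_iUnion.mp hx
    refine Opens.mem_iSup.mpr ⟨⟨x, hxt⟩, ?_⟩
    have := hD (f x)
    exact this ▸ hx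

/-- Induction over a finite set of affine opens. -/
theorem exists_fp_of_finset [QuasiSeparatedSpace X] (S : Finset X.affineOpens) :
    ∀ (K : X.Modules) [K.IsQuasicoherent] (W : X.Opens), IsCompact (W : Set X) → FPOn K W →
      ∃ (H : X.Modules) (h : H ⟶ K), H.IsQuasicoherent ∧
        FPOn H (W ⊔ ⨆ V ∈ S, (V : X.Opens)) ∧ IsoOn h W := by
  classical
  induction S using Finset.induction_on with
  | empty =>
    intro K _ W _ hK
    refine ⟨K, 𝟙 K, inferInstance, ?_, isoOn_of_isIso _ _⟩
    simpa using hK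
  | insert V S hVS ih =>
    intro K _ W hW hK
    obtain ⟨H₁, h₁, hq₁, hft₁, hiso₁⟩ := ih K W hW hK
    haveI := hq₁
    let W₁ : X.Opens := W ⊔ ⨆ V ∈ S, (V : X.Opens)
    have hW₁ : IsCompact (W₁ : Set X) := by
      have : (W₁ : Set X) = (W : Set X) ∪ ⋃ V ∈ S, ((V : X.Opens) : Set X) := by
        simp [W₁]
      rw [this]
      exact hW.union (S.finite_toSet.isCompact_biUnion fun V _ => V.2.isCompact)
    obtain ⟨H, h, hq, hft, hiso⟩ := affine_step_fp V.1 V.2 H₁ W₁ hW₁ hft₁
    haveI := hq
    refine ⟨H, h ≫ h₁, hq, ?_, ?_⟩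
    · have h1 : FPOn H W₁ := FPOn.of_isoOn hiso hft₁
      have h2 : FPOn H (W₁ ⊔ V.1) := h1.sup hft
      have e : W ⊔ ⨆ V' ∈ insert V S, (V' : X.Opens) = W₁ ⊔ V.1 := by
        rw [Finset.iSup_insert]
        simp only [W₁]
        rw [sup_assoc, sup_comm (V : X.Opens)]
      rw [e]; exact h2
    · exact (hiso.mono le_sup_left).comp hiso₁

/-- **Finitely presented approximation.** On a quasi-compact quasi-separated scheme, a quasi-coherent
module `K` which is of finite presentation over a quasi-compact open `W` receives a map from a finitely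
presented quasi-coherent module which is an isomorphism over `W`. -/
theorem exists_fp_approx [CompactSpace X] [QuasiSeparatedSpace X] (K : X.Modules)
    [K.IsQuasicoherent] (W : X.Opens) (hW : IsCompact (W : Set X)) (hK : FPOn K W) :
    ∃ (H : X.Modules) (h : H ⟶ K), H.IsQuasicoherent ∧ CohB1.IsFP H ∧ IsoOn h W := by
  obtain ⟨S, hS, hcov⟩ := (isCompact_iff_finite_and_eq_biUnion_affineOpens (U := (⊤ : X.Opens))).mp
    isCompact_univ
  obtain ⟨H, h, hq, hft, hiso⟩ := exists_fp_of_finset hS.toFinset K W hW hK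
  haveI := hq
  refine ⟨H, h, hq, (fpOn_top_iff H).mp (hft.mono ?_), hiso⟩
  rw [hcov]
  refine le_sup_of_le_right ?_
  simp

end Groth.Agent.Lib.helper11.FPExt
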