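import Groth.Agent.Lib.Helper11.FPExt4
import Groth.Agent.Lib.Helper16.Satur5
import Groth.Agent.Lib.Helper7.QCohProd

/-!
# Finitely presented modules hitting given sections (helper11)

* `exists_fp_sections`: finitely many sections of a quasi-coherent module over an affine open lie in
  the image of a map from a finitely presented quasi-coherent module (qcqs).
* `isFP_biprod`.
* `exists_fp_sections_family`.
-/

set_option autoImplicit false
set_option linter.style.haveILetI false
universe u
open CategoryTheory CategoryTheory.Limits AlgebraicGeometry TopologicalSpace Opposite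
open Scheme.Modules

namespace Groth.Agent.Lib.helper11.FPExt

open Groth.Agent.Lib.helper16.Satur Groth.Agent.Lib.helper16.CohFinite
  Groth.Agent.Lib.helper16.CohFP

section Spec

variable {R : CommRingCat.{u}} (M : (Spec R).Modules)

/-- the map from the tilde of a module to `M` induced by a linear map to the global sections -/
noncomputable def tildeTo {M' : ModuleCat.{u} R}
    (ψ : M' ⟶ (modulesSpecToSheaf.obj M).presheaf.obj (.op ⊤)) : tilde M' ⟶ M :=
  tilde.map ψ ≫ M.fromTildeΓ

theorem res_mem_range_tildeTo {M' : ModuleCat.{u} R}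
    (ψ : M' ⟶ (modulesSpecToSheaf.obj M).presheaf.obj (.op ⊤)) (U : (Spec R).Opens) (n : M') :
    M.presheaf.map (homOfLE (le_top : U ≤ ⊤)).op (show Γ(M, ⊤) from ψ.hom n) ∈
      Set.range ((tildeTo M ψ).app U) := by
  refine ⟨(show Γ(tilde M', U) from (tilde.toOpen M' U).hom n), ?_⟩
  have h1 := tilde.toOpen_map_app ψ U
  have h2 := Scheme.Modules.toOpen_fromTildeΓ_app M U
  have h1' := congr_arg (fun φ => φ.hom n) h1
  have h2' := congr_arg (fun φ => φ.hom (ψ.hom n)) h2
  simp only [ModuleCat.hom_comp, LinearMap.comp_apply] at h1' h2'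
  change (M.fromTildeΓ.app U) ((tilde.map ψ).app U _) = _
  refine Eq.trans ?_ h2'
  exact congr_arg (fun z => ((modulesSpecToSheaf.map M.fromTildeΓ).hom.app (op U)).hom z) h1'

set_option backward.isDefEq.respectTransparency false in
/-- finitely many global sections of a module on `Spec R` lie in the image of a finitely presented
quasi-coherent module, over every open. -/
theorem exists_fp_tilde_sections (T : Finset Γ(M, ⊤)) :
    ∃ (N : (Spec R).Modules) (i : N ⟶ M), N.IsQuasicoherent ∧ CohB1.IsFP N ∧
      ∀ t ∈ T, ∀ U : (Spec R).Opens,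
        M.presheaf.map (homOfLE (le_top : U ≤ ⊤)).op t ∈ Set.range (i.app U) := by
  classical
  let ψ₀ : (T → R) →ₗ[R] ((modulesSpecToSheaf.obj M).obj.obj (op ⊤)) :=
    Fintype.linearCombination R (fun t : T =>
      (show ((modulesSpecToSheaf.obj M).obj.obj (op ⊤)) from t.1))
  let M' : ModuleCat.{u} R := ModuleCat.of R (T → R)
  let ψ := ModuleCat.ofHom ψ₀
  have hN : CohB1.IsFP (tilde M') := (Groth.Agent.S9827.main R M').mpr
    (inferInstanceAs (Module.FinitePresentation R (T → R)))
  refine ⟨tilde M', tildeTo M ψ, inferInstance, hN, ?_⟩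
  intro t ht U
  have h := res_mem_range_tildeTo M ψ U (show M' from Pi.single ⟨t, ht⟩ 1)
  have hψ : ψ.hom (show M' from Pi.single ⟨t, ht⟩ 1) = t := by
    change ψ₀ (Pi.single ⟨t, ht⟩ 1) = t
    simp only [ψ₀]
    rw [Fintype.linearCombination_apply_single, one_smul]
  rw [hψ] at h
  exact h

end Spec

variable {X : Scheme.{u}}

theorem isFP_of_iso {A B : X.Modules} [A.IsQuasicoherent] [B.IsQuasicoherent] (e : A ≅ B)
    (h : CohB1.IsFP A) : CohB1.IsFP B :=
  (fpOn_top_iff B).mp (FPOn.of_iso e ((fpOn_top_iff A).mpr h))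

/-- finitely many sections of a quasi-coherent module over an affine open lie in the image of a
finitely presented quasi-coherent module. -/
theorem exists_fp_sections [CompactSpace X] [QuasiSeparatedSpace X] (F : X.Modules)
    [F.IsQuasicoherent] {U : X.Opens} (hU : IsAffineOpen U) (T : Finset Γ(F, U)) :
    ∃ (H : X.Modules) (h : H ⟶ F), H.IsQuasicoherent ∧ CohB1.IsFP H ∧
      ∀ t ∈ T, t ∈ Set.range (h.app U) := by
  classical
  let j := hU.fromSpec
  haveI : QuasiCompact j := inferInstance
  haveI : (F.restrict j).IsQuasicoherent := inferInstance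
  have e1 : j ''ᵁ ⊤ = U := Groth.Agent.Lib.helper7.image_top_eq hU
  let r : Γ(F, U) → Γ(F.restrict j, ⊤) := fun t => F.presheaf.map (homOfLE e1.le).op t
  have key : ∀ t : Γ(F, U), (F.restrict j).presheaf.map (homOfLE (le_top : j ⁻¹ᵁ U ≤ ⊤)).op (r t) =
      ((restrictAdjunction j).unit.app F).app U t := by
    intro t
    rw [restrictAdjunction_unit_app_app]
    exact Groth.Agent.Lib.helper7.map_map F e1.le (j.image_mono (le_top : j ⁻¹ᵁ U ≤ ⊤)) t
  obtain ⟨N, i₀, hNq, hN, hT⟩ := exists_fp_tilde_sections (F.restrict j) (T.image r)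
  haveI := hNq
  haveI : (satur j i₀).IsQuasicoherent := isQuasicoherent_satur j i₀
  haveI : ((satur j i₀).restrict j).IsQuasicoherent := inferInstance
  have hK : FPOn (satur j i₀) U := by
    have := fpOn_opensRange_of_isFP_restrict j (satur j i₀)
      (isFP_of_iso (saturRestrictIso j i₀).symm hN)
    rwa [hU.opensRange_fromSpec] at this
  obtain ⟨H, h, hq, hfp, hiso⟩ := exists_fp_approx (satur j i₀) U hU.isCompact hK
  refine ⟨H, h ≫ saturι j i₀, hq, hfp, ?_⟩
  intro t ht
  have h1 : t ∈ Set.range ((saturι j i₀).app U) := by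
    rw [mem_range_saturι_iff]
    obtain ⟨x, hx⟩ := hT (r t) (Finset.mem_image.mpr ⟨t, ht, rfl⟩) (j ⁻¹ᵁ U)
    exact ⟨x, hx.trans (key t)⟩
  obtain ⟨p, hp⟩ := h1
  obtain ⟨q, hq'⟩ := (hiso U le_rfl).2 p
  exact ⟨q, by rw [Hom.comp_app]; change (saturι j i₀).app U (h.app U q) = t; rw [hq', hp]⟩

end Groth.Agent.Lib.helper11.FPExt
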