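import Groth.Agent.Lib.Helper11.FPQuot2
import Groth.Agent.Lib.Helper16.QCohAffinePush

/-!
# Finite type modules upstairs are quotients of pullbacks of finitely presented modules (helper11)

`exists_fp_pullback_epi`: `π : S ⟶ S₀` affine, `S₀` qcqs, `K` quasi-coherent of finite type on `S`.
Then there is a finitely presented quasi-coherent `H` on `S₀` and an epimorphism `π^* H ⟶ K`.
-/

set_option autoImplicit false
set_option linter.style.haveILetI false
universe u
open CategoryTheory CategoryTheory.Limits AlgebraicGeometry TopologicalSpace Opposite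
open Scheme.Modules

namespace Groth.Agent.Lib.helper11.FPExt

open Groth.Agent.Lib.helper16.Satur Groth.Agent.Lib.helper16.CohFinite
  Groth.Agent.Lib.helper16.CohFP

theorem exists_fp_pullback_epi {S S₀ : Scheme.{u}} (π : S ⟶ S₀) [IsAffineHom π] [CompactSpace S₀]
    [QuasiSeparatedSpace S₀] (K : S.Modules) [K.IsQuasicoherent] (hK : CohB1.IsFT K) :
    ∃ (H : S₀.Modules) (p : (Scheme.Modules.pullback π).obj H ⟶ K),
      H.IsQuasicoherent ∧ CohB1.IsFP H ∧ Epi p := by
  classical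
  let P : S₀.Modules := (pushforward π).obj K
  haveI : P.IsQuasicoherent := Groth.Agent.Lib.helper16.QCohAffinePush.isQuasicoherent_push π K
  obtain ⟨Sc, hSc, hcov⟩ :=
    (isCompact_iff_finite_and_eq_biUnion_affineOpens (U := (⊤ : S₀.Opens))).mp isCompact_univ
  have hgen : ∀ U : S₀.affineOpens, ∃ T : Finset Γ(P, U.1),
      Submodule.span Γ(S, π ⁻¹ᵁ U.1)
        (show Set Γ(K, π ⁻¹ᵁ U.1) from (T : Set Γ(P, U.1))) = ⊤ := by
    intro U
    haveI : Module.Finite Γ(S, π ⁻¹ᵁ U.1) Γ(K, π ⁻¹ᵁ U.1) :=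
      finite_sections_of_isFiniteType K hK (U.2.preimage π)
    obtain ⟨T, hT⟩ := (Module.Finite.fg_top :
      (⊤ : Submodule Γ(S, π ⁻¹ᵁ U.1) Γ(K, π ⁻¹ᵁ U.1)).FG)
    exact ⟨T, hT⟩
  choose T hT using hgen
  obtain ⟨H, h, hq, hfp, hr⟩ := exists_fp_sections_family P hSc.toFinset T
  let adj := Scheme.Modules.pullbackPushforwardAdjunction π
  let p : (Scheme.Modules.pullback π).obj H ⟶ K := (adj.homEquiv H K).symm h
  have hp : adj.unit.app H ≫ (pushforward π).map p = h := by
    have h1 := adj.homEquiv_unit (X := H) (Y := K) (f := p)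
    exact h1.symm.trans ((adj.homEquiv H K).apply_symm_apply h)
  refine ⟨H, p, hq, hfp, ?_⟩
  refine Groth.Agent.Lib.helper16.QCohEpi.epi_of_surjective_on_affine_cover p
    (fun U : Sc => π ⁻¹ᵁ (U.1 : S₀.Opens)) (fun U => U.1.2.preimage π) ?_ ?_
  · intro x
    have hx : π x ∈ (⊤ : S₀.Opens) := trivial
    rw [hcov] at hx
    obtain ⟨U, hU⟩ := Opens.mem_iSup.mp hx
    obtain ⟨hUS, hxU⟩ := Opens.mem_iSup.mp hU
    exact ⟨⟨U, hUS⟩, hxU⟩
  · intro U
    refine surjective_app_of_span p (π ⁻¹ᵁ U.1.1) _ (hT U.1) ?_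
    intro t ht
    obtain ⟨x, hx⟩ := hr U.1 (hSc.mem_toFinset.mpr U.2) t ht
    refine ⟨(adj.unit.app H).app U.1.1 x, ?_⟩
    have := congrArg (fun φ => φ.app U.1.1 x) hp
    exact this.trans hx

end Groth.Agent.Lib.helper11.FPExt
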