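import Groth.Agent.Lib.Helper16.QCAlg2
import Groth.Agent.Lib.Helper11.QCohSigma
import Groth.Agent.Lib.Helper7.CohKer

/-!
# Finite coproducts of finite type quasi-coherent modules (helper11)

`isFT_sigma_of_finite`: a finite coproduct of finite type quasi-coherent modules is of finite type.
-/

set_option autoImplicit false
universe u
open CategoryTheory CategoryTheory.Limits AlgebraicGeometry TopologicalSpace Opposite
open Scheme.Modules

namespace Groth.Agent.Lib.helper11.FTColim

variable {X : Scheme.{u}}

theorem isFT_sigma_of_finite (ι : Type u) [Finite ι] :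
    ∀ (E : ι → X.Modules), (∀ i, (E i).IsQuasicoherent) → (∀ i, CohB1.IsFT (E i)) →
      CohB1.IsFT (∐ E) := by
  refine Finite.induction_empty_option (P := fun ι : Type u => ∀ (E : ι → X.Modules),
    (∀ i, (E i).IsQuasicoherent) → (∀ i, CohB1.IsFT (E i)) → CohB1.IsFT (∐ E)) ?_ ?_ ?_ ι
  · intro α β e h E hq hft
    have h1 := h (E ∘ e) (fun i => hq (e i)) (fun i => hft (e i))
    exact Groth.Agent.Lib.helper7.CohKer.isFiniteType_of_epi (Sigma.reindex e E).hom h1
  · intro E _ _
    have hZ : IsZero (∐ E) := by
      have hI : IsInitial (∐ E) := by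
        refine IsInitial.ofUniqueHom (fun Y => Sigma.desc (fun i => i.elim)) ?_
        intro Y m
        exact Sigma.hom_ext _ _ (fun i => i.elim)
      exact hI.isZero
    exact (Groth.Agent.Lib.helper7.CohKer.isCoh_of_isZero hZ).2
  · intro α _ h E hq hft
    haveI : ∀ i, (E i).IsQuasicoherent := hq
    haveI : (∐ fun a : α => E (some a)).IsQuasicoherent :=
      Groth.Agent.Lib.helper11.QCohSigma.isQuasicoherent_sigma _ (fun a => hq (some a))
    have h1 := h (fun a => E (some a)) (fun a => hq (some a)) (fun a => hft (some a))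
    obtain ⟨-, h2⟩ := Groth.Agent.Lib.helper16.Satur.isFT_biprod (E none)
      (∐ fun a : α => E (some a)) (hft none) h1
    let p : E none ⊞ (∐ fun a : α => E (some a)) ⟶ ∐ E :=
      biprod.desc (Sigma.ι E none) (Sigma.desc (fun a => Sigma.ι E (some a)))
    haveI : Epi p := by
      refine ⟨fun {Z} g₁ g₂ hg => Sigma.hom_ext _ _ (fun i => ?_)⟩
      cases i with
      | none =>
        have := congrArg (fun t => biprod.inl ≫ t) hg
        simpa [p] using this
      | some a =>
        have := congrArg (fun t => Sigma.ι (fun a : α => E (some a)) a ≫ biprod.inr ≫ t) hg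
        simpa [p] using this
    exact Groth.Agent.Lib.helper7.CohKer.isFiniteType_of_epi p h2

end Groth.Agent.Lib.helper11.FTColim
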