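import Groth.Agent.Lib.Helper11.FTColim1
import Groth.Agent.Lib.Helper11.FPQuot2
import Groth.Agent.Lib.Helper11.KerFT
import Groth.Agent.Lib.Helper11.LocCoker
import Groth.Agent.Lib.Helper11.FPDesc

/-!
# Finite type quasi-coherent modules as quotients of finitely presented ones (helper11)

`exists_fp_epi_isoOn` (Stacks 01PI, second half / EGA I 9.4.?): on a qcqs scheme, a finite type
quasi-coherent module which is finitely presented over a quasi-compact open `U` is a quotient of a
finitely presented module by a surjection which is an isomorphism over `U`.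
-/

set_option autoImplicit false
universe u
open CategoryTheory CategoryTheory.Limits AlgebraicGeometry TopologicalSpace Opposite
open Scheme.Modules

namespace Groth.Agent.Lib.helper11.FTColim

open Groth.Agent.Lib.helper16.Satur Groth.Agent.Lib.helper11.FPExt

variable {X : Scheme.{u}}

/-- abelian categories: if `h : H ⟶ kernel π` becomes an isomorphism after applying an exact
functor `R`, then `R` of the induced map `coker (h ≫ ι) ⟶ F` is an isomorphism. -/
theorem isIso_map_cokernel_desc {A B : Type*} [Category A] [Abelian A] [Category B] [Abelian B]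
    (R : A ⥤ B) [R.Additive] [PreservesFiniteLimits R] [PreservesFiniteColimits R]
    {P F H : A} (π : P ⟶ F) [Epi π] (h : H ⟶ kernel π) [IsIso (R.map h)] :
    IsIso (R.map (cokernel.desc (h ≫ kernel.ι π) π (by simp))) := by
  haveI : Epi (R.map π) := inferInstance
  let p₁ : R.obj H ⟶ kernel (R.map π) := R.map h ≫ (PreservesKernel.iso R π).hom
  haveI : IsIso p₁ := inferInstance
  have heq : R.map (h ≫ kernel.ι π) = p₁ ≫ kernel.ι (R.map π) := by
    simp [p₁]
  let e1 : R.obj (cokernel (h ≫ kernel.ι π)) ≅ cokernel (R.map (h ≫ kernel.ι π)) :=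
    PreservesCokernel.iso R (h ≫ kernel.ι π)
  let e2 : cokernel (R.map (h ≫ kernel.ι π)) ≅ cokernel (p₁ ≫ kernel.ι (R.map π)) :=
    cokernelIsoOfEq heq
  let e3 : cokernel (p₁ ≫ kernel.ι (R.map π)) ≅ R.obj F :=
    Groth.Agent.Lib.helper11.FPDesc.cokernelIsoOfEpiKernel (R.map π) p₁
  have key : R.map (cokernel.desc (h ≫ kernel.ι π) π (by simp)) = (e1 ≪≫ e2 ≪≫ e3).hom := by
    haveI : Epi (R.map (cokernel.π (h ≫ kernel.ι π))) := inferInstance
    rw [← cancel_epi (R.map (cokernel.π (h ≫ kernel.ι π))), ← R.map_comp, cokernel.π_desc]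
    simp only [Iso.trans_hom]
    have h1 : R.map (cokernel.π (h ≫ kernel.ι π)) ≫ e1.hom =
        cokernel.π (R.map (h ≫ kernel.ι π)) := PreservesCokernel.π_iso_hom R _
    rw [reassoc_of% h1]
    have h2 : cokernel.π (R.map (h ≫ kernel.ι π)) ≫ e2.hom =
        cokernel.π (p₁ ≫ kernel.ι (R.map π)) := π_comp_cokernelIsoOfEq_hom heq
    rw [reassoc_of% h2]
    exact (Groth.Agent.Lib.helper11.FPDesc.π_cokernelIsoOfEpiKernel_hom (R.map π) p₁).symm
  rw [key]
  infer_instance

theorem exists_fp_epi_isoOn [CompactSpace X] [QuasiSeparatedSpace X] (F : X.Modules)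
    [F.IsQuasicoherent] (hF : CohB1.IsFT F) (U : X.Opens) (hU : IsCompact (U : Set X))
    (hFU : CohB1.IsFP (F.restrict U.ι)) :
    ∃ (G : X.Modules) (φ : G ⟶ F), CohB1.IsFP G ∧ Epi φ ∧
      IsIso ((restrictFunctor U.ι).map φ) := by
  obtain ⟨P, π, hPq, hPfp, hπ⟩ := exists_fp_epi F hF
  haveI := hPq
  haveI := hπ
  haveI hKq : (kernel π).IsQuasicoherent :=
    Groth.Agent.Lib.helper7.CohKer.isQuasicoherent_kernel π
  haveI hPfp' : SheafOfModules.IsFinitePresentation (R := X.ringCatSheaf) P := hPfp
  have hPft : CohB1.IsFT P := inferInstanceAs (SheafOfModules.IsFiniteType (R := X.ringCatSheaf) P)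
  have hK : FTOn (kernel π) U := by
    refine ftOn_of_isFT_restrict _ U ?_
    let e : (kernel π).restrict U.ι ≅ kernel ((restrictFunctor U.ι).map π) :=
      PreservesKernel.iso (restrictFunctor U.ι) π
    haveI : Epi ((restrictFunctor U.ι).map π) := inferInstance
    haveI : (P.restrict U.ι).IsQuasicoherent := inferInstance
    haveI : (F.restrict U.ι).IsQuasicoherent := inferInstance
    have hPU : CohB1.IsFT (P.restrict U.ι) :=
      isFT_restrict_of_ftOn P U (ftOn_of_isFT P hPft U)
    have h1 := Groth.Agent.Lib.helper11.KerFT.isFT_kernel (P.restrict U.ι) (F.restrict U.ι)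
      hPU hFU ((restrictFunctor U.ι).map π)
    haveI : (kernel ((restrictFunctor U.ι).map π)).IsQuasicoherent :=
      Groth.Agent.Lib.helper7.CohKer.isQuasicoherent_kernel _
    haveI : ((kernel π).restrict U.ι).IsQuasicoherent := inferInstance
    exact isFT_of_iso e.symm h1
  obtain ⟨H, h, hm, hq, hft, hiso⟩ := exists_ft_sub (kernel π) U hU hK
  haveI : IsIso ((restrictFunctor U.ι).map h) := (isoOn_iff_isIso_restrict h U).mp hiso
  haveI : SheafOfModules.IsFiniteType (R := X.ringCatSheaf) H := hft
  refine ⟨cokernel (h ≫ kernel.ι π), cokernel.desc (h ≫ kernel.ι π) π (by simp), ?_, ?_, ?_⟩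
  · exact Groth.Agent.Lib.helper11.LocCoker.isFinitePresentation_cokernel
      (R := X.ringCatSheaf) (h ≫ kernel.ι π)
  · have : cokernel.π (h ≫ kernel.ι π) ≫ cokernel.desc (h ≫ kernel.ι π) π (by simp) = π :=
      cokernel.π_desc _ _ _
    exact epi_of_epi_fac this
  · exact isIso_map_cokernel_desc (restrictFunctor U.ι) π h

end Groth.Agent.Lib.helper11.FTColim
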