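import Groth.Agent.Lib.Helper11.FTColim2
import Groth.Agent.Lib.Helper28.HomOfAffine

/-!
# Finite type quasi-coherent modules as directed colimits of finitely presented ones (helper11)

`exists_directed_fp_colimit` (Stacks 01PJ): on a qcqs scheme, a finite type quasi-coherent module
is a directed colimit of finitely presented modules with surjective transition maps.
-/

set_option autoImplicit false
universe u
open CategoryTheory CategoryTheory.Limits AlgebraicGeometry TopologicalSpace Opposite
open Scheme.Modules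

namespace Groth.Agent.Lib.helper11.FTColim

open Groth.Agent.Lib.helper16.Satur Groth.Agent.Lib.helper11.FPExt

variable {X : Scheme.{u}}

theorem exists_directed_fp_colimit [CompactSpace X] [QuasiSeparatedSpace X] (F : X.Modules)
    [F.IsQuasicoherent] (hF : CohB1.IsFT F) :
    ∃ (J : Type u) (_ : PartialOrder J) (_ : IsDirected J (· ≤ ·)) (_ : Nonempty J)
      (D : J ⥤ X.Modules) (ι : D ⟶ (Functor.const J).obj F),
      Nonempty (IsColimit (Cocone.mk F ι)) ∧
      (∀ j, CohB1.IsFP (D.obj j)) ∧ ∀ (j j' : J) (h : j ⟶ j'), Epi (D.map h) := by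
  classical
  obtain ⟨P, π, hPq, hPfp, hπ⟩ := exists_fp_epi F hF
  haveI := hPq
  haveI := hπ
  haveI hKq : (kernel π).IsQuasicoherent :=
    Groth.Agent.Lib.helper7.CohKer.isQuasicoherent_kernel π
  haveI hPfp' : SheafOfModules.IsFinitePresentation (R := X.ringCatSheaf) P := hPfp
  let T : Type u := Σ U : X.affineOpens, Γ(kernel π, U.1)
  have hch : ∀ x : T, ∃ (Q : X.Modules) (q : Q ⟶ kernel π), Q.IsQuasicoherent ∧ CohB1.IsFT Q ∧
      x.2 ∈ Set.range (q.app x.1.1) := by
    intro x
    obtain ⟨G, i, -, hq, hft, hmem⟩ := exists_ft_sub_sections (kernel π) x.1.2 {x.2}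
    exact ⟨G, i, hq, hft, hmem _ (Finset.mem_singleton_self _)⟩
  choose Q q hQq hQft hmem using hch
  let σ : ∀ j : Finset T, (∐ fun x : ↥j => Q x.1) ⟶ P :=
    fun j => Sigma.desc (fun x => q x.1 ≫ kernel.ι π)
  have hq0 : ∀ (j : Finset T) (x : T), x ∈ j → (q x ≫ kernel.ι π) ≫ cokernel.π (σ j) = 0 := by
    intro j x hx
    have h1 : q x ≫ kernel.ι π = Sigma.ι (fun x : ↥j => Q x.1) ⟨x, hx⟩ ≫ σ j :=
      (Sigma.ι_desc (fun x : ↥j => q x.1 ≫ kernel.ι π) ⟨x, hx⟩).symm
    rw [h1, Category.assoc, cokernel.condition, comp_zero]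
  have hσ : ∀ (j j' : Finset T), j ≤ j' → σ j ≫ cokernel.π (σ j') = 0 := by
    intro j j' hle
    refine Sigma.hom_ext _ _ (fun x => ?_)
    rw [comp_zero, ← Category.assoc]
    have h1 : Sigma.ι (fun x : ↥j => Q x.1) x ≫ σ j = q x.1 ≫ kernel.ι π :=
      Sigma.ι_desc (fun x : ↥j => q x.1 ≫ kernel.ι π) x
    rw [h1]
    exact hq0 j' x.1 (hle x.2)
  have hσπ : ∀ j : Finset T, σ j ≫ π = 0 := by
    intro j
    refine Sigma.hom_ext _ _ (fun x => ?_)
    rw [comp_zero, ← Category.assoc]
    have h1 : Sigma.ι (fun x : ↥j => Q x.1) x ≫ σ j = q x.1 ≫ kernel.ι π :=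
      Sigma.ι_desc (fun x : ↥j => q x.1 ≫ kernel.ι π) x
    rw [h1, Category.assoc, kernel.condition, comp_zero]
  let D : Finset T ⥤ X.Modules :=
    { obj := fun j => cokernel (σ j)
      map := fun {j j'} f => cokernel.desc (σ j) (cokernel.π (σ j')) (hσ j j' (leOfHom f))
      map_id := fun j => by
        apply coequalizer.hom_ext
        simp
      map_comp := fun {j j' j''} f g => by
        apply coequalizer.hom_ext
        simp }
  let ιF : D ⟶ (Functor.const (Finset T)).obj F :=
    { app := fun j => cokernel.desc (σ j) π (hσπ j)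
      naturality := fun j j' f => by
        apply coequalizer.hom_ext
        simp [D] }
  have hπD : ∀ (j j' : Finset T) (f : j ⟶ j'), cokernel.π (σ j) ≫ D.map f = cokernel.π (σ j') :=
    fun j j' f => cokernel.π_desc _ _ _
  have hcok : IsColimit (CokernelCofork.ofπ π (kernel.condition π)) :=
    Abelian.epiIsCokernelOfKernel (KernelFork.ofι (kernel.ι π) (kernel.condition π))
      (kernelIsKernel π)
  refine ⟨Finset T, inferInstance, inferInstance, ⟨∅⟩, D, ιF, ⟨?_⟩, ?_, ?_⟩
  · -- the colimit property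
    have key : ∀ s : Cocone D, kernel.ι π ≫ cokernel.π (σ ∅) ≫ s.ι.app ∅ = 0 := by
      intro s
      refine Groth.Agent.Lib.helper28.HomOfAffine.hom_ext_of_affine _ _ (fun U k => ?_)
      let x : T := ⟨⟨U.1, U.2⟩, k⟩
      obtain ⟨y, hy⟩ := hmem x
      have hx0 : q x ≫ kernel.ι π ≫ cokernel.π (σ ∅) ≫ s.ι.app ∅ = 0 := by
        have hle : (∅ : Finset T) ≤ {x} := Finset.empty_subset _
        have h1 : s.ι.app ∅ = D.map (homOfLE hle) ≫ s.ι.app {x} := (s.w (homOfLE hle)).symm
        rw [h1, ← Category.assoc (cokernel.π (σ ∅)), hπD]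
        simp only [← Category.assoc]
        rw [hq0 {x} x (Finset.mem_singleton_self x), zero_comp]
      have h2 : (kernel.ι π ≫ cokernel.π (σ ∅) ≫ s.ι.app ∅).app U.1 k =
          (q x ≫ kernel.ι π ≫ cokernel.π (σ ∅) ≫ s.ι.app ∅).app U.1 y := by
        rw [Scheme.Modules.Hom.comp_app (q x)]
        change _ = (kernel.ι π ≫ cokernel.π (σ ∅) ≫ s.ι.app ∅).app U.1 ((q x).app U.1 y)
        rw [hy]
      rw [h2, hx0]
      rfl
    exact
      { desc := fun s => (CokernelCofork.IsColimit.desc' hcok _ (key s)).1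
        fac := fun s j => by
          apply coequalizer.hom_ext
          have h1 := (CokernelCofork.IsColimit.desc' hcok _ (key s)).2
          have hle : (∅ : Finset T) ≤ j := Finset.empty_subset _
          have h2 : s.ι.app ∅ = D.map (homOfLE hle) ≫ s.ι.app j := (s.w (homOfLE hle)).symm
          change cokernel.π (σ j) ≫ cokernel.desc (σ j) π (hσπ j) ≫ _ = _
          rw [cokernel.π_desc_assoc]
          change π ≫ _ = _ at h1
          rw [h1, h2, ← Category.assoc, hπD]
        uniq := fun s m hm => by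
          have h1 := (CokernelCofork.IsColimit.desc' hcok _ (key s)).2
          change π ≫ _ = _ at h1
          rw [← cancel_epi π, h1]
          have h3 := hm ∅
          change cokernel.desc (σ ∅) π (hσπ ∅) ≫ m = _ at h3
          rw [← h3, cokernel.π_desc_assoc] }
  · intro j
    haveI : ∀ x : ↥j, (Q x.1).IsQuasicoherent := fun x => hQq x.1
    have h := isFT_sigma_of_finite ↥j (fun x : ↥j => Q x.1) (fun x => hQq x.1)
      (fun x => hQft x.1)
    exact @Groth.Agent.Lib.helper11.LocCoker.isFinitePresentation_cokernel _ X.ringCatSheaf _ _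
      (σ j) h hPfp'
  · intro j j' f
    exact epi_of_epi_fac (hπD j j' f)

end Groth.Agent.Lib.helper11.FTColim
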