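import Mathlib
import Groth.Agent.Lib.Helper13.StalkCmp

/-!
# Fibrewise flatness: the algebraic core (helper11)

* `isBaseChange_surjective_ker`: base change along a surjection `A → A'` is surjective on modules
  with kernel `K • ⊤`, `K` the kernel of `A → A'`.
* `flat_iff_flat_quot`: for a commutative square of rings `R → A`, `R' → A'` with `R → R'`
  surjective of kernel `I`, and `ψ : M → N` surjective semilinear with kernel `(I A) M`:
  `N` is flat over `R'` iff `M / I M` is flat over `R / I`.
* `flat_quot_iff_of_equiv`: transport of the flatness of `M / I M` over `R / I` along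
  isomorphisms.
-/

set_option autoImplicit false

namespace Groth.Agent.Lib.helper11.FibFlat

open TensorProduct

theorem isBaseChange_surjective_ker {A A' M N : Type*} [CommRing A] [CommRing A'] [Algebra A A']
    [AddCommGroup M] [Module A M] [AddCommGroup N] [Module A N] [Module A' N]
    [IsScalarTower A A' N]
    (ψ : M →ₗ[A] N) (hψ : IsBaseChange A' ψ) (hα : Function.Surjective (algebraMap A A')) :
    Function.Surjective ψ ∧
      ∀ m, ψ m = 0 ↔ m ∈ (RingHom.ker (algebraMap A A')) • (⊤ : Submodule A M) := by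
  set K := RingHom.ker (algebraMap A A') with hK
  have hα' : Function.Surjective (Algebra.ofId A A') := hα
  let e₁ : (A ⧸ RingHom.ker (Algebra.ofId A A')) ≃ₐ[A] A' :=
    Ideal.quotientKerAlgEquivOfSurjective hα'
  let Φ : (M ⧸ (K • (⊤ : Submodule A M))) ≃ₗ[A] N :=
    (quotTensorEquivQuotSMul M K).symm ≪≫ₗ
      (TensorProduct.congr e₁.toLinearEquiv (LinearEquiv.refl A M)) ≪≫ₗ
      (hψ.equiv.restrictScalars A)
  have hΦ : ∀ m, Φ (Submodule.Quotient.mk m) = ψ m := by
    intro m
    simp only [Φ, LinearEquiv.trans_apply, quotTensorEquivQuotSMul_symm_mk,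
      TensorProduct.congr_tmul, LinearEquiv.refl_apply]
    change hψ.equiv (e₁ (1 : A ⧸ RingHom.ker (Algebra.ofId A A')) ⊗ₜ m) = ψ m
    rw [map_one, IsBaseChange.equiv_tmul, one_smul]
  refine ⟨fun n => ?_, fun m => ?_⟩
  · obtain ⟨q, rfl⟩ := Φ.surjective n
    obtain ⟨m, rfl⟩ := Submodule.Quotient.mk_surjective _ q
    exact ⟨m, (hΦ m).symm⟩
  · rw [← hΦ m, LinearEquiv.map_eq_zero_iff, Submodule.Quotient.mk_eq_zero]

theorem smul_top_eq_map_smul_top {R A M : Type*} [CommRing R] [CommRing A] [AddCommGroup M]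
    [Module A M] (β : R →+* A) (I : Ideal R) (m : M) :
    (letI := Module.compHom M β; m ∈ (I • (⊤ : Submodule R M))) ↔
      m ∈ (I.map β) • (⊤ : Submodule A M) := by
  letI := Module.compHom M β
  constructor
  · intro h
    refine Submodule.smul_induction_on h (fun r hr n _ => ?_) (fun x y hx hy => add_mem hx hy)
    exact Submodule.smul_mem_smul (Ideal.mem_map_of_mem β hr) trivial
  · intro h
    refine Submodule.smul_induction_on h (fun a ha n _ => ?_) (fun x y hx hy => add_mem hx hy)
    have key : ∀ n : M, a • n ∈ (I • (⊤ : Submodule R M)) := by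
      refine Submodule.span_induction (p := fun a _ => ∀ n : M, a • n ∈ (I • (⊤ : Submodule R M)))
        ?_ ?_ ?_ ?_ ha
      · rintro _ ⟨r, hr, rfl⟩ n
        exact Submodule.smul_mem_smul hr trivial
      · intro n
        rw [zero_smul]
        exact zero_mem _
      · intro x y _ _ hx hy n
        rw [add_smul]
        exact add_mem (hx n) (hy n)
      · intro c x _ hx n
        rw [smul_eq_mul, mul_comm, mul_smul]
        exact hx _
    exact key n

theorem flat_iff_flat_quot {R R' A A' M N : Type*} [CommRing R] [CommRing R'] [CommRing A]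
    [CommRing A'] [AddCommGroup M] [AddCommGroup N] [Module A M] [Module A' N]
    (ρ : R →+* R') (β : R →+* A) (β' : R' →+* A') (α : A →+* A')
    (hcomm : ∀ r, β' (ρ r) = α (β r))
    (I : Ideal R) (hρ : Function.Surjective ρ) (hkρ : RingHom.ker ρ = I)
    (ψ : M →+ N) (hψ : ∀ a m, ψ (a • m) = α a • ψ m)
    (hsurj : Function.Surjective ψ)
    (hker : ∀ m, ψ m = 0 ↔ m ∈ (I.map β) • (⊤ : Submodule A M)) :
    (letI := Module.compHom N β'; Module.Flat R' N) ↔
    (letI := Module.compHom M β; Module.Flat (R ⧸ I) (M ⧸ (I • (⊤ : Submodule R M)))) := by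
  letI mRM : Module R M := Module.compHom M β
  letI mRN : Module R' N := Module.compHom N β'
  have hsemi : ∀ (r : R) (m : M), ψ (r • m) = ρ r • ψ m := by
    intro r m
    change ψ (β r • m) = β' (ρ r) • ψ m
    rw [hψ, hcomm]
  have hker' : ∀ m, ψ m = 0 ↔ m ∈ (I • (⊤ : Submodule R M)) := fun m =>
    (hker m).trans (smul_top_eq_map_smul_top β I m).symm
  -- the induced maps on quotients
  let ρ' : R ⧸ I →+* R' := Ideal.Quotient.lift I ρ (fun a ha => by
    rw [← hkρ] at ha; exact ha)
  have hρ'bij : Function.Bijective ρ' := by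
    constructor
    · rw [injective_iff_map_eq_zero]
      intro a ha
      obtain ⟨b, rfl⟩ := Ideal.Quotient.mk_surjective a
      have : ρ b = 0 := ha
      rw [Ideal.Quotient.eq_zero_iff_mem, ← hkρ]
      exact this
    · intro b'
      obtain ⟨b, rfl⟩ := hρ b'
      exact ⟨Ideal.Quotient.mk I b, rfl⟩
  let ψ' : (M ⧸ (I • (⊤ : Submodule R M))) →+ N :=
    QuotientAddGroup.lift (I • (⊤ : Submodule R M)).toAddSubgroup ψ (fun m hm => by
      have : m ∈ (I • (⊤ : Submodule R M)) := hm
      exact (hker' m).mpr this)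
  have hψ'mk : ∀ m, ψ' (Submodule.Quotient.mk m) = ψ m := fun m => rfl
  have hψ'bij : Function.Bijective ψ' := by
    constructor
    · rw [injective_iff_map_eq_zero]
      intro q hq
      obtain ⟨m, rfl⟩ := Submodule.Quotient.mk_surjective _ q
      rw [hψ'mk] at hq
      rw [Submodule.Quotient.mk_eq_zero]
      exact (hker' m).mp hq
    · intro n
      obtain ⟨m, rfl⟩ := hsurj n
      exact ⟨Submodule.Quotient.mk m, rfl⟩
  have hsemi' : ∀ (q : R ⧸ I) (x : M ⧸ (I • (⊤ : Submodule R M))), ψ' (q • x) = ρ' q • ψ' x := by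
    intro q x
    obtain ⟨r, rfl⟩ := Ideal.Quotient.mk_surjective q
    obtain ⟨m, rfl⟩ := Submodule.Quotient.mk_surjective _ x
    rw [Module.Quotient.mk_smul_mk, hψ'mk, hψ'mk, hsemi]
    rfl
  constructor
  · intro hfl
    haveI := hfl
    let e : R ⧸ I ≃+* R' := RingEquiv.ofBijective ρ' hρ'bij
    let eψ : (M ⧸ (I • (⊤ : Submodule R M))) ≃+ N := AddEquiv.ofBijective ψ' hψ'bij
    refine Groth.Agent.Lib.helper13.StalkCmp.flat_of_semilinear (e.symm : R' →+* R ⧸ I)
      e.symm.surjective (eψ.symm : N →+ _) eψ.symm.bijective ?_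
    intro r' n
    apply eψ.injective
    change eψ (eψ.symm (r' • n)) = ψ' (e.symm r' • eψ.symm n)
    rw [hsemi', AddEquiv.apply_symm_apply]
    change r' • n = e (e.symm r') • eψ (eψ.symm n)
    rw [RingEquiv.apply_symm_apply, AddEquiv.apply_symm_apply]
  · intro hfl
    haveI := hfl
    exact Groth.Agent.Lib.helper13.StalkCmp.flat_of_semilinear ρ' hρ'bij.2 ψ' hψ'bij hsemi'

end Groth.Agent.Lib.helper11.FibFlat
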