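import Groth.Agent.Lib.Helper11.FibFlat1
import Groth.Agent.Lib.Helper17.FibreStalk
import Groth.Agent.Lib.Helper17.StalkPullback

/-!
# Fibrewise flatness at a point: stalk form versus fibre form (helper11)

* `QF f h F x`: for `f : X ⟶ Y`, `h : Y ⟶ S`, the module `F_x / m_s F_x` is flat over
  `O_{Y,f x} / m_s O_{Y,f x}`.
* `isFlatOverAt_fibre_iff_QF`: for fibres `X_s ⟶ Y_s` given by pullback squares, flatness of the
  pullback of `F` to `X_s` over `Y_s` at `x'` is `QF` at the image of `x'`.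
-/

set_option autoImplicit false
set_option linter.style.haveILetI false
universe u
open CategoryTheory CategoryTheory.Limits AlgebraicGeometry TopologicalSpace IsLocalRing

namespace Groth.Agent.Lib.helper11.FibFlat

open Groth.Agent.Lib.helper17.FibreStalk Groth.Agent.Lib.helper17.StalkPullback

/-- fibrewise flatness of `F` over `Y` (relative to `S`) at the point `x`, stalk form. -/
def QF {X Y S : Scheme.{u}} (f : X ⟶ Y) (h : Y ⟶ S) (F : X.Modules) (x : X) : Prop :=
  letI := FlatMod.moduleStalkOver f F x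
  Module.Flat (↑(Y.presheaf.stalk (f x)) ⧸ Ideal.map (h.stalkMap (f x)).hom
      (IsLocalRing.maximalIdeal ↑(S.presheaf.stalk (h (f x)))))
    (↑(F.presheaf.stalk x) ⧸ (Ideal.map (h.stalkMap (f x)).hom
      (IsLocalRing.maximalIdeal ↑(S.presheaf.stalk (h (f x)))) •
      (⊤ : Submodule ↑(Y.presheaf.stalk (f x)) ↑(F.presheaf.stalk x))))

variable {X Y S Xs Ys : Scheme.{u}}

/-- kernel and surjectivity of the stalk map of a fibre, at a point given up to equality. -/
theorem ker_stalkCongr_stalkMap (h : Y ⟶ S) (s : S) (ιY : Ys ⟶ Y)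
    (pY : Ys ⟶ Spec (S.residueField s)) (hY : IsPullback ιY pY h (S.fromSpecResidueField s))
    (z : Ys) (y : Y) (hy : y = ιY z) :
    Function.Surjective ((Y.presheaf.stalkCongr (.of_eq hy)).hom ≫ ιY.stalkMap z).hom ∧
    RingHom.ker ((Y.presheaf.stalkCongr (.of_eq hy)).hom ≫ ιY.stalkMap z).hom =
      (maximalIdeal (S.presheaf.stalk (h y))).map (h.stalkMap y).hom := by
  subst hy
  haveI : IsPreimmersion ιY :=
    MorphismProperty.of_isPullback (P := @IsPreimmersion) hY.flip inferInstance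
  have e : (Y.presheaf.stalkCongr (.of_eq (rfl : ιY z = ιY z))).hom ≫ ιY.stalkMap z =
      ιY.stalkMap z := by
    simp
  rw [e]
  exact ⟨ιY.stalkMap_surjective z, ker_stalkMap_of_isPullback h s ιY pY hY z⟩

theorem isFlatOverAt_fibre_iff_QF (f : X ⟶ Y) (h : Y ⟶ S) (F : X.Modules) [F.IsQuasicoherent]
    (s : S) (ιX : Xs ⟶ X) (ιY : Ys ⟶ Y) (fs : Xs ⟶ Ys) (pY : Ys ⟶ Spec (S.residueField s))
    (hY : IsPullback ιY pY h (S.fromSpecResidueField s)) (hX : IsPullback ιX fs f ιY) (x' : Xs) :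
    FlatMod.IsFlatOverAt fs ((Scheme.Modules.pullback ιX).obj F) x' ↔ QF f h F (ιX x') := by
  have hxy : f (ιX x') = ιY (fs x') := by
    have := congrArg (fun φ : Xs ⟶ Y => φ x') hX.w
    simpa using this
  obtain ⟨hρsurj, hρker⟩ := ker_stalkCongr_stalkMap h s ιY pY hY (fs x') (f (ιX x')) hxy
  -- the pasted square for `X`
  have hXS : IsPullback ιX (fs ≫ pY) (f ≫ h) (S.fromSpecResidueField s) := hX.paste_vert hY
  haveI : IsPreimmersion ιX :=
    MorphismProperty.of_isPullback (P := @IsPreimmersion) hXS.flip inferInstance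
  have hαsurj : Function.Surjective (ιX.stalkMap x').hom := ιX.stalkMap_surjective x'
  have hαker : RingHom.ker (ιX.stalkMap x').hom =
      (Ideal.map (h.stalkMap (f (ιX x'))).hom
        (maximalIdeal (S.presheaf.stalk (h (f (ιX x')))))).map (f.stalkMap (ιX x')).hom := by
    have h1 := ker_stalkMap_of_isPullback (f ≫ h) s ιX (fs ≫ pY) hXS x'
    have e : ((f ≫ h).stalkMap (ιX x')).hom =
        (f.stalkMap (ιX x')).hom.comp (h.stalkMap (f (ιX x'))).hom := by
      rw [Scheme.Hom.stalkMap_comp]; rfl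
    rw [h1, Ideal.map_map]
    exact congrArg (fun φ => Ideal.map φ (maximalIdeal (S.presheaf.stalk (h (f (ιX x')))))) e
  -- commutation
  have hcomm : ∀ r : Y.presheaf.stalk (f (ιX x')),
      (fs.stalkMap x').hom (((Y.presheaf.stalkCongr (.of_eq hxy)).hom ≫ ιY.stalkMap (fs x')).hom r) =
        (ιX.stalkMap x').hom ((f.stalkMap (ιX x')).hom r) := by
    intro r
    have h1 := Scheme.Hom.stalkMap_congr_hom (ιX ≫ f) (fs ≫ ιY) hX.w x'
    rw [Scheme.Hom.stalkMap_comp, Scheme.Hom.stalkMap_comp] at h1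
    have h2 := congrArg (fun φ => φ.hom r) h1
    exact h2.symm
  -- the module
  letI algα : Algebra (X.presheaf.stalk (ιX x')) (Xs.presheaf.stalk x') :=
    (ιX.stalkMap x').hom.toAlgebra
  set P := (Scheme.Modules.pullback ιX).obj F with hP
  letI modN : Module (X.presheaf.stalk (ιX x')) (P.presheaf.stalk x') :=
    FlatMod.moduleStalkOver ιX P x'
  haveI : IsScalarTower (X.presheaf.stalk (ιX x')) (Xs.presheaf.stalk x') (P.presheaf.stalk x') :=
    isScalarTower_moduleStalkOver ιX P x'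
  obtain ⟨ψ, hψ⟩ := exists_isBaseChange_stalk_pullback ιX F x'
  obtain ⟨hψsurj, hψker⟩ := isBaseChange_surjective_ker ψ hψ hαsurj
  have hψker' : ∀ m, ψ m = 0 ↔ m ∈ ((Ideal.map (h.stalkMap (f (ιX x'))).hom
        (maximalIdeal (S.presheaf.stalk (h (f (ιX x')))))).map (f.stalkMap (ιX x')).hom) •
          (⊤ : Submodule (X.presheaf.stalk (ιX x')) (F.presheaf.stalk (ιX x'))) := by
    intro m
    rw [hψker m]
    have : RingHom.ker (algebraMap (X.presheaf.stalk (ιX x')) (Xs.presheaf.stalk x')) =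
        RingHom.ker (ιX.stalkMap x').hom := rfl
    rw [this, hαker]
  exact flat_iff_flat_quot
    ((Y.presheaf.stalkCongr (.of_eq hxy)).hom ≫ ιY.stalkMap (fs x')).hom
    (f.stalkMap (ιX x')).hom (fs.stalkMap x').hom (ιX.stalkMap x').hom hcomm
    (Ideal.map (h.stalkMap (f (ιX x'))).hom (maximalIdeal (S.presheaf.stalk (h (f (ιX x'))))))
    hρsurj hρker ψ.toAddMonoidHom (fun a m => ψ.map_smul a m) hψsurj hψker'

end Groth.Agent.Lib.helper11.FibFlat
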