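import Groth.Agent.Lib.Helper17.FlatOver6
import Groth.Agent.Lib.Helper17.FlatOver7
import Groth.Agent.Lib.Helper16.QCohPullback2
import Groth.Agent.Lib.Helper9.SmGlob2

/-!
# Generic flatness stratification, part 1 (helper11)

The property `GF f F g` of an `S`-scheme `g : E ⟶ S`: the pullback of the `O_X`-module `F` to
`X ×_S E` is flat over `E`.  It is stable under precomposition (`stableG_GF`) and compatible with
base change of the pair `(f, F)` (`GF_of_isPullback`), so that helper9's `BStrat` framework applies.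
-/

set_option autoImplicit false
set_option linter.style.haveILetI false
universe u
open CategoryTheory CategoryTheory.Limits AlgebraicGeometry TopologicalSpace Opposite

namespace Groth.Agent.Lib.helper11.FlatStrat

open Groth.Agent.Lib.helper9.SmGlob

/-- the pullback of `F` to `X ×_S E` is flat over `E` -/
def GF {X S : Scheme.{u}} (f : X ⟶ S) (F : X.Modules) ⦃E : Scheme.{u}⦄ (g : E ⟶ S) : Prop :=
  FlatMod.IsFlatOver (pullback.snd f g) ((Scheme.Modules.pullback (pullback.fst f g)).obj F)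

/-- flat base change, pointwise, with the module given up to isomorphism -/
theorem isFlatOverAt_of_isPullback {X S X' S' : Scheme.{u}} {f : X ⟶ S} {f' : X' ⟶ S'}
    {g' : X' ⟶ X} {g : S' ⟶ S} (hc : IsPullback g' f' f g) (F : X.Modules) [F.IsQuasicoherent]
    {F' : X'.Modules} (φ : F' ≅ (Scheme.Modules.pullback g').obj F) (x' : X')
    (H : FlatMod.IsFlatOverAt f F (g'.base x')) : FlatMod.IsFlatOverAt f' F' x' :=
  (Groth.Agent.Lib.helper17.FlatOver7.isFlatOverAt_iff_of_iso f' φ x').mpr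
    ((Groth.Agent.Lib.helper17.FlatOver6.isFlatOverAt_baseChange_both hc F x').1 H)

section Transfer

variable {X S X₀ S₀ : Scheme.{u}} {f : X ⟶ S} {f₀ : X₀ ⟶ S₀} {a : X ⟶ X₀} {b : S ⟶ S₀}

/-- the comparison map `X ×_S E ⟶ X₀ ×_{S₀} E₀` is a base change of `E ⟶ E₀` -/
theorem isPullback_map (sq : IsPullback a f f₀ b) {E E₀ : Scheme.{u}} (g : E ⟶ S) (g₀ : E₀ ⟶ S₀)
    (t : E ⟶ E₀) (hcomm : g ≫ b = t ≫ g₀) :
    IsPullback (pullback.map f g f₀ g₀ a t b sq.w.symm hcomm) (pullback.snd f g) (pullback.snd f₀ g₀)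
      t := by
  have big : IsPullback (pullback.fst f g ≫ a) (pullback.snd f g) f₀ (g ≫ b) :=
    (IsPullback.of_hasPullback f g).paste_horiz sq
  have hr : IsPullback (pullback.fst f₀ g₀) (pullback.snd f₀ g₀) f₀ g₀ :=
    IsPullback.of_hasPullback f₀ g₀
  have h1 : pullback.map f g f₀ g₀ a t b sq.w.symm hcomm ≫ pullback.fst f₀ g₀ =
      pullback.fst f g ≫ a := pullback.lift_fst _ _ _
  have h2 : pullback.map f g f₀ g₀ a t b sq.w.symm hcomm ≫ pullback.snd f₀ g₀ =
      pullback.snd f g ≫ t := pullback.lift_snd _ _ _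
  refine IsPullback.of_right ?_ h2 hr
  rw [h1, ← hcomm]
  exact big

/-- pointwise transfer of flatness of the pulled back module -/
theorem isFlatOverAt_transfer (sq : IsPullback a f f₀ b) (F : X.Modules) (F₀ : X₀.Modules)
    [F₀.IsQuasicoherent] (φ : F ≅ (Scheme.Modules.pullback a).obj F₀)
    {E E₀ : Scheme.{u}} (g : E ⟶ S) (g₀ : E₀ ⟶ S₀) (t : E ⟶ E₀) (hcomm : g ≫ b = t ≫ g₀)
    (x' : ↥(pullback f g))
    (H : FlatMod.IsFlatOverAt (pullback.snd f₀ g₀)
      ((Scheme.Modules.pullback (pullback.fst f₀ g₀)).obj F₀)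
      ((pullback.map f g f₀ g₀ a t b sq.w.symm hcomm).base x')) :
    FlatMod.IsFlatOverAt (pullback.snd f g)
      ((Scheme.Modules.pullback (pullback.fst f g)).obj F) x' := by
  haveI : ((Scheme.Modules.pullback (pullback.fst f₀ g₀)).obj F₀).IsQuasicoherent :=
    Groth.Agent.Lib.helper16.QCohPullback.isQuasicoherent_pullback _ F₀
  have h1 : pullback.map f g f₀ g₀ a t b sq.w.symm hcomm ≫ pullback.fst f₀ g₀ =
      pullback.fst f g ≫ a := pullback.lift_fst _ _ _
  refine isFlatOverAt_of_isPullback (isPullback_map sq g g₀ t hcomm) _ ?_ x' H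
  exact (Scheme.Modules.pullback (pullback.fst f g)).mapIso φ ≪≫
    ((Scheme.Modules.pullbackComp (pullback.fst f g) a).app F₀) ≪≫
    ((Scheme.Modules.pullbackCongr h1).app F₀).symm ≪≫
    ((Scheme.Modules.pullbackComp (pullback.map f g f₀ g₀ a t b sq.w.symm hcomm)
      (pullback.fst f₀ g₀)).app F₀).symm

/-- transfer of `GF` along a morphism of bases -/
theorem GF_transfer (sq : IsPullback a f f₀ b) (F : X.Modules) (F₀ : X₀.Modules)
    [F₀.IsQuasicoherent] (φ : F ≅ (Scheme.Modules.pullback a).obj F₀)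
    {E E₀ : Scheme.{u}} (g : E ⟶ S) (g₀ : E₀ ⟶ S₀) (t : E ⟶ E₀) (hcomm : g ≫ b = t ≫ g₀)
    (H : GF f₀ F₀ g₀) : GF f F g :=
  fun x' => isFlatOverAt_transfer sq F F₀ φ g g₀ t hcomm x' (H _)

/-- `GF` for a base change of the pair `(f₀, F₀)` -/
theorem GF_of_isPullback (sq : IsPullback a f f₀ b) (F : X.Modules) (F₀ : X₀.Modules)
    [F₀.IsQuasicoherent] (φ : F ≅ (Scheme.Modules.pullback a).obj F₀)
    {E : Scheme.{u}} (g : E ⟶ S) (H : GF f₀ F₀ (g ≫ b)) : GF f F g :=
  GF_transfer sq F F₀ φ g (g ≫ b) (𝟙 E) (Category.id_comp _).symm H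

end Transfer

/-- `GF f F` is stable under precomposition -/
theorem stableG_GF {X S : Scheme.{u}} (f : X ⟶ S) (F : X.Modules) [F.IsQuasicoherent] :
    StableG (GF f F) := by
  intro E E' t g H
  have sq : IsPullback (𝟙 X) f f (𝟙 S) := IsPullback.id_horiz f
  refine GF_transfer sq F F ?_ (t ≫ g) g t (by rw [Category.comp_id]) H
  exact ((Scheme.Modules.pullbackId X).app F).symm

end Groth.Agent.Lib.helper11.FlatStrat
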