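import Groth.Agent.Lib.Helper11.FibFlat2
import Groth.Agent.Lib.Helper11.FlatStrat1
import Groth.Agent.Lib.Helper11.ConsMod4
import Groth.Agent.Lib.Helper17.FibreBC

/-!
# Fibrewise flatness at a point is invariant under base change (helper11)

* `QF_baseChange`: for a cartesian base change `S' ⟶ S` of `X ⟶ Y ⟶ S` and `F' ≅ a^* F`,
  `QF f' h' F' x' ↔ QF f h F (a x')`.
-/

set_option autoImplicit false
set_option linter.style.haveILetI false
universe u
open CategoryTheory CategoryTheory.Limits AlgebraicGeometry TopologicalSpace IsLocalRing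

namespace Groth.Agent.Lib.helper11.FibFlat

open Groth.Agent.Lib.helper17.FibreBC Groth.Agent.Lib.helper11.FlatStrat
  Groth.Agent.Lib.helper11.ConsMod

theorem QF_baseChange {X Y S X' Y' S' : Scheme.{u}} {f : X ⟶ Y} {h : Y ⟶ S} {f' : X' ⟶ Y'}
    {h' : Y' ⟶ S'} {a : X' ⟶ X} {c : Y' ⟶ Y} {b : S' ⟶ S} (hYsq : IsPullback c h' h b)
    (hXsq : IsPullback a f' f c) (F : X.Modules) [F.IsQuasicoherent] (F' : X'.Modules)
    [F'.IsQuasicoherent] (φ : F' ≅ (Scheme.Modules.pullback a).obj F) (x' : X') :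
    QF f' h' F' x' ↔ QF f h F (a x') := by
  -- fibre data
  let e := fibreMap hYsq (h' (f' x'))
  have he : e ≫ h.fiberι (b (h' (f' x'))) = h'.fiberι (h' (f' x')) ≫ c :=
    fibreMap_fiberι hYsq (h' (f' x'))
  haveI : Flat e := flat_fibreMap hYsq (h' (f' x'))
  have hY' : IsPullback (h'.fiberι (h' (f' x'))) (h'.fiberToSpecResidueField (h' (f' x'))) h'
      (S'.fromSpecResidueField (h' (f' x'))) := IsPullback.of_hasPullback _ _
  have hY : IsPullback (h.fiberι (b (h' (f' x')))) (h.fiberToSpecResidueField (b (h' (f' x')))) h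
      (S.fromSpecResidueField (b (h' (f' x')))) := IsPullback.of_hasPullback _ _
  have hX' := IsPullback.of_hasPullback f' (h'.fiberι (h' (f' x')))
  have hX := IsPullback.of_hasPullback f (h.fiberι (b (h' (f' x'))))
  let t := pullback.map f' (h'.fiberι (h' (f' x'))) f (h.fiberι (b (h' (f' x')))) a e c
    hXsq.w.symm he.symm
  have ht : IsPullback t (pullback.snd f' (h'.fiberι (h' (f' x'))))
      (pullback.snd f (h.fiberι (b (h' (f' x'))))) e :=
    isPullback_map hXsq (h'.fiberι (h' (f' x'))) (h.fiberι (b (h' (f' x')))) e he.symm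
  have htι : t ≫ pullback.fst f (h.fiberι (b (h' (f' x')))) =
      pullback.fst f' (h'.fiberι (h' (f' x'))) ≫ a := pullback.lift_fst _ _ _
  -- a point over `x'`
  have hr : f' x' ∈ Set.range (h'.fiberι (h' (f' x'))) := by
    rw [Scheme.Hom.range_fiberι]; rfl
  obtain ⟨y', hy'⟩ := hr
  obtain ⟨w, hw1, -⟩ := Scheme.Pullback.exists_preimage_pullback (f := f')
    (g := h'.fiberι (h' (f' x'))) x' y' hy'.symm
  have A1' := isFlatOverAt_fibre_iff_QF f' h' F' (h' (f' x'))
    (pullback.fst f' (h'.fiberι (h' (f' x')))) (h'.fiberι (h' (f' x')))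
    (pullback.snd f' (h'.fiberι (h' (f' x')))) (h'.fiberToSpecResidueField (h' (f' x'))) hY' hX' w
  have A1 := isFlatOverAt_fibre_iff_QF f h F (b (h' (f' x')))
    (pullback.fst f (h.fiberι (b (h' (f' x'))))) (h.fiberι (b (h' (f' x'))))
    (pullback.snd f (h.fiberι (b (h' (f' x'))))) (h.fiberToSpecResidueField (b (h' (f' x'))))
    hY hX (t w)
  have hpt : pullback.fst f (h.fiberι (b (h' (f' x')))) (t w) = a x' := by
    have := congrArg (fun ψ : _ ⟶ X => ψ w) htι
    simp only [Scheme.Hom.comp_apply] at this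
    rw [this, hw1]
  rw [hpt] at A1
  rw [hw1] at A1'
  rw [← A1', ← A1]
  haveI : ((Scheme.Modules.pullback (pullback.fst f (h.fiberι (b (h' (f' x')))))).obj
      F).IsQuasicoherent :=
    Groth.Agent.Lib.helper16.QCohPullback.isQuasicoherent_pullback _ F
  have bc := Groth.Agent.Lib.helper17.FlatOver6.isFlatOverAt_baseChange_both ht
    ((Scheme.Modules.pullback (pullback.fst f (h.fiberι (b (h' (f' x')))))).obj F) w
  have iso : (Scheme.Modules.pullback t).obj
      ((Scheme.Modules.pullback (pullback.fst f (h.fiberι (b (h' (f' x')))))).obj F) ≅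
      (Scheme.Modules.pullback (pullback.fst f' (h'.fiberι (h' (f' x'))))).obj F' :=
    (pullbackIsoOfComp t (pullback.fst f (h.fiberι (b (h' (f' x')))))
      (pullback.fst f' (h'.fiberι (h' (f' x'))) ≫ a) htι F).symm ≪≫
    pullbackIsoOfComp (pullback.fst f' (h'.fiberι (h' (f' x')))) a _ rfl F ≪≫
    (Scheme.Modules.pullback (pullback.fst f' (h'.fiberι (h' (f' x'))))).mapIso φ.symm
  rw [← Groth.Agent.Lib.helper17.FlatOver7.isFlatOverAt_iff_of_iso _ iso w]
  exact ⟨bc.2 (Flat.stalkMap e _), bc.1⟩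

end Groth.Agent.Lib.helper11.FibFlat
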