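import Groth.Agent.Lib.Helper11.FibFlat3
import Groth.Agent.Lib.Helper3.FibCritSch

/-!
# Fibrewise flatness at a point and the critère de platitude par fibres (helper11)

* `QF_of_isFlatOverAt`: flatness over `Y` at `x` implies fibrewise flatness at `x`.
* `isFlatOverAt_of_QF`: for `F` of finite presentation flat over `S` at `x`, fibrewise flatness
  at `x` implies flatness over `Y` at `x` (critère de platitude par fibres).
-/

set_option autoImplicit false
set_option linter.style.haveILetI false
universe u
open CategoryTheory CategoryTheory.Limits AlgebraicGeometry TopologicalSpace IsLocalRing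

namespace Groth.Agent.Lib.helper11.FibFlat

open TensorProduct

theorem flat_quot_of_flat {R M : Type*} [CommRing R] [AddCommGroup M] [Module R M] (I : Ideal R)
    [Module.Flat R M] : Module.Flat (R ⧸ I) (M ⧸ (I • (⊤ : Submodule R M))) := by
  haveI : Module.Flat (R ⧸ I) ((R ⧸ I) ⊗[R] M) := inferInstance
  let e : ((R ⧸ I) ⊗[R] M) ≃ₗ[R ⧸ I] (M ⧸ (I • (⊤ : Submodule R M))) :=
    (TensorProduct.quotTensorEquivQuotSMul M I).extendScalarsOfSurjective
      Ideal.Quotient.mk_surjective
  exact Module.Flat.of_linearEquiv e.symm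

variable {X Y S : Scheme.{u}}

theorem QF_of_isFlatOverAt (f : X ⟶ Y) (h : Y ⟶ S) (F : X.Modules) (x : X)
    (H : FlatMod.IsFlatOverAt f F x) : QF f h F x := by
  unfold QF
  letI := FlatMod.moduleStalkOver f F x
  haveI : Module.Flat (Y.presheaf.stalk (f x)) (F.presheaf.stalk x) := H
  exact flat_quot_of_flat _

theorem isFlatOverAt_of_QF (f : X ⟶ Y) (h : Y ⟶ S) [LocallyOfFinitePresentation (f ≫ h)]
    [LocallyOfFiniteType h] (F : X.Modules) (hfp : CohB1.IsFP F) (x : X)
    (Hfl : FlatMod.IsFlatOverAt (f ≫ h) F x) (HQ : QF f h F x) : FlatMod.IsFlatOverAt f F x := by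
  rcases subsingleton_or_nontrivial ↑(F.presheaf.stalk x) with hs | hn
  · unfold FlatMod.IsFlatOverAt
    letI := FlatMod.moduleStalkOver f F x
    infer_instance
  · exact ((Groth.Agent.Lib.helper3.FibCritSch.critere_module f h F hfp x hn).mp ⟨Hfl, HQ⟩).2

end Groth.Agent.Lib.helper11.FibFlat
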