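import Groth.Agent.Lib.Helper11.FibFlat4
import Groth.Agent.Lib.Helper11.GenFlatSch2
import Groth.Agent.Lib.Helper3.FlatDescJ
import Groth.Agent.Lib.Helper5.ConsApprox1

/-!
# The fibrewise flat locus is constructible over a Noetherian base (helper11)

* `isConstructible_setOf_QF`: `S` Noetherian, `X`, `Y` of finite type over `S`, `F` of finite
  presentation on `X`: the set of `x` with `QF f h F x` is constructible in `X`
  (EGA IV 11.2.8 / 9.4.7.1, Noetherian case).
-/

set_option autoImplicit false
set_option linter.style.haveILetI false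
universe u
open CategoryTheory CategoryTheory.Limits AlgebraicGeometry TopologicalSpace IsLocalRing Topology

namespace Groth.Agent.Lib.helper11.FibFlat

open Groth.Agent.Lib.helper5.ConsFibre Groth.Agent.Lib.helper5.ConsApprox

theorem isConstructible_setOf_QF {X Y S : Scheme.{u}} [IsNoetherian S] (f : X ⟶ Y) (h : Y ⟶ S)
    [LocallyOfFiniteType h] [QuasiCompact h] [LocallyOfFiniteType (f ≫ h)] [QuasiCompact (f ≫ h)]
    (F : X.Modules) [F.IsQuasicoherent] (hF : CohB1.IsFP F) :
    IsConstructible {x : X | QF f h F x} := by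
  haveI : IsNoetherian Y := isNoetherian_of_lft h
  haveI : IsNoetherian X := isNoetherian_of_lft (f ≫ h)
  refine isConstructible_of_forall_integral _ fun Z ι hι hZ => ?_
  haveI := hι
  haveI := hZ
  set η := genericPoint Z with hη
  set s := (f ≫ h) (ι η) with hs
  -- the integral closed subscheme `T = closure {s}`
  let C : Closeds S := ⟨closure {s}, isClosed_closure⟩
  have hCi : IsIrreducible (C : Set S) := isIrreducible_singleton.closure
  haveI hTint := isIntegral_subscheme_vanishingIdeal C hCi
  set jT := (Scheme.IdealSheafData.vanishingIdeal C).subschemeι with hjT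
  have hrange : Set.range jT = closure {s} := range_subschemeι_vanishingIdeal C
  have hgen : jT (genericPoint ↥(Scheme.IdealSheafData.vanishingIdeal C).subscheme) = s := by
    have h1 : IsGenericPoint (jT (genericPoint ↥(Scheme.IdealSheafData.vanishingIdeal C).subscheme))
        (closure (Set.range jT)) := by
      have := (genericPoint_spec ↥(Scheme.IdealSheafData.vanishingIdeal C).subscheme).image
        jT.continuous
      rwa [Set.image_univ] at this
    rw [hrange, closure_closure] at h1
    exact h1.eq isGenericPoint_closure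
  -- base change to `T`
  have hYsq : IsPullback (pullback.fst h jT) (pullback.snd h jT) h jT := IsPullback.of_hasPullback _ _
  have hXsq : IsPullback (pullback.fst f (pullback.fst h jT)) (pullback.snd f (pullback.fst h jT)) f
      (pullback.fst h jT) := IsPullback.of_hasPullback _ _
  set c := pullback.fst h jT with hc
  set hT := pullback.snd h jT with hhT
  set a := pullback.fst f c with ha
  set fT := pullback.snd f c with hfT
  have hbig : IsPullback a (fT ≫ hT) (f ≫ h) jT := hXsq.paste_vert hYsq
  haveI : LocallyOfFiniteType hT :=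
    MorphismProperty.pullback_snd (P := @LocallyOfFiniteType) _ _ inferInstance
  haveI : QuasiCompact hT := MorphismProperty.pullback_snd (P := @QuasiCompact) _ _ inferInstance
  haveI : LocallyOfFiniteType (fT ≫ hT) :=
    MorphismProperty.of_isPullback (P := @LocallyOfFiniteType) hbig inferInstance
  haveI : QuasiCompact (fT ≫ hT) :=
    MorphismProperty.of_isPullback (P := @QuasiCompact) hbig inferInstance
  haveI : IsNoetherian (Scheme.IdealSheafData.vanishingIdeal C).subscheme :=
    isNoetherian_of_lft jT
  haveI : IsNoetherian (pullback h jT) := isNoetherian_of_lft hT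
  haveI : LocallyOfFiniteType fT := locallyOfFiniteType_of_comp fT hT
  haveI : LocallyOfFinitePresentation fT := inferInstance
  haveI : LocallyOfFinitePresentation (fT ≫ hT) := inferInstance
  set FT := (Scheme.Modules.pullback a).obj F with hFT
  haveI : FT.IsQuasicoherent := Groth.Agent.Lib.helper16.QCohPullback.isQuasicoherent_pullback a F
  have hFTfp : CohB1.IsFP FT :=
    Groth.Agent.Lib.helper16.QCohPullback2.isFinitePresentation_pullback a F hF
  have hFTft : SheafOfModules.IsFiniteType (R := (pullback f c).ringCatSheaf) FT := by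
    haveI : SheafOfModules.IsFinitePresentation (R := (pullback f c).ringCatSheaf) FT := hFTfp
    infer_instance
  -- generic flatness
  obtain ⟨V, hVne, hV⟩ :=
    Groth.Agent.Lib.helper11.GenFlatSch.generic_flatness_of_finiteType (fT ≫ hT) FT
      ⟨inferInstance, hFTft⟩
  have hξV : genericPoint ↥(Scheme.IdealSheafData.vanishingIdeal C).subscheme ∈ V := by
    obtain ⟨t, ht⟩ := hVne
    exact ((genericPoint_spec _).mem_open_set_iff V.2).mpr ⟨t, trivial, ht⟩
  -- the flat locus
  have hO : IsOpen {x : ↥(pullback f c) | FlatMod.IsFlatOverAt fT FT x} :=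
    Groth.Agent.Lib.helper3.FlatDesc.isOpen_flatLocus_modules fT FT hFTfp
  have key : ∀ xT : ↥(pullback f c), (fT ≫ hT) xT ∈ V →
      (QF f h F (a xT) ↔ FlatMod.IsFlatOverAt fT FT xT) := by
    intro xT hxV
    rw [← QF_baseChange hYsq hXsq F FT (Iso.refl _) xT]
    exact ⟨isFlatOverAt_of_QF fT hT FT hFTfp xT (hV xT hxV), QF_of_isFlatOverAt _ _ _ _⟩
  -- opens of `S` and `X` inducing `V` and the flat locus
  obtain ⟨V', hV'o, hV'⟩ := jT.isEmbedding.isInducing.isOpen_iff.mp V.2
  haveI : IsClosedImmersion c := MorphismProperty.pullback_fst (P := @IsClosedImmersion) _ _ inferInstance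
  haveI : IsClosedImmersion a := MorphismProperty.pullback_fst (P := @IsClosedImmersion) _ _ inferInstance
  obtain ⟨O', hO'o, hO'⟩ := a.isEmbedding.isInducing.isOpen_iff.mp hO
  -- every point of `Z` lies over `T`
  have hZT : ∀ z : Z, ∃ xT : ↥(pullback f c), a xT = ι z := by
    intro z
    have h1 : η ⤳ z := (genericPoint_spec Z).specializes trivial
    have h2 : s ⤳ (f ≫ h) (ι z) := (h1.map ι.continuous).map (f ≫ h).continuous
    have h3 : (f ≫ h) (ι z) ∈ Set.range jT := by
      rw [hrange]; exact specializes_iff_mem_closure.mp h2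
    obtain ⟨t, ht⟩ := h3
    obtain ⟨w, hw1, -⟩ := Scheme.Pullback.exists_preimage_pullback (f := f ≫ h) (g := jT) (ι z) t
      ht.symm
    exact ⟨hbig.isoPullback.inv w, by
      have := congrArg (fun ψ : _ ⟶ X => ψ w) hbig.isoPullback_inv_fst
      simp only [Scheme.Hom.comp_apply] at this
      rw [this, hw1]⟩
  have hηV' : (f ≫ h) (ι η) ∈ V' := by
    change s ∈ V'
    rw [← hgen]
    have : genericPoint ↥(Scheme.IdealSheafData.vanishingIdeal C).subscheme ∈ jT ⁻¹' V' := by
      rw [hV']; exact hξV
    exact this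
  have hZ1o : IsOpen ((fun z => (f ≫ h) (ι z)) ⁻¹' V') :=
    hV'o.preimage ((f ≫ h).continuous.comp ι.continuous)
  have hcrit : ∀ z : Z, (f ≫ h) (ι z) ∈ V' → (QF f h F (ι z) ↔ ι z ∈ O') := by
    intro z hz
    obtain ⟨xT, hxT⟩ := hZT z
    have hw : (f ≫ h) (a xT) = jT ((fT ≫ hT) xT) := by
      have := congrArg (fun ψ : _ ⟶ S => ψ xT) hbig.w
      simpa using this
    have hxV : (fT ≫ hT) xT ∈ V := by
      have : (fT ≫ hT) xT ∈ jT ⁻¹' V' := by
        change jT ((fT ≫ hT) xT) ∈ V'
        rw [← hw, hxT]; exact hz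
      rw [hV'] at this
      exact this
    rw [← hxT, key xT hxV]
    have : xT ∈ a ⁻¹' O' ↔ a xT ∈ O' := Iff.rfl
    rw [← this, hO']
    exact Iff.rfl
  by_cases hηO : ι η ∈ O'
  · left
    refine ⟨η, interior_maximal (t := ((fun z => (f ≫ h) (ι z)) ⁻¹' V') ∩ ι ⁻¹' O') ?_
      (hZ1o.inter (hO'o.preimage ι.continuous)) ⟨hηV', hηO⟩⟩
    rintro z ⟨hz1, hz2⟩
    exact (hcrit z hz1).mpr hz2
  · right
    have hempty : ∀ z : Z, ι z ∉ O' := by
      intro z hz
      apply hηO
      exact ((genericPoint_spec Z).mem_open_set_iff (hO'o.preimage ι.continuous)).mpr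
        ⟨z, trivial, hz⟩
    refine ⟨η, interior_maximal (t := ((fun z => (f ≫ h) (ι z)) ⁻¹' V')) ?_ hZ1o hηV'⟩
    intro z hz1 hz2
    exact hempty z ((hcrit z hz1).mp hz2)

end Groth.Agent.Lib.helper11.FibFlat
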