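import Groth.Agent.Lib.Helper11.FibFlat6
import Groth.Agent.Lib.Helper17.FlatOver4
import Groth.Agent.Lib.Helper17.FlatOver2

/-!
# The fibrewise flat locus is locally constructible (helper11)

* `QF_restrict_source`, `QF_restrict_target`, `QF_restrict_base`: `QF` is insensitive to open
  restrictions of the source, the middle scheme and the base.
* `isLocallyConstructible_setOf_QF`: for `h : Y ⟶ S` and `f ≫ h : X ⟶ S` locally of finite
  presentation and `F` of finite presentation, the set of `x` with `QF f h F x` is locally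
  constructible in `X` (EGA IV 11.2.8 / 9.4.7.1 type statement).
-/

set_option autoImplicit false
set_option linter.style.haveILetI false
universe u
open CategoryTheory CategoryTheory.Limits AlgebraicGeometry TopologicalSpace Topology

namespace Groth.Agent.Lib.helper11.FibFlat

open Groth.Agent.Lib.helper11.ConsMod

theorem isPullback_id_of_mono {C : Type*} [Category C] {V W S : C} (k : V ⟶ W) (m : W ⟶ S)
    [Mono m] : IsPullback (𝟙 V) k (k ≫ m) m := by
  have := (IsPullback.id_horiz k).paste_vert (IsKernelPair.id_of_mono m)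
  simpa using this

theorem isFlatOverAt_comp_of_bijective {X Y Z : Scheme.{u}} (f : X ⟶ Y) (j : Y ⟶ Z)
    (G : X.Modules) (x : X) (hj : Function.Bijective (j.stalkMap (f x)).hom) :
    FlatMod.IsFlatOverAt (f ≫ j) G x ↔ FlatMod.IsFlatOverAt f G x := by
  rw [Groth.Agent.Lib.helper17.FlatOver4.isFlatOverAt_comp_iff]
  letI := FlatMod.moduleStalkOver f G x
  exact Groth.Agent.Lib.helper17.FlatOver2.flat_compHom_iff_of_bijective
    (j.stalkMap (f x)).hom hj (N := G.presheaf.stalk x)

variable {X Y S : Scheme.{u}}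

/-- restriction of the source to an open subscheme -/
theorem QF_restrict_source (f : X ⟶ Y) (h : Y ⟶ S) (F : X.Modules) [F.IsQuasicoherent]
    {U : Scheme.{u}} (j : U ⟶ X) [IsOpenImmersion j] (u : U) :
    QF (j ≫ f) h ((Scheme.Modules.pullback j).obj F) u ↔ QF f h F (j u) := by
  have hY : IsPullback (h.fiberι (h (f (j u)))) (h.fiberToSpecResidueField (h (f (j u)))) h
      (S.fromSpecResidueField (h (f (j u)))) := IsPullback.of_hasPullback _ _
  have hX := IsPullback.of_hasPullback f (h.fiberι (h (f (j u))))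
  have hU := IsPullback.of_hasPullback j (pullback.fst f (h.fiberι (h (f (j u)))))
  have hUX := hU.paste_vert hX
  -- a point over `u`
  have hr : f (j u) ∈ Set.range (h.fiberι (h (f (j u)))) := by
    rw [Scheme.Hom.range_fiberι]; rfl
  obtain ⟨y', hy'⟩ := hr
  obtain ⟨xs, hxs, -⟩ := Scheme.Pullback.exists_preimage_pullback (f := f)
    (g := h.fiberι (h (f (j u)))) (j u) y' hy'.symm
  obtain ⟨w, hw1, hw2⟩ := Scheme.Pullback.exists_preimage_pullback (f := j)
    (g := pullback.fst f (h.fiberι (h (f (j u))))) u xs hxs.symm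
  haveI : ((Scheme.Modules.pullback j).obj F).IsQuasicoherent :=
    Groth.Agent.Lib.helper16.QCohPullback.isQuasicoherent_pullback j F
  haveI : ((Scheme.Modules.pullback (pullback.fst f (h.fiberι (h (f (j u)))))).obj
      F).IsQuasicoherent :=
    Groth.Agent.Lib.helper16.QCohPullback.isQuasicoherent_pullback _ F
  have B1 := isFlatOverAt_fibre_iff_QF (j ≫ f) h ((Scheme.Modules.pullback j).obj F)
    (h (f (j u))) _ _ _ _ hY hUX w
  have B2 := isFlatOverAt_fibre_iff_QF f h F (h (f (j u))) _ _ _ _ hY hX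
    (pullback.snd j (pullback.fst f (h.fiberι (h (f (j u))))) w)
  rw [hw1] at B1
  rw [hw2, hxs] at B2
  rw [← B1, ← B2, ← hw2]
  have hflat : ((pullback.snd j (pullback.fst f (h.fiberι (h (f (j u)))))).stalkMap w).hom.Flat :=
    Flat.stalkMap _ w
  rw [Groth.Agent.Lib.helper17.FlatOver4.isFlatOverAt_pullback_iff
    (pullback.snd j (pullback.fst f (h.fiberι (h (f (j u))))))
    (pullback.snd f (h.fiberι (h (f (j u)))))
    ((Scheme.Modules.pullback (pullback.fst f (h.fiberι (h (f (j u)))))).obj F) w hflat]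
  refine Groth.Agent.Lib.helper17.FlatOver7.isFlatOverAt_iff_of_iso _ ?_ w
  exact (pullbackIsoOfComp (pullback.fst j (pullback.fst f (h.fiberι (h (f (j u)))))) j
      (pullback.fst j (pullback.fst f (h.fiberι (h (f (j u))))) ≫ j) rfl F).symm ≪≫
    pullbackIsoOfComp (pullback.snd j (pullback.fst f (h.fiberι (h (f (j u))))))
      (pullback.fst f (h.fiberι (h (f (j u)))))
      (pullback.fst j (pullback.fst f (h.fiberι (h (f (j u))))) ≫ j) hU.w.symm F

/-- restriction of the middle scheme to an open subscheme -/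
theorem QF_restrict_target {V : Scheme.{u}} (f' : X ⟶ V) (j : V ⟶ Y) [IsOpenImmersion j]
    (h : Y ⟶ S) (F : X.Modules) [F.IsQuasicoherent] (x : X) :
    QF f' (j ≫ h) F x ↔ QF (f' ≫ j) h F x := by
  have hY : IsPullback (h.fiberι (h (j (f' x)))) (h.fiberToSpecResidueField (h (j (f' x)))) h
      (S.fromSpecResidueField (h (j (f' x)))) := IsPullback.of_hasPullback _ _
  have hV := IsPullback.of_hasPullback j (h.fiberι (h (j (f' x))))
  have hVS := hV.paste_vert hY
  have hX' := IsPullback.of_hasPullback f' (pullback.fst j (h.fiberι (h (j (f' x)))))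
  have hX'' := hX'.paste_vert hV
  -- a point over `x`
  have hr : j (f' x) ∈ Set.range (h.fiberι (h (j (f' x)))) := by
    rw [Scheme.Hom.range_fiberι]; rfl
  obtain ⟨y', hy'⟩ := hr
  obtain ⟨v', hv', -⟩ := Scheme.Pullback.exists_preimage_pullback (f := j)
    (g := h.fiberι (h (j (f' x)))) (f' x) y' hy'.symm
  obtain ⟨w, hw1, -⟩ := Scheme.Pullback.exists_preimage_pullback (f := f')
    (g := pullback.fst j (h.fiberι (h (j (f' x))))) x v' hv'.symm
  have B1 := isFlatOverAt_fibre_iff_QF f' (j ≫ h) F (h (j (f' x))) _ _ _ _ hVS hX' w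
  have B2 := isFlatOverAt_fibre_iff_QF (f' ≫ j) h F (h (j (f' x))) _ _ _ _ hY hX'' w
  rw [hw1] at B1 B2
  rw [← B1, ← B2]
  refine (isFlatOverAt_comp_of_bijective _ _ _ w ?_).symm
  exact ConcreteCategory.bijective_of_isIso _

/-- restriction of the base along a monomorphism through which `Y ⟶ S` factors -/
theorem QF_restrict_base {W : Scheme.{u}} (f : X ⟶ Y) (h' : Y ⟶ W) (j : W ⟶ S) [Mono j]
    (F : X.Modules) [F.IsQuasicoherent] (x : X) :
    QF f h' F x ↔ QF f (h' ≫ j) F x := by
  have := QF_baseChange (isPullback_id_of_mono h' j) (IsPullback.id_horiz f) F F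
    ((Scheme.Modules.pullbackId X).app F).symm x
  simpa using this

/-- **The fibrewise flat locus is locally constructible.** -/
theorem isLocallyConstructible_setOf_QF (f : X ⟶ Y) (h : Y ⟶ S)
    [LocallyOfFinitePresentation h] [LocallyOfFinitePresentation (f ≫ h)]
    (F : X.Modules) [F.IsQuasicoherent] (hF : CohB1.IsFP F) :
    IsLocallyConstructible {x : X | QF f h F x} := by
  -- adapted affine charts
  have hex : ∀ x : X, ∃ (U : X.Opens) (V : Y.Opens) (W : S.Opens), x ∈ U ∧ IsAffineOpen U ∧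
      IsAffineOpen V ∧ IsAffineOpen W ∧ U ≤ f ⁻¹ᵁ V ∧ V ≤ h ⁻¹ᵁ W := by
    intro x
    obtain ⟨_, ⟨W, hW : IsAffineOpen W, rfl⟩, hxW, -⟩ :=
      S.isBasis_affineOpens.exists_subset_of_mem_open (Set.mem_univ (h (f x))) isOpen_univ
    obtain ⟨_, ⟨V, hV : IsAffineOpen V, rfl⟩, hxV, hVW⟩ :=
      Y.isBasis_affineOpens.exists_subset_of_mem_open (show f x ∈ (h ⁻¹ᵁ W : Set Y) from hxW)
        (h ⁻¹ᵁ W).2
    obtain ⟨_, ⟨U, hU : IsAffineOpen U, rfl⟩, hxU, hUV⟩ :=
      X.isBasis_affineOpens.exists_subset_of_mem_open (show x ∈ (f ⁻¹ᵁ V : Set X) from hxV)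
        (f ⁻¹ᵁ V).2
    exact ⟨U, V, W, hxU, hU, hV, hW, hUV, hVW⟩
  choose U V W hxU hU hV hW hUV hVW using hex
  have hcov : IsOpenCover U := by
    rw [IsOpenCover, eq_top_iff]
    intro x _
    exact Opens.mem_iSup.mpr ⟨x, hxU x⟩
  refine IsLocallyConstructible.of_isOpenCover hcov fun x => ?_
  haveI : IsAffine (U x : Scheme.{u}) := hU x
  haveI : IsAffine (V x : Scheme.{u}) := hV x
  haveI : IsAffine (W x : Scheme.{u}) := hW x
  let fU : (U x : Scheme.{u}) ⟶ (V x : Scheme.{u}) := f.resLE (V x) (U x) (hUV x)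
  let hV' : (V x : Scheme.{u}) ⟶ (W x : Scheme.{u}) := h.resLE (W x) (V x) (hVW x)
  have e1 : fU ≫ (V x).ι = (U x).ι ≫ f := Scheme.Hom.resLE_comp_ι _ _
  have e2 : hV' ≫ (W x).ι = (V x).ι ≫ h := Scheme.Hom.resLE_comp_ι _ _
  haveI : LocallyOfFinitePresentation hV' := inferInstance
  haveI : LocallyOfFinitePresentation (fU ≫ hV') := by
    have : fU ≫ hV' = (f ≫ h).resLE (W x) (U x)
        ((hUV x).trans ((Opens.map f.base).map (homOfLE (hVW x))).le) :=
      Scheme.Hom.resLE_comp_resLE _ _ _ _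
    rw [this]
    infer_instance
  set FU := (Scheme.Modules.pullback (U x).ι).obj F with hFU
  haveI : FU.IsQuasicoherent :=
    Groth.Agent.Lib.helper16.QCohPullback.isQuasicoherent_pullback _ F
  have hFUfp : CohB1.IsFP FU :=
    Groth.Agent.Lib.helper16.QCohPullback2.isFinitePresentation_pullback _ F hF
  have key : ((U x).ι ⁻¹' {x : X | QF f h F x}) = {u : ↥(U x) | QF fU hV' FU u} := by
    ext u
    change QF f h F ((U x).ι u) ↔ QF fU hV' FU u
    rw [← QF_restrict_source f h F (U x).ι u, ← e1, ← QF_restrict_target fU (V x).ι h FU u, ← e2,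
      ← QF_restrict_base fU hV' (W x).ι FU u]
  have h2 : IsLocallyConstructible ((U x).ι ⁻¹' {x : X | QF f h F x}) := by
    rw [key]
    exact isLocallyConstructible_setOf_QF_of_isAffine fU hV' FU hFUfp
  exact h2

end Groth.Agent.Lib.helper11.FibFlat
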