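import Mathlib
import Groth.Agent.Lib.Helper11.FibMono2
import Groth.Agent.S0393

/-!
# Injectivity on stalks along the closed fibre (local criterion of flatness) (helper11)
-/

set_option autoImplicit false
universe u
open CategoryTheory CategoryTheory.Limits AlgebraicGeometry TopologicalSpace Opposite
open Scheme.Modules TensorProduct
open Groth.Agent.Lib.helper8.FlatCohBC Groth.Agent.Lib.helper21.GCCech

namespace Groth.Agent.Lib.helper11.FibMono

section stalkAlg

variable {A : Type u} [CommRing A] {X : Scheme.{u}} (fX : X ⟶ Spec (CommRingCat.of A))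

theorem stalkAlg_eq (p : X) :
    stalkAlg fX p =
      (fX.stalkMap p).hom.comp (StructureSheaf.toStalk A (fX p)).hom := by
  ext a
  exact (Scheme.Hom.germ_stalkMap_apply fX ⊤ p trivial _).symm

theorem flat_stalkAlg [Flat fX] (p : X) : (stalkAlg fX p).Flat := by
  rw [stalkAlg_eq]
  refine RingHom.Flat.comp ?_ (Flat.stalkMap fX p)
  have : Module.Flat A ((Spec.structureSheaf A).presheaf.stalk (fX p)) :=
    IsLocalization.flat _ (fX p).asIdeal.primeCompl
  exact RingHom.flat_algebraMap_iff.mpr this

theorem isLocalHom_stalkAlg [IsLocalRing A] (p : X) (hp : fX p = IsLocalRing.closedPoint A) :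
    IsLocalHom (stalkAlg fX p) := by
  constructor
  intro a ha
  rw [stalkAlg_eq] at ha
  have h1 : IsUnit ((StructureSheaf.toStalk A (fX p)).hom a) :=
    isUnit_of_map_unit (fX.stalkMap p).hom _ ha
  have h2 : a ∈ (fX p).asIdeal.primeCompl :=
    (IsLocalization.AtPrime.isUnit_to_map_iff
      ((Spec.structureSheaf A).presheaf.stalk (fX p)) (fX p).asIdeal a).mp h1
  rw [hp] at h2
  by_contra hcon
  exact h2 ((IsLocalRing.mem_maximalIdeal a).mpr hcon)

end stalkAlg

section main

open Groth.Agent.Lib.Helper19.FlatIndep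

variable {A B : Type u} [CommRing A] [IsLocalRing A] [CommRing B] [Algebra A B]
variable {X X' : Scheme.{u}} (fX : X ⟶ Spec (CommRingCat.of A)) [Flat fX] [IsLocallyNoetherian X]
  (fX' : X' ⟶ Spec (CommRingCat.of B)) (g' : X' ⟶ X)
  (h : IsPullback g' fX' fX (Spec.map (CommRingCat.ofHom (algebraMap A B))))
  (hsurj : Function.Surjective (algebraMap A B))
  (hker : RingHom.ker (algebraMap A B) = IsLocalRing.maximalIdeal A)
  {F G : X.Modules} (hF : FlatMod.IsFinLocFree F) (hG : FlatMod.IsFinLocFree G) (u : F ⟶ G)

include h hsurj hker hF hG in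
/-- **local criterion**: if `g'^*u` is a monomorphism then `u` is injective on the stalks at the
points of the closed fibre -/
theorem injective_stalkFn_of_mono_pullback (hu : Mono ((Scheme.Modules.pullback g').map u))
    (p : X) (hp : fX p = IsLocalRing.closedPoint A) : Function.Injective (stalkFn u p) := by
  haveI := Groth.Agent.Lib.helper16.FLF.isQuasicoherent_of_isFinLocFree F hF
  haveI := Groth.Agent.Lib.helper16.FLF.isQuasicoherent_of_isFinLocFree G hG
  letI algAS : Algebra A (X.presheaf.stalk p) := (stalkAlg fX p).toAlgebra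
  letI := modStalkA fX F p
  letI := modStalkA fX G p
  haveI : IsScalarTower A (X.presheaf.stalk p) (F.presheaf.stalk p) :=
    IsScalarTower.of_algebraMap_smul (fun r x => rfl)
  haveI : IsScalarTower A (X.presheaf.stalk p) (G.presheaf.stalk p) :=
    IsScalarTower.of_algebraMap_smul (fun r x => rfl)
  haveI : IsLocalHom (algebraMap A (X.presheaf.stalk p)) := isLocalHom_stalkAlg fX p hp
  haveI : Module.Flat A (X.presheaf.stalk p) := flat_stalkAlg fX p
  obtain ⟨hfreeF, hfinF⟩ := Groth.Agent.Lib.helper16.FLF.free_stalk_of_isFinLocFree F hF p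
  obtain ⟨hfreeG, hfinG⟩ := Groth.Agent.Lib.helper16.FLF.free_stalk_of_isFinLocFree G hG p
  haveI : Module.Flat (X.presheaf.stalk p) (G.presheaf.stalk p) := inferInstance
  haveI : Module.Flat A (G.presheaf.stalk p) :=
    Module.Flat.trans A (X.presheaf.stalk p) (G.presheaf.stalk p)
  let uA : F.presheaf.stalk p →ₗ[A] G.presheaf.stalk p :=
    { toFun := stalkFn u p
      map_add' := stalkFn_add u p
      map_smul' := stalk_smulA fX u p }
  have hP : ∀ z, uA z ∈ IsLocalRing.maximalIdeal A • (⊤ : Submodule A (G.presheaf.stalk p)) →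
      z ∈ IsLocalRing.maximalIdeal A • (⊤ : Submodule A (F.presheaf.stalk p)) :=
    fun z hz => mem_smul_top_stalk fX fX' g' h _ hsurj hker u hu p z hz
  have hinj := inj_of_P uA (IsLocalRing.maximalIdeal A) hP
  exact (Groth.Agent.S0393.result (S := X.presheaf.stalk p) uA hinj).1

end main

end Groth.Agent.Lib.helper11.FibMono
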