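import Mathlib
import Groth.Agent.Lib.Helper11.FibMono3

/-!
# Local base: a morphism of finite locally free modules which is a monomorphism on the closed
fibre is a monomorphism (helper11)
-/

set_option autoImplicit false
universe u
open CategoryTheory CategoryTheory.Limits AlgebraicGeometry TopologicalSpace Opposite
open Scheme.Modules
open Groth.Agent.Lib.helper16.FLF
open Groth.Agent.Lib.helper21.GCBase Groth.Agent.Lib.helper21.GCChart
open Groth.Agent.Lib.helper11.FibLift

namespace Groth.Agent.Lib.helper11.FibMono

section localbase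

variable (A : Type u) [CommRing A] [IsNoetherianRing A] [IsLocalRing A] (X : Scheme.{u})
  [X.Over (Spec (CommRingCat.of A))] [IsProper (X ↘ Spec (CommRingCat.of A))]
  [Flat (X ↘ Spec (CommRingCat.of A))]
  {F G : X.Modules} (hF : FlatMod.IsFinLocFree F) (hG : FlatMod.IsFinLocFree G)

include hF hG in
/-- a morphism of finite locally free modules which is a monomorphism on the closed fibre is a
monomorphism (`X` proper and flat over a Noetherian local ring) -/
theorem mono_of_mono_pullback_closedFibre (u : F ⟶ G)
    (hu : Mono ((Scheme.Modules.pullback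
      ((X ↘ Spec (CommRingCat.of A)).fiberι (IsLocalRing.closedPoint A))).map u)) : Mono u := by
  haveI : IsLocallyNoetherian (Spec (CommRingCat.of A)) :=
    isLocallyNoetherian_Spec.mpr ‹IsNoetherianRing A›
  haveI : IsLocallyNoetherian X :=
    LocallyOfFiniteType.isLocallyNoetherian (X ↘ Spec (CommRingCat.of A))
  have hsq : IsPullback (𝟙 X) (X ↘ Spec (CommRingCat.of A)) (X ↘ Spec (CommRingCat.of A)) (𝟙 _) :=
    IsPullback.id_horiz _
  have hg' : lift (X ↘ Spec (CommRingCat.of A)) A (𝟙 _) (𝟙 X) hsq (IsLocalRing.closedPoint A) =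
      (X ↘ Spec (CommRingCat.of A)).fiberι (IsLocalRing.closedPoint A) := by
    have := lift_i (X ↘ Spec (CommRingCat.of A)) A (𝟙 _) (𝟙 X) hsq (IsLocalRing.closedPoint A)
    rw [Category.comp_id] at this
    exact this
  have hpb : IsPullback ((X ↘ Spec (CommRingCat.of A)).fiberι (IsLocalRing.closedPoint A))
      (fibreTo (X ↘ Spec (CommRingCat.of A)) A (𝟙 _) (IsLocalRing.closedPoint A))
      (X ↘ Spec (CommRingCat.of A))
      (Spec.map (CommRingCat.ofHom
        (algebraMap A (IsLocalRing.closedPoint A).asIdeal.ResidueField))) := by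
    have := isPullback_lift (X ↘ Spec (CommRingCat.of A)) A (𝟙 _) (𝟙 X) hsq
      (IsLocalRing.closedPoint A)
    rw [hg'] at this
    exact this
  haveI : (IsLocalRing.closedPoint A).asIdeal.IsMaximal :=
    IsLocalRing.maximalIdeal.isMaximal A
  have hsurj : Function.Surjective
      (algebraMap A (IsLocalRing.closedPoint A).asIdeal.ResidueField) :=
    Ideal.algebraMap_residueField_surjective _
  have hker : RingHom.ker (algebraMap A (IsLocalRing.closedPoint A).asIdeal.ResidueField) =
      IsLocalRing.maximalIdeal A := Ideal.ker_algebraMap_residueField _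
  have hFc : Coh.IsCoh F := ⟨isQuasicoherent_of_isFinLocFree _ hF, isFiniteType_of_isFinLocFree _ hF⟩
  have hGc : Coh.IsCoh G := ⟨isQuasicoherent_of_isFinLocFree _ hG, isFiniteType_of_isFinLocFree _ hG⟩
  have hK : Coh.IsCoh (kernel u) := Groth.Agent.Lib.helper7.CohKer.isCoh_kernel hFc hGc u
  apply Preadditive.mono_of_isZero_kernel
  apply isZero_of_support_disjoint_closedFibre A X _ hK
  intro p hp hps
  apply hps
  have hinj := injective_stalkFn_of_mono_pullback (X ↘ Spec (CommRingCat.of A))
    (fibreTo (X ↘ Spec (CommRingCat.of A)) A (𝟙 _) (IsLocalRing.closedPoint A))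
    ((X ↘ Spec (CommRingCat.of A)).fiberι (IsLocalRing.closedPoint A)) hpb hsurj hker hF hG u hu
    p hp
  have hmono : Mono ((DerSch.stalkFunctor X p).map u) :=
    (ModuleCat.mono_iff_injective _).2 hinj
  have hz : IsZero (kernel ((DerSch.stalkFunctor X p).map u)) := isZero_kernel_of_mono _
  have hz' : IsZero ((DerSch.stalkFunctor X p).obj (kernel u)) :=
    hz.of_iso (PreservesKernel.iso (DerSch.stalkFunctor X p) u)
  exact (ModuleCat.subsingleton_of_isZero hz' :
    Subsingleton ((DerSch.stalkFunctor X p).obj (kernel u)))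

end localbase

end Groth.Agent.Lib.helper11.FibMono
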