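import Groth.Agent.Lib.Helper11.FiltLoc
import Groth.Agent.Lib.Helper21.InjAcyc

/-!
# Directed colimits of modules of finite type on a quasi-compact ringed space (helper11)
-/

set_option autoImplicit false
universe u
open CategoryTheory CategoryTheory.Limits TopologicalSpace Opposite

namespace Groth.Agent.Lib.helper11.FiltFT

open Groth.Agent.Lib.helper11.OverGen Groth.Agent.Lib.helper11.LocGen
  Groth.Agent.Lib.helper11.LocPres Groth.Agent.Lib.helper11.LocGenExt
  Groth.Agent.Lib.helper11.LocKer Groth.Agent.Lib.helper11.LocFree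
  Groth.Agent.Lib.helper11.FiltLoc

variable {T : TopCat.{u}} {R : Sheaf (Opens.grothendieckTopology T) RingCat.{u}}
  {I : Type u} [Preorder I] [Nonempty I] [IsDirected I (· ≤ ·)] (D : I ⥤ SheafOfModules.{u} R)
  (c : Cocone D)

/-- `c.ι μ` is locally surjective over `W` -/
def LocSurjOn (μ : I) (W : Opens T) : Prop :=
  ∀ (E : Opens T) (_ : E ≤ W) (y : c.pt.val.obj (op E)) (x : T), x ∈ E →
    ∃ (E' : Opens T) (hE' : E' ≤ E), x ∈ E' ∧ ∃ z : (D.obj μ).val.obj (op E'),
      ((c.ι.app μ).val.app (op E')).hom z = resM c.pt hE' y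

variable {D c}

omit [Nonempty I] [IsDirected I (· ≤ ·)] in
theorem cocone_w_apply {μ μ' : I} (h : μ ≤ μ') (E : Opens T) (z : (D.obj μ).val.obj (op E)) :
    ((c.ι.app μ').val.app (op E)).hom (((D.map (homOfLE h)).val.app (op E)).hom z) =
      ((c.ι.app μ).val.app (op E)).hom z := by
  have h1 := c.w (homOfLE h)
  exact congrArg (fun ψ : D.obj μ ⟶ c.pt => (ψ.val.app (op E)).hom z) h1

omit [Nonempty I] [IsDirected I (· ≤ ·)] in
theorem LocSurjOn.mono_stage {μ μ' : I} (h : μ ≤ μ') {W : Opens T} (hs : LocSurjOn D c μ W) :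
    LocSurjOn D c μ' W := by
  intro E hE y x hx
  obtain ⟨E', hE', hxE', z, hz⟩ := hs E hE y x hx
  exact ⟨E', hE', hxE', ((D.map (homOfLE h)).val.app (op E')).hom z,
    (cocone_w_apply h E' z).trans hz⟩

variable (hc : IsColimit c)

include hc in
/-- near every point some stage is locally surjective onto a colimit of finite type -/
theorem exists_locSurjOn [SheafOfModules.IsFiniteType (R := R) c.pt] (x : T) :
    ∃ (W : Opens T), x ∈ W ∧ ∃ μ : I, LocSurjOn D c μ W := by
  classical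
  obtain ⟨U₀, hxU₀, ι, hι, m, hm⟩ := exists_locSpan_of_isFiniteType (R := R) c.pt x
  haveI := Fintype.ofFinite ι
  obtain ⟨W, hWU, hxW, hW⟩ := exists_common_nhd x U₀ hxU₀
    (fun (k : ι) (W : Opens T) => ∃ (hW : W ≤ U₀) (μ : I) (t : (D.obj μ).val.obj (op W)),
      ((c.ι.app μ).val.app (op W)).hom t = resM c.pt hW (m k))
    (fun k => by
      obtain ⟨W, hW, hxW, μ, t, ht⟩ := exists_local_stage D c hc (m k) x hxU₀
      exact ⟨W, hW, hxW, hW, μ, t, ht⟩)
    (fun k W W' hW' hP => by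
      obtain ⟨hW, μ, t, ht⟩ := hP
      refine ⟨hW'.trans hW, μ, resM (D.obj μ) hW' t, ?_⟩
      rw [app_resM, ht]
      exact resM_resM (M := c.pt) hW hW' (m k))
  choose hW' μk t ht using hW
  obtain ⟨μ, hμ⟩ := Finite.exists_le μk
  refine ⟨W, hxW, μ, ?_⟩
  intro E hE y x' hx'
  obtain ⟨E', hE', hxE', hmem⟩ := hm E (hE.trans hWU) y x' hx'
  obtain ⟨a, ha⟩ := (Submodule.mem_span_range_iff_exists_fun _).mp hmem
  refine ⟨E', hE', hxE', ∑ k, a k • resM (D.obj μ) (hE'.trans hE)
    (((D.map (homOfLE (hμ k))).val.app (op W)).hom (t k)), ?_⟩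
  rw [app_sum_smul, ← ha]
  refine Finset.sum_congr rfl (fun k _ => ?_)
  rw [app_resM, cocone_w_apply, ht]
  exact congrArg (a k • ·) (resM_resM (M := c.pt) _ _ (m k))

include hc in
/-- on a quasi-compact space, some stage maps epimorphically onto a directed colimit of finite
type -/
theorem exists_epi [CompactSpace T] [SheafOfModules.IsFiniteType (R := R) c.pt] :
    ∃ μ : I, Epi (c.ι.app μ) := by
  classical
  choose W hxW μx hμx using fun x : T => exists_locSurjOn hc x
  obtain ⟨s, hs⟩ := isCompact_univ.elim_finite_subcover (fun x => ((W x : Opens T) : Set T))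
    (fun x => (W x).2) (fun x _ => Set.mem_iUnion.mpr ⟨x, hxW x⟩)
  obtain ⟨μ, hμ⟩ := Finset.exists_le (s.image μx)
  refine ⟨μ, epi_of_imgSieve_mem _ (fun V y => ?_)⟩
  intro x hxV
  obtain ⟨x₀, hx₀, hxW₀⟩ : ∃ x₀ ∈ s, x ∈ W x₀ := by
    have := hs (Set.mem_univ x)
    simpa using this
  have hle : μx x₀ ≤ μ := hμ _ (Finset.mem_image_of_mem μx hx₀)
  have h1 := (hμx x₀).mono_stage hle
  obtain ⟨E', hE', hxE', z, hz⟩ := h1 (V ⊓ W x₀) inf_le_right
    (resM c.pt (inf_le_left : V ⊓ W x₀ ≤ V) y) x ⟨hxV, hxW₀⟩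
  refine ⟨E', homOfLE (hE'.trans inf_le_left), ⟨z, ?_⟩, hxE'⟩
  rw [hz, resM_resM]
  rfl

/-- if moreover the transition maps are monomorphisms, some stage is isomorphic to the colimit -/
theorem exists_isIso {X : TopCat.{u}} {O : TopCat.Sheaf CommRingCat.{u} X}
    {D : I ⥤ ModSite.Mod O} {c : Cocone D} (hc : IsColimit c) [CompactSpace X]
    [SheafOfModules.IsFiniteType (R := ModSite.ringSh O) c.pt]
    (hmono : ∀ (i j : I) (f : i ⟶ j), Mono (D.map f)) :
    ∃ μ : I, IsIso (c.ι.app μ) := by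
  obtain ⟨μ, hμ⟩ := exists_epi (R := ModSite.ringSh O) hc
  refine ⟨μ, ?_⟩
  haveI : Mono (c.ι.app μ) := by
    apply mono_of_injective
    intro V
    rw [injective_iff_map_eq_zero]
    intro t ht
    apply eq_zero_of_locally_zero
    intro x hx
    obtain ⟨W, hW, hxW, μ', f, hf⟩ := exists_local_stage_zero D c hc μ t ht x hx
    refine ⟨W, hW, hxW, ?_⟩
    haveI := hmono μ μ' f
    haveI : Mono ((SheafOfModules.toSheaf (ModSite.ringSh O)).map (D.map f)) := inferInstance
    exact Groth.Agent.Lib.helper21.InjAcyc.injective_of_mono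
      ((SheafOfModules.toSheaf (ModSite.ringSh O)).map (D.map f)) (op W)
      (hf.trans (map_zero _).symm)
  exact isIso_of_mono_of_epi _

end Groth.Agent.Lib.helper11.FiltFT
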