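import Groth.Agent.Lib.Helper11.LocFree2

/-!
# A local basis from a retract of a local presentation (helper11)
-/

set_option autoImplicit false
universe u
open CategoryTheory CategoryTheory.Limits TopologicalSpace Opposite

namespace Groth.Agent.Lib.helper11.LocFree

open Groth.Agent.Lib.helper11.OverGen Groth.Agent.Lib.helper11.FreeSec
  Groth.Agent.Lib.helper11.LocGen Groth.Agent.Lib.helper11.LocPres
  Groth.Agent.Lib.helper11.LocGenExt Groth.Agent.Lib.helper11.LocKer
  Groth.Agent.Lib.helper11.OverPres

variable {T : TopCat.{u}} {R : Sheaf (Opens.grothendieckTopology T) RingCat.{u}}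

/-- a section of the structure sheaf which is locally zero is zero -/
theorem eq_zero_of_locally_zero_R {D : Opens T} (r : R.obj.obj (op D))
    (h : ∀ x ∈ D, ∃ (D' : Opens T) (hD' : D' ≤ D), x ∈ D' ∧ resR (R := R) hD' r = 0) : r = 0 := by
  let S : Sieve D :=
    { arrows := fun Y f => (R.obj.map f.op).hom r = 0
      downward_closed := by
        intro Y Z f hf g
        change (R.obj.map (g ≫ f).op).hom r = 0
        rw [op_comp, Functor.map_comp]
        change (R.obj.map g.op).hom ((R.obj.map f.op).hom r) = 0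
        rw [hf]
        exact map_zero (R.obj.map g.op).hom }
  have hS : S ∈ Opens.grothendieckTopology T D := by
    intro x hx
    obtain ⟨D', hD', hxD', h0⟩ := h x hx
    exact ⟨D', homOfLE hD', h0, hxD'⟩
  refine (Sheaf.isSeparated R) D S hS _ _ (fun Y f hf => ?_)
  exact Eq.trans hf (map_zero _).symm

theorem resR_zero {U D : Opens T} (hD : D ≤ U) : resR (R := R) hD 0 = 0 :=
  map_zero (R.obj.map (homOfLE hD).op).hom

/-- sections `b` through which a local presentation `(m, a)` retracts form a local basis -/
theorem locBasis_of_retract {M : SheafOfModules.{u} R} {I J K : Type u} [Fintype I] [Fintype J]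
    [Fintype K] [DecidableEq J]
    (U : Opens T) (m : I → M.val.obj (op U)) (a : K → I → R.obj.obj (op U))
    (hm : LocSpan M U m) (ha : LocSyz M U m a)
    (b : J → M.val.obj (op U)) (Q : I → J → R.obj.obj (op U)) (P : J → I → R.obj.obj (op U))
    (hC : ∀ i, m i = ∑ j, Q i j • b j)
    (hD : ∀ j, b j = ∑ i, P j i • m i)
    (h3 : ∀ j j', ∑ i, P j i * Q i j' = if j = j' then 1 else 0)
    (h4 : ∀ k j', ∑ i, a k i * Q i j' = 0) : LocBasis M U b := by
  refine ⟨?_, ?_⟩
  · intro D hDU y x hx
    obtain ⟨D', hD', hxD', hmem⟩ := hm D hDU y x hx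
    refine ⟨D', hD', hxD', ?_⟩
    refine Submodule.span_le.mpr ?_ hmem
    rintro _ ⟨i, rfl⟩
    change resM M (hD'.trans hDU) (m i) ∈ _
    rw [hC i, resM_sum_smul]
    exact Submodule.sum_mem _ (fun j _ => Submodule.smul_mem _ _ (Submodule.subset_span ⟨j, rfl⟩))
  · intro D hDU c hc
    have h1 : ∑ i, (∑ j, c j * resR hDU (P j i)) • resM M hDU (m i) = 0 := by
      refine Eq.trans ?_ hc
      simp only [Finset.sum_smul, mul_smul]
      rw [Finset.sum_comm]
      refine Finset.sum_congr rfl (fun j _ => ?_)
      rw [hD j, resM_sum_smul, Finset.smul_sum]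
    funext j'
    apply eq_zero_of_locally_zero_R
    intro x hx
    obtain ⟨D', hD', hxD', e, he⟩ := ha.2 D hDU _ h1 x hx
    refine ⟨D', hD', hxD', ?_⟩
    have hDU' : D' ≤ U := hD'.trans hDU
    -- the two computations
    have e1 : ∑ i, resR hD' (∑ j, c j * resR hDU (P j i)) * resR hDU' (Q i j') =
        resR hD' (c j') := by
      simp only [resR_sum, resR_mul, resR_resR, Finset.sum_mul, mul_assoc]
      rw [Finset.sum_comm]
      simp only [← Finset.mul_sum, ← resR_mul, ← resR_sum, h3, resR_ite, mul_ite, mul_one,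
        mul_zero, Finset.sum_ite_eq', Finset.mem_univ, if_true]
    have e2 : ∑ i, resR hD' (∑ j, c j * resR hDU (P j i)) * resR hDU' (Q i j') = 0 := by
      simp only [he, Finset.sum_mul, mul_assoc]
      rw [Finset.sum_comm]
      simp only [← Finset.mul_sum, ← resR_mul, ← resR_sum, h4, resR_zero, mul_zero,
        Finset.sum_const_zero]
    exact e1.symm.trans e2

end Groth.Agent.Lib.helper11.LocFree
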