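import Groth.Agent.Lib.Helper1.QcSections
import Groth.Agent.Lib.Helper11.LocRetract

/-!
# Sections of filtered colimits of modules on a ringed space come locally from a stage (helper11)
-/

set_option autoImplicit false
universe u
open CategoryTheory CategoryTheory.Limits TopologicalSpace Opposite

namespace Groth.Agent.Lib.helper11.FiltLoc

open Groth.Agent.Lib.helper11.OverGen Groth.Agent.Lib.helper11.LocGen Groth.Agent.Lib.helper11.LocPres
  Groth.Agent.Lib.helper11.LocFree Groth.Agent.Lib.helper27.FiltCoh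

section Ab

variable {Λ : Type u} [SmallCategory Λ] [IsFiltered Λ]
  {C : Type u} [SmallCategory C] {J : GrothendieckTopology C}
  (F : Λ ⥤ Sheaf J AddCommGrpCat.{u})

/-- a section of a stage which dies in the colimit dies locally at a later stage -/
lemma loc_inj' (c : Cocone F) (hc : IsColimit c) (V : C) (μ : Λ) (t : (F.obj μ).obj.obj (op V))
    (ht : (c.ι.app μ).hom.app (op V) t = 0) :
    ∃ T ∈ J V, ∀ ⦃W : C⦄ (g : W ⟶ V), T.arrows g →
      ∃ (μ' : Λ) (f : μ ⟶ μ'), (F.map f).hom.app (op W) ((F.obj μ).obj.map g.op t) = 0 := by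
  let e : c ≅ c₀ F := IsColimit.uniqueUpToIso hc (hc₀ F)
  apply loc_inj F V μ t
  have h1 : (c₀ F).ι.app μ = c.ι.app μ ≫ e.hom.hom := (e.hom.w μ).symm
  rw [h1]
  change e.hom.hom.hom.app (op V) ((c.ι.app μ).hom.app (op V) t) = 0
  rw [ht, map_zero]

end Ab

section Mod

variable {T : TopCat.{u}} {R : Sheaf (Opens.grothendieckTopology T) RingCat.{u}}
  {I : Type u} [SmallCategory I] [IsFiltered I] (D : I ⥤ SheafOfModules.{u} R)
  (c : Cocone D) (hc : IsColimit c)

include hc in
/-- a section of a filtered colimit of modules comes locally from a stage -/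
theorem exists_local_stage {V : Opens T} (s : c.pt.val.obj (op V)) (x : T) (hx : x ∈ V) :
    ∃ (W : Opens T) (hW : W ≤ V), x ∈ W ∧ ∃ (μ : I) (t : (D.obj μ).val.obj (op W)),
      ((c.ι.app μ).val.app (op W)).hom t = resM c.pt hW s := by
  haveI := Groth.Agent.Lib.Helper21.ModSh.toSheaf_preservesColimits R
  have hc' : IsColimit ((SheafOfModules.toSheaf.{u} R).mapCocone c) :=
    isColimitOfPreserves (SheafOfModules.toSheaf.{u} R) hc
  obtain ⟨S, hS, h⟩ := Groth.Agent.H1.QcSections.loc_surj' (D ⋙ SheafOfModules.toSheaf.{u} R)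
    ((SheafOfModules.toSheaf.{u} R).mapCocone c) hc' V s
  obtain ⟨W, g, hg, hxW⟩ := hS x hx
  obtain ⟨μ, t, ht⟩ := h g hg
  exact ⟨W, g.le, hxW, μ, t, ht⟩

include hc in
/-- a section of a stage which dies in the colimit dies locally at a later stage -/
theorem exists_local_stage_zero {V : Opens T} (μ : I) (t : (D.obj μ).val.obj (op V))
    (ht : ((c.ι.app μ).val.app (op V)).hom t = 0) (x : T) (hx : x ∈ V) :
    ∃ (W : Opens T) (hW : W ≤ V), x ∈ W ∧ ∃ (μ' : I) (f : μ ⟶ μ'),
      ((D.map f).val.app (op W)).hom (resM (D.obj μ) hW t) = 0 := by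
  haveI := Groth.Agent.Lib.Helper21.ModSh.toSheaf_preservesColimits R
  have hc' : IsColimit ((SheafOfModules.toSheaf.{u} R).mapCocone c) :=
    isColimitOfPreserves (SheafOfModules.toSheaf.{u} R) hc
  obtain ⟨S, hS, h⟩ := loc_inj' (D ⋙ SheafOfModules.toSheaf.{u} R)
    ((SheafOfModules.toSheaf.{u} R).mapCocone c) hc' V μ t ht
  obtain ⟨W, g, hg, hxW⟩ := hS x hx
  obtain ⟨μ', f, hf⟩ := h g hg
  exact ⟨W, g.le, hxW, μ', f, hf⟩

end Mod

end Groth.Agent.Lib.helper11.FiltLoc
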