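import Mathlib
import Groth.Agent.Lib.Helper11.FinTop5
import Groth.Agent.Lib.Lead.RpushCoh

/-!
# `R^d f_* M` is of finite type for `f` proper with fibres of dimension `≤ d` (helper11; Stacks 0E7E)
-/

set_option autoImplicit false
universe u

namespace Groth.Agent.Lib.helper11.FinTop

open CategoryTheory CategoryTheory.Limits Opposite TopologicalSpace AlgebraicGeometry
open Groth.Agent.Lib.helper21.RpushSections Groth.Agent.Lib.helper21.RpushQCohAffine
open Groth.Agent.Lib.helper21 Groth.Agent.Lib.Lead.RpushCoh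

section affine

variable {Y T : Scheme.{u}} (g : Y ⟶ T) (N : Y.Modules) [HasInjectiveResolutions Y.Modules]

/-- the global sections of `R^d g_* N` are a finite module, for `g` proper with fibres of dimension `≤ d` over an
affine base, `N` quasi-coherent of finite type -/
theorem finite_sections_rpush_top [IsProper g] [IsAffine T] (d : ℕ)
    (hd : ∀ t : T, topologicalKrullDim ↥(g.fiber t) ≤ d) (hN : Coh.IsCoh N) :
    Module.Finite Γ(T, ⊤) Γ((Coh.Rpush g d).obj N, ⊤) := by
  have : N.IsQuasicoherent := hN.1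
  let _ : Y.Over (Spec (CommRingCat.of Γ(T, ⊤))) := ⟨g ≫ T.isoSpec.hom⟩
  have : IsProper (Y ↘ Spec (CommRingCat.of Γ(T, ⊤))) := by
    show IsProper (g ≫ T.isoSpec.hom)
    infer_instance
  have hsq0 : IsPullback (𝟙 Y) (g ≫ T.isoSpec.hom) g T.isoSpec.inv := by
    refine IsPullback.of_horiz_isIso ⟨?_⟩
    simp
  have hd' : ∀ s, topologicalKrullDim ↥((Y ↘ Spec (CommRingCat.of Γ(T, ⊤))).fiber s) ≤ d :=
    fun s => Groth.Agent.Lib.helper11.FibreVanQC.fiber_dim_le_of_isPullback g T.isoSpec.inv (𝟙 Y)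
      (g ≫ T.isoSpec.hom) hsq0 d hd s
  have hfin : Module.Finite Γ(T, ⊤) (Coh.HH Y N d) := finite_HH_top Γ(T, ⊤) Y d hd' N hN
  obtain ⟨Θ⟩ := RpushTheta.nonempty_theta g d
  let E := secEquiv g N d Θ
  have hE : ∀ (a : Γ(T, ⊤)) (x : Γ((Coh.Rpush g d).obj N, ⊤)), E (a • x) = a • E x := by
    intro a x
    have h1 : a • x = ((Coh.smulAb ((Coh.Rpush g d).obj N) a).hom.app (op ⊤)).hom x := by
      have := Coh.smulAb_app ((Coh.Rpush g d).obj N) a (op ⊤) x
      refine Eq.trans ?_ this.symm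
      have h1 : Coh.resTop T (op (⊤ : T.Opens)) a = a := by
        show (T.ringCatSheaf.obj.map (𝟙 (op (⊤ : T.Opens)))).hom a = a
        rw [CategoryTheory.Functor.map_id]
        rfl
      rw [h1]
      rfl
    rw [h1]
    refine (secEquiv_smul g N d Θ a x).trans ?_
    show Sheaf.H.map (Coh.smulAb N (φ g a)) d (E x) =
      Sheaf.H.map (Coh.smulAb N (Coh.toGlobal (A := Γ(T, ⊤)) (g ≫ T.isoSpec.hom) a)) d (E x)
    rw [toGlobal_eq]
  let L : Coh.HH Y N d →ₗ[Γ(T, ⊤)] Γ((Coh.Rpush g d).obj N, ⊤) :=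
    { toFun := E.symm
      map_add' := E.symm.map_add
      map_smul' := by
        intro a z
        apply E.injective
        have h2 := hE a (E.symm z)
        rw [E.apply_symm_apply] at h2
        exact (E.apply_symm_apply _).trans h2.symm }
  exact Module.Finite.of_surjective L E.symm.surjective

/-- `R^d g_* N` is quasi-coherent of finite type, affine base -/
theorem isCoh_rpush_top_of_isAffine [IsProper g] [IsAffine T] (d : ℕ)
    (hd : ∀ t : T, topologicalKrullDim ↥(g.fiber t) ≤ d) (hN : Coh.IsCoh N) :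
    Coh.IsCoh ((Coh.Rpush g d).obj N) := by
  have : N.IsQuasicoherent := hN.1
  have : ((Coh.Rpush g d).obj N).IsQuasicoherent := isQuasicoherent_rpush g N d
  exact Groth.Agent.Lib.helper16.CohFinite.isCoh_of_finite_sections _
    (fun _ : PUnit.{u + 1} => (⊤ : T.Opens)) (fun _ => isAffineOpen_top T) (by simp)
    (fun _ => finite_sections_rpush_top g N d hd hN)

end affine

open AlgebraicGeometry.Scheme.Modules in
/-- **Stacks 0E7E**: `R^d f_* M` is quasi-coherent of finite type for `f` proper with all fibres of dimension `≤ d` and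
`M` quasi-coherent of finite type (no Noetherian hypothesis). -/
theorem isCoh_rpush_top {X S : Scheme.{u}} (f : X ⟶ S) [IsProper f] (d : ℕ)
    (hd : ∀ s : S, topologicalKrullDim ↥(f.fiber s) ≤ d)
    [HasInjectiveResolutions X.Modules] (M : X.Modules) (hM : Coh.IsCoh M) :
    Coh.IsCoh ((Coh.Rpush f d).obj M) := by
  refine Groth.Agent.Lib.helper25.DCohHomology.isCoh_of_cover _
    (fun V : S.affineOpens => V.1) (iSup_affineOpens_eq_top S) (fun V => ?_)
  obtain ⟨e⟩ := ModOpenBC.nonempty_restrict_rpush_iso f V.1 M d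
  have : IsAffine (V.1 : Scheme.{u}) := V.2
  have hN : Coh.IsCoh ((restrictFunctor (f ⁻¹ᵁ V.1).ι).obj M) :=
    Groth.Agent.Lib.helper11.CounitEpi.isCoh_restrict hM (f ⁻¹ᵁ V.1)
  have hd' : ∀ s : (V.1 : Scheme.{u}), topologicalKrullDim ↥((f ∣_ V.1).fiber s) ≤ d :=
    Groth.Agent.Lib.helper11.FibreVanQC.fiber_dim_le_morphismRestrict f d V.1 (fun s _ => hd s)
  have h0 := isCoh_rpush_top_of_isAffine (f ∣_ V.1) _ d hd' hN
  refine ⟨Groth.Agent.Lib.helper7.QCohProd.isQuasicoherent_of_iso e.symm h0.1, ?_⟩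
  exact Groth.Agent.Lib.helper7.CohKer.isFiniteType_of_epi e.symm.hom h0.2

end Groth.Agent.Lib.helper11.FinTop
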