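import Mathlib
import Groth.Agent.Lib.Helper11.FinTop2

/-!
# Cohomology of a qcqs scheme commutes with filtered colimits and coproducts of modules, elementwise (helper11)

* `exists_rep_of_isColimit`: every class in `H^d(X, colim D)` comes from a stage of the filtered diagram `D`.
* `mem_closure_range_map_sigma`: `H^d(X, ∐ N)` is generated by the images of the `H^d(X, N i)`.
-/

set_option autoImplicit false
set_option backward.isDefEq.respectTransparency false
universe u

open CategoryTheory CategoryTheory.Limits AlgebraicGeometry Opposite TopologicalSpace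
open Scheme.Modules

namespace Groth.Agent.Lib.helper11.FinTop

open Groth.Agent.Lib.Helper18

variable {X : Scheme.{u}}

/-- every class in the cohomology of a filtered colimit of modules on a qcqs scheme comes from a stage -/
theorem exists_rep_of_isColimit [CompactSpace X] [QuasiSeparatedSpace X] {J : Type u}
    [SmallCategory J] [IsFiltered J] (D : J ⥤ X.Modules) (c : Cocone D) (hc : IsColimit c) (d : ℕ)
    (x : Coh.HH X c.pt d) :
    ∃ (j : J) (x' : Coh.HH X (D.obj j) d), HH.map (c.ι.app j) d x' = x := by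
  haveI := Groth.Agent.Lib.Helper21.ModSh.toSheaf_preservesColimits X.ringCatSheaf
  let Φ := SheafOfModules.toSheaf.{u} X.ringCatSheaf
  have hc' : IsColimit (Φ.mapCocone c) := isColimitOfPreserves Φ hc
  let T := (Sheaf.cohomologyPresheafFunctor (Opens.grothendieckTopology X) d).flip.obj
    (op (⊤ : Opens X))
  let 𝔅 : Set (Opens X) := {W | IsCompact (W : Set X)}
  haveI : PreservesColimit (D ⋙ Φ) T := by
    refine Groth.Agent.Lib.helper27.FiltCoh.preservesColimit_H_top 𝔅 (fun W hW => hW)
      (fun W hW W' hW' => ?_) (fun W hW V hVW x hx => ?_) ⊤ isCompact_univ d (D ⋙ Φ)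
    · exact QuasiSeparatedSpace.inter_isCompact _ _ W.isOpen hW W'.isOpen hW'
    · obtain ⟨W', hW', hxW', hle⟩ :=
        (Opens.isBasis_iff_nbhd.1 X.isBasis_affineOpens) hx
      exact ⟨W', hW'.isCompact, hxW', hle⟩
  have hc'' : IsColimit (T.mapCocone (Φ.mapCocone c)) := isColimitOfPreserves T hc'
  let x₀ : (T.obj (Coh.toAb c.pt) : AddCommGrpCat.{u}) :=
    (Groth.Agent.Lib.helper27.SerreVan.HEquivHU (Coh.toAb c.pt) d).symm x
  obtain ⟨j, y, hy⟩ := Groth.Agent.Lib.helper27.ab_colimit_exists_rep _ _ hc'' x₀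
  refine ⟨j, Groth.Agent.Lib.helper27.SerreVan.HEquivHU (Coh.toAb (D.obj j)) d y, ?_⟩
  rw [HH.map_apply]
  have h1 := Groth.Agent.Lib.Lead.RpushCoh.HEquivHU_map (HH.abMap (c.ι.app j)) d y
  refine h1.symm.trans ?_
  have h2 : CohTop.HUmap (HH.abMap (c.ι.app j)) d ⊤ y = x₀ := hy
  refine (congrArg _ h2).trans ?_
  exact (Groth.Agent.Lib.helper27.SerreVan.HEquivHU (Coh.toAb c.pt) d).apply_symm_apply x

local instance instFB' : HasFiniteBiproducts X.Modules := Abelian.hasFiniteBiproducts

/-- the cohomology of a finite biproduct is generated by the images of the cohomology of the summands -/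
theorem mem_closure_range_map_biproduct {J : Type*} [Fintype J] (N : J → X.Modules) (d : ℕ)
    (w : Coh.HH X (⨁ N) d) :
    w ∈ AddSubgroup.closure (⋃ j, Set.range (HH.map (biproduct.ι N j) d)) := by
  classical
  have hsum : w = ∑ a : J, HH.map (biproduct.π N a ≫ biproduct.ι N a) d w := by
    have ht : ∑ a : J, biproduct.π N a ≫ biproduct.ι N a = 𝟙 (⨁ N) :=
      CategoryTheory.Limits.IsBilimit.total (biproduct.isBilimit N)
    have h1 := HH.map_sum Finset.univ (fun a : J => biproduct.π N a ≫ biproduct.ι N a) d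
    rw [ht, HH.map_id] at h1
    have h2 := congrArg (fun L => L w) h1
    simpa using h2
  rw [hsum]
  refine AddSubgroup.sum_mem _ (fun a _ => ?_)
  refine AddSubgroup.subset_closure (Set.mem_iUnion.2 ⟨a, HH.map (biproduct.π N a) d w, ?_⟩)
  rw [← HH.map_comp_apply]

/-- **cohomology commutes with coproducts** (generation form) -/
theorem mem_closure_range_map_sigma [CompactSpace X] [QuasiSeparatedSpace X] (d : ℕ) {ι : Type u}
    (N : ι → X.Modules) (x : Coh.HH X (∐ N) d) :
    x ∈ AddSubgroup.closure (⋃ i, Set.range (HH.map (Sigma.ι N i) d)) := by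
  classical
  let c := CoproductsFromFiniteFiltered.finiteSubcoproductsCocone N
  have hc : IsColimit c := CoproductsFromFiniteFiltered.isColimitFiniteSubproductsCocone N
  obtain ⟨S, w, hw⟩ := exists_rep_of_isColimit _ c hc d x
  let NS : ↥S → X.Modules := fun s => N s.1.as
  let e : ⨁ NS ≅ ∐ NS := biproduct.isoCoproduct NS
  have hw' : x = HH.map (e.hom ≫ c.ι.app S) d (HH.map e.inv d w) := by
    rw [← HH.map_comp_apply, ← Category.assoc, e.inv_hom_id, Category.id_comp]
    exact hw.symm
  rw [hw']
  have h1 := mem_closure_range_map_biproduct NS d (HH.map e.inv d w)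
  refine AddSubgroup.closure_induction (p := fun z _ => HH.map (e.hom ≫ c.ι.app S) d z ∈
    AddSubgroup.closure (⋃ i, Set.range (HH.map (Sigma.ι N i) d))) ?_ ?_ ?_ ?_ h1
  · rintro z hz
    obtain ⟨s, t, rfl⟩ := Set.mem_iUnion.1 hz
    refine AddSubgroup.subset_closure (Set.mem_iUnion.2 ⟨s.1.as, t, ?_⟩)
    change _ = HH.map (e.hom ≫ c.ι.app S) d (HH.map (biproduct.ι NS s) d t)
    rw [← HH.map_comp_apply]
    congr 2
    simp [e, c, NS]
  · rw [map_zero]; exact AddSubgroup.zero_mem _
  · intro a b _ _ ha hb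
    rw [map_add]; exact AddSubgroup.add_mem _ ha hb
  · intro a _ ha
    rw [map_neg]; exact AddSubgroup.neg_mem _ ha

end Groth.Agent.Lib.helper11.FinTop
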