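import Mathlib
import Groth.Agent.Lib.Helper11.FinTop7
import Groth.Agent.Lib.Helper11.FinTop4
import Groth.Agent.Lib.Helper11.FibreVanQC3
import Groth.Agent.Lib.Helper18.HHPush
import Groth.Agent.Lib.Helper11.AmpleInv
import Groth.Agent.Lib.Helper11.FinTop5

/-!
# `H^d(X, O_X) ⊆ J_y H^d(X, O_X)` when the top cohomology of the closed fibre vanishes (helper11)
-/

set_option autoImplicit false
set_option backward.isDefEq.respectTransparency false
universe u

open CategoryTheory CategoryTheory.Limits AlgebraicGeometry Opposite TopologicalSpace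
open Scheme.Modules

namespace Groth.Agent.Lib.helper11.FinTop

open Groth.Agent.Lib.Helper18 Groth.Agent.Lib.Helper20.SmulHom

/-- in a pushout of commutative rings along a surjection, the kernel of the other leg is the extended ideal -/
theorem mem_map_ker_of_isPushout {A B κ P : CommRingCat.{u}} {φ : A ⟶ B} {ev : A ⟶ κ}
    {inl : B ⟶ P} {inr : κ ⟶ P} (h : IsPushout φ ev inl inr)
    (hev : Function.Surjective ev.hom) (b : B) (hb : inl.hom b = 0) :
    b ∈ Ideal.map φ.hom (RingHom.ker ev.hom) := by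
  set I : Ideal B := Ideal.map φ.hom (RingHom.ker ev.hom) with hI
  let q : B →+* B ⧸ I := Ideal.Quotient.mk I
  let ψ₀ : A ⧸ RingHom.ker ev.hom →+* B ⧸ I :=
    Ideal.Quotient.lift (RingHom.ker ev.hom) (q.comp φ.hom) (fun a ha => by
      change q (φ.hom a) = 0
      rw [Ideal.Quotient.eq_zero_iff_mem]
      exact Ideal.mem_map_of_mem _ ha)
  let ε : (A ⧸ RingHom.ker ev.hom) ≃+* κ := RingHom.quotientKerEquivOfSurjective hev
  let ψ : κ →+* B ⧸ I := ψ₀.comp ε.symm.toRingHom
  have comm : φ ≫ CommRingCat.ofHom q = ev ≫ CommRingCat.ofHom ψ := by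
    ext a
    change q (φ.hom a) = ψ₀ (ε.symm (ev.hom a))
    have h1 : ε.symm (ev.hom a) = Ideal.Quotient.mk _ a := by
      rw [RingEquiv.symm_apply_eq]
      rfl
    rw [h1]
    rfl
  have hd := h.inl_desc (CommRingCat.ofHom q) (CommRingCat.ofHom ψ) comm
  have h2 : q b = (h.desc (CommRingCat.ofHom q) (CommRingCat.ofHom ψ) comm).hom (inl.hom b) := by
    have := congrArg (fun θ : B ⟶ CommRingCat.of (B ⧸ I) => θ.hom b) hd
    exact this.symm
  rw [hb, map_zero] at h2
  exact Ideal.Quotient.eq_zero_iff_mem.1 h2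

section Fibre

variable {X Y : Scheme.{u}} (f : X ⟶ Y) (y : Y)

/-- the unit map `O_X ⟶ i_* O_{X_y}`, `i : X_y ⟶ X` the fibre -/
noncomputable def etaFib :
    Coh.structureModule X ⟶ (pushforward (f.fiberι y)).obj (Coh.structureModule (f.fiber y)) :=
  SheafOfModules.unitToPushforwardObjUnit (f.fiberι y).toRingCatSheafHom

theorem etaFib_app (U : X.Opens) (b : Γ(X, U)) :
    ((etaFib f y).app U).hom b = ((f.fiberι y).app U).hom b := rfl

theorem isPullback_fiber :
    IsPullback (f.fiberι y) (f.fiberToSpecResidueField y) f (Y.fromSpecResidueField y) :=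
  IsPullback.of_hasPullback _ _

variable [IsAffine Y]

instance : IsAffineHom (f.fiberι y) :=
  MorphismProperty.pullback_fst (P := @IsAffineHom) _ _ inferInstance

/-- the ideal of functions on the base vanishing at `y` -/
noncomputable def Jy : Ideal Γ(Y, ⊤) := RingHom.ker (Y.fromSpecResidueField y).appTop.hom

variable {y} in
/-- the kernel of `Γ(U, O_X) → Γ(i⁻¹ U, O_{X_y})` over a closed point -/
theorem mem_map_Jy (hy : IsClosed ({y} : Set Y)) {U : X.Opens} (hU : IsAffineOpen U)
    (b : Γ(X, U)) (hb : ((f.fiberι y).app U).hom b = 0) :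
    b ∈ Ideal.map (f.appLE ⊤ U le_top).hom (Jy y) := by
  haveI : IsClosedImmersion (Y.fromSpecResidueField y) :=
    isClosed_singleton_iff_isClosedImmersion.1 hy
  have hUST : (⊤ : (Spec (Y.residueField y)).Opens) ≤
      (Y.fromSpecResidueField y) ⁻¹ᵁ (⊤ : Y.Opens) := le_top
  have hUSX : U ≤ f ⁻¹ᵁ (⊤ : Y.Opens) := le_top
  have hUY : (f.fiberι y) ⁻¹ᵁ U = (f.fiberι y) ⁻¹ᵁ U ⊓
      (f.fiberToSpecResidueField y) ⁻¹ᵁ (⊤ : (Spec (Y.residueField y)).Opens) := by simp
  have hpo := (isIso_pushoutSection_iff (isPullback_fiber f y) hUST hUSX hUY).1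
    (isIso_pushoutSection_of_isAffineOpen (isPullback_fiber f y) hUST hUSX hUY (isAffineOpen_top Y)
      (isAffineOpen_top _) hU)
  have hsurj : Function.Surjective ((Y.fromSpecResidueField y).appLE ⊤ ⊤ hUST).hom := by
    have h1 := (IsClosedImmersion.isAffine_surjective_of_isAffine (Y.fromSpecResidueField y)).2
    have h2 : (Y.fromSpecResidueField y).appLE ⊤ ⊤ hUST = (Y.fromSpecResidueField y).appTop := by
      simp [Scheme.Hom.appLE, Scheme.Hom.appTop]
    rw [h2]
    exact h1
  have key := mem_map_ker_of_isPushout hpo hsurj b (by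
    have h3 : (f.fiberι y).appLE U ((f.fiberι y) ⁻¹ᵁ U) (by simp) = (f.fiberι y).app U := by
      simp [Scheme.Hom.appLE]
    rw [h3]
    exact hb)
  have h2 : (Y.fromSpecResidueField y).appLE ⊤ ⊤ hUST = (Y.fromSpecResidueField y).appTop := by
    simp [Scheme.Hom.appLE, Scheme.Hom.appTop]
  rw [h2] at key
  exact key

end Fibre

section Coh

variable {X Y : Scheme.{u}} (f : X ⟶ Y) [IsAffine Y] {y : Y}

/-- multiplication by a function vanishing at `y` kills `i_* O_{X_y}` -/
theorem smulHom_comp_etaFib (a : Γ(Y, ⊤)) (ha : a ∈ Jy y) :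
    smulHom (f.appTop.hom a) (Coh.structureModule X) ≫ etaFib f y = 0 := by
  rw [smulHom_naturality, ← pushforward_smulHom]
  have h1 : (f.fiberι y).appTop.hom (f.appTop.hom a) = 0 := by
    have h2 : f.appTop ≫ (f.fiberι y).appTop =
        (Y.fromSpecResidueField y).appTop ≫ (f.fiberToSpecResidueField y).appTop := by
      rw [← Scheme.Hom.comp_appTop, ← Scheme.Hom.comp_appTop, (isPullback_fiber f y).w]
    have h3 := ConcreteCategory.congr_hom h2 a
    refine h3.trans ?_
    have h4 : (Y.fromSpecResidueField y).appTop.hom a = 0 := ha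
    change (f.fiberToSpecResidueField y).appTop.hom ((Y.fromSpecResidueField y).appTop.hom a) = 0
    rw [h4, map_zero]
  rw [h1, smulHom_zero, Functor.map_zero, comp_zero]

end Coh

section Main

variable {X Y : Scheme.{u}} (f : X ⟶ Y) [IsAffine Y] {y : Y}

/-- **`H^d(X, O_X) ⊆ J_y H^d(X, O_X)`** when the top cohomology of the fibre over the closed point `y` vanishes -/
theorem mem_closure_smul_of_fiber_vanish [CompactSpace X] [QuasiSeparatedSpace X] (d : ℕ)
    (hvan : ∀ K : X.Modules, K.IsQuasicoherent → Subsingleton (Coh.HH X K (d + 1)))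
    (hy : IsClosed ({y} : Set Y))
    (hfib : Subsingleton (Coh.HH (f.fiber y) (Coh.structureModule (f.fiber y)) d))
    (h : Coh.HH X (Coh.structureModule X) d) :
    h ∈ AddSubgroup.closure {z | ∃ a ∈ Jy y, ∃ h' : Coh.HH X (Coh.structureModule X) d,
      z = f.appTop.hom a • h'} := by
  classical
  let O := Coh.structureModule X
  let O' := Coh.structureModule (f.fiber y)
  let i := f.fiberι y
  haveI hO : O.IsQuasicoherent := (Groth.Agent.Lib.helper11.AmpleInv.isCoh_structureModule X).1
  haveI hO' : O'.IsQuasicoherent :=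
    (Groth.Agent.Lib.helper11.AmpleInv.isCoh_structureModule (f.fiber y)).1
  haveI : IsClosedImmersion (Y.fromSpecResidueField y) :=
    isClosed_singleton_iff_isClosedImmersion.1 hy
  haveI : IsClosedImmersion i :=
    MorphismProperty.pullback_fst (P := @IsClosedImmersion) _ _ inferInstance
  haveI hG : ((pushforward i).obj O').IsQuasicoherent :=
    Groth.Agent.Lib.helper7.QCohPushQC.isQuasicoherent_pushforward i O'
  let η := etaFib f y
  -- `η` is an epimorphism
  have hsurjU : ∀ U : X.Opens, IsAffineOpen U → Function.Surjective (i.app U).hom :=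
    (isClosedImmersion_iff_isAffineHom.1 inferInstance).2
  haveI : Epi η :=
    Groth.Agent.Lib.helper16.QCohEpi.epi_of_surjective_on_affine_cover η
      (fun U : X.affineOpens => U.1) (fun U => U.2) (fun x => by
        have hx : x ∈ (⨆ U : X.affineOpens, (U.1 : X.Opens)) := by
          rw [iSup_affineOpens_eq_top]; trivial
        exact Opens.mem_iSup.1 hx) (fun U => hsurjU U.1 U.2)
  let S : ShortComplex X.Modules := ShortComplex.mk (kernel.ι η) η (kernel.condition η)
  have hS : S.ShortExact :=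
    { exact := ShortComplex.exact_of_f_is_kernel _ (kernelIsKernel η)
      mono_f := inferInstanceAs (Mono (kernel.ι η))
      epi_g := inferInstanceAs (Epi η) }
  haveI hK : (kernel η).IsQuasicoherent := Groth.Agent.Lib.helper7.CohKer.isQuasicoherent_kernel η
  -- `h` comes from the kernel
  have h0 : Subsingleton (Coh.HH X ((pushforward i).obj O') d) :=
    (HH.subsingleton_iff_push i O' d).1 hfib
  obtain ⟨k, hk⟩ := (HH.exact₂ hS d h).1 (Subsingleton.elim _ _)
  have hk' : HH.map (kernel.ι η) d k = h := hk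
  -- the family of maps `O_X ⟶ kernel η`
  let φ : ↥(Jy y) → (O ⟶ kernel η) := fun a =>
    kernel.lift η (smulHom (f.appTop.hom a.1) O) (smulHom_comp_etaFib f a.1 a.2)
  obtain ⟨cov, hcov⟩ := exists_finite_affine_cover X
  have hgen := mem_closure_range_map d hvan (kernel η) (I := ↥(Jy y)) (fun _ => O) (fun _ => hO) φ
    (ι := ↥cov) (fun U => U.1.1) (fun U => U.1.2)
    (fun x => by
      obtain ⟨U, hU, hx⟩ := hcov x
      exact ⟨⟨U, hU⟩, hx⟩)
    (fun U => by
      rw [eq_top_iff]
      intro t _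
      -- the image of `t` in `Γ(U, O_X)` lies in the extended ideal
      let b : Γ(X, U.1.1) := ((kernel.ι η).app U.1.1).hom t
      have hb0 : (i.app U.1.1).hom b = 0 :=
        Groth.Agent.Lib.helper7.KerSections.kernel_ι_app_comp η U.1.1 t
      have hb := mem_map_Jy f hy U.1.2 b hb0
      -- the span is the preimage of the extended ideal
      have hinj := Groth.Agent.Lib.helper7.KerSections.kernel_ι_app_injective η U.1.1
      let L : Γ(kernel η, U.1.1) →ₗ[Γ(X, U.1.1)] Γ(X, U.1.1) := appLin (kernel.ι η) U.1.1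
      have hle : Ideal.map (f.appLE ⊤ U.1.1 le_top).hom (Jy y) ≤
          Submodule.map L (Submodule.span Γ(X, U.1.1)
            (⋃ a, Set.range ((φ a).app U.1.1).hom)) := by
        rw [Ideal.map, Ideal.span_le]
        rintro _ ⟨a, ha, rfl⟩
        let one' : Γ(O, U.1.1) := (show Γ(X, U.1.1) from 1)
        refine ⟨((φ ⟨a, ha⟩).app U.1.1).hom one', Submodule.subset_span
          (Set.mem_iUnion.2 ⟨⟨a, ha⟩, one', rfl⟩), ?_⟩
        change ((kernel.ι η).app U.1.1).hom (((φ ⟨a, ha⟩).app U.1.1).hom one') = _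
        have h3 : φ ⟨a, ha⟩ ≫ kernel.ι η = smulHom (f.appTop.hom a) O := kernel.lift_ι _ _ _
        have h4 := congrArg (fun θ : O ⟶ O => (θ.app U.1.1).hom one') h3
        refine h4.trans ?_
        change (show Γ(X, U.1.1) from Coh.resTop X (op U.1.1) (f.appTop.hom a)) * (1 : Γ(X, U.1.1)) = _
        rw [mul_one]
        rfl
      obtain ⟨t', ht', htt'⟩ := hle hb
      have : t' = t := hinj htt'
      rw [← this]
      exact ht') k
  -- conclude
  rw [← hk']
  refine AddSubgroup.closure_induction (p := fun z _ => HH.map (kernel.ι η) d z ∈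
    AddSubgroup.closure {z | ∃ a ∈ Jy y, ∃ h' : Coh.HH X (Coh.structureModule X) d,
      z = f.appTop.hom a • h'}) ?_ ?_ ?_ ?_ hgen
  · rintro z hz
    obtain ⟨a, t, rfl⟩ := Set.mem_iUnion.1 hz
    refine AddSubgroup.subset_closure ⟨a.1, a.2, t, ?_⟩
    change HH.map (kernel.ι η) d (HH.map (φ a) d t) = _
    rw [← HH.map_comp_apply]
    have h3 : φ a ≫ kernel.ι η = smulHom (f.appTop.hom a.1) O := kernel.lift_ι _ _ _
    rw [h3]
    rfl
  · rw [map_zero]; exact AddSubgroup.zero_mem _
  · intro a b _ _ ha hb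
    rw [map_add]; exact AddSubgroup.add_mem _ ha hb
  · intro a _ ha
    rw [map_neg]; exact AddSubgroup.neg_mem _ ha

end Main

end Groth.Agent.Lib.helper11.FinTop
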