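import Mathlib
import Groth.Agent.Lib.Helper11.FinTop8
import Groth.Agent.Lib.Helper11.FinTop6
import Groth.Agent.Lib.Helper11.QCohSigma
import Groth.Agent.Lib.Helper18.HHConseq

/-!
# Vanishing of the top cohomology of `O_X` from the closed fibres; globally generated modules (helper11; Stacks 0E7D(1))
-/

set_option autoImplicit false
set_option backward.isDefEq.respectTransparency false
universe u

open CategoryTheory CategoryTheory.Limits AlgebraicGeometry Opposite TopologicalSpace
open Scheme.Modules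

namespace Groth.Agent.Lib.helper11.FinTop

open Groth.Agent.Lib.Helper18 Groth.Agent.Lib.Helper20.SmulHom

section Cover

variable {Y : Scheme.{u}} [IsAffine Y]

/-- a function which is `1` in the residue field at `y` is invertible at `y` -/
theorem mem_basicOpen_of_sub_one_mem_Jy (y : Y) (r : Γ(Y, ⊤)) (hr : r - 1 ∈ Jy y) :
    y ∈ Y.basicOpen r := by
  have h1 : (Y.fromSpecResidueField y).appTop.hom r = 1 := by
    have h2 : (Y.fromSpecResidueField y).appTop.hom (r - 1) = 0 := hr
    rw [map_sub, map_one, sub_eq_zero] at h2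
    exact h2
  have h3 : (Y.fromSpecResidueField y) ⁻¹ᵁ Y.basicOpen r = ⊤ := by
    rw [Scheme.preimage_basicOpen_top]
    have h4 : (Y.fromSpecResidueField y).appTop r = 1 := h1
    rw [h4, Scheme.basicOpen_one]
  obtain ⟨s⟩ : Nonempty (Spec (Y.residueField y)) := inferInstance
  have h5 : s ∈ (Y.fromSpecResidueField y) ⁻¹ᵁ Y.basicOpen r := by rw [h3]; trivial
  have h6 : (Y.fromSpecResidueField y) s ∈ Y.basicOpen r := h5
  rwa [Scheme.fromSpecResidueField_apply] at h6

/-- functions invertible at each closed point generate the unit ideal -/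
theorem span_eq_top_of_closed_points (S : Set Γ(Y, ⊤))
    (hS : ∀ y : Y, IsClosed ({y} : Set Y) → ∃ r ∈ S, r - 1 ∈ Jy y) : Ideal.span S = ⊤ := by
  rw [← (isAffineOpen_top Y).self_le_iSup_basicOpen_iff]
  intro x _
  obtain ⟨y, hy, hyc⟩ := IsClosed.exists_closed_singleton (isClosed_closure (s := ({x} : Set Y)))
    ⟨x, subset_closure rfl⟩
  obtain ⟨r, hrS, hr⟩ := hS y hyc
  have h1 : y ∈ Y.basicOpen r := mem_basicOpen_of_sub_one_mem_Jy y r hr
  have h2 : x ⤳ y := specializes_iff_mem_closure.2 hy
  have h3 : x ∈ Y.basicOpen r := h2.mem_open (Y.basicOpen r).2 h1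
  exact Opens.mem_iSup.2 ⟨⟨r, hrS⟩, h3⟩

end Cover

section Nak

variable {X Y : Scheme.{u}} (f : X ⟶ Y) [IsProper f] [IsAffine Y]

/-- **Nakayama step**: if the top cohomology of the structure sheaf of every closed fibre vanishes, so does that of `X`. -/
theorem subsingleton_HH_structure_of_fibers (d : ℕ)
    (hdim : ∀ y : Y, topologicalKrullDim ↥(f.fiber y) ≤ d)
    (hH : ∀ y : Y, IsClosed ({y} : Set Y) →
      Subsingleton (Coh.HH (f.fiber y) (Coh.structureModule (f.fiber y)) d)) :
    Subsingleton (Coh.HH X (Coh.structureModule X) d) := by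
  classical
  haveI : CompactSpace X := QuasiCompact.compactSpace_of_compactSpace f
  haveI : QuasiSeparatedSpace X := quasiSeparatedSpace_of_quasiSeparated f
  let O := Coh.structureModule X
  have hvan : ∀ K : X.Modules, K.IsQuasicoherent → Subsingleton (Coh.HH X K (d + 1)) :=
    fun K hK => by
      haveI := hK
      exact Groth.Agent.Lib.helper11.FibreVanQC.subsingleton_HH_of_affine f d hdim K (d + 1)
        (Nat.lt_succ_self d)
  -- the module structure over `A = Γ(Y, ⊤)`
  let _ : X.Over (Spec (CommRingCat.of Γ(Y, ⊤))) := ⟨f ≫ Y.isoSpec.hom⟩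
  have : IsProper (X ↘ Spec (CommRingCat.of Γ(Y, ⊤))) := by
    show IsProper (f ≫ Y.isoSpec.hom)
    infer_instance
  have hsq0 : IsPullback (𝟙 X) (f ≫ Y.isoSpec.hom) f Y.isoSpec.inv := by
    refine IsPullback.of_horiz_isIso ⟨?_⟩
    simp
  have hd' : ∀ s, topologicalKrullDim ↥((X ↘ Spec (CommRingCat.of Γ(Y, ⊤))).fiber s) ≤ d :=
    fun s => Groth.Agent.Lib.helper11.FibreVanQC.fiber_dim_le_of_isPullback f Y.isoSpec.inv (𝟙 X)
      (f ≫ Y.isoSpec.hom) hsq0 d hdim s
  have hfin : Module.Finite Γ(Y, ⊤) (Coh.HH X O d) :=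
    finite_HH_top Γ(Y, ⊤) X d hd' O (Groth.Agent.Lib.helper11.AmpleInv.isCoh_structureModule X)
  have hsm : ∀ (a : Γ(Y, ⊤)) (h : Coh.HH X O d), a • h = f.appTop.hom a • h := by
    intro a h
    have h1 : a • h = Coh.toGlobal (A := Γ(Y, ⊤)) (f ≫ Y.isoSpec.hom) a • h := rfl
    rw [h1, Groth.Agent.Lib.Lead.RpushCoh.toGlobal_eq]
    rfl
  -- the set of annihilating functions
  let S : Set Γ(Y, ⊤) := {r | ∀ h : Coh.HH X O d, r • h = 0}
  have hS : Ideal.span S = ⊤ := by
    refine span_eq_top_of_closed_points S (fun y hy => ?_)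
    have hle : (⊤ : Submodule Γ(Y, ⊤) (Coh.HH X O d)) ≤ Jy y • ⊤ := by
      intro h _
      have h1 := mem_closure_smul_of_fiber_vanish f d hvan hy (hH y hy) h
      refine AddSubgroup.closure_induction (p := fun z _ => z ∈ Jy y • (⊤ : Submodule Γ(Y, ⊤) (Coh.HH X O d)))
        ?_ ?_ ?_ ?_ h1
      · rintro z ⟨a, ha, h', rfl⟩
        rw [← hsm]
        exact Submodule.smul_mem_smul ha trivial
      · exact Submodule.zero_mem _
      · intro a b _ _ ha hb
        exact Submodule.add_mem _ ha hb
      · intro a _ ha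
        exact Submodule.neg_mem _ ha
    obtain ⟨r, hr1, hr2⟩ := Submodule.exists_sub_one_mem_and_smul_eq_zero_of_fg_of_le_smul (Jy y)
      (⊤ : Submodule Γ(Y, ⊤) (Coh.HH X O d)) hfin.1 hle
    exact ⟨r, fun h => hr2 h trivial, hr1⟩
  have hall : ∀ r ∈ Ideal.span S, ∀ h : Coh.HH X O d, r • h = 0 := by
    intro r hr
    refine Submodule.span_induction (p := fun r _ => ∀ h : Coh.HH X O d, r • h = 0) ?_ ?_ ?_ ?_ hr
    · intro r hr
      exact hr
    · intro h; exact zero_smul _ h
    · intro a b _ _ ha hb h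
      rw [add_smul, ha h, hb h, add_zero]
    · intro a b _ hb h
      rw [smul_eq_mul, mul_smul, hb h, smul_zero]
  refine ⟨fun a b => ?_⟩
  have h1 : (1 : Γ(Y, ⊤)) ∈ Ideal.span S := by rw [hS]; trivial
  have ha := hall 1 h1 a
  have hb := hall 1 h1 b
  rw [one_smul] at ha hb
  rw [ha, hb]

end Nak

section GG

variable {X Y : Scheme.{u}} (f : X ⟶ Y) [IsProper f] [IsAffine Y]

/-- **Stacks 0E7D (1)**: `H¹(X, F) = 0` for globally generated quasi-coherent `F`, when fibres have dimension `≤ 1`
and `H¹(X_y, O) = 0`. Stated in degree `d`. -/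
theorem subsingleton_HH_of_epi_sigma (d : ℕ)
    (hdim : ∀ y : Y, topologicalKrullDim ↥(f.fiber y) ≤ d)
    (hH : ∀ y : Y, IsClosed ({y} : Set Y) →
      Subsingleton (Coh.HH (f.fiber y) (Coh.structureModule (f.fiber y)) d))
    (F : X.Modules) (hF : F.IsQuasicoherent) (ι : Type u)
    (e : (∐ fun _ : ι => Coh.structureModule X) ⟶ F) [Epi e] :
    Subsingleton (Coh.HH X F d) := by
  classical
  haveI : CompactSpace X := QuasiCompact.compactSpace_of_compactSpace f
  haveI : QuasiSeparatedSpace X := quasiSeparatedSpace_of_quasiSeparated f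
  let O := Coh.structureModule X
  haveI hO : O.IsQuasicoherent := (Groth.Agent.Lib.helper11.AmpleInv.isCoh_structureModule X).1
  have h0 : Subsingleton (Coh.HH X O d) := subsingleton_HH_structure_of_fibers f d hdim hH
  -- the direct sum
  have h1 : Subsingleton (Coh.HH X (∐ fun _ : ι => O) d) := by
    refine ⟨fun a b => ?_⟩
    have hz : ∀ x : Coh.HH X (∐ fun _ : ι => O) d, x = 0 := by
      intro x
      have hx := mem_closure_range_map_sigma d (fun _ : ι => O) x
      refine AddSubgroup.closure_induction (p := fun z _ => z = 0) ?_ rfl ?_ ?_ hx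
      · intro z hz
        obtain ⟨i, t, rfl⟩ := Set.mem_iUnion.1 hz
        rw [Subsingleton.elim t 0, map_zero]
      · intro a b _ _ ha hb
        rw [ha, hb, add_zero]
      · intro a _ ha
        rw [ha, neg_zero]
    rw [hz a, hz b]
  haveI hSig : (∐ fun _ : ι => O).IsQuasicoherent :=
    Groth.Agent.Lib.helper11.QCohSigma.isQuasicoherent_sigma (fun _ : ι => O) (fun _ => hO)
  haveI := hF
  haveI hK : (kernel e).IsQuasicoherent := Groth.Agent.Lib.helper7.CohKer.isQuasicoherent_kernel e
  let S : ShortComplex X.Modules := ShortComplex.mk (kernel.ι e) e (kernel.condition e)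
  have hS : S.ShortExact :=
    { exact := ShortComplex.exact_of_f_is_kernel _ (kernelIsKernel e)
      mono_f := inferInstanceAs (Mono (kernel.ι e))
      epi_g := inferInstanceAs (Epi e) }
  have h2 : Subsingleton (Coh.HH X (kernel e) (d + 1)) :=
    Groth.Agent.Lib.helper11.FibreVanQC.subsingleton_HH_of_affine f d hdim (kernel e) (d + 1)
      (Nat.lt_succ_self d)
  have hsurj : Function.Surjective (HH.map e d) := HH.surjective_map_g hS d h2
  exact hsurj.subsingleton

end GG

end Groth.Agent.Lib.helper11.FinTop
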