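import Mathlib
import Groth.Agent.Lib.Helper11.FinTop9

/-!
# Base change of the vanishing of the top cohomology of `O_X` along a morphism of affine schemes (helper11)

`f : X ⟶ Y` proper with `Y` affine and fibres of dimension `≤ d`; `X' = X ×_Y T` with `T` affine.  Then `g'_* O_{X'}`
is generated by the global sections coming from `Γ(T, O_T)`, so `H^d(X', O_{X'})` is generated by images of
`H^d(X, O_X)`.
-/

set_option autoImplicit false
set_option backward.isDefEq.respectTransparency false
universe u

open CategoryTheory CategoryTheory.Limits AlgebraicGeometry Opposite TopologicalSpace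
open Scheme.Modules

namespace Groth.Agent.Lib.helper11.FinTop

open Groth.Agent.Lib.Helper18 Groth.Agent.Lib.Helper20.SmulHom

/-- in a pushout of commutative rings, every element is a sum of products `inl c * inr b` -/
theorem mem_closure_mul_of_isPushout {A B C P : CommRingCat.{u}} {φ : A ⟶ C} {ψ : A ⟶ B}
    {inl : C ⟶ P} {inr : B ⟶ P} (h : IsPushout φ ψ inl inr) (p : P) :
    p ∈ AddSubgroup.closure {z : P | ∃ (c : C) (b : B), z = inl.hom c * inr.hom b} := by
  let S : Subring P := Subring.closure (Set.range inl.hom ∪ Set.range inr.hom)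
  let inl' : C ⟶ CommRingCat.of S := CommRingCat.ofHom
    (inl.hom.codRestrict S (fun c => Subring.subset_closure (Or.inl ⟨c, rfl⟩)))
  let inr' : B ⟶ CommRingCat.of S := CommRingCat.ofHom
    (inr.hom.codRestrict S (fun b => Subring.subset_closure (Or.inr ⟨b, rfl⟩)))
  have comm : φ ≫ inl' = ψ ≫ inr' := by
    ext a
    exact ConcreteCategory.congr_hom h.w a
  let j : CommRingCat.of S ⟶ P := CommRingCat.ofHom S.subtype
  have hj : h.desc inl' inr' comm ≫ j = 𝟙 P := by
    apply h.hom_ext
    · rw [← Category.assoc, h.inl_desc, Category.comp_id]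
      rfl
    · rw [← Category.assoc, h.inr_desc, Category.comp_id]
      rfl
  have hp : p ∈ S := by
    have h1 := ConcreteCategory.congr_hom hj p
    have h2 : ((h.desc inl' inr' comm).hom p : P) = p := h1
    rw [← h2]
    exact ((h.desc inl' inr' comm).hom p).2
  rw [Subring.mem_closure_iff] at hp
  refine AddSubgroup.closure_mono ?_ hp
  let M : Submonoid P :=
    { carrier := {z : P | ∃ (c : C) (b : B), z = inl.hom c * inr.hom b}
      one_mem' := ⟨1, 1, by rw [map_one, map_one, mul_one]⟩
      mul_mem' := by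
        rintro _ _ ⟨c, b, rfl⟩ ⟨c', b', rfl⟩
        exact ⟨c * c', b * b', by rw [map_mul, map_mul, mul_mul_mul_comm]⟩ }
  have hM : Submonoid.closure (Set.range inl.hom ∪ Set.range inr.hom) ≤ M := by
    rw [Submonoid.closure_le]
    rintro z (⟨c, rfl⟩ | ⟨b, rfl⟩)
    · exact ⟨c, 1, by rw [map_one, mul_one]⟩
    · exact ⟨1, b, by rw [map_one, one_mul]⟩
  exact hM

section BC

variable {X Y X' T : Scheme.{u}} {f : X ⟶ Y} {g : T ⟶ Y} {g' : X' ⟶ X} {f' : X' ⟶ T}

/-- the unit map `O_X ⟶ g'_* O_{X'}` -/
noncomputable def etaPush (g' : X' ⟶ X) :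
    Coh.structureModule X ⟶ (pushforward g').obj (Coh.structureModule X') :=
  SheafOfModules.unitToPushforwardObjUnit g'.toRingCatSheafHom

theorem etaPush_app (U : X.Opens) (b : Γ(X, U)) :
    ((etaPush g').app U).hom b = (g'.app U).hom b := rfl

/-- the map `O_X ⟶ g'_* O_{X'}` given by the global section `r'` of `O_{X'}` -/
noncomputable def phiPush (g' : X' ⟶ X) (r' : Γ(X', ⊤)) :
    Coh.structureModule X ⟶ (pushforward g').obj (Coh.structureModule X') :=
  etaPush g' ≫ (pushforward g').map (smulHom r' (Coh.structureModule X'))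

theorem phiPush_app (r' : Γ(X', ⊤)) (U : X.Opens) (c : Γ(X, U)) :
    ((phiPush g' r').app U).hom c =
      (show Γ(X', g' ⁻¹ᵁ U) from (X'.presheaf.map (homOfLE (le_top : g' ⁻¹ᵁ U ≤ ⊤)).op).hom r') *
        (g'.app U).hom c := rfl

section Span

variable (sq : IsPullback g' f' f g) [IsAffine Y] [IsAffine T]

include sq in
/-- sections of `O_{X'}` over the preimage of an affine open are sums of products -/
theorem mem_closure_mul_sections {U : X.Opens} (hU : IsAffineOpen U) (p : Γ(X', g' ⁻¹ᵁ U)) :
    p ∈ AddSubgroup.closure {z : Γ(X', g' ⁻¹ᵁ U) | ∃ (c : Γ(X, U)) (b : Γ(T, ⊤)),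
      z = (g'.app U).hom c * (f'.appLE ⊤ (g' ⁻¹ᵁ U) le_top).hom b} := by
  have hUST : (⊤ : T.Opens) ≤ g ⁻¹ᵁ (⊤ : Y.Opens) := le_top
  have hUSX : U ≤ f ⁻¹ᵁ (⊤ : Y.Opens) := le_top
  have hUY : g' ⁻¹ᵁ U = g' ⁻¹ᵁ U ⊓ f' ⁻¹ᵁ (⊤ : T.Opens) := by simp
  have hpo := (isIso_pushoutSection_iff sq hUST hUSX hUY).1
    (isIso_pushoutSection_of_isAffineOpen sq hUST hUSX hUY (isAffineOpen_top Y)
      (isAffineOpen_top T) hU)
  have key := mem_closure_mul_of_isPushout hpo p
  have h3 : g'.appLE U (g' ⁻¹ᵁ U) (by simp) = g'.app U := by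
    simp [Scheme.Hom.appLE]
  rw [h3] at key
  exact key

include sq in
/-- `g'_* O_{X'}` is generated, over affine opens, by the global sections coming from the base `T` -/
theorem span_phiPush_eq_top {U : X.Opens} (hU : IsAffineOpen U) :
    Submodule.span Γ(X, U)
      (⋃ b : Γ(T, ⊤), Set.range ((phiPush g' (f'.appTop.hom b)).app U).hom) = ⊤ := by
  rw [eq_top_iff]
  intro p _
  have hp := mem_closure_mul_sections sq hU
    (show Γ(X', g' ⁻¹ᵁ U) from p)
  refine AddSubgroup.closure_induction (p := fun z _ => (show Γ((pushforward g').obj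
    (Coh.structureModule X'), U) from z) ∈ Submodule.span Γ(X, U)
      (⋃ b : Γ(T, ⊤), Set.range ((phiPush g' (f'.appTop.hom b)).app U).hom)) ?_ ?_ ?_ ?_ hp
  · rintro z ⟨c, b, rfl⟩
    refine Submodule.subset_span (Set.mem_iUnion.2 ⟨b, c, ?_⟩)
    rw [phiPush_app]
    rw [mul_comm]
    rfl
  · exact Submodule.zero_mem _
  · intro a b _ _ ha hb
    exact Submodule.add_mem _ ha hb
  · intro a _ ha
    exact Submodule.neg_mem _ ha

end Span

section Kill

variable (sq : IsPullback g' f' f g) [IsProper f] [IsAffine Y] [IsAffine T]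

include sq in
/-- **base change of annihilators of the top cohomology**: a function on `Y` killing `H^d(X, O_X)` kills
`H^d(X', O_{X'})` for `X' = X ×_Y T` -/
theorem smul_eq_zero_of_isPullback (d : ℕ)
    (hdim : ∀ y : Y, topologicalKrullDim ↥(f.fiber y) ≤ d)
    (r : Γ(Y, ⊤)) (hr : ∀ h : Coh.HH X (Coh.structureModule X) d, f.appTop.hom r • h = 0)
    (h' : Coh.HH X' (Coh.structureModule X') d) :
    f'.appTop.hom (g.appTop.hom r) • h' = 0 := by
  classical
  haveI : CompactSpace X := QuasiCompact.compactSpace_of_compactSpace f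
  haveI : QuasiSeparatedSpace X := quasiSeparatedSpace_of_quasiSeparated f
  haveI : IsAffineHom g' :=
    MorphismProperty.of_isPullback (P := @IsAffineHom) sq.flip inferInstance
  let O := Coh.structureModule X
  let O' := Coh.structureModule X'
  haveI hO : O.IsQuasicoherent := (Groth.Agent.Lib.helper11.AmpleInv.isCoh_structureModule X).1
  haveI hO' : O'.IsQuasicoherent := (Groth.Agent.Lib.helper11.AmpleInv.isCoh_structureModule X').1
  let G := (pushforward g').obj O'
  haveI hG : G.IsQuasicoherent :=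
    Groth.Agent.Lib.helper7.QCohPushQC.isQuasicoherent_pushforward g' O'
  have hvan : ∀ K : X.Modules, K.IsQuasicoherent → Subsingleton (Coh.HH X K (d + 1)) :=
    fun K hK => by
      haveI := hK
      exact Groth.Agent.Lib.helper11.FibreVanQC.subsingleton_HH_of_affine f d hdim K (d + 1)
        (Nat.lt_succ_self d)
  obtain ⟨cov, hcov⟩ := exists_finite_affine_cover X
  have hkill : ∀ x : Coh.HH X G d, f.appTop.hom r • x = 0 := by
    intro x
    have hx := mem_closure_range_map d hvan G (I := Γ(T, ⊤)) (fun _ => O) (fun _ => hO)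
      (fun b => phiPush g' (f'.appTop.hom b)) (ι := ↥cov) (fun U => U.1.1) (fun U => U.1.2)
      (fun x => by
        obtain ⟨U, hU, hx⟩ := hcov x
        exact ⟨⟨U, hU⟩, hx⟩)
      (fun U => span_phiPush_eq_top sq U.1.2) x
    refine AddSubgroup.closure_induction (p := fun z _ => f.appTop.hom r • z = 0) ?_ ?_ ?_ ?_ hx
    · rintro z hz
      obtain ⟨b, t, rfl⟩ := Set.mem_iUnion.1 hz
      change f.appTop.hom r • HH.map (phiPush g' (f'.appTop.hom b)) d t = 0
      rw [← LinearMap.map_smul]
      have := hr t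
      rw [this, map_zero]
    · exact smul_zero _
    · intro a b _ _ ha hb
      rw [smul_add, ha, hb, add_zero]
    · intro a _ ha
      rw [smul_neg, ha, neg_zero]
  obtain ⟨x, rfl⟩ := (HH.pushEquivAdd g' O' d).surjective h'
  have h1 := HH.pushEquivAdd_smul g' O' d (f.appTop.hom r) x
  rw [hkill x, map_zero] at h1
  have h2 : HH.appTopΓ g' (f.appTop.hom r) = f'.appTop.hom (g.appTop.hom r) := by
    have h3 : f.appTop ≫ g'.appTop = g.appTop ≫ f'.appTop := by
      rw [← Scheme.Hom.comp_appTop, ← Scheme.Hom.comp_appTop, sq.w]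
    exact ConcreteCategory.congr_hom h3 r
  rw [h2] at h1
  exact h1.symm

include sq in
/-- if moreover the function becomes invertible on `T`, the top cohomology of `O_{X'}` vanishes -/
theorem subsingleton_HH_of_isPullback_of_isUnit (d : ℕ)
    (hdim : ∀ y : Y, topologicalKrullDim ↥(f.fiber y) ≤ d)
    (r : Γ(Y, ⊤)) (hr : ∀ h : Coh.HH X (Coh.structureModule X) d, f.appTop.hom r • h = 0)
    (hu : IsUnit (g.appTop.hom r)) :
    Subsingleton (Coh.HH X' (Coh.structureModule X') d) := by
  have hu' : IsUnit (show Coh.Γtop X' from f'.appTop.hom (g.appTop.hom r)) :=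
    hu.map f'.appTop.hom
  have hz : ∀ h' : Coh.HH X' (Coh.structureModule X') d, h' = 0 := fun h' =>
    (hu'.smul_eq_zero).1 (smul_eq_zero_of_isPullback sq d hdim r hr h')
  exact ⟨fun a b => by rw [hz a, hz b]⟩

include sq in
/-- **vanishing of the top cohomology of `O` is stable under base change** (affine bases) -/
theorem subsingleton_HH_of_isPullback (d : ℕ)
    (hdim : ∀ y : Y, topologicalKrullDim ↥(f.fiber y) ≤ d)
    (h0 : Subsingleton (Coh.HH X (Coh.structureModule X) d)) :
    Subsingleton (Coh.HH X' (Coh.structureModule X') d) :=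
  subsingleton_HH_of_isPullback_of_isUnit sq d hdim 1 (fun h => Subsingleton.elim _ _)
    (by rw [map_one]; exact isUnit_one)

end Kill

end BC

end Groth.Agent.Lib.helper11.FinTop
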