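import Mathlib
import Groth.Agent.Lib.Helper11.FinTop10
import Groth.Agent.Lib.Helper5.FibreDimGE

/-!
# Fibres of base changes, semicontinuity of fibre dimension for proper maps, restriction to opens (helper11)
-/

set_option autoImplicit false
set_option backward.isDefEq.respectTransparency false
universe u

open CategoryTheory CategoryTheory.Limits AlgebraicGeometry Opposite TopologicalSpace
open Scheme.Modules

namespace Groth.Agent.Lib.helper11.FinTop

open Groth.Agent.Lib.Helper18 Groth.Agent.Lib.Helper20.SmulHom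
open Groth.Agent.Lib.helper11.FibreVanQC

/-- vanishing of cohomology transfers along isomorphisms of modules -/
theorem subsingleton_HH_of_iso {X : Scheme.{u}} {M N : X.Modules} (e : M ≅ N) (d : ℕ)
    (h : Subsingleton (Coh.HH X N d)) : Subsingleton (Coh.HH X M d) := by
  have hinj : Function.Injective (HH.map e.hom d) := by
    intro a b hab
    have h1 := congrArg (HH.map e.inv d) hab
    rw [← HH.map_comp_apply, ← HH.map_comp_apply, e.hom_inv_id] at h1
    rw [HH.map_id] at h1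
    exact h1
  exact hinj.subsingleton

theorem withBot_enat_le_of_not_succ_le (a : WithBot ℕ∞) (d : ℕ)
    (h : ¬ (((d + 1 : ℕ) : WithBot ℕ∞) ≤ a)) : a ≤ (d : WithBot ℕ∞) := by
  rw [not_le] at h
  induction a using WithBot.recBotCoe with
  | bot => exact bot_le
  | coe a =>
    induction a using ENat.recTopCoe with
    | top =>
      exfalso
      have : ((⊤ : ℕ∞) : WithBot ℕ∞) < ((d + 1 : ℕ) : ℕ∞) := h
      rw [WithBot.coe_lt_coe] at this
      exact absurd this (not_lt.2 le_top)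
    | coe n =>
      have h1 : ((n : ℕ∞) : WithBot ℕ∞) < (((d + 1 : ℕ) : ℕ∞) : WithBot ℕ∞) := h
      rw [WithBot.coe_lt_coe, Nat.cast_lt] at h1
      have h2 : n ≤ d := Nat.lt_succ_iff.1 h1
      change ((n : ℕ∞) : WithBot ℕ∞) ≤ ((d : ℕ∞) : WithBot ℕ∞)
      rw [WithBot.coe_le_coe, Nat.cast_le]
      exact h2

section Fib

variable {X Y : Scheme.{u}} (f : X ⟶ Y)

/-- the fibres of `X_y ⟶ Spec κ(y)` have the dimension of `X_y` -/
theorem fiber_dim_le_fiberToSpec [LocallyOfFiniteType f] (y : Y) (d : ℕ)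
    (hd : topologicalKrullDim ↥(f.fiber y) ≤ d) (s : Spec (Y.residueField y)) :
    topologicalKrullDim ↥((f.fiberToSpecResidueField y).fiber s) ≤ d := by
  refine fiber_dim_le_of_fibreDimAt_le (f.fiberToSpecResidueField y) d s (fun x _ => ?_)
  rw [Groth.Agent.Lib.helper3.FibreDimBC.fibreDimAt_eq_of_isPullback f (Y.fromSpecResidueField y)
    (f.fiberι y) (f.fiberToSpecResidueField y) (isPullback_fiber f y) x]
  refine fibreDimAt_le_of_fiber_dim_le f d _ ?_
  rw [Groth.Agent.Lib.helper3.QFinTop.fiberι_mem f y x]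
  exact hd

/-- **semicontinuity of the fibre dimension** for proper morphisms: an affine neighbourhood over which all fibres
have dimension `≤ d` -/
theorem exists_affine_nbhd_fiber_dim_le [IsProper f] (y : Y) (d : ℕ)
    (hd : topologicalKrullDim ↥(f.fiber y) ≤ d) :
    ∃ V : Y.Opens, IsAffineOpen V ∧ y ∈ V ∧ ∀ v ∈ V, topologicalKrullDim ↥(f.fiber v) ≤ d := by
  let Z : Set X := {c : X | (((d + 1 : ℕ) : WithBot ℕ∞)) ≤ FlatMor.fibreDimAt f c}
  have hZ : IsClosed Z := Groth.Agent.Lib.helper5.FibreDimGE.isClosed_setOf_le_fibreDimAt f (d + 1)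
  have hfZ : IsClosed (f '' Z) := f.isClosedMap _ hZ
  have hy : y ∈ (f '' Z)ᶜ := by
    rintro ⟨x, hx, rfl⟩
    have h1 := fibreDimAt_le_of_fiber_dim_le f d x hd
    have h2 : (((d + 1 : ℕ) : WithBot ℕ∞)) ≤ (d : WithBot ℕ∞) := le_trans hx h1
    have h3 : (((d + 1 : ℕ) : ℕ∞) : WithBot ℕ∞) ≤ ((d : ℕ∞) : WithBot ℕ∞) := h2
    rw [WithBot.coe_le_coe, Nat.cast_le] at h3
    omega
  have hy' : y ∈ (⟨(f '' Z)ᶜ, hfZ.isOpen_compl⟩ : Y.Opens) := hy
  obtain ⟨V, hVaff, hyV, hVsub⟩ := (Opens.isBasis_iff_nbhd.1 Y.isBasis_affineOpens) hy'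
  refine ⟨V, hVaff, hyV, fun v hv => ?_⟩
  refine fiber_dim_le_of_fibreDimAt_le f d v (fun x hx => ?_)
  refine withBot_enat_le_of_not_succ_le _ d (fun hcon => ?_)
  exact hVsub hv ⟨x, hcon, hx⟩

end Fib

section Restr

variable {X Y X' T : Scheme.{u}} {f : X ⟶ Y} {g : T ⟶ Y} {g' : X' ⟶ X} {f' : X' ⟶ T}

/-- a pullback square whose base map lands in an open `V` is a pullback square over `V` -/
theorem exists_isPullback_morphismRestrict (sq : IsPullback g' f' f g) (V : Y.Opens)
    (hg : Set.range g ⊆ V) :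
    ∃ (g₀ : T ⟶ (V : Scheme.{u})) (g₀' : X' ⟶ (f ⁻¹ᵁ V : Scheme.{u})), g₀ ≫ V.ι = g ∧
      g₀' ≫ (f ⁻¹ᵁ V).ι = g' ∧ IsPullback g₀' f' (f ∣_ V) g₀ := by
  have hr : Set.range g ⊆ Set.range V.ι := by
    rw [Scheme.Opens.range_ι]; exact hg
  let g₀ : T ⟶ (V : Scheme.{u}) := IsOpenImmersion.lift V.ι g hr
  have hg₀ : g₀ ≫ V.ι = g := IsOpenImmersion.lift_fac _ _ _
  have t : IsPullback (f ⁻¹ᵁ V).ι (f ∣_ V) f V.ι := (isPullback_morphismRestrict f V).flip
  have s : IsPullback g' f' f (g₀ ≫ V.ι) := by rw [hg₀]; exact sq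
  refine ⟨g₀, t.lift g' (f' ≫ g₀) (by rw [s.w, Category.assoc]), hg₀, t.lift_fst _ _ _, ?_⟩
  exact IsPullback.of_right' s t

/-- restricting a pullback square to an open of the new base -/
theorem isPullback_restrict_left (sq : IsPullback g' f' f g) (U : T.Opens) :
    IsPullback ((f' ⁻¹ᵁ U).ι ≫ g') (f' ∣_ U) f (U.ι ≫ g) :=
  (isPullback_morphismRestrict f' U).flip.paste_horiz sq

end Restr

section HHon

/-- `H^d(W, O_X|_W) = 0` iff `H^d(W, O_W) = 0` -/
theorem subsingleton_HHon_structure_iff (X : Scheme.{u}) (W : X.Opens) (d : ℕ) :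
    Subsingleton (Coh.HHon X (Coh.structureModule X) W d) ↔
      Subsingleton (Coh.HH (W : Scheme.{u}) (Coh.structureModule (W : Scheme.{u})) d) :=
  ⟨fun h => subsingleton_HH_of_iso (Scheme.Modules.restrictUnitIso W.ι).symm d h,
    fun h => subsingleton_HH_of_iso (Scheme.Modules.restrictUnitIso W.ι) d h⟩

end HHon

section FibBC

variable {X Y X' T : Scheme.{u}} {f : X ⟶ Y} {g : T ⟶ Y} {g' : X' ⟶ X} {f' : X' ⟶ T}

/-- **fibres of a base change**: vanishing of the top cohomology of `O` on the fibre `X_{g t}` implies it on the fibre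
`X'_t` -/
theorem subsingleton_HH_fiber_of_isPullback (sq : IsPullback g' f' f g) [IsProper f] (t : T) (d : ℕ)
    (hd : topologicalKrullDim ↥(f.fiber (g t)) ≤ d)
    (h : Subsingleton (Coh.HH (f.fiber (g t)) (Coh.structureModule (f.fiber (g t))) d)) :
    Subsingleton (Coh.HH (f'.fiber t) (Coh.structureModule (f'.fiber t)) d) := by
  have hpb := isPullback_fiberToSpecResidueField_of_isPullback sq t
  haveI : IsProper (f.fiberToSpecResidueField (g t)) :=
    MorphismProperty.pullback_snd (P := @IsProper) _ _ inferInstance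
  exact subsingleton_HH_of_isPullback hpb d (fiber_dim_le_fiberToSpec f (g t) d hd) h

end FibBC

end Groth.Agent.Lib.helper11.FinTop
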