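import Mathlib
import Groth.Agent.Lib.Helper11.FinTop11
import Groth.Agent.Lib.Helper8.FlatCohBC4
import Groth.Agent.Lib.Helper11.InvMod

/-!
# Flat base change for the top cohomology of `O` (helper11)
-/

set_option autoImplicit false
set_option backward.isDefEq.respectTransparency false
universe u

open CategoryTheory CategoryTheory.Limits AlgebraicGeometry Opposite TopologicalSpace
open Scheme.Modules

namespace Groth.Agent.Lib.helper11.FinTop

open Groth.Agent.Lib.Helper18 Groth.Agent.Lib.Helper20.SmulHom
open Groth.Agent.Lib.helper11.FibreVanQC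

section FlatBC

open TensorProduct

variable (A B : Type u) [CommRing A] [CommRing B] [Algebra A B] [Module.Flat A B]
variable (X X' : Scheme.{u}) [X.Over (Spec (CommRingCat.of A))]
  [X'.Over (Spec (CommRingCat.of B))] [CompactSpace X] [QuasiSeparatedSpace X] (g' : X' ⟶ X)
  (h : IsPullback g' (X' ↘ Spec (CommRingCat.of B)) (X ↘ Spec (CommRingCat.of A))
      (Spec.map (CommRingCat.ofHom (algebraMap A B))))

include h in
/-- flat base change for `O_X` -/
theorem subsingleton_tensor_iff (i : ℕ) :
    Subsingleton (B ⊗[A] Coh.HH X (Coh.structureModule X) i) ↔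
      Subsingleton (Coh.HH X' (Coh.structureModule X') i) := by
  haveI : (Coh.structureModule X).IsQuasicoherent :=
    (Groth.Agent.Lib.helper11.AmpleInv.isCoh_structureModule X).1
  obtain ⟨e⟩ := Groth.Agent.Lib.helper8.FlatCohBC.nonempty_tensor_equiv A B X X' g' h
    (Coh.structureModule X) i
  rw [e.toEquiv.subsingleton_congr]
  exact ⟨fun h1 => subsingleton_HH_of_iso (Groth.Agent.Lib.helper11.InvMod.pullbackUnitIso g').symm i h1,
    fun h1 => subsingleton_HH_of_iso (Groth.Agent.Lib.helper11.InvMod.pullbackUnitIso g') i h1⟩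

end FlatBC

/-- a finite module vanishing at a prime is killed by a function invertible at the prime -/
theorem exists_not_mem_smul_eq_zero {A : Type u} [CommRing A] (M : Type u) [AddCommGroup M] [Module A M]
    [Module.Finite A M] (p : Ideal A) [p.IsPrime]
    (h : Subsingleton (TensorProduct A (Localization.AtPrime p) M)) :
    ∃ r : A, r ∉ p ∧ ∀ m : M, r • m = 0 := by
  have h1 : Subsingleton (LocalizedModule p.primeCompl M) :=
    (IsLocalizedModule.iso p.primeCompl
      (TensorProduct.mk A (Localization.AtPrime p) M 1)).toEquiv.subsingleton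
  have h2 : (⟨p, inferInstance⟩ : PrimeSpectrum A) ∉ Module.support A M := by
    rw [Module.notMem_support_iff]
    exact h1
  rw [Module.support_eq_zeroLocus] at h2
  obtain ⟨r, hr, hrp⟩ := Set.not_subset.1 h2
  exact ⟨r, hrp, fun m => Module.mem_annihilator.1 hr m⟩

/-- a global function whose non-vanishing locus is everything is invertible -/
theorem isUnit_of_basicOpen_eq_top {Z : Scheme.{u}} (s : Γ(Z, ⊤)) (h : Z.basicOpen s = ⊤) :
    IsUnit s := by
  refine Z.toRingedSpace.isUnit_of_isUnit_germ ⊤ s (fun x hx => ?_)
  have hx' : x ∈ Z.basicOpen s := by rw [h]; trivial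
  exact (Scheme.mem_basicOpen_top Z s x).1 hx'

section Descent

variable {X Y X' T : Scheme.{u}} {f : X ⟶ Y} {g : T ⟶ Y} {g' : X' ⟶ X} {f' : X' ⟶ T}

/-- **descent of vanishing along residue field extensions**: vanishing of the cohomology of `O` on the fibre `X'_t`
of a base change implies it on `X_{g t}` -/
theorem subsingleton_HH_fiber_of_isPullback_symm (sq : IsPullback g' f' f g) [QuasiCompact f]
    [QuasiSeparated f] (t : T) (d : ℕ)
    (h : Subsingleton (Coh.HH (f'.fiber t) (Coh.structureModule (f'.fiber t)) d)) :
    Subsingleton (Coh.HH (f.fiber (g t)) (Coh.structureModule (f.fiber (g t))) d) := by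
  have hpb := isPullback_fiberToSpecResidueField_of_isPullback sq t
  let A : Type u := Y.residueField (g t)
  let B : Type u := T.residueField t
  letI : Algebra A B := (g.residueFieldMap t).hom.toAlgebra
  letI : (f.fiber (g t)).Over (Spec (CommRingCat.of A)) := ⟨f.fiberToSpecResidueField (g t)⟩
  letI : (f'.fiber t).Over (Spec (CommRingCat.of B)) := ⟨f'.fiberToSpecResidueField t⟩
  haveI : QuasiCompact (f.fiberToSpecResidueField (g t)) :=
    MorphismProperty.pullback_snd (P := @QuasiCompact) _ _ inferInstance
  haveI : QuasiSeparated (f.fiberToSpecResidueField (g t)) :=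
    MorphismProperty.pullback_snd (P := @QuasiSeparated) _ _ inferInstance
  haveI : CompactSpace (f.fiber (g t)) :=
    QuasiCompact.compactSpace_of_compactSpace (f.fiberToSpecResidueField (g t))
  haveI : QuasiSeparatedSpace (f.fiber (g t)) :=
    quasiSeparatedSpace_of_quasiSeparated (f.fiberToSpecResidueField (g t))
  have h1 := (subsingleton_tensor_iff A B (f.fiber (g t)) (f'.fiber t) _ hpb d).2 h
  exact (Module.FaithfullyFlat.subsingleton_tensorProduct_iff_right (R := A) (M := B)).1 h1

end Descent

end Groth.Agent.Lib.helper11.FinTop
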