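import Mathlib
import Groth.Agent.Lib.Helper11.FinTop12

/-!
# `R^d f'_* O = 0` after a base change hitting `y` implies `H^d(X_y, O) = 0` (helper11; Stacks 0E7C-type)
-/

set_option autoImplicit false
set_option backward.isDefEq.respectTransparency false
universe u

open CategoryTheory CategoryTheory.Limits AlgebraicGeometry Opposite TopologicalSpace
open Scheme.Modules

namespace Groth.Agent.Lib.helper11.FinTop

open Groth.Agent.Lib.Helper18 Groth.Agent.Lib.Helper20.SmulHom
open Groth.Agent.Lib.helper11.FibreVanQC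

theorem subsingleton_HH_fiber_of_R_vanish {X Y Y' : Scheme.{u}} (f : X ⟶ Y) [IsProper f] (y : Y)
    (d : ℕ) (hdim : topologicalKrullDim ↥(f.fiber y) ≤ d)
    (g : Y' ⟶ Y) (hy : y ∈ Set.range ⇑g)
    (hR1 : ∀ U : Y'.Opens, IsAffineOpen U → Subsingleton (Coh.HHon (pullback f g)
      (Coh.structureModule (pullback f g)) (pullback.snd f g ⁻¹ᵁ U) d)) :
    Subsingleton (Coh.HH (f.fiber y) (Coh.structureModule (f.fiber y)) d) := by
  obtain ⟨y', rfl⟩ := hy
  have sq : IsPullback (pullback.fst f g) (pullback.snd f g) f g := IsPullback.of_hasPullback f g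
  -- fibre dimension of `f'` at `y'`
  have hdim' : topologicalKrullDim ↥((pullback.snd f g).fiber y') ≤ d := by
    refine fiber_dim_le_of_fibreDimAt_le (pullback.snd f g) d y' (fun x hx => ?_)
    rw [Groth.Agent.Lib.helper3.FibreDimBC.fibreDimAt_eq_of_isPullback f g (pullback.fst f g)
      (pullback.snd f g) sq x]
    refine fibreDimAt_le_of_fiber_dim_le f d _ ?_
    have h1 : f (pullback.fst f g x) = g y' := by
      rw [← Scheme.Hom.comp_apply, sq.w, Scheme.Hom.comp_apply, hx]
    rw [h1]
    exact hdim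
  obtain ⟨U', hU', hy'U, hUdim⟩ := exists_affine_nbhd_fiber_dim_le (pullback.snd f g) y' d hdim'
  haveI : IsAffine (U' : Scheme.{u}) := hU'
  let y₀ : (U' : Scheme.{u}) := ⟨y', hy'U⟩
  have h0 : Subsingleton (Coh.HH ((pullback.snd f g ⁻¹ᵁ U' : (pullback f g).Opens) : Scheme.{u})
      (Coh.structureModule _) d) :=
    (subsingleton_HHon_structure_iff _ _ d).1 (hR1 U' hU')
  have hd₀ := fiber_dim_le_morphismRestrict (pullback.snd f g) d U' hUdim
  have h1 : Subsingleton (Coh.HH ((pullback.snd f g ∣_ U').fiber y₀) (Coh.structureModule _) d) :=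
    subsingleton_HH_of_isPullback (isPullback_fiber (pullback.snd f g ∣_ U') y₀) d hd₀ h0
  have sq2 := isPullback_restrict_left sq U'
  exact subsingleton_HH_fiber_of_isPullback_symm sq2 y₀ d h1

end Groth.Agent.Lib.helper11.FinTop
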