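import Mathlib
import Groth.Agent.Lib.Helper11.FinTop12

/-!
# Vanishing of `R^d f_* O_X` near a point whose fibre has `H^d = 0`, universally (helper11; Stacks 0E7D-type)
-/

set_option autoImplicit false
set_option backward.isDefEq.respectTransparency false
universe u

open CategoryTheory CategoryTheory.Limits AlgebraicGeometry Opposite TopologicalSpace
open Scheme.Modules

namespace Groth.Agent.Lib.helper11.FinTop

open Groth.Agent.Lib.Helper18 Groth.Agent.Lib.Helper20.SmulHom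
open Groth.Agent.Lib.helper11.FibreVanQC

section Loc

variable {X Y : Scheme.{u}} (f : X ⟶ Y) [IsProper f] [IsAffine Y]

/-- a function invertible at `y` killing `H^d(X, O_X)`, when `H^d(X_y, O) = 0` -/
theorem exists_annihilator_of_fiber_vanish (d : ℕ)
    (hdim : ∀ y : Y, topologicalKrullDim ↥(f.fiber y) ≤ d) (y : Y)
    (hH : Subsingleton (Coh.HH (f.fiber y) (Coh.structureModule (f.fiber y)) d)) :
    ∃ r : Γ(Y, ⊤), y ∈ Y.basicOpen r ∧
      ∀ h : Coh.HH X (Coh.structureModule X) d, f.appTop.hom r • h = 0 := by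
  classical
  haveI : CompactSpace X := QuasiCompact.compactSpace_of_compactSpace f
  haveI : QuasiSeparatedSpace X := quasiSeparatedSpace_of_quasiSeparated f
  let O := Coh.structureModule X
  let _ : X.Over (Spec (CommRingCat.of Γ(Y, ⊤))) := ⟨f ≫ Y.isoSpec.hom⟩
  have : IsProper (X ↘ Spec (CommRingCat.of Γ(Y, ⊤))) := by
    show IsProper (f ≫ Y.isoSpec.hom)
    infer_instance
  have hsq0 : IsPullback (𝟙 X) (f ≫ Y.isoSpec.hom) f Y.isoSpec.inv := by
    refine IsPullback.of_horiz_isIso ⟨?_⟩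
    simp
  have hd' : ∀ s, topologicalKrullDim ↥((X ↘ Spec (CommRingCat.of Γ(Y, ⊤))).fiber s) ≤ d :=
    fun s => fiber_dim_le_of_isPullback f Y.isoSpec.inv (𝟙 X)
      (f ≫ Y.isoSpec.hom) hsq0 d hdim s
  have hfin : Module.Finite Γ(Y, ⊤) (Coh.HH X O d) :=
    finite_HH_top Γ(Y, ⊤) X d hd' O (Groth.Agent.Lib.helper11.AmpleInv.isCoh_structureModule X)
  have hsm : ∀ (a : Γ(Y, ⊤)) (h : Coh.HH X O d), a • h = f.appTop.hom a • h := by
    intro a h
    have h1 : a • h = Coh.toGlobal (A := Γ(Y, ⊤)) (f ≫ Y.isoSpec.hom) a • h := rfl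
    rw [h1, Groth.Agent.Lib.Lead.RpushCoh.toGlobal_eq]
    rfl
  -- the prime of `y`
  let q : PrimeSpectrum Γ(Y, ⊤) := Y.isoSpec.hom y
  let p : Ideal Γ(Y, ⊤) := q.asIdeal
  haveI : p.IsPrime := q.isPrime
  let B := Localization.AtPrime p
  let φ : CommRingCat.of Γ(Y, ⊤) ⟶ CommRingCat.of B :=
    CommRingCat.ofHom (algebraMap Γ(Y, ⊤) B)
  let X' := pullback (f ≫ Y.isoSpec.hom) (Spec.map φ)
  let _ : X'.Over (Spec (CommRingCat.of B)) := ⟨pullback.snd _ _⟩
  have hpb : IsPullback (pullback.fst (f ≫ Y.isoSpec.hom) (Spec.map φ))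
      (pullback.snd (f ≫ Y.isoSpec.hom) (Spec.map φ)) (f ≫ Y.isoSpec.hom) (Spec.map φ) :=
    IsPullback.of_hasPullback _ _
  -- vanishing on the localization
  have hX' : Subsingleton (Coh.HH X' (Coh.structureModule X') d) := by
    haveI : IsProper (pullback.snd (f ≫ Y.isoSpec.hom) (Spec.map φ)) :=
      MorphismProperty.pullback_snd (P := @IsProper) _ _ ‹_›
    have hdimX' : ∀ s, topologicalKrullDim
        ↥((pullback.snd (f ≫ Y.isoSpec.hom) (Spec.map φ)).fiber s) ≤ d :=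
      fun s => fiber_dim_le_of_isPullback (f ≫ Y.isoSpec.hom) (Spec.map φ) (pullback.fst _ _)
        (pullback.snd _ _) hpb d hd' s
    refine subsingleton_HH_structure_of_fibers (pullback.snd (f ≫ Y.isoSpec.hom) (Spec.map φ)) d
      hdimX' (fun s hs => ?_)
    have sqBig : IsPullback (pullback.fst (f ≫ Y.isoSpec.hom) (Spec.map φ) ≫ 𝟙 X)
        (pullback.snd (f ≫ Y.isoSpec.hom) (Spec.map φ)) f (Spec.map φ ≫ Y.isoSpec.inv) :=
      hpb.paste_horiz hsq0
    have hs' : (Spec.map φ ≫ Y.isoSpec.inv) s = y := by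
      have hmax : (show PrimeSpectrum B from s).asIdeal.IsMaximal :=
        (PrimeSpectrum.isClosed_singleton_iff_isMaximal _).1 hs
      have h1 : (show PrimeSpectrum B from s).asIdeal = IsLocalRing.maximalIdeal B :=
        IsLocalRing.eq_maximalIdeal hmax
      have h2 : (Spec.map φ) s = Y.isoSpec.hom y := by
        apply PrimeSpectrum.ext
        change Ideal.comap (algebraMap Γ(Y, ⊤) B) (show PrimeSpectrum B from s).asIdeal = p
        rw [h1]
        exact IsLocalization.AtPrime.comap_maximalIdeal B p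
      rw [Scheme.Hom.comp_apply, h2]
      exact Scheme.hom_inv_apply Y.isoSpec y
    have key := subsingleton_HH_fiber_of_isPullback sqBig s d
      (by rw [hs']; exact hdim y) (by rw [hs']; exact hH)
    exact key
  have htens := (subsingleton_tensor_iff Γ(Y, ⊤) B X X' _ hpb d).2 hX'
  obtain ⟨r, hrp, hr⟩ := exists_not_mem_smul_eq_zero (Coh.HH X O d) p htens
  refine ⟨r, ?_, fun h => by rw [← hsm]; exact hr h⟩
  have h3 : y ∈ Y.toSpecΓ ⁻¹ᵁ PrimeSpectrum.basicOpen r := hrp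
  rw [Scheme.toSpecΓ_preimage_basicOpen] at h3
  exact h3

end Loc

section Main

/-- **Stacks 0E7D-type**: if `H^d(X_y, O) = 0` and `dim X_y ≤ d`, then `R^d f_* O_X` vanishes universally over a
neighbourhood of `y`. -/
theorem exists_nbhd_R_vanish {X Y : Scheme.{u}} (f : X ⟶ Y) [IsProper f] (y : Y) (d : ℕ)
    (hdim : topologicalKrullDim ↥(f.fiber y) ≤ d)
    (hH : Subsingleton (Coh.HH (f.fiber y) (Coh.structureModule (f.fiber y)) d)) :
    ∃ V : Y.Opens, y ∈ V ∧ ∀ (Y' : Scheme.{u}) (g : Y' ⟶ (V : Scheme.{u})) (U : Y'.Opens),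
      IsAffineOpen U → Subsingleton (Coh.HHon (pullback f (g ≫ V.ι))
        (Coh.structureModule (pullback f (g ≫ V.ι))) (pullback.snd f (g ≫ V.ι) ⁻¹ᵁ U) d) := by
  obtain ⟨V₀, hV₀, hyV₀, hV₀dim⟩ := exists_affine_nbhd_fiber_dim_le f y d hdim
  haveI : IsAffine (V₀ : Scheme.{u}) := hV₀
  let y₀ : (V₀ : Scheme.{u}) := ⟨y, hyV₀⟩
  have hd₀ := fiber_dim_le_morphismRestrict f d V₀ hV₀dim
  have hH₀ : Subsingleton (Coh.HH ((f ∣_ V₀).fiber y₀) (Coh.structureModule _) d) :=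
    subsingleton_HH_fiber_of_isPullback (isPullback_morphismRestrict f V₀).flip y₀ d hdim hH
  obtain ⟨r, hyr, hr⟩ := exists_annihilator_of_fiber_vanish (f ∣_ V₀) d hd₀ y₀ hH₀
  let V : Y.Opens := V₀.ι ''ᵁ ((V₀ : Scheme.{u}).basicOpen r)
  refine ⟨V, ⟨y₀, hyr, rfl⟩, fun Y' g U hU => ?_⟩
  haveI : IsAffine (U : Scheme.{u}) := hU
  rw [subsingleton_HHon_structure_iff]
  have sq : IsPullback (pullback.fst f (g ≫ V.ι)) (pullback.snd f (g ≫ V.ι)) f (g ≫ V.ι) :=
    IsPullback.of_hasPullback f (g ≫ V.ι)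
  have sqU := isPullback_restrict_left sq U
  have hmemV : ∀ u : (U : Scheme.{u}), (U.ι ≫ g ≫ V.ι) u ∈ V := fun u => (g (U.ι u)).2
  have hrange : Set.range (U.ι ≫ g ≫ V.ι) ⊆ V₀ := by
    rintro _ ⟨u, rfl⟩
    obtain ⟨z, -, hz⟩ := hmemV u
    rw [← hz]
    exact z.2
  obtain ⟨g₀, g₀', hg₀, hg₀', sqR⟩ := exists_isPullback_morphismRestrict sqU V₀ hrange
  refine subsingleton_HH_of_isPullback_of_isUnit sqR d hd₀ r hr ?_
  apply isUnit_of_basicOpen_eq_top
  have h1 : g₀ ⁻¹ᵁ (V₀ : Scheme.{u}).basicOpen r = ⊤ := by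
    rw [eq_top_iff]
    intro u _
    obtain ⟨z, hz, hzu⟩ := hmemV u
    have h2 : V₀.ι (g₀ u) = V₀.ι z := by
      rw [← Scheme.Hom.comp_apply, hg₀]
      exact hzu.symm
    have h3 : g₀ u = z := V₀.ι.isOpenEmbedding.injective h2
    change g₀ u ∈ (V₀ : Scheme.{u}).basicOpen r
    rw [h3]
    exact hz
  rw [Scheme.preimage_basicOpen_top] at h1
  exact h1

end Main

end Groth.Agent.Lib.helper11.FinTop
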