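import Mathlib
import Groth.Agent.Lib.Helper11.FinTop7
import Groth.Agent.Lib.Helper18.HHZero

/-!
# Sections of a coproduct of modules over a quasi-compact quasi-separated open (helper11)
-/

set_option autoImplicit false
set_option backward.isDefEq.respectTransparency false
universe u

open CategoryTheory CategoryTheory.Limits AlgebraicGeometry Opposite TopologicalSpace
open Scheme.Modules

namespace Groth.Agent.Lib.helper11.FinTop

open Groth.Agent.Lib.Helper18

variable {X : Scheme.{u}}

/-- global sections of a coproduct on a qcqs scheme are finite sums of sections of the summands -/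
theorem mem_closure_range_sigma_top [CompactSpace X] [QuasiSeparatedSpace X] {J : Type u}
    (N : J → X.Modules) (t : Γ(∐ N, ⊤)) :
    t ∈ AddSubgroup.closure (⋃ j, Set.range ((Sigma.ι N j).app ⊤).hom) := by
  have hx := mem_closure_range_map_sigma 0 N ((HH.equiv₀ (∐ N)).symm t)
  have key : ∀ z : Coh.HH X (∐ N) 0,
      z ∈ AddSubgroup.closure (⋃ i, Set.range (HH.map (Sigma.ι N i) 0)) →
      (HH.equiv₀ (∐ N)) z ∈ AddSubgroup.closure (⋃ j, Set.range ((Sigma.ι N j).app ⊤).hom) := by
    intro z hz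
    refine AddSubgroup.closure_induction (p := fun z _ => (HH.equiv₀ (∐ N)) z ∈
      AddSubgroup.closure (⋃ j, Set.range ((Sigma.ι N j).app ⊤).hom)) ?_ ?_ ?_ ?_ hz
    · rintro z hz
      obtain ⟨j, w, rfl⟩ := Set.mem_iUnion.1 hz
      refine AddSubgroup.subset_closure (Set.mem_iUnion.2 ⟨j, HH.equiv₀ (N j) w, ?_⟩)
      exact (HH.equiv₀_naturality (Sigma.ι N j) w).symm
    · rw [map_zero]; exact AddSubgroup.zero_mem _
    · intro a b _ _ ha hb
      rw [map_add]; exact AddSubgroup.add_mem _ ha hb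
    · intro a _ ha
      rw [map_neg]; exact AddSubgroup.neg_mem _ ha
  have := key _ hx
  rwa [LinearEquiv.apply_symm_apply] at this

/-- sections of a coproduct over an affine open are finite sums of sections of the summands -/
theorem mem_closure_range_sigma_of_isAffineOpen {J : Type u} (N : J → X.Modules) {U : X.Opens}
    (hU : IsAffineOpen U) (t : Γ(∐ N, U)) :
    t ∈ AddSubgroup.closure (⋃ j, Set.range ((Sigma.ι N j).app U).hom) := by
  haveI : IsAffine (U : Scheme.{u}) := hU
  suffices H : ∀ (W : X.Opens) (_ : W = U.ι ''ᵁ ⊤) (t : Γ(∐ N, W)),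
      t ∈ AddSubgroup.closure (⋃ j, Set.range ((Sigma.ι N j).app W).hom) from
    H U (Scheme.Opens.ι_image_top U).symm t
  rintro W rfl t
  let R := restrictFunctor U.ι
  let M : J → (U : Scheme.{u}).Modules := fun j => R.obj (N j)
  let e : R.obj (∐ N) ≅ ∐ M := PreservesCoproduct.iso R N
  have he : ∀ j, Sigma.ι M j ≫ e.inv = R.map (Sigma.ι N j) := fun j => by
    simp [e, M]
  let t' : Γ(R.obj (∐ N), ⊤) := t
  have h1 := mem_closure_range_sigma_top M ((e.hom.app ⊤).hom t')
  have h2 : t' = (e.inv.app ⊤).hom ((e.hom.app ⊤).hom t') := by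
    have := congrArg (fun φ : R.obj (∐ N) ⟶ R.obj (∐ N) => (φ.app ⊤).hom t') e.hom_inv_id
    exact this.symm
  have h3 : t = (e.inv.app ⊤).hom ((e.hom.app ⊤).hom t') := h2
  rw [h3]
  refine AddSubgroup.closure_induction (p := fun z _ => (e.inv.app ⊤).hom z ∈
    AddSubgroup.closure (⋃ j, Set.range ((Sigma.ι N j).app (U.ι ''ᵁ ⊤)).hom)) ?_ ?_ ?_ ?_ h1
  · rintro z hz
    obtain ⟨j, w, rfl⟩ := Set.mem_iUnion.1 hz
    refine AddSubgroup.subset_closure (Set.mem_iUnion.2 ⟨j, w, ?_⟩)
    have := congrArg (fun φ : M j ⟶ R.obj (∐ N) => (φ.app ⊤).hom w) (he j)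
    exact this.symm
  · rw [map_zero]; exact AddSubgroup.zero_mem _
  · intro a b _ _ ha hb
    rw [map_add]; exact AddSubgroup.add_mem _ ha hb
  · intro a _ ha
    rw [map_neg]; exact AddSubgroup.neg_mem _ ha

end Groth.Agent.Lib.helper11.FinTop
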