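import Mathlib

/-!
# Relations in a pushout of commutative rings (helper11)

If `Σ_b c_b ⊗ b = 0` in `C ⊗_A B`, then `(c_b)` is a `C`-linear combination of `A`-linear relations among the elements
of `B`.
-/

set_option autoImplicit false
set_option backward.isDefEq.respectTransparency false
universe u

open CategoryTheory CategoryTheory.Limits TensorProduct

namespace Groth.Agent.Lib.helper11.FinTop

theorem mem_span_relations_of_tmul_eq_zero {A B C : Type u} [CommRing A] [CommRing B] [CommRing C]
    [Algebra A B] [Algebra A C] (c : B →₀ C)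
    (hc : c.sum (fun b x => x ⊗ₜ[A] b) = (0 : C ⊗[A] B)) :
    c ∈ Submodule.span C {m : B →₀ C | ∃ ρ : B →₀ A,
      Finsupp.linearCombination A (id : B → B) ρ = 0 ∧
        m = ρ.mapRange (algebraMap A C) (map_zero _)} := by
  classical
  let L : (B →₀ A) →ₗ[A] B := Finsupp.linearCombination A id
  have hL : Function.Surjective L := fun b => ⟨Finsupp.single b 1, by simp [L]⟩
  have hex : Function.Exact (LinearMap.ker L).subtype L := LinearMap.exact_subtype_ker_map L
  have hex' := @lTensor_exact A (LinearMap.ker L) (B →₀ A) B _ _ _ _ _ _ _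
    (LinearMap.ker L).subtype L C _ _ hex hL
  let Θ : C ⊗[A] (B →₀ A) ≃ₗ[C] (B →₀ C) := TensorProduct.finsuppScalarRight A C C B
  let x : C ⊗[A] (B →₀ A) := Θ.symm c
  have hx : L.lTensor C x = 0 := by
    have h1 : x = c.sum (fun b m => m ⊗ₜ[A] (Finsupp.single b (1 : A))) := by
      have h2 : c = c.sum (fun b m => Finsupp.single b m) := (Finsupp.sum_single c).symm
      change Θ.symm c = _
      conv_lhs => rw [h2]
      rw [map_finsuppSum]
      refine Finsupp.sum_congr (fun b _ => ?_)
      exact TensorProduct.finsuppScalarRight_symm_apply_single b (c b)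
    rw [h1, map_finsuppSum, ← hc]
    refine Finsupp.sum_congr (fun b _ => ?_)
    rw [LinearMap.lTensor_tmul]
    congr 1
    simp [L]
  obtain ⟨y, hy⟩ := (hex' x).1 hx
  have hcx : c = Θ x := (Θ.apply_symm_apply c).symm
  have key : ∀ y : C ⊗[A] (LinearMap.ker L), Θ ((LinearMap.ker L).subtype.lTensor C y) ∈
      Submodule.span C {m : B →₀ C | ∃ ρ : B →₀ A,
        Finsupp.linearCombination A (id : B → B) ρ = 0 ∧
          m = ρ.mapRange (algebraMap A C) (map_zero _)} := by
    intro y
    induction y using TensorProduct.induction_on with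
    | zero =>
      rw [map_zero, map_zero]
      exact Submodule.zero_mem _
    | tmul c' ρ =>
      rw [LinearMap.lTensor_tmul]
      have h3 : Θ (c' ⊗ₜ[A] (ρ : B →₀ A)) =
          c' • ((ρ : B →₀ A).mapRange (algebraMap A C) (map_zero _)) := by
        ext b
        change (TensorProduct.finsuppScalarRight A C C B (c' ⊗ₜ[A] (ρ : B →₀ A))) b = _
        rw [TensorProduct.finsuppScalarRight_apply_tmul_apply, Finsupp.smul_apply,
          Finsupp.mapRange_apply, Algebra.smul_def, smul_eq_mul, mul_comm]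
      change Θ (c' ⊗ₜ[A] (ρ : B →₀ A)) ∈ _
      rw [h3]
      exact Submodule.smul_mem _ _ (Submodule.subset_span ⟨ρ.1, ρ.2, rfl⟩)
    | add y₁ y₂ h₁ h₂ =>
      rw [map_add, map_add]
      exact Submodule.add_mem _ h₁ h₂
  rw [hcx, ← hy]
  exact key y

/-- pushout form -/
theorem mem_span_relations_of_isPushout {A B C P : CommRingCat.{u}} {φ : A ⟶ C} {ψ : A ⟶ B}
    {inl : C ⟶ P} {inr : B ⟶ P} (h : IsPushout φ ψ inl inr) (c : B →₀ C)
    (hc : c.sum (fun b x => inl.hom x * inr.hom b) = 0) :
    c ∈ Submodule.span C {m : B →₀ C | ∃ ρ : B →₀ A,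
      ρ.sum (fun b a => ψ.hom a * b) = 0 ∧ m = ρ.mapRange φ.hom (map_zero _)} := by
  letI : Algebra A C := φ.hom.toAlgebra
  letI : Algebra A B := ψ.hom.toAlgebra
  have h' := CommRingCat.isPushout_tensorProduct A C B
  have h0 : IsPushout (CommRingCat.ofHom (algebraMap A C)) (CommRingCat.ofHom (algebraMap A B))
      inl inr := h
  let e := h0.isoIsPushout _ _ h'
  have hl : ∀ x : C, e.hom.hom (inl.hom x) = x ⊗ₜ[A] (1 : B) := fun x => by
    have := ConcreteCategory.congr_hom (h0.inl_isoIsPushout_hom _ _ h') x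
    exact this
  have hr : ∀ b : B, e.hom.hom (inr.hom b) = (1 : C) ⊗ₜ[A] b := fun b => by
    have := ConcreteCategory.congr_hom (h0.inr_isoIsPushout_hom _ _ h') b
    exact this
  have hc' : c.sum (fun b x => x ⊗ₜ[A] b) = (0 : C ⊗[A] B) := by
    have h1 := congrArg e.hom.hom hc
    rw [map_zero, map_finsuppSum] at h1
    rw [← h1]
    refine Finsupp.sum_congr (fun b _ => ?_)
    rw [map_mul, hl, hr, Algebra.TensorProduct.tmul_mul_tmul, mul_one, one_mul]
  have key := mem_span_relations_of_tmul_eq_zero c hc'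
  refine Submodule.span_mono ?_ key
  rintro m ⟨ρ, hρ, rfl⟩
  refine ⟨ρ, ?_, rfl⟩
  rw [Finsupp.linearCombination_apply] at hρ
  rw [← hρ]
  refine Finsupp.sum_congr (fun b _ => ?_)
  rw [Algebra.smul_def]
  rfl

end Groth.Agent.Lib.helper11.FinTop
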