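import Mathlib
import Groth.Agent.Lib.Helper11.FinTop15
import Groth.Agent.Lib.Helper11.FinTop16
import Groth.Agent.Lib.Helper11.FinTop11

/-!
# Base change of the surjectivity of `O_Y → f_* O_X` (helper11; Stacks 0E7D-type)
-/

set_option autoImplicit false
set_option backward.isDefEq.respectTransparency false
universe u

open CategoryTheory CategoryTheory.Limits AlgebraicGeometry Opposite TopologicalSpace
open Scheme.Modules

namespace Groth.Agent.Lib.helper11.FinTop

open Groth.Agent.Lib.Helper18 Groth.Agent.Lib.Helper20.SmulHom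
open Groth.Agent.Lib.helper11.FibreVanQC

section HomOfSec

variable {X : Scheme.{u}}

/-- restriction of sections of a module -/
noncomputable def resM (M : X.Modules) {V V' : X.Opens} (h : V ≤ V') (x : Γ(M, V')) : Γ(M, V) :=
  M.presheaf.map (homOfLE h).op x

theorem resM_resM (M : X.Modules) {V₁ V₂ V₃ : X.Opens} (h₁ : V₂ ≤ V₁) (h₂ : V₃ ≤ V₂)
    (x : Γ(M, V₁)) : resM M h₂ (resM M h₁ x) = resM M (h₂.trans h₁) x := by
  change (M.presheaf.map (homOfLE h₁).op ≫ M.presheaf.map (homOfLE h₂).op) x = _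
  rw [← M.presheaf.map_comp]
  rfl

theorem resM_naturality {M N : X.Modules} (φ : M ⟶ N) {V V' : X.Opens} (h : V ≤ V')
    (x : Γ(M, V')) : (φ.app V).hom (resM M h x) = resM N h ((φ.app V').hom x) :=
  PresheafOfModules.naturality_apply φ.val (homOfLE h).op x

theorem resM_add (M : X.Modules) {V V' : X.Opens} (h : V ≤ V') (x y : Γ(M, V')) :
    resM M h (x + y) = resM M h x + resM M h y :=
  map_add (M.presheaf.map (homOfLE h).op).hom x y

/-- the compatible family defined by a global section -/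
noncomputable def secFamily (M : X.Modules) (σ : Γ(M, ⊤)) : M.val.sections :=
  PresheafOfModules.sectionsMk (fun V => resM M (le_top : V.unop ≤ ⊤) σ) (fun V V' f => by
    change resM M (leOfHom f.unop) (resM M (le_top : V.unop ≤ ⊤) σ) = _
    rw [resM_resM])

/-- the morphism `O_X ⟶ M` defined by a global section of `M` -/
noncomputable def homOfSec (M : X.Modules) (σ : Γ(M, ⊤)) : Coh.structureModule X ⟶ M :=
  M.unitHomEquiv.symm (secFamily M σ)

/-- the unit section of `O_X` over `U`, typed as a section of the module `O_X` -/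
noncomputable def oneSec (U : X.Opens) : Γ(Coh.structureModule X, U) := (show Γ(X, U) from 1)

theorem homOfSec_app_one (M : X.Modules) (σ : Γ(M, ⊤)) (U : X.Opens) :
    ((homOfSec M σ).app U).hom (oneSec U) = resM M (le_top : U ≤ ⊤) σ :=
  congrArg (fun τ => τ.val (op U)) (M.unitHomEquiv.apply_symm_apply (secFamily M σ))

/-- morphisms out of `O_X` are determined by the image of `1` -/
theorem hom_ext_of_one {M : X.Modules} {a b : Coh.structureModule X ⟶ M}
    (h : (a.app ⊤).hom (oneSec ⊤) = (b.app ⊤).hom (oneSec ⊤)) : a = b := by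
  apply M.unitHomEquiv.injective
  apply Subtype.ext
  funext V
  change (a.app V.unop).hom (oneSec V.unop) = (b.app V.unop).hom (oneSec V.unop)
  have h1 : oneSec V.unop = resM (Coh.structureModule X) (le_top : V.unop ≤ ⊤) (oneSec ⊤) := by
    change (1 : Γ(X, V.unop)) = (X.presheaf.map (homOfLE (le_top : V.unop ≤ ⊤)).op).hom 1
    rw [map_one]
  rw [h1, resM_naturality, resM_naturality, h]

/-- sections of a morphism out of `O_X`: `c ↦ c • (image of 1)` -/
theorem app_eq_smul_one {M : X.Modules} (a : Coh.structureModule X ⟶ M) (U : X.Opens)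
    (c : Γ(X, U)) :
    (a.app U).hom (show Γ(Coh.structureModule X, U) from c) = c • (a.app U).hom (oneSec U) := by
  have h1 : (show Γ(Coh.structureModule X, U) from c) = c • oneSec U := by
    change c = c * (1 : Γ(X, U))
    rw [mul_one]
  exact (congrArg (fun z => (a.app U).hom z) h1).trans ((appLin a U).map_smul c (oneSec U))

end HomOfSec

section Free

variable {X Y X' T : Scheme.{u}} {f : X ⟶ Y} {g : T ⟶ Y} {g' : X' ⟶ X} {f' : X' ⟶ T}

/-- the free module on a type -/
noncomputable abbrev FreeOn (X : Scheme.{u}) (J : Type u) : X.Modules :=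
  ∐ fun _ : J => Coh.structureModule X

/-- `(c_j) ↦ Σ_j ι_j(c_j)` on sections over `U` -/
noncomputable def lamLin (J : Type u) (U : X.Opens) :
    (J →₀ Γ(X, U)) →ₗ[Γ(X, U)] Γ(FreeOn X J, U) :=
  Finsupp.lsum Γ(X, U) (fun j : J =>
    (appLin (Sigma.ι (fun _ : J => Coh.structureModule X) j) U :
      Γ(Coh.structureModule X, U) →ₗ[Γ(X, U)] Γ(FreeOn X J, U)))

theorem lamLin_apply (J : Type u) (U : X.Opens) (c : J →₀ Γ(X, U)) :
    lamLin J U c = c.sum (fun j x =>
      ((Sigma.ι (fun _ : J => Coh.structureModule X) j).app U).hom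
        (show Γ(Coh.structureModule X, U) from x)) := rfl

theorem lamLin_single (J : Type u) (U : X.Opens) (j : J) (x : Γ(X, U)) :
    lamLin J U (Finsupp.single j x) =
      ((Sigma.ι (fun _ : J => Coh.structureModule X) j).app U).hom
        (show Γ(Coh.structureModule X, U) from x) := by
  rw [lamLin_apply, Finsupp.sum_single_index]
  exact map_zero _

/-- sections of a free module over an affine open are of the form `Σ_j ι_j(c_j)` -/
theorem exists_lamLin_eq (J : Type u) {U : X.Opens} (hU : IsAffineOpen U) (t : Γ(FreeOn X J, U)) :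
    ∃ c : J →₀ Γ(X, U), lamLin J U c = t := by
  have ht := mem_closure_range_sigma_of_isAffineOpen (fun _ : J => Coh.structureModule X) hU t
  refine AddSubgroup.closure_induction (p := fun z _ => ∃ c : J →₀ Γ(X, U), lamLin J U c = z)
    ?_ ?_ ?_ ?_ ht
  · rintro z hz
    obtain ⟨j, x, rfl⟩ := Set.mem_iUnion.1 hz
    exact ⟨Finsupp.single j x, lamLin_single J U j x⟩
  · exact ⟨0, map_zero _⟩
  · rintro a b _ _ ⟨ca, rfl⟩ ⟨cb, rfl⟩
    exact ⟨ca + cb, map_add _ _ _⟩
  · rintro a _ ⟨ca, rfl⟩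
    exact ⟨-ca, map_neg _ _⟩

/-- global sections of a free module on a qcqs scheme -/
theorem exists_lamLin_eq_top [CompactSpace X] [QuasiSeparatedSpace X] (J : Type u)
    (t : Γ(FreeOn X J, ⊤)) : ∃ c : J →₀ Γ(X, ⊤), lamLin J ⊤ c = t := by
  have ht := mem_closure_range_sigma_top (fun _ : J => Coh.structureModule X) t
  refine AddSubgroup.closure_induction (p := fun z _ => ∃ c : J →₀ Γ(X, ⊤), lamLin J ⊤ c = z)
    ?_ ?_ ?_ ?_ ht
  · rintro z hz
    obtain ⟨j, x, rfl⟩ := Set.mem_iUnion.1 hz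
    exact ⟨Finsupp.single j x, lamLin_single J ⊤ j x⟩
  · exact ⟨0, map_zero _⟩
  · rintro a b _ _ ⟨ca, rfl⟩ ⟨cb, rfl⟩
    exact ⟨ca + cb, map_add _ _ _⟩
  · rintro a _ ⟨ca, rfl⟩
    exact ⟨-ca, map_neg _ _⟩

/-- restriction commutes with `lamLin` -/
theorem resM_lamLin (J : Type u) {V V' : X.Opens} (h : V ≤ V') (c : J →₀ Γ(X, V')) :
    resM (FreeOn X J) h (lamLin J V' c) =
      lamLin J V (c.mapRange (X.presheaf.map (homOfLE h).op).hom (map_zero _)) := by
  induction c using Finsupp.induction_linear with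
  | zero =>
    rw [map_zero, Finsupp.mapRange_zero, map_zero]
    exact map_zero (((FreeOn X J).presheaf.map (homOfLE h).op).hom)
  | add a b ha hb =>
    rw [map_add, resM_add, ha, hb, Finsupp.mapRange_add (map_add _), map_add]
  | single j x =>
    rw [lamLin_single, Finsupp.mapRange_single, lamLin_single]
    exact (resM_naturality (Sigma.ι (fun _ : J => Coh.structureModule X) j) h _).symm

end Free

section StepC

variable {X Y X' T : Scheme.{u}} {f : X ⟶ Y} {g : T ⟶ Y} {g' : X' ⟶ X} {f' : X' ⟶ T}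

/-- the canonical map `⊕_{b ∈ Γ(T, O_T)} O_X ⟶ g'_* O_{X'}` -/
noncomputable def psiPush (g' : X' ⟶ X) (f' : X' ⟶ T) :
    FreeOn X Γ(T, ⊤) ⟶ (pushforward g').obj (Coh.structureModule X') :=
  Sigma.desc (fun b : Γ(T, ⊤) => phiPush g' (f'.appTop.hom b))

/-- `Γ(T, O_T) → Γ(g'⁻¹ U, O_{X'})` -/
noncomputable abbrev thetaU (g' : X' ⟶ X) (f' : X' ⟶ T) (U : X.Opens) : Γ(T, ⊤) →+* Γ(X', g' ⁻¹ᵁ U) :=
  (f'.appLE ⊤ (g' ⁻¹ᵁ U) le_top).hom

theorem psiPush_ι_apply (b : Γ(T, ⊤)) (U : X.Opens) (x : Γ(X, U)) :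
    ((psiPush g' f').app U).hom
      (((Sigma.ι (fun _ : Γ(T, ⊤) => Coh.structureModule X) b).app U).hom
        (show Γ(Coh.structureModule X, U) from x)) =
      (show Γ((pushforward g').obj (Coh.structureModule X'), U) from
        (g'.app U).hom x * thetaU g' f' U b) := by
  have h1 : Sigma.ι (fun _ : Γ(T, ⊤) => Coh.structureModule X) b ≫ psiPush g' f' =
      phiPush g' (f'.appTop.hom b) := Sigma.ι_desc _ _
  have h2 := congrArg (fun θ : Coh.structureModule X ⟶ _ => (θ.app U).hom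
    (show Γ(Coh.structureModule X, U) from x)) h1
  refine h2.trans ?_
  rw [phiPush_app, mul_comm]
  rfl

/-- the value of `ψ` on `Σ_b ι_b(c_b)` -/
theorem psiPush_lamLin (U : X.Opens) (c : Γ(T, ⊤) →₀ Γ(X, U)) :
    ((psiPush g' f').app U).hom (lamLin Γ(T, ⊤) U c) =
      (show Γ((pushforward g').obj (Coh.structureModule X'), U) from
        c.sum (fun b x => (g'.app U).hom x * thetaU g' f' U b)) := by
  induction c using Finsupp.induction_linear with
  | zero =>
    rw [map_zero, map_zero, Finsupp.sum_zero_index]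
  | add a b ha hb =>
    have hsum : (a + b).sum (fun b x => (g'.app U).hom x * thetaU g' f' U b) =
        a.sum (fun b x => (g'.app U).hom x * thetaU g' f' U b) +
          b.sum (fun b x => (g'.app U).hom x * thetaU g' f' U b) :=
      Finsupp.sum_add_index' (fun b => by rw [map_zero, zero_mul])
        (fun b x y => by rw [map_add, add_mul])
    rw [map_add, map_add, ha, hb, hsum]
  | single b x =>
    rw [lamLin_single, psiPush_ι_apply, Finsupp.sum_single_index]
    rw [map_zero, zero_mul]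

/-- `A`-linear relations among the elements of `Γ(T, O_T)`, `A = Γ(Y, O_Y)` -/
def Rel (g : T ⟶ Y) : Type u :=
  {ρ : Γ(T, ⊤) →₀ Γ(Y, ⊤) // ρ.sum (fun b a => (g.appLE ⊤ ⊤ le_top).hom a * b) = 0}

/-- the coefficients of a relation, as functions on `U ⊆ X` -/
noncomputable def relSec (f : X ⟶ Y) {g : T ⟶ Y} (ρ : Rel g) (U : X.Opens) : Γ(T, ⊤) →₀ Γ(X, U) :=
  ρ.1.mapRange (f.appLE ⊤ U le_top).hom (map_zero _)

theorem relSec_res (f : X ⟶ Y) {g : T ⟶ Y} (ρ : Rel g) {V V' : X.Opens} (h : V ≤ V') :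
    (relSec f ρ V').mapRange (X.presheaf.map (homOfLE h).op).hom (map_zero _) = relSec f ρ V := by
  ext b
  change (X.presheaf.map (homOfLE h).op).hom ((f.appLE ⊤ V' le_top).hom (ρ.1 b)) =
    (f.appLE ⊤ V le_top).hom (ρ.1 b)
  have h1 : f.appLE ⊤ V' le_top ≫ X.presheaf.map (homOfLE h).op = f.appLE ⊤ V le_top :=
    Scheme.Hom.appLE_map _ _ _
  exact ConcreteCategory.congr_hom h1 (ρ.1 b)

section sq

variable (sq : IsPullback g' f' f g)

include sq in
theorem app_appLE_eq (U : X.Opens) (a : Γ(Y, ⊤)) :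
    (g'.app U).hom ((f.appLE ⊤ U le_top).hom a) =
      thetaU g' f' U ((g.appLE ⊤ ⊤ le_top).hom a) := by
  have h1 : f.appLE ⊤ U le_top ≫ g'.appLE U (g' ⁻¹ᵁ U) le_rfl =
      g.appLE ⊤ ⊤ le_top ≫ f'.appLE ⊤ (g' ⁻¹ᵁ U) le_top := by
    simp only [Scheme.Hom.appLE_comp_appLE, sq.w]
  have h2 : g'.appLE U (g' ⁻¹ᵁ U) le_rfl = g'.app U := by
    simp [Scheme.Hom.appLE]
  rw [h2] at h1
  exact ConcreteCategory.congr_hom h1 a

include sq in
/-- relations die in `g'_* O_{X'}` -/
theorem psiPush_relSec (ρ : Rel g) (U : X.Opens) :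
    ((psiPush g' f').app U).hom (lamLin Γ(T, ⊤) U (relSec f ρ U)) = 0 := by
  rw [psiPush_lamLin]
  change (relSec f ρ U).sum (fun b x => (g'.app U).hom x * thetaU g' f' U b) = 0
  unfold relSec
  rw [Finsupp.sum_mapRange_index (fun b => by rw [map_zero, zero_mul])]
  have h1 : (ρ.1.sum fun b a => (g'.app U).hom ((f.appLE ⊤ U le_top).hom a) * thetaU g' f' U b) =
      thetaU g' f' U (ρ.1.sum (fun b a => (g.appLE ⊤ ⊤ le_top).hom a * b)) := by
    rw [map_finsuppSum]
    refine Finsupp.sum_congr (fun b _ => ?_)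
    rw [app_appLE_eq sq, map_mul]
  rw [h1, ρ.2, map_zero]

end sq

section Maps

/-- the global section `Σ_b ι_b(f^♯ ρ_b)` of the free module -/
noncomputable def relTop (f : X ⟶ Y) {g : T ⟶ Y} (ρ : Rel g) : Γ(FreeOn X Γ(T, ⊤), ⊤) :=
  lamLin Γ(T, ⊤) ⊤ (relSec f ρ ⊤)

/-- the map `O_X ⟶ ⊕_b O_X` of a relation -/
noncomputable def sigmaRel (f : X ⟶ Y) {g : T ⟶ Y} (ρ : Rel g) :
    Coh.structureModule X ⟶ FreeOn X Γ(T, ⊤) :=
  homOfSec _ (relTop f ρ)

theorem sigmaRel_app_one (f : X ⟶ Y) {g : T ⟶ Y} (ρ : Rel g) (U : X.Opens) :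
    ((sigmaRel f ρ).app U).hom (oneSec U) = lamLin Γ(T, ⊤) U (relSec f ρ U) := by
  rw [sigmaRel, homOfSec_app_one, relTop, resM_lamLin, relSec_res]

variable (sq : IsPullback g' f' f g)

include sq in
theorem sigmaRel_comp_psi (ρ : Rel g) : sigmaRel f ρ ≫ psiPush g' f' = 0 := by
  apply hom_ext_of_one
  change ((psiPush g' f').app ⊤).hom (((sigmaRel f ρ).app ⊤).hom (oneSec ⊤)) = 0
  rw [sigmaRel_app_one, psiPush_relSec sq]

/-- the map `O_X ⟶ ker ψ` of a relation -/
noncomputable def tauRel (ρ : Rel g) : Coh.structureModule X ⟶ kernel (psiPush g' f') :=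
  kernel.lift _ (sigmaRel f ρ) (sigmaRel_comp_psi sq ρ)

/-- the map from the free module on the relations to the kernel of `ψ` -/
noncomputable def ePrime : FreeOn X (Rel g) ⟶ kernel (psiPush g' f') :=
  Sigma.desc (fun ρ : Rel g => tauRel sq ρ)

theorem ePrime_ι_one (ρ : Rel g) (U : X.Opens) :
    ((kernel.ι (psiPush g' f')).app U).hom (((ePrime sq).app U).hom
      (((Sigma.ι (fun _ : Rel g => Coh.structureModule X) ρ).app U).hom (oneSec U))) =
      lamLin Γ(T, ⊤) U (relSec f ρ U) := by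
  have h1 : Sigma.ι (fun _ : Rel g => Coh.structureModule X) ρ ≫ ePrime sq ≫
      kernel.ι (psiPush g' f') = sigmaRel f ρ := by
    rw [← Category.assoc]
    change (Sigma.ι (fun _ : Rel g => Coh.structureModule X) ρ ≫
      Sigma.desc (fun ρ : Rel g => tauRel sq ρ)) ≫ _ = _
    rw [Sigma.ι_desc]
    exact kernel.lift_ι _ _ _
  have h2 := congrArg (fun θ : Coh.structureModule X ⟶ _ => (θ.app U).hom (oneSec U)) h1
  exact h2.trans (sigmaRel_app_one f ρ U)

end Maps

section Epi

variable (sq : IsPullback g' f' f g) [IsAffine Y] [IsAffine T]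

include sq in
/-- `ψ` is an epimorphism -/
theorem epi_psiPush [((pushforward g').obj (Coh.structureModule X')).IsQuasicoherent] :
    Epi (psiPush g' f') := by
  refine Groth.Agent.Lib.helper16.QCohEpi.epi_of_surjective_on_affine_cover (psiPush g' f')
    (fun U : X.affineOpens => U.1) (fun U => U.2) (fun x => by
      have hx : x ∈ (⨆ U : X.affineOpens, (U.1 : X.Opens)) := by
        rw [iSup_affineOpens_eq_top]; trivial
      exact Opens.mem_iSup.1 hx) (fun U p => ?_)
  have hp := mem_closure_mul_sections sq U.2 (show Γ(X', g' ⁻¹ᵁ U.1) from p)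
  refine AddSubgroup.closure_induction (p := fun z _ => ∃ t : Γ(FreeOn X Γ(T, ⊤), U.1),
    ((psiPush g' f').app U.1).hom t =
      (show Γ((pushforward g').obj (Coh.structureModule X'), U.1) from z)) ?_ ?_ ?_ ?_ hp
  · rintro z ⟨c, b, rfl⟩
    exact ⟨_, psiPush_ι_apply b U.1 c⟩
  · exact ⟨0, map_zero _⟩
  · rintro a b _ _ ⟨ta, hta⟩ ⟨tb, htb⟩
    refine ⟨ta + tb, ?_⟩
    rw [map_add, hta, htb]
  · rintro a _ ⟨ta, hta⟩
    refine ⟨-ta, ?_⟩
    rw [map_neg, hta]

include sq in
/-- the kernel of `ψ` is generated by the relations -/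
theorem epi_ePrime [(kernel (psiPush g' f')).IsQuasicoherent] : Epi (ePrime sq) := by
  refine Groth.Agent.Lib.helper16.QCohEpi.epi_of_surjective_on_affine_cover (ePrime sq)
    (fun U : X.affineOpens => U.1) (fun U => U.2) (fun x => by
      have hx : x ∈ (⨆ U : X.affineOpens, (U.1 : X.Opens)) := by
        rw [iSup_affineOpens_eq_top]; trivial
      exact Opens.mem_iSup.1 hx) (fun U k => ?_)
  -- the image of `k` in the free module
  obtain ⟨c, hc⟩ := exists_lamLin_eq Γ(T, ⊤) U.2 (((kernel.ι (psiPush g' f')).app U.1).hom k)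
  have h0 : ((psiPush g' f').app U.1).hom (lamLin Γ(T, ⊤) U.1 c) = 0 := by
    rw [hc]
    exact Groth.Agent.Lib.helper7.KerSections.kernel_ι_app_comp _ U.1 k
  rw [psiPush_lamLin] at h0
  have h1 : c.sum (fun b x => (g'.app U.1).hom x * thetaU g' f' U.1 b) = 0 := h0
  -- the pushout square
  have hUST : (⊤ : T.Opens) ≤ g ⁻¹ᵁ (⊤ : Y.Opens) := le_top
  have hUSX : U.1 ≤ f ⁻¹ᵁ (⊤ : Y.Opens) := le_top
  have hUY : g' ⁻¹ᵁ U.1 = g' ⁻¹ᵁ U.1 ⊓ f' ⁻¹ᵁ (⊤ : T.Opens) := by simp
  have hpo := (isIso_pushoutSection_iff sq hUST hUSX hUY).1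
    (isIso_pushoutSection_of_isAffineOpen sq hUST hUSX hUY (isAffineOpen_top Y)
      (isAffineOpen_top T) U.2)
  have h3 : g'.appLE U.1 (g' ⁻¹ᵁ U.1) (by simp) = g'.app U.1 := by
    simp [Scheme.Hom.appLE]
  rw [h3] at hpo
  have hspan := mem_span_relations_of_isPushout hpo c h1
  -- every element of the span lifts
  have key : ∀ m ∈ Submodule.span Γ(X, U.1) {m : Γ(T, ⊤) →₀ Γ(X, U.1) | ∃ ρ : Γ(T, ⊤) →₀ Γ(Y, ⊤),
      ρ.sum (fun b a => (g.appLE ⊤ ⊤ hUST).hom a * b) = 0 ∧
        m = ρ.mapRange (f.appLE ⊤ U.1 hUSX).hom (map_zero _)},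
      ∃ w : Γ(FreeOn X (Rel g), U.1), ((kernel.ι (psiPush g' f')).app U.1).hom
        (((ePrime sq).app U.1).hom w) = lamLin Γ(T, ⊤) U.1 m := by
    intro m hm
    refine Submodule.span_induction (p := fun m _ => ∃ w : Γ(FreeOn X (Rel g), U.1),
      ((kernel.ι (psiPush g' f')).app U.1).hom (((ePrime sq).app U.1).hom w) =
        lamLin Γ(T, ⊤) U.1 m) ?_ ?_ ?_ ?_ hm
    · rintro m ⟨ρ, hρ, rfl⟩
      exact ⟨_, ePrime_ι_one sq ⟨ρ, hρ⟩ U.1⟩
    · exact ⟨0, by rw [map_zero, map_zero, map_zero]⟩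
    · rintro a b _ _ ⟨wa, hwa⟩ ⟨wb, hwb⟩
      exact ⟨wa + wb, by rw [map_add, map_add, hwa, hwb, map_add]⟩
    · rintro r a _ ⟨wa, hwa⟩
      refine ⟨r • wa, ?_⟩
      have e1 : ((ePrime sq).app U.1).hom (r • wa) = r • ((ePrime sq).app U.1).hom wa :=
        (appLin (ePrime sq) U.1).map_smul r wa
      have e2 : ((kernel.ι (psiPush g' f')).app U.1).hom (r • ((ePrime sq).app U.1).hom wa) =
          r • ((kernel.ι (psiPush g' f')).app U.1).hom (((ePrime sq).app U.1).hom wa) :=
        (appLin (kernel.ι (psiPush g' f')) U.1).map_smul r _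
      rw [e1, e2, hwa]
      exact ((lamLin Γ(T, ⊤) U.1).map_smul r a).symm
  obtain ⟨w, hw⟩ := key c hspan
  refine ⟨w, ?_⟩
  apply Groth.Agent.Lib.helper7.KerSections.kernel_ι_app_injective (psiPush g' f') U.1
  rw [hw, hc]

end Epi

section Surj

variable (sq : IsPullback g' f' f g) [IsProper f] [IsAffine Y] [IsAffine T]

include sq in
/-- **base change of the surjectivity of `O_Y → f_* O_X`** (affine bases): `f` proper with fibres of dimension `≤ 1`
and `H¹(X_y, O) = 0` -/
theorem surjective_appTop_of_isPullback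
    (hdim : ∀ y : Y, topologicalKrullDim ↥(f.fiber y) ≤ 1)
    (hH : ∀ y : Y, IsClosed ({y} : Set Y) →
      Subsingleton (Coh.HH (f.fiber y) (Coh.structureModule (f.fiber y)) 1))
    (hsurj : Function.Surjective f.appTop.hom) : Function.Surjective f'.appTop.hom := by
  classical
  haveI : CompactSpace X := QuasiCompact.compactSpace_of_compactSpace f
  haveI : QuasiSeparatedSpace X := quasiSeparatedSpace_of_quasiSeparated f
  haveI : IsAffineHom g' :=
    MorphismProperty.of_isPullback (P := @IsAffineHom) sq.flip inferInstance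
  let O := Coh.structureModule X
  let O' := Coh.structureModule X'
  haveI hO : O.IsQuasicoherent := (Groth.Agent.Lib.helper11.AmpleInv.isCoh_structureModule X).1
  haveI hO' : O'.IsQuasicoherent := (Groth.Agent.Lib.helper11.AmpleInv.isCoh_structureModule X').1
  let G := (pushforward g').obj O'
  haveI hG : G.IsQuasicoherent :=
    Groth.Agent.Lib.helper7.QCohPushQC.isQuasicoherent_pushforward g' O'
  haveI hF : (FreeOn X Γ(T, ⊤)).IsQuasicoherent :=
    Groth.Agent.Lib.helper11.QCohSigma.isQuasicoherent_sigma (fun _ : Γ(T, ⊤) => O) (fun _ => hO)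
  let ψ := psiPush g' f'
  haveI hK : (kernel ψ).IsQuasicoherent := Groth.Agent.Lib.helper7.CohKer.isQuasicoherent_kernel ψ
  haveI : Epi ψ := epi_psiPush sq
  haveI : Epi (ePrime sq) := epi_ePrime sq
  have h2 : Subsingleton (Coh.HH X (kernel ψ) (0 + 1)) :=
    subsingleton_HH_of_epi_sigma f 1 hdim hH (kernel ψ) hK (Rel g) (ePrime sq)
  let S : ShortComplex X.Modules := ShortComplex.mk (kernel.ι ψ) ψ (kernel.condition ψ)
  have hS : S.ShortExact :=
    { exact := ShortComplex.exact_of_f_is_kernel _ (kernelIsKernel ψ)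
      mono_f := inferInstanceAs (Mono (kernel.ι ψ))
      epi_g := inferInstanceAs (Epi ψ) }
  have hsur0 : Function.Surjective (HH.map ψ 0) := HH.surjective_map_g hS 0 h2
  intro s
  let s' : Γ(G, ⊤) := s
  obtain ⟨x0, hx0⟩ := hsur0 ((HH.equiv₀ G).symm s')
  have h3 : ((psiPush g' f').app ⊤).hom (HH.equiv₀ (FreeOn X Γ(T, ⊤)) x0) = s' := by
    have := HH.equiv₀_naturality ψ x0
    rw [hx0, LinearEquiv.apply_symm_apply] at this
    exact this.symm
  obtain ⟨c, hc⟩ := exists_lamLin_eq_top Γ(T, ⊤) (HH.equiv₀ (FreeOn X Γ(T, ⊤)) x0)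
  rw [← hc, psiPush_lamLin] at h3
  -- rewrite the sum
  let β : Γ(T, ⊤) := c.sum (fun b x =>
    (g.appLE ⊤ ⊤ le_top).hom (Function.surjInv hsurj x) * b)
  have h4 : c.sum (fun b x => (g'.app ⊤).hom x * thetaU g' f' ⊤ b) = thetaU g' f' ⊤ β := by
    change _ = thetaU g' f' ⊤ (c.sum (fun b x =>
      (g.appLE ⊤ ⊤ le_top).hom (Function.surjInv hsurj x) * b))
    rw [map_finsuppSum]
    refine Finsupp.sum_congr (fun b _ => ?_)
    rw [map_mul, ← app_appLE_eq sq]
    congr 2
    have h5 : f.appLE ⊤ ⊤ le_top = f.appTop := by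
      simp [Scheme.Hom.appLE, Scheme.Hom.appTop]
    rw [h5]
    exact (Function.surjInv_eq hsurj (c b)).symm
  refine ⟨β, ?_⟩
  have h6 : thetaU g' f' ⊤ β = s := by
    rw [← h4]
    exact h3
  refine Eq.trans ?_ h6
  have h7 : f'.appLE ⊤ (g' ⁻¹ᵁ ⊤) le_top = f'.appTop := by
    simp [Scheme.Hom.appLE, Scheme.Hom.appTop]
  change f'.appTop.hom β = (f'.appLE ⊤ (g' ⁻¹ᵁ ⊤) le_top).hom β
  rw [h7]
  rfl

end Surj

end StepC

end Groth.Agent.Lib.helper11.FinTop
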