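import Mathlib
import Groth.Agent.Lib.Helper11.FinTop17

/-!
# Surjectivity of `O_Y → f_* O_X` is stable under base change (helper11; Stacks 0E7D-type)
-/

set_option autoImplicit false
set_option backward.isDefEq.respectTransparency false
universe u

open CategoryTheory CategoryTheory.Limits AlgebraicGeometry Opposite TopologicalSpace
open Scheme.Modules

namespace Groth.Agent.Lib.helper11.FinTop

open Groth.Agent.Lib.Helper18 Groth.Agent.Lib.Helper20.SmulHom
open Groth.Agent.Lib.helper11.FibreVanQC

theorem surjective_appTop_morphismRestrict_iff {X Y : Scheme.{u}} (f : X ⟶ Y) (V : Y.Opens) :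
    Function.Surjective (f ∣_ V).appTop.hom ↔ Function.Surjective (f.app V).hom := by
  rw [morphismRestrict_appTop]
  have h1 : ∀ (W : Y.Opens) (_ : W = V),
      Function.Surjective (f.app W).hom ↔ Function.Surjective (f.app V).hom := by
    rintro W rfl; rfl
  rw [← h1 (V.ι ''ᵁ ⊤) (Scheme.Opens.ι_image_top V)]
  have hiso : Function.Bijective
      (X.presheaf.map (eqToHom (image_morphismRestrict_preimage f V ⊤)).op).hom :=
    ConcreteCategory.bijective_of_isIso _
  rw [CommRingCat.hom_comp, RingHom.coe_comp]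
  exact Function.Surjective.of_comp_iff' hiso _

/-- **Stacks 0E7D-type**: surjectivity of `O_Y → f_* O_X` on affine opens is stable under base change, for `f` proper
with fibres of dimension `≤ 1` and `H¹(X_y, O) = 0`. -/
theorem surjective_app_of_isPullback {X Y : Scheme.{u}} (f : X ⟶ Y) [IsProper f]
    (hdim : ∀ y : Y, topologicalKrullDim ↥(f.fiber y) ≤ 1)
    (hH1 : ∀ y : Y, Subsingleton (Coh.HH (f.fiber y) (Coh.structureModule (f.fiber y)) 1))
    (hsurj : ∀ U : Y.Opens, IsAffineOpen U → Function.Surjective (f.app U))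
    {X' Y' : Scheme.{u}} (f' : X' ⟶ Y') (g' : X' ⟶ X) (g : Y' ⟶ Y) (hc : IsPullback g' f' f g) :
    ∀ U' : Y'.Opens, IsAffineOpen U' → Function.Surjective (f'.app U') := by
  haveI : IsProper f' := MorphismProperty.of_isPullback (P := @IsProper) hc inferInstance
  let O' := Coh.structureModule X'
  haveI hO' : O'.IsQuasicoherent := (Groth.Agent.Lib.helper11.AmpleInv.isCoh_structureModule X').1
  haveI hOY : (Coh.structureModule Y').IsQuasicoherent :=
    (Groth.Agent.Lib.helper11.AmpleInv.isCoh_structureModule Y').1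
  haveI hG : ((pushforward f').obj O').IsQuasicoherent :=
    Groth.Agent.Lib.helper7.QCohPushQC.isQuasicoherent_pushforward f' O'
  let η' := etaPush f'
  -- the cover
  let ι := {W : Y'.Opens // IsAffineOpen W ∧ ∃ V : Y.Opens, IsAffineOpen V ∧ W ≤ g ⁻¹ᵁ V}
  have hcov : ∀ y' : Y', ∃ W : ι, y' ∈ W.1 := by
    intro y'
    obtain ⟨V, hV, hyV, -⟩ := (Opens.isBasis_iff_nbhd.1 Y.isBasis_affineOpens)
      (show g y' ∈ (⊤ : Y.Opens) from trivial)
    obtain ⟨W, hW, hyW, hWV⟩ := (Opens.isBasis_iff_nbhd.1 Y'.isBasis_affineOpens)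
      (show y' ∈ g ⁻¹ᵁ V from hyV)
    exact ⟨⟨W, hW, V, hV, hWV⟩, hyW⟩
  haveI : Epi η' := by
    refine Groth.Agent.Lib.helper16.QCohEpi.epi_of_surjective_on_affine_cover η'
      (fun W : ι => W.1) (fun W => W.2.1) hcov (fun W => ?_)
    obtain ⟨W, hW, V, hV, hWV⟩ := W
    change Function.Surjective (f'.app W).hom
    rw [← surjective_appTop_morphismRestrict_iff]
    haveI : IsAffine (V : Scheme.{u}) := hV
    haveI : IsAffine (W : Scheme.{u}) := hW
    have sqW := isPullback_restrict_left hc W
    have hrange : Set.range (W.ι ≫ g) ⊆ V := by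
      rintro _ ⟨w, rfl⟩
      exact hWV w.2
    obtain ⟨g₀, g₀', hg₀, hg₀', sqR⟩ := exists_isPullback_morphismRestrict sqW V hrange
    refine surjective_appTop_of_isPullback sqR
      (fiber_dim_le_morphismRestrict f 1 V (fun s _ => hdim s))
      (fun s _ => subsingleton_HH_fiber_of_isPullback (isPullback_morphismRestrict f V).flip s 1
        (hdim _) (hH1 _)) ?_
    rw [surjective_appTop_morphismRestrict_iff]
    exact hsurj V hV
  intro U' hU'
  exact Groth.Agent.Lib.helper16.QCohEpi.surjective_app_of_epi η' hU'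

end Groth.Agent.Lib.helper11.FinTop
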