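import Mathlib
import Groth.Prelude.Def_ega3
import Groth.Agent.Lib.Helper21.ModCxExt

/-!
# helper11: tensoring a module complex `modCx K ρ` with a module, on the level of abelian groups

`K K' : HomologicalComplex AddCommGrpCat c`, `ρ : A →+* End K`, `M` an `A`-module and a family of morphisms
`κ m : K ⟶ K'` (`m ∈ M`), additive in `m`, with `κ (a • m) = ρ a ≫ κ m`, such that termwise
`K^n ⊗_A M → K'^n`, `x ⊗ m ↦ κ m x` is bijective.  Then the complex of abelian groups underlying
`CohIII.tensorObj (modCx K ρ) M` is isomorphic to `K'`, naturally in `M`.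
-/

set_option autoImplicit false
universe u
open CategoryTheory CategoryTheory.Limits TensorProduct

namespace Groth.Agent.Lib.helper11.GCM

open Groth.Agent.Lib.helper21.ModCx

noncomputable section

variable {A : Type u} [CommRing A] {ι : Type} {c : ComplexShape ι}

/-- the data of a "tensor comparison": morphisms `κ m : K ⟶ K'`, additive and balanced. -/
structure TensData (K K' : HomologicalComplex AddCommGrpCat.{u} c) (ρ : A →+* End K)
    (M : ModuleCat.{u} A) where
  κ : M → (K ⟶ K')
  add : ∀ m m', κ (m + m') = κ m + κ m'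
  smul : ∀ (a : A) (m : M), κ (a • m) = ρ a ≫ κ m

variable {K K' : HomologicalComplex AddCommGrpCat.{u} c} {ρ : A →+* End K} {M : ModuleCat.{u} A}

namespace TensData

variable (D : TensData K K' ρ M)

lemma κ_add_apply (n : ι) (m m' : M) (x : K.X n) :
    ((D.κ (m + m')).f n).hom x = ((D.κ m).f n).hom x + ((D.κ m').f n).hom x := by
  rw [D.add]
  rfl

lemma κ_smul_apply (n : ι) (a : A) (m : M) (x : K.X n) :
    ((D.κ (a • m)).f n).hom x = ((D.κ m).f n).hom (((ρ a).f n).hom x) := by
  rw [D.smul]
  rfl

/-- `x ⊗ m ↦ κ m x`. -/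
def tens (n : ι) : (modObj K ρ n) ⊗[A] M →+ K'.X n :=
  TensorProduct.liftAddHom
    (AddMonoidHom.mk' (fun x : modObj K ρ n => AddMonoidHom.mk' (fun m : M => ((D.κ m).f n).hom x)
      (fun m m' => D.κ_add_apply n m m' x))
      (fun x x' => by
        ext m
        exact map_add ((D.κ m).f n).hom x x'))
    (fun a x m => by
      show ((D.κ m).f n).hom (((ρ a).f n).hom x) = ((D.κ (a • m)).f n).hom x
      rw [D.κ_smul_apply])

@[simp] lemma tens_tmul (n : ι) (x : modObj K ρ n) (m : M) :
    D.tens n (x ⊗ₜ m) = ((D.κ m).f n).hom x := rfl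

end TensData

/-- the complex of abelian groups underlying `modCx K ρ ⊗ M`. -/
abbrev tensAb (K : HomologicalComplex AddCommGrpCat.{u} c) (ρ : A →+* End K) (M : ModuleCat.{u} A) :
    HomologicalComplex AddCommGrpCat.{u} c :=
  ((forget₂ (ModuleCat.{u} A) AddCommGrpCat.{u}).mapHomologicalComplex c).obj
    (CohIII.tensorObj (modCx K ρ) M)

/-- the differential of `modCx K ρ ⊗ M` as an additive map. -/
def dT (K : HomologicalComplex AddCommGrpCat.{u} c) (ρ : A →+* End K) (M : ModuleCat.{u} A)
    (i j : ι) : (modObj K ρ i) ⊗[A] M →+ (modObj K ρ j) ⊗[A] M :=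
  (LinearMap.rTensor M (modD K ρ i j).hom).toAddMonoidHom

lemma dT_tmul (i j : ι) (x : modObj K ρ i) (m : M) :
    dT K ρ M i j (x ⊗ₜ m) = (modD K ρ i j).hom x ⊗ₜ[A] m := rfl

/-- additive maps out of a tensor product agreeing on pure tensors are equal. -/
lemma addHom_ext_tmul {R : Type*} [CommRing R] {P Q T : Type*} [AddCommGroup P] [Module R P]
    [AddCommGroup Q] [Module R Q] [AddCommGroup T] (f g : P ⊗[R] Q →+ T)
    (h : ∀ x m, f (x ⊗ₜ m) = g (x ⊗ₜ m)) : f = g := by
  apply AddMonoidHom.ext
  intro z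
  induction z using TensorProduct.induction_on with
  | zero => rw [map_zero, map_zero]
  | tmul x m => exact h x m
  | add z z' hz hz' => rw [map_add, map_add, hz, hz']

lemma TensData.tens_comm (D : TensData K K' ρ M) (i j : ι) :
    (K'.d i j).hom.comp (D.tens i) = (D.tens j).comp (dT K ρ M i j) := by
  apply addHom_ext_tmul
  intro x m
  show (K'.d i j).hom (((D.κ m).f i).hom x) = ((D.κ m).f j).hom ((K.d i j).hom x)
  exact ConcreteCategory.congr_hom ((D.κ m).comm i j) x

/-- the comparison morphism in degree `n`. -/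
def TensData.Θf (D : TensData K K' ρ M) (n : ι) : (tensAb K ρ M).X n ⟶ K'.X n :=
  AddCommGrpCat.ofHom (D.tens n)

/-- the comparison morphism of complexes. -/
def TensData.Θ (D : TensData K K' ρ M) : tensAb K ρ M ⟶ K' where
  f n := D.Θf n
  comm' i j _ := by
    apply AddCommGrpCat.hom_ext
    exact D.tens_comm i j

lemma TensData.Θ_f (D : TensData K K' ρ M) (n : ι) : D.Θ.f n = AddCommGrpCat.ofHom (D.tens n) := rfl

lemma TensData.isIso_Θ (D : TensData K K' ρ M) (hbij : ∀ n, Function.Bijective (D.tens n)) :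
    IsIso D.Θ := by
  have : ∀ n, IsIso (D.Θ.f n) := fun n =>
    (ConcreteCategory.isIso_iff_bijective (D.Θ.f n)).mpr (hbij n)
  exact HomologicalComplex.Hom.isIso_of_components D.Θ

/-- the homology of `modCx K ρ ⊗ M`, as an abelian group, maps to the homology of `K'`. -/
def TensData.homologyHom (D : TensData K K' ρ M) (p : ι) :
    (forget₂ (ModuleCat.{u} A) AddCommGrpCat.{u}).obj ((CohIII.tensorObj (modCx K ρ) M).homology p) ⟶
      K'.homology p :=
  (((CohIII.tensorObj (modCx K ρ) M).sc p).mapHomologyIso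
    (forget₂ (ModuleCat.{u} A) AddCommGrpCat.{u})).inv ≫
    HomologicalComplex.homologyMap D.Θ p

lemma TensData.isIso_homologyHom (D : TensData K K' ρ M)
    (hbij : ∀ n, Function.Bijective (D.tens n)) (p : ι) : IsIso (D.homologyHom p) := by
  have := D.isIso_Θ hbij
  have : IsIso (HomologicalComplex.homologyMap D.Θ p) :=
    (HomologicalComplex.homologyFunctor _ c p).map_isIso D.Θ
  unfold TensData.homologyHom
  exact IsIso.comp_isIso' inferInstance this

section Naturality

variable {N : ModuleCat.{u} A} {K'' : HomologicalComplex AddCommGrpCat.{u} c}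
  (D : TensData K K' ρ M) (E : TensData K K'' ρ N) (g : M ⟶ N) (ψ : K' ⟶ K'')

/-- naturality of the comparison morphism. -/
lemma TensData.Θ_naturality (h : ∀ m : M, D.κ m ≫ ψ = E.κ (g.hom m)) :
    ((forget₂ (ModuleCat.{u} A) AddCommGrpCat.{u}).mapHomologicalComplex c).map
      (CohIII.tensorMap (modCx K ρ) g) ≫ E.Θ = D.Θ ≫ ψ := by
  ext n : 1
  apply AddCommGrpCat.hom_ext
  have : (E.tens n).comp (LinearMap.lTensor (modObj K ρ n) g.hom).toAddMonoidHom =
      (ψ.f n).hom.comp (D.tens n) := by
    apply addHom_ext_tmul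
    intro x m
    show ((E.κ (g.hom m)).f n).hom x = (ψ.f n).hom (((D.κ m).f n).hom x)
    rw [← h m]
    rfl
  exact this

/-- naturality of the homology comparison. -/
lemma TensData.homologyHom_naturality (h : ∀ m : M, D.κ m ≫ ψ = E.κ (g.hom m)) (p : ι) :
    (forget₂ (ModuleCat.{u} A) AddCommGrpCat.{u}).map
      (HomologicalComplex.homologyMap (CohIII.tensorMap (modCx K ρ) g) p) ≫ E.homologyHom p =
      D.homologyHom p ≫ HomologicalComplex.homologyMap ψ p := by
  unfold TensData.homologyHom
  have h2 := ShortComplex.mapHomologyIso_inv_naturality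
    ((HomologicalComplex.shortComplexFunctor _ c p).map (CohIII.tensorMap (modCx K ρ) g))
    (forget₂ (ModuleCat.{u} A) AddCommGrpCat.{u})
  have h3 := congrArg (fun t => HomologicalComplex.homologyMap t p) (D.Θ_naturality E g ψ h)
  simp only [HomologicalComplex.homologyMap_comp] at h3
  rw [← Category.assoc]
  erw [h2]
  rw [Category.assoc]
  exact congrArg (fun t => (((CohIII.tensorObj (modCx K ρ) M).sc p).mapHomologyIso
    (forget₂ (ModuleCat.{u} A) AddCommGrpCat.{u})).inv ≫ t) h3

end Naturality

end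

end Groth.Agent.Lib.helper11.GCM
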