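import Mathlib
import Groth.Prelude.Def_ega3
import Groth.Agent.Lib.Helper11.GCM1

/-!
# helper11: tensor comparison data and extension of complexes along an embedding
-/

set_option autoImplicit false
universe u
open CategoryTheory CategoryTheory.Limits TensorProduct

namespace Groth.Agent.Lib.helper11.GCM

open Groth.Agent.Lib.helper21.ModCx

noncomputable section

variable {A : Type u} [CommRing A] {ι ι' : Type} {c : ComplexShape ι} {c' : ComplexShape ι'}
  (e : c.Embedding c')
variable {K K' : HomologicalComplex AddCommGrpCat.{u} c} {ρ : A →+* End K} {M : ModuleCat.{u} A}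

/-- extension of tensor comparison data along an embedding of complex shapes. -/
def TensData.extend (D : TensData K K' ρ M) : TensData (K.extend e) (K'.extend e) (extρ e K ρ) M where
  κ m := HomologicalComplex.extendMap (D.κ m) e
  add m m' := by rw [D.add, HomologicalComplex.extendMap_add]
  smul a m := by rw [D.smul, HomologicalComplex.extendMap_comp, extρ_apply]

lemma TensData.extend_κ (D : TensData K K' ρ M) (m : M) :
    (D.extend e).κ m = HomologicalComplex.extendMap (D.κ m) e := rfl

lemma TensData.bijective_extend_tens (D : TensData K K' ρ M)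
    (hbij : ∀ n, Function.Bijective (D.tens n)) (n' : ι') :
    Function.Bijective ((D.extend e).tens n') := by
  by_cases hn : ∃ n, e.f n = n'
  · obtain ⟨n, hn⟩ := hn
    let e1 : (modObj (K.extend e) (extρ e K ρ) n') ⊗[A] M ≃ₗ[A] (modObj K ρ n) ⊗[A] M :=
      TensorProduct.congr (extXEquiv e K ρ hn) (LinearEquiv.refl A M)
    let e2 : (K'.extend e).X n' ≃+ K'.X n := (K'.extendXIso e hn).addCommGroupIsoToAddEquiv
    have hcomp : e2.toAddMonoidHom.comp ((D.extend e).tens n') =
        (D.tens n).comp e1.toLinearMap.toAddMonoidHom := by
      apply addHom_ext_tmul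
      intro x m
      show (K'.extendXIso e hn).hom.hom (((HomologicalComplex.extendMap (D.κ m) e).f n').hom x) =
        ((D.κ m).f n).hom ((K.extendXIso e hn).hom.hom x)
      rw [HomologicalComplex.extendMap_f (D.κ m) e hn]
      have h1 : ((K.extendXIso e hn).hom ≫ (D.κ m).f n ≫ (K'.extendXIso e hn).inv) ≫
          (K'.extendXIso e hn).hom = (K.extendXIso e hn).hom ≫ (D.κ m).f n := by
        rw [Category.assoc, Category.assoc, Iso.inv_hom_id, Category.comp_id]
      exact ConcreteCategory.congr_hom h1 x
    have h2 : Function.Bijective (e2.toAddMonoidHom.comp ((D.extend e).tens n')) := by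
      rw [hcomp]
      exact (hbij n).comp e1.bijective
    have h3 : ((D.extend e).tens n' : _ → _) = e2.symm ∘ (e2.toAddMonoidHom.comp ((D.extend e).tens n')) := by
      funext z
      simp
    rw [h3]
    exact e2.symm.bijective.comp h2
  · have hn' : ∀ n, e.f n ≠ n' := fun n h => hn ⟨n, h⟩
    have s1 : Subsingleton ((K.extend e).X n') :=
      AddCommGrpCat.subsingleton_of_isZero (K.isZero_extend_X e n' hn')
    have s2 : Subsingleton ((K'.extend e).X n') :=
      AddCommGrpCat.subsingleton_of_isZero (K'.isZero_extend_X e n' hn')
    have s3 : Subsingleton (modObj (K.extend e) (extρ e K ρ) n') := s1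
    have s4 : Subsingleton ((modObj (K.extend e) (extρ e K ρ) n') ⊗[A] M) := inferInstance
    constructor
    · intro x y _
      exact Subsingleton.elim _ _
    · intro y
      exact ⟨0, Subsingleton.elim _ _⟩

end

end Groth.Agent.Lib.helper11.GCM
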