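import Mathlib
import Groth.Prelude.Def_ega3
import Groth.Agent.Lib.Helper11.GCM2
import Groth.Agent.Lib.Helper21.IsBCPi

/-!
# helper11: tensor products and finite categorical products of abelian groups
-/

set_option autoImplicit false
universe u
open CategoryTheory CategoryTheory.Limits TensorProduct

namespace Groth.Agent.Lib.helper11.GCM

open Groth.Agent.Lib.helper21.IsBCPi Groth.Agent.Lib.helper27

noncomputable section

section PiTens

variable {A : Type u} [CommRing A] {J : Type u} [Finite J] {N P : J → AddCommGrpCat.{u}}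
  [∀ a, Module A (N a)] [Module A ↑(∏ᶜ N : AddCommGrpCat.{u})]
  (hN : ∀ (r : A) (x : ↑(∏ᶜ N : AddCommGrpCat.{u})) (a : J), Pi.π N a (r • x) = r • Pi.π N a x)
  {M : Type u} [AddCommGroup M] [Module A M]
  (k : M → ∀ a, N a ⟶ P a)
  (t : (↑(∏ᶜ N : AddCommGrpCat.{u})) ⊗[A] M →+ ↑(∏ᶜ P : AddCommGrpCat.{u}))
  (ht : ∀ (x : ↑(∏ᶜ N : AddCommGrpCat.{u})) (m : M), t (x ⊗ₜ m) = (Limits.Pi.map (k m)).hom x)
  (b : ∀ a, (N a) ⊗[A] M →+ P a)
  (hb : ∀ a (y : N a) (m : M), b a (y ⊗ₜ m) = (k m a).hom y)

include hN ht hb in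
theorem bijective_of_pi (hbij : ∀ a, Function.Bijective (b a)) : Function.Bijective t := by
  classical
  cases nonempty_fintype J
  let e1 : (↑(∏ᶜ N : AddCommGrpCat.{u})) ⊗[A] M ≃ₗ[A] (∀ a, N a) ⊗[A] M :=
    TensorProduct.congr (piEquiv hN) (LinearEquiv.refl A M)
  let e2 : (∀ a, N a) ⊗[A] M ≃ₗ[A] ∀ a, (N a) ⊗[A] M := TensorProduct.piLeft A M (fun a => N a)
  let e3 : ↑(∏ᶜ P : AddCommGrpCat.{u}) ≃ ∀ a, P a := Concrete.productEquiv P
  have key : ∀ z, e3 (t z) = fun a => b a (e2 (e1 z) a) := by
    intro z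
    induction z using TensorProduct.induction_on with
    | zero =>
      funext a
      show Concrete.productEquiv P (t 0) a = b a (e2 (e1 0) a)
      rw [Concrete.productEquiv_apply_apply]
      simp only [map_zero, Pi.zero_apply]
    | tmul x m =>
      funext a
      show Concrete.productEquiv P (t (x ⊗ₜ m)) a = _
      rw [Concrete.productEquiv_apply_apply, ht, CechLeray.π_map_apply]
      have h1 : e2 (e1 (x ⊗ₜ m)) a = (piEquiv hN x a) ⊗ₜ m := by
        simp [e1, e2]
      rw [h1, hb, piEquiv_apply]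
    | add z z' hz hz' =>
      funext a
      have hza : Concrete.productEquiv P (t z) a = b a (e2 (e1 z) a) := congrFun hz a
      have hza' : Concrete.productEquiv P (t z') a = b a (e2 (e1 z') a) := congrFun hz' a
      rw [Concrete.productEquiv_apply_apply] at hza hza'
      show Concrete.productEquiv P (t (z + z')) a = b a (e2 (e1 (z + z')) a)
      rw [Concrete.productEquiv_apply_apply]
      simp only [map_add, Pi.add_apply]
      rw [hza, hza']
  have h2 : Function.Bijective (fun z => e3 (t z)) := by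
    have : (fun z => e3 (t z)) = (Pi.map (fun a => (b a : _ → _))) ∘ e2 ∘ e1 := by
      funext z
      exact key z
    rw [this]
    exact (Function.Bijective.piMap hbij).comp (e2.bijective.comp e1.bijective)
  have h3 : (t : _ → _) = e3.symm ∘ (fun z => e3 (t z)) := by
    funext z
    simp
  rw [h3]
  exact e3.symm.bijective.comp h2

end PiTens

end

end Groth.Agent.Lib.helper11.GCM
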