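import Mathlib
import Groth.Prelude.Def_ega3
import Groth.Agent.Lib.Helper11.TensorASec2

/-!
# helper11: sections of `f^*(M~) ⊗ F` (`CohIII.tensorAFunctor`) over affine opens, naturality in `M`

Left-handed versions of `TensorASec2` (the order of `CohIII.tensorAFunctor A F`, `M ↦ f^* M~ ⊗ F`) and
naturality in `M`.
-/

set_option autoImplicit false
universe u
open CategoryTheory CategoryTheory.Limits AlgebraicGeometry Opposite TopologicalSpace TensorProduct

namespace Groth.Agent.Lib.helper11.TensorASec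

open Groth.Agent.Lib.helper2.TildeTensor Groth.Agent.Lib.helper12.TensorRestrict
  Groth.Agent.Lib.helper12.TensorSec Groth.Agent.Lib.helper8.PullbackUnit

noncomputable section

section TmulLeft

variable {X : Scheme.{u}} (F P : X.Modules)

/-- `s ↦ t|_U ⊗ s` on underlying abelian presheaves. -/
def tmulLeftPre (t : Γ(P, ⊤)) : F.val.presheaf ⟶ (CohB1.tensorMod P F).val.presheaf where
  app U := AddCommGrpCat.ofHom
    { toFun := fun s => tm P F U.unop (resG P t U.unop) s
      map_zero' := by
        have := tm_add_right P F U.unop (resG P t U.unop) 0 0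
        rw [add_zero] at this
        exact left_eq_add.mp this
      map_add' := fun s s' => tm_add_right P F U.unop _ s s' }
  naturality U V i := by
    ext s
    change tm P F V.unop (resG P t V.unop) (F.presheaf.map i s) =
      (CohB1.tensorMod P F).presheaf.map i (tm P F U.unop (resG P t U.unop) s)
    have := tm_res P F i.unop (resG P t U.unop) s
    rw [resG_res] at this
    exact this.symm

/-- `s ↦ t ⊗ s` as a morphism of `O_X`-modules `F ⟶ P ⊗ F`, for a global section `t` of `P`. -/
def tmulLeft (t : Γ(P, ⊤)) : F ⟶ CohB1.tensorMod P F :=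
  ⟨PresheafOfModules.homMk (tmulLeftPre F P t)
    (fun U r s => tm_smul_right P F U.unop r (resG P t U.unop) s)⟩

lemma tmulLeft_app (t : Γ(P, ⊤)) (U : X.Opens) (s : Γ(F, U)) :
    (tmulLeft F P t).app U s = tm P F U (resG P t U) s := rfl

end TmulLeft

section PullLeft

open Groth.Agent.H1.ExtPowTilde Groth.Agent.H1.ExtPowSemi Groth.Agent.Lib.helper8.FlatBC
  Groth.Agent.Lib.helper8.FlatCohBC

variable {A : Type u} [CommRing A] {X : Scheme.{u}} (f : X ⟶ Spec (CommRingCat.of A))
  (F : X.Modules) (M : ModuleCat.{u} A)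

/-- `m ↦ (s ↦ m ⊗ s)`: the morphisms `F ⟶ f^* M~ ⊗ F`. -/
def βHom' (m : M) : F ⟶ CohB1.tensorMod (Pm f M) F :=
  tmulLeft F (Pm f M) (secOf f M ⊤ m)

lemma βHom'_app (m : M) (W : X.Opens) (s : Γ(F, W)) :
    (βHom' f F M m).app W s = tm (Pm f M) F W (secOf f M W m) s := by
  unfold βHom'
  rw [tmulLeft_app, secOf_eq_resG]

lemma βHom'_add (m m' : M) : βHom' f F M (m + m') = βHom' f F M m + βHom' f F M m' := by
  apply Scheme.Modules.hom_ext
  intro U
  ext s
  rw [Scheme.Modules.Hom.add_app]
  change (βHom' f F M (m + m')).app U s = (βHom' f F M m).app U s + (βHom' f F M m').app U s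
  rw [βHom'_app, βHom'_app, βHom'_app, map_add, tm_add_left]

variable (W : X.Opens)

lemma βHom'_smul_app (a : A) (m : M) (s : Γ(F, W)) :
    (βHom' f F M (a • m)).app W s = secAlg f W a • (βHom' f F M m).app W s := by
  rw [βHom'_app, βHom'_app, secOf_smul, tm_smul_left]

lemma βHom'_app_smul (a : A) (m : M) (s : Γ(F, W)) :
    (βHom' f F M m).app W (secAlg f W a • s) = secAlg f W a • (βHom' f F M m).app W s :=
  Scheme.Modules.Hom.app_smul _ _ _

variable [Module A Γ(F, W)]

/-- the comparison map `Γ(W, F) ⊗_A M → Γ(W, f^* M~ ⊗ F)`, `s ⊗ m ↦ m ⊗ s`. -/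
def bW' (hA : ∀ (a : A) (s : Γ(F, W)), a • s = secAlg f W a • s) :
    Γ(F, W) ⊗[A] M →+ Γ(CohB1.tensorMod (Pm f M) F, W) :=
  TensorProduct.liftAddHom
    (AddMonoidHom.mk' (fun s => AddMonoidHom.mk' (fun m => tm (Pm f M) F W (secOf f M W m) s)
      (fun m m' => by rw [map_add, tm_add_left]))
      (fun s s' => by
        ext m
        exact tm_add_right (Pm f M) F W _ s s'))
    (fun a s m => by
      show tm (Pm f M) F W (secOf f M W m) (a • s) = tm (Pm f M) F W (secOf f M W (a • m)) s
      rw [hA, tm_smul_right, secOf_smul, tm_smul_left])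

lemma bW'_tmul (hA : ∀ (a : A) (s : Γ(F, W)), a • s = secAlg f W a • s) (s : Γ(F, W)) (m : M) :
    bW' f F M W hA (s ⊗ₜ m) = (βHom' f F M m).app W s := by
  rw [βHom'_app]
  rfl

/-- **Sections of `f^* M~ ⊗ F` over an affine open.** -/
theorem bijective_bW' [F.IsQuasicoherent] (hW : IsAffineOpen W)
    (hA : ∀ (a : A) (s : Γ(F, W)), a • s = secAlg f W a • s) :
    Function.Bijective (bW' f F M W hA) := by
  let _ : Algebra A Γ(X, W) := (secAlg f W).toAlgebra
  have : IsScalarTower A Γ(X, W) Γ(F, W) :=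
    IsScalarTower.of_algebraMap_smul (fun a s => (hA a s).symm)
  have : (Pm f M).IsQuasicoherent :=
    Groth.Agent.Lib.helper16.QCohPullback.isQuasicoherent_pullback f (Mt M)
  refine bijective_of_isBC (secOf f M W) (isBC_secOf f M hW)
    ((cW (Pm f M) F W) ∘ₗ (TensorProduct.comm Γ(X, W) Γ(F, W) Γ(Pm f M, W)).toLinearMap)
    ?_ (bW' f F M W hA) (fun s m => rfl)
  exact (bijective_cW (Pm f M) F W hW).comp (TensorProduct.comm _ _ _).bijective

end PullLeft

section Nat

open Groth.Agent.H1.ExtPowTilde Scheme.Modules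

/-- naturality of `ρ` in the module. -/
lemma ρ_map {X Y : Scheme.{u}} (g : Y ⟶ X) {U : X.Opens} {V : Y.Opens} (e : V ≤ g ⁻¹ᵁ U)
    {A A' : X.Modules} (φ : A ⟶ A') (a : Γ(A, U)) :
    (((Scheme.Modules.pullback g).map φ).app V).hom (ρ g e A a) = ρ g e A' ((φ.app U).hom a) := by
  rw [ρ_apply, ρ_apply]
  have h1 := (pullbackPushforwardAdjunction g).unit.naturality φ
  have h2 : (((pullbackPushforwardAdjunction g).unit.app A').app U).hom ((φ.app U).hom a) =
      (((Scheme.Modules.pullback g).map φ).app (g ⁻¹ᵁ U)).hom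
        ((((pullbackPushforwardAdjunction g).unit.app A).app U).hom a) :=
    congr(($h1).app U a)
  rw [h2]
  exact Groth.Agent.Lib.helper16.QCohEpi.app_map ((Scheme.Modules.pullback g).map φ) e _

variable {A : Type u} [CommRing A] {X : Scheme.{u}} (f : X ⟶ Spec (CommRingCat.of A))
  (F : X.Modules) {M M' : ModuleCat.{u} A} (g : M ⟶ M')

/-- the map `M~ ⟶ M'~`. -/
abbrev MtMap : Mt M ⟶ Mt M' := tilde.map (R := CommRingCat.of A) g

/-- the map `f^* M~ ⟶ f^* M'~`. -/
abbrev PmMap : Pm f M ⟶ Pm f M' := (Scheme.Modules.pullback f).map (MtMap g)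

lemma tOtop_map (m : M) : ((MtMap g).app ⊤).hom (tOtop M m) = tOtop M' (g.hom m) := by
  have h := tilde.toOpen_map_app (R := CommRingCat.of A) g ⊤
  exact congr(($h).hom m)

lemma secOf_map (W : X.Opens) (m : M) :
    ((PmMap f g).app W).hom (secOf f M W m) = secOf f M' W (g.hom m) := by
  unfold secOf
  rw [AddMonoidHom.comp_apply, AddMonoidHom.comp_apply, ρ_map, tOtop_map]

end Nat

section Functor

variable (A : Type u) [CommRing A] {X : Scheme.{u}} [X.Over (Spec (CommRingCat.of A))]
  (F : X.Modules)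

/-- the prelude's functor `M ↦ f^* M~ ⊗ F` in the notation of this file. -/
theorem tensorAFunctor_obj (M : ModuleCat.{u} A) : (CohIII.tensorAFunctor A F).obj M =
    CohB1.tensorMod (Pm (X ↘ Spec (CommRingCat.of A)) M) F := rfl

/-- section formula for the action of `tensorAFunctor` on morphisms. -/
theorem tensorAFunctor_map_app {M M' : ModuleCat.{u} A} (g : M ⟶ M') (W : X.Opens)
    (t : Γ(Pm (X ↘ Spec (CommRingCat.of A)) M, W)) (s : Γ(F, W)) :
    (((CohIII.tensorAFunctor A F).map g).app W).hom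
        (tm (Pm (X ↘ Spec (CommRingCat.of A)) M) F W t s) =
      tm (Pm (X ↘ Spec (CommRingCat.of A)) M') F W
        (((PmMap (X ↘ Spec (CommRingCat.of A)) g).app W).hom t) s := by
  change ((((CohB1.sheafifyMod X).map
    (MonoidalCategory.whiskerRight
      (show CohB1.toPMod (Pm (X ↘ Spec (CommRingCat.of A)) M) ⟶
        CohB1.toPMod (Pm (X ↘ Spec (CommRingCat.of A)) M') from
        (PmMap (X ↘ Spec (CommRingCat.of A)) g).val) (CohB1.toPMod F))).val.app (op W)).hom
      (((toSheafify (CohB1.tensorPre (Pm (X ↘ Spec (CommRingCat.of A)) M) F :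
        X.PresheafOfModules)).app (op W)).hom (t ⊗ₜ s))) = _
  erw [sheafifyMap_toSheafify_apply]
  rfl

/-- naturality of `βHom'` in the module. -/
theorem βHom'_naturality {M M' : ModuleCat.{u} A} (g : M ⟶ M') (m : M) :
    βHom' (X ↘ Spec (CommRingCat.of A)) F M m ≫ (CohIII.tensorAFunctor A F).map g =
      βHom' (X ↘ Spec (CommRingCat.of A)) F M' (g.hom m) := by
  apply Scheme.Modules.hom_ext
  intro U
  ext s
  have h1 := βHom'_app (X ↘ Spec (CommRingCat.of A)) F M m U s
  have h2 := βHom'_app (X ↘ Spec (CommRingCat.of A)) F M' (g.hom m) U s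
  have h3 := tensorAFunctor_map_app A F g U (secOf (X ↘ Spec (CommRingCat.of A)) M U m) s
  have h4 := secOf_map (X ↘ Spec (CommRingCat.of A)) g U m
  rw [h4] at h3
  exact (congrArg (((CohIII.tensorAFunctor A F).map g).app U).hom h1).trans (h3.trans h2.symm)

end Functor

end

end Groth.Agent.Lib.helper11.TensorASec
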