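import Mathlib
import Groth.Prelude.Def_ega3
import Groth.Agent.Lib.Helper11.GCM3
import Groth.Agent.Lib.Helper11.TensorASec3
import Groth.Agent.Lib.Helper21.GCHom

/-!
# helper11: the Čech complex of `f^* M~ ⊗ F` is `Čech(F) ⊗_A M`
-/

set_option autoImplicit false
universe u
open CategoryTheory CategoryTheory.Limits TensorProduct Opposite TopologicalSpace AlgebraicGeometry

namespace Groth.Agent.Lib.helper11.GCM

open Groth.Agent.Lib.helper21.IsBCPi Groth.Agent.Lib.helper27 Groth.Agent.Lib.helper21.ModCx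
  Groth.Agent.Lib.helper21.GCCech Groth.Agent.Lib.helper11.TensorASec
  Groth.Agent.Lib.helper8.FlatCohBC Groth.Agent.Lib.Helper20 Groth.Agent.Lib.Helper20.CechNatTop

noncomputable section

section Cech

variable {A : Type u} [CommRing A] {X : Scheme.{u}} (fX : X ⟶ Spec (CommRingCat.of A))
  (F : X.Modules) (M : ModuleCat.{u} A)

/-- `f^* M~ ⊗ F`. -/
abbrev GM : X.Modules := CohB1.tensorMod (Pm fX M) F

/-- `s ↦ m ⊗ s` on underlying abelian sheaves. -/
def βAb (m : M) : Coh.toAb F ⟶ Coh.toAb (GM fX F M) :=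
  (SheafOfModules.toSheaf X.ringCatSheaf).map (βHom' fX F M m)

lemma βAb_app (m : M) (W : X.Opens) (s : Γ(F, W)) :
    ((βAb fX F M m).hom.app (op W)).hom s = (βHom' fX F M m).app W s := rfl

lemma βAb_add (m m' : M) : βAb fX F M (m + m') = βAb fX F M m + βAb fX F M m' := by
  unfold βAb
  rw [βHom'_add]
  exact (SheafOfModules.toSheaf X.ringCatSheaf).map_add

lemma βAb_smul (a : A) (m : M) : βAb fX F M (a • m) = αM fX F a ≫ βAb fX F M m := by
  have hh : ∀ (W : X.Opens) (s : Γ(F, W)),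
      (βHom' fX F M (a • m)).app W s = (βHom' fX F M m).app W (secAlg fX W a • s) := by
    intro W s
    rw [βHom'_smul_app, βHom'_app_smul]
  apply Sheaf.hom_ext
  apply NatTrans.ext
  funext W
  apply AddCommGrpCat.hom_ext
  apply AddMonoidHom.ext
  intro s
  exact hh W.unop s

variable {ι : Type u} [Finite ι] (U : ι → X.Opens)

/-- the tensor comparison data of Čech complexes. -/
def cechTensData : TensData (KM F U) (KM (GM fX F M) U) (ρM fX F U) M where
  κ m := (Č (X := X.toTopCat) U).map (βAb fX F M m)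
  add m m' := by rw [βAb_add, Functor.map_add]
  smul a m := by
    rw [βAb_smul, Functor.map_comp]
    rfl


variable [F.IsQuasicoherent]

theorem bijective_cechTensData_tens
    (hU : ∀ (n : ℕ) (a : Fin (n + 1) → ι), IsAffineOpen (∏ᶜ (U ∘ a) : X.Opens)) (n : ℕ) :
    Function.Bijective ((cechTensData fX F M U).tens n) := by
  refine @bijective_of_pi A _ (Fin (n + 1) → ι) _ (Cech.Z U (Coh.toAb F).obj n)
    (Cech.Z U (Coh.toAb (GM fX F M)).obj n)
    (fun a => modSec fX F (∏ᶜ (U ∘ a) : X.Opens)) (modX (KM F U) (ρM fX F U) n)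
    (fun r x a => ρM_smul fX F U n r x a) M _ _
    (fun m a => (βAb fX F M m).hom.app (op (∏ᶜ (U ∘ a))))
    ((cechTensData fX F M U).tens n) (fun x m => rfl)
    (fun a => @bW' A _ X fX F M (∏ᶜ (U ∘ a) : X.Opens) (modSec fX F (∏ᶜ (U ∘ a) : X.Opens))
      (fun _ _ => rfl))
    (fun a y m => @bW'_tmul A _ X fX F M (∏ᶜ (U ∘ a) : X.Opens)
      (modSec fX F (∏ᶜ (U ∘ a) : X.Opens)) (fun _ _ => rfl) y m)
    (fun a => @bijective_bW' A _ X fX F M (∏ᶜ (U ∘ a) : X.Opens)
      (modSec fX F (∏ᶜ (U ∘ a) : X.Opens)) _ (hU n a) (fun _ _ => rfl))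

end Cech

end

end Groth.Agent.Lib.helper11.GCM
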