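import Mathlib
import Groth.Prelude.Def_ega3
import Groth.Agent.Lib.Helper11.GCM4

/-!
# helper11: `H^p(X, f^* M~ ⊗ F)` is `H^p(Čech(F) ⊗_A M)`, naturally in `M`
-/

set_option autoImplicit false
set_option linter.unusedSectionVars false
universe u
open CategoryTheory CategoryTheory.Limits TensorProduct Opposite TopologicalSpace AlgebraicGeometry

namespace Groth.Agent.Lib.helper11.GCM

open Groth.Agent.Lib.helper21.IsBCPi Groth.Agent.Lib.helper27 Groth.Agent.Lib.helper21.ModCx
  Groth.Agent.Lib.helper21.GCCech Groth.Agent.Lib.helper11.TensorASec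
  Groth.Agent.Lib.helper8.FlatCohBC Groth.Agent.Lib.Helper20 Groth.Agent.Lib.Helper20.CechNatTop

noncomputable section

section Assemble

variable (A : Type u) [CommRing A] {X : Scheme.{u}} [X.Over (Spec (CommRingCat.of A))]
  (F : X.Modules) [F.IsQuasicoherent]
variable {ι : Type u} [Finite ι] (U : ι → X.Opens)

instance isQuasicoherent_tensorAFunctor_obj (M : ModuleCat.{u} A) :
    ((CohIII.tensorAFunctor A F).obj M).IsQuasicoherent := by
  have : (Pm (X ↘ Spec (CommRingCat.of A)) M).IsQuasicoherent :=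
    Groth.Agent.Lib.helper16.QCohPullback.isQuasicoherent_pullback _ (Mt M)
  exact Groth.Agent.Lib.helper2.TensorQCoh.isQuasicoherent_tensorMod
    (Pm (X ↘ Spec (CommRingCat.of A)) M) F

/-- the Čech complex (indexed by `ℤ`) of `f^* M~ ⊗ F`. -/
abbrev KG (M : ModuleCat.{u} A) : CochainComplex AddCommGrpCat.{u} ℤ :=
  (KM ((CohIII.tensorAFunctor A F).obj M) U).extend eN

/-- the map of Čech complexes induced by `M ⟶ N`. -/
def KGmap {M N : ModuleCat.{u} A} (g : M ⟶ N) : KG A F U M ⟶ KG A F U N :=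
  HomologicalComplex.extendMap ((Č (X := X.toTopCat) U).map
    ((SheafOfModules.toSheaf X.ringCatSheaf).map ((CohIII.tensorAFunctor A F).map g))) eN

/-- the tensor comparison data. -/
def DM (M : ModuleCat.{u} A) :
    TensData ((KM F U).extend eN) (KG A F U M)
      (extρ eN (KM F U) (ρM (X ↘ Spec (CommRingCat.of A)) F U)) M :=
  (cechTensData (X ↘ Spec (CommRingCat.of A)) F M U).extend eN

lemma DM_naturality {M N : ModuleCat.{u} A} (g : M ⟶ N) (m : M) :
    (DM A F U M).κ m ≫ KGmap A F U g = (DM A F U N).κ (g.hom m) := by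
  show HomologicalComplex.extendMap ((Č (X := X.toTopCat) U).map
      (βAb (X ↘ Spec (CommRingCat.of A)) F M m)) eN ≫ KGmap A F U g =
    HomologicalComplex.extendMap ((Č (X := X.toTopCat) U).map
      (βAb (X ↘ Spec (CommRingCat.of A)) F N (g.hom m))) eN
  have h1 : βAb (X ↘ Spec (CommRingCat.of A)) F M m ≫
      (SheafOfModules.toSheaf X.ringCatSheaf).map ((CohIII.tensorAFunctor A F).map g) =
      βAb (X ↘ Spec (CommRingCat.of A)) F N (g.hom m) := by
    unfold βAb
    rw [← βHom'_naturality A F g m]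
    exact ((SheafOfModules.toSheaf X.ringCatSheaf).map_comp _ _).symm
  have h2 : (Č (X := X.toTopCat) U).map (βAb (X ↘ Spec (CommRingCat.of A)) F M m) ≫
      (Č (X := X.toTopCat) U).map
        ((SheafOfModules.toSheaf X.ringCatSheaf).map ((CohIII.tensorAFunctor A F).map g)) =
      (Č (X := X.toTopCat) U).map (βAb (X ↘ Spec (CommRingCat.of A)) F N (g.hom m)) := by
    rw [← h1]
    exact ((Č (X := X.toTopCat) U).map_comp _ _).symm
  exact (HomologicalComplex.extendMap_comp _ _ eN).symm.trans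
    (congrArg (fun t => HomologicalComplex.extendMap t eN) h2)

variable (hU : ∀ (n : ℕ) (a : Fin (n + 1) → ι), IsAffineOpen (∏ᶜ (U ∘ a) : X.Opens))
  (hcov : iSup U = ⊤)

/-- the comparison `H^p(Čech(F) ⊗_A M) ⟶ H^p(X, f^* M~ ⊗ F)` on underlying abelian groups. -/
def compHom (M : ModuleCat.{u} A) (p : ℕ) :
    (CohIII.TFun (cechMod (X ↘ Spec (CommRingCat.of A)) F U) (p : ℤ) ⋙
      forget₂ (ModuleCat.{u} A) AddCommGrpCat.{u}).obj M ⟶
    (CohIII.tensorAFunctor A F ⋙ CohIII.HAb X p).obj M :=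
  (DM A F U M).homologyHom (p : ℤ) ≫
    ((KM ((CohIII.tensorAFunctor A F).obj M) U).extendHomologyIso eN
      (show eN.f p = (p : ℤ) from rfl)).hom ≫
    (cechIso (X := X.toTopCat) U hcov p (Coh.toAb ((CohIII.tensorAFunctor A F).obj M))
      (isAcyc U hU _)).hom

lemma isIso_compHom (M : ModuleCat.{u} A) (p : ℕ) : IsIso (compHom A F U hU hcov M p) := by
  have h1 : IsIso ((DM A F U M).homologyHom (p : ℤ)) :=
    (DM A F U M).isIso_homologyHom
      (TensData.bijective_extend_tens eN _
        (bijective_cechTensData_tens (X ↘ Spec (CommRingCat.of A)) F M U hU)) (p : ℤ)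
  unfold compHom
  exact IsIso.comp_isIso' h1 inferInstance

lemma compHom_naturality {M N : ModuleCat.{u} A} (g : M ⟶ N) (p : ℕ) :
    (CohIII.TFun (cechMod (X ↘ Spec (CommRingCat.of A)) F U) (p : ℤ) ⋙
      forget₂ (ModuleCat.{u} A) AddCommGrpCat.{u}).map g ≫ compHom A F U hU hcov N p =
    compHom A F U hU hcov M p ≫ (CohIII.tensorAFunctor A F ⋙ CohIII.HAb X p).map g := by
  have h1 := TensData.homologyHom_naturality (DM A F U M) (DM A F U N) g (KGmap A F U g)
    (DM_naturality A F U g) (p : ℤ)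
  have h2 := HomologicalComplex.extendHomologyIso_hom_naturality
    ((Č (X := X.toTopCat) U).map
      ((SheafOfModules.toSheaf X.ringCatSheaf).map ((CohIII.tensorAFunctor A F).map g))) eN
    (show eN.f p = (p : ℤ) from rfl)
  have h3 := cechIso_natural (X := X.toTopCat) U hcov p _ _ (isAcyc U hU _) (isAcyc U hU _)
    ((SheafOfModules.toSheaf X.ringCatSheaf).map ((CohIII.tensorAFunctor A F).map g))
  unfold compHom
  refine (Category.assoc _ _ _).symm.trans ?_
  refine (congrArg (fun t => t ≫ _) h1).trans ?_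
  refine (Category.assoc _ _ _).trans ?_
  refine Eq.trans ?_ (Category.assoc _ _ _).symm
  refine congrArg (fun t => (DM A F U M).homologyHom (p : ℤ) ≫ t) ?_
  refine (Category.assoc _ _ _).symm.trans ?_
  refine (congrArg (fun t => t ≫ _) h2).trans ?_
  refine (Category.assoc _ _ _).trans ?_
  refine Eq.trans ?_ (Category.assoc _ _ _).symm
  exact congrArg (fun t => _ ≫ t) h3

/-- **`H^p(X, f^* M~ ⊗ F) ≅ H^p(Čech(F) ⊗_A M)`, naturally in `M`.** -/
def cechNatIso (p : ℕ) :
    CohIII.TFun (cechMod (X ↘ Spec (CommRingCat.of A)) F U) (p : ℤ) ⋙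
      forget₂ (ModuleCat.{u} A) AddCommGrpCat.{u} ≅
    CohIII.tensorAFunctor A F ⋙ CohIII.HAb X p :=
  NatIso.ofComponents
    (fun M => @asIso _ _ _ _ (compHom A F U hU hcov M p) (isIso_compHom A F U hU hcov M p))
    (fun g => compHom_naturality A F U hU hcov g p)

end Assemble

end

end Groth.Agent.Lib.helper11.GCM
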