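import Mathlib
import Groth.Prelude.Def_ega3
import Groth.Agent.Lib.Helper11.GCM5
import Groth.Agent.Lib.Helper11.GCAlg4
import Groth.Agent.Lib.Helper21.GCMain

/-!
# helper11: the Grothendieck complex, module version, natural in the module

`A` Noetherian, `X` proper over `Spec A`, `F` coherent and flat over `A`.  There is a bounded above complex `L`
of finite free `A`-modules with `H^p(X', g'^* F) ≃ₗ[B] H^p(L ⊗_A B)` for all base changes and a NATURAL
isomorphism of functors `M ↦ H^p(L ⊗_A M)` and `M ↦ H^p(X, f^* M~ ⊗ F)`.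
-/

set_option autoImplicit false
set_option linter.unusedSectionVars false
universe u
open CategoryTheory CategoryTheory.Limits TensorProduct Opposite TopologicalSpace AlgebraicGeometry

namespace Groth.Agent.Lib.helper11.GCM

open Groth.Agent.Lib.helper21.ModCx Groth.Agent.Lib.helper21.GCCech

noncomputable section

section TFunMap

variable {A : Type u} [CommRing A] {ι : Type} {c : ComplexShape ι}
  {L K : HomologicalComplex (ModuleCat.{u} A) c} (φ : L ⟶ K)

/-- the natural transformation `T_p(L, -) ⟶ T_p(K, -)` induced by `φ : L ⟶ K`. -/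
def TFunMap (p : ι) : CohIII.TFun L p ⟶ CohIII.TFun K p where
  app M := HomologicalComplex.homologyMap
    (((MonoidalCategory.tensorRight M).mapHomologicalComplex c).map φ) p
  naturality M N g := by
    show HomologicalComplex.homologyMap (CohIII.tensorMap L g) p ≫
        HomologicalComplex.homologyMap
          (((MonoidalCategory.tensorRight N).mapHomologicalComplex c).map φ) p =
      HomologicalComplex.homologyMap
          (((MonoidalCategory.tensorRight M).mapHomologicalComplex c).map φ) p ≫
        HomologicalComplex.homologyMap (CohIII.tensorMap K g) p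
    rw [← HomologicalComplex.homologyMap_comp, ← HomologicalComplex.homologyMap_comp]
    congr 1
    exact (NatTrans.mapHomologicalComplex_naturality
      ((MonoidalCategory.tensoringRight (ModuleCat.{u} A)).map g) φ).symm

/-- if `φ ⊗ M` is a quasi-isomorphism for every `M`, then `T_p(L, -) ≅ T_p(K, -)`. -/
def TFunIsoOfQuasiIso
    (h : ∀ M : ModuleCat.{u} A,
      QuasiIso (((MonoidalCategory.tensorRight M).mapHomologicalComplex c).map φ)) (p : ι) :
    CohIII.TFun L p ≅ CohIII.TFun K p :=
  have : ∀ M, IsIso ((TFunMap φ p).app M) := fun M => by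
    have := h M
    show IsIso (HomologicalComplex.homologyMap
      (((MonoidalCategory.tensorRight M).mapHomologicalComplex c).map φ) p)
    exact (quasiIsoAt_iff_isIso_homologyMap _ p).mp (QuasiIso.quasiIsoAt p)
  have : IsIso (TFunMap φ p) := NatIso.isIso_of_isIso_app _
  asIso (TFunMap φ p)

end TFunMap

section main

open Groth.Agent.Lib.helper8.PullbackUnit Groth.Agent.Lib.helper8.FlatCohBC
open Groth.Agent.Lib.helper27 Groth.Agent.Lib.Helper18
open Groth.Agent.Lib.Helper20 Groth.Agent.Lib.Helper20.CechNatTop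

variable (A : Type u) [CommRing A] [IsNoetherianRing A] (X : Scheme.{u})
  [X.Over (Spec (CommRingCat.of A))] [IsProper (X ↘ Spec (CommRingCat.of A))]
  (F : X.Modules) (hF : Coh.IsCoh F)
  (hfl : FlatMod.IsFlatOver (X ↘ Spec (CommRingCat.of A)) F)

include hF hfl in
/-- helper21's `exists_flat_complex` together with the natural module version. -/
theorem exists_flat_complex_module :
    ∃ K : CochainComplex (ModuleCat.{u} A) ℤ,
      (∀ i, Module.Flat A (K.X i)) ∧ (∀ i : ℤ, i < 0 → IsZero (K.X i)) ∧
      (∀ i, Module.Finite A (K.homology i)) ∧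
      (∀ p : ℕ, Nonempty (K.homology (p : ℤ) ≃ₗ[A] Coh.HH X F p)) ∧
      (∃ N : ℕ,
        (∀ (B : Type u) [CommRing B] [Algebra A B] (i : ℤ), (N : ℤ) ≤ i →
          IsZero ((CohIII.bcCx (algebraMap A B) K).homology i))) ∧
      (∀ (B : Type u) [CommRing B] [Algebra A B] (X' : Scheme.{u})
          [X'.Over (Spec (CommRingCat.of B))] (g' : X' ⟶ X)
          (_ : IsPullback g' (X' ↘ Spec (CommRingCat.of B)) (X ↘ Spec (CommRingCat.of A))
            (Spec.map (CommRingCat.ofHom (algebraMap A B)))) (p : ℕ),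
          Nonempty ((CohIII.bcCx (algebraMap A B) K).homology (p : ℤ) ≃ₗ[B]
            Coh.HH X' ((Scheme.Modules.pullback g').obj F) p)) ∧
      ∀ p : ℕ, Nonempty (CohIII.TFun K (p : ℤ) ⋙ forget₂ (ModuleCat.{u} A) AddCommGrpCat.{u} ≅
        CohIII.tensorAFunctor A F ⋙ CohIII.HAb X p) := by
  have : F.IsQuasicoherent := hF.1
  have : CompactSpace X :=
    QuasiCompact.compactSpace_of_compactSpace (X ↘ Spec (CommRingCat.of A))
  have hd := affine_inf_of_isSeparated (X ↘ Spec (CommRingCat.of A))
  obtain ⟨ι, hfin, U, hUa, hcov⟩ := exists_finite_affine_cover X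
  have hU : ∀ (n : ℕ) (a : Fin (n + 1) → ι), IsAffineOpen (∏ᶜ (U ∘ a) : X.Opens) :=
    fun n a => Groth.Agent.Lib.Lead.CechLoc.isAffineOpen_prod U (isAffineOpen_biInf hd U hUa) n a
  refine ⟨cechMod (X ↘ Spec (CommRingCat.of A)) F U,
    flat_cechMod _ F U hfl hU, isZero_cechMod_X _ F U, ?_,
    fun p => ⟨cechModHomology (X ↘ Spec (CommRingCat.of A)) F U hU hcov p⟩,
    ⟨Nat.card ι, ?_⟩, ?_, ?_⟩
  · intro i
    by_cases hi : i < 0
    · have : Subsingleton ((cechMod (X ↘ Spec (CommRingCat.of A)) F U).homology i) :=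
        ModuleCat.subsingleton_of_isZero (isZero_cechMod_homology _ F U i hi)
      infer_instance
    · obtain ⟨p, rfl⟩ : ∃ n : ℕ, (n : ℤ) = i := ⟨i.toNat, by omega⟩
      have := Groth.Agent.S0002.result A X F hF p
      exact Module.Finite.equiv
        (cechModHomology (X ↘ Spec (CommRingCat.of A)) F U hU hcov p).symm
  · intro B _ _ i hi
    obtain ⟨p, rfl⟩ : ∃ n : ℕ, (n : ℤ) = i := ⟨i.toNat, by omega⟩
    have hp : Nat.card ι ≤ p := by exact_mod_cast hi
    let fX := X ↘ Spec (CommRingCat.of A)
    let sB := Spec.map (CommRingCat.ofHom (algebraMap A B))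
    let X' := pullback fX sB
    let g' : X' ⟶ X := pullback.fst fX sB
    let fX' : X' ⟶ Spec (CommRingCat.of B) := pullback.snd fX sB
    have h : IsPullback g' fX' fX sB := IsPullback.of_hasPullback fX sB
    have : IsSeparated fX' := MorphismProperty.of_isPullback (P := @IsSeparated) h inferInstance
    have : IsAffineHom g' := isAffineHom_g' fX fX' g' h
    have := qcoh_pull fX fX' g' h F
    have hd' := affine_inf_of_isSeparated fX'
    have hsub : Subsingleton (Coh.HH X' ((Scheme.Modules.pullback g').obj F) p) :=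
      subsingleton_HH_of_cover _ hd' (fun i => g' ⁻¹ᵁ U i) (fun i => (hUa i).preimage g')
        (by
          rw [← Scheme.Hom.preimage_iSup, hcov]
          rfl) p hp
    let := modHH fX' ((Scheme.Modules.pullback g').obj F) p
    have e := cechModBCHomology fX fX' g' h F U hU hcov p
    have : Subsingleton ((CohIII.bcCx (algebraMap A B)
        (cechMod (X ↘ Spec (CommRingCat.of A)) F U)).homology (p : ℤ)) :=
      e.toEquiv.subsingleton
    exact ModuleCat.isZero_of_subsingleton _
  · intro B _ _ X' _ g' h p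
    exact ⟨cechModBCHomology (X ↘ Spec (CommRingCat.of A)) (X' ↘ Spec (CommRingCat.of B)) g' h F U
      hU hcov p⟩
  · intro p
    exact ⟨cechNatIso A F U hU hcov p⟩

include hF hfl in
/-- **The Grothendieck complex with the natural module version** (EGA III 7.7.5 / Mumford §5): one bounded above
complex `L` of finite free `A`-modules computing the cohomology of all base changes `X ×_A B` (B-linearly) and,
naturally in the `A`-module `M`, the cohomology `H^p(X, f^* M~ ⊗ F)`. -/
theorem exists_grothendieck_complex_module :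
    ∃ L : CochainComplex (ModuleCat.{u} A) ℤ,
      (∀ i, Module.Finite A (L.X i) ∧ Module.Free A (L.X i)) ∧
      (∃ N : ℕ, ∀ i : ℤ, (N : ℤ) ≤ i → IsZero (L.X i)) ∧
      (∀ (M : ModuleCat.{u} A) (i : ℤ), i < 0 → IsZero ((CohIII.TFun L i).obj M)) ∧
      (∀ p : ℕ, Nonempty (L.homology (p : ℤ) ≃ₗ[A] Coh.HH X F p)) ∧
      (∀ (B : Type u) [CommRing B] [Algebra A B] (i : ℤ), i < 0 →
        IsZero ((CohIII.bcCx (algebraMap A B) L).homology i)) ∧
      (∀ (B : Type u) [CommRing B] [Algebra A B] (X' : Scheme.{u})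
        [X'.Over (Spec (CommRingCat.of B))] (g' : X' ⟶ X)
        (_ : IsPullback g' (X' ↘ Spec (CommRingCat.of B)) (X ↘ Spec (CommRingCat.of A))
          (Spec.map (CommRingCat.ofHom (algebraMap A B)))) (p : ℕ),
        Nonempty ((CohIII.bcCx (algebraMap A B) L).homology (p : ℤ) ≃ₗ[B]
          Coh.HH X' ((Scheme.Modules.pullback g').obj F) p)) ∧
      ∀ p : ℕ, Nonempty (CohIII.TFun L (p : ℤ) ⋙ forget₂ (ModuleCat.{u} A) AddCommGrpCat.{u} ≅
        CohIII.tensorAFunctor A F ⋙ CohIII.HAb X p) := by
  obtain ⟨K, hflat, hneg, hfin, hK0, ⟨N, hN⟩, hK, hKM⟩ := exists_flat_complex_module A X F hF hfl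
  obtain ⟨L, φ, hL, hLN, hφ0, hφ, hφM⟩ :=
    Groth.Agent.Lib.helper11.GCAlg.exists_finite_free_quasiIso_bc_tensor A K hflat hfin (N : ℤ) hN
  refine ⟨L, hL, ⟨N, hLN⟩, ?_, ?_, ?_, ?_, ?_⟩
  · intro M i hi
    refine IsZero.of_iso ?_ ((TFunIsoOfQuasiIso φ hφM i).app M)
    have h1 : IsZero ((CohIII.tensorObj K M).X i) :=
      Functor.map_isZero (MonoidalCategory.tensorRight M) (hneg i hi)
    exact ShortComplex.isZero_homology_of_isZero_X₂ _ h1
  · intro p
    obtain ⟨e2⟩ := hK0 p
    have : IsIso (HomologicalComplex.homologyMap φ (p : ℤ)) :=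
      (quasiIsoAt_iff_isIso_homologyMap _ _).mp (QuasiIso.quasiIsoAt _)
    exact ⟨(asIso (HomologicalComplex.homologyMap φ (p : ℤ))).toLinearEquiv.trans e2⟩
  · intro B _ _ i hi
    have := hφ B (algebraMap A B)
    have e : (CohIII.bcCx (algebraMap A B) L).homology i ≅
        (CohIII.bcCx (algebraMap A B) K).homology i :=
      asIso (HomologicalComplex.homologyMap
        (((ModuleCat.extendScalars.{u, u, u} (algebraMap A B)).mapHomologicalComplex
          (ComplexShape.up ℤ)).map φ) i)
    refine IsZero.of_iso ?_ e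
    have h1 : IsZero ((CohIII.bcCx (algebraMap A B) K).X i) :=
      Functor.map_isZero (ModuleCat.extendScalars.{u, u, u} (algebraMap A B)) (hneg i hi)
    exact ShortComplex.isZero_homology_of_isZero_X₂ _ h1
  · intro B _ _ X' _ g' h p
    have := hφ B (algebraMap A B)
    have e : (CohIII.bcCx (algebraMap A B) L).homology (p : ℤ) ≅
        (CohIII.bcCx (algebraMap A B) K).homology (p : ℤ) :=
      asIso (HomologicalComplex.homologyMap
        (((ModuleCat.extendScalars.{u, u, u} (algebraMap A B)).mapHomologicalComplex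
          (ComplexShape.up ℤ)).map φ) (p : ℤ))
    obtain ⟨e2⟩ := hK B X' g' h p
    exact ⟨e.toLinearEquiv.trans e2⟩
  · intro p
    obtain ⟨e⟩ := hKM p
    exact ⟨Functor.isoWhiskerRight (TFunIsoOfQuasiIso φ hφM (p : ℤ)) _ ≪≫ e⟩

end main

end

end Groth.Agent.Lib.helper11.GCM
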