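import Mathlib
import Groth.Prelude.Def_ega3
import Groth.Agent.Lib.Helper11.NegCxRows

/-!
# helper11: transferring exactness properties along `T ⋙ forget₂ ≅ G`

For `T : ModuleCat A ⥤ ModuleCat A`, `G : ModuleCat A ⥤ AddCommGrpCat` and `Φ : T ⋙ forget₂ ≅ G`
(e.g. `T = TFun L p`, `G = tensorAFunctor A F ⋙ HAb X p`).
-/

set_option autoImplicit false
universe u
open CategoryTheory CategoryTheory.Limits

namespace Groth.Agent.Lib.helper11.GCM

noncomputable section

variable {A : Type u} [CommRing A] {T : ModuleCat.{u} A ⥤ ModuleCat.{u} A}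
  {G : ModuleCat.{u} A ⥤ AddCommGrpCat.{u}}
  (Φ : T ⋙ forget₂ (ModuleCat.{u} A) AddCommGrpCat.{u} ≅ G)

lemma preservesEpi_comp_forget₂_iff (T : ModuleCat.{u} A ⥤ ModuleCat.{u} A) :
    (T ⋙ forget₂ (ModuleCat.{u} A) AddCommGrpCat.{u}).PreservesEpimorphisms ↔
      T.PreservesEpimorphisms := by
  constructor
  · intro h
    refine ⟨fun {M N} f hf => ?_⟩
    have h1 : Epi ((T ⋙ forget₂ (ModuleCat.{u} A) AddCommGrpCat.{u}).map f) := h.preserves f
    rw [ModuleCat.epi_iff_surjective]
    exact (AddCommGrpCat.epi_iff_surjective _).mp h1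
  · intro h
    refine ⟨fun {M N} f hf => ?_⟩
    have h1 : Epi (T.map f) := h.preserves f
    rw [AddCommGrpCat.epi_iff_surjective]
    exact (ModuleCat.epi_iff_surjective _).mp h1

lemma preservesMono_comp_forget₂_iff (T : ModuleCat.{u} A ⥤ ModuleCat.{u} A) :
    (T ⋙ forget₂ (ModuleCat.{u} A) AddCommGrpCat.{u}).PreservesMonomorphisms ↔
      T.PreservesMonomorphisms := by
  constructor
  · intro h
    refine ⟨fun {M N} f hf => ?_⟩
    have h1 : Mono ((T ⋙ forget₂ (ModuleCat.{u} A) AddCommGrpCat.{u}).map f) := h.preserves f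
    rw [ModuleCat.mono_iff_injective]
    exact (AddCommGrpCat.mono_iff_injective _).mp h1
  · intro h
    refine ⟨fun {M N} f hf => ?_⟩
    have h1 : Mono (T.map f) := h.preserves f
    rw [AddCommGrpCat.mono_iff_injective]
    exact (ModuleCat.mono_iff_injective _).mp h1

include Φ in
lemma preservesEpi_iff : G.PreservesEpimorphisms ↔ T.PreservesEpimorphisms :=
  (Functor.PreservesEpimorphisms.iso_iff Φ).symm.trans (preservesEpi_comp_forget₂_iff T)

include Φ in
lemma preservesMono_iff : G.PreservesMonomorphisms ↔ T.PreservesMonomorphisms :=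
  (Functor.PreservesMonomorphisms.iso_iff Φ).symm.trans (preservesMono_comp_forget₂_iff T)

include Φ in
lemma surjective_map_iff {M N : ModuleCat.{u} A} (g : M ⟶ N) :
    Function.Surjective (G.map g).hom ↔ Function.Surjective (T.map g).hom := by
  rw [← AddCommGrpCat.epi_iff_surjective, ← ModuleCat.epi_iff_surjective]
  have h : (T ⋙ forget₂ (ModuleCat.{u} A) AddCommGrpCat.{u}).map g ≫ Φ.hom.app N =
      Φ.hom.app M ≫ G.map g := Φ.hom.naturality g
  have h0 : Epi (T.map g) ↔ Epi ((T ⋙ forget₂ (ModuleCat.{u} A) AddCommGrpCat.{u}).map g) := by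
    rw [ModuleCat.epi_iff_surjective, AddCommGrpCat.epi_iff_surjective]
    rfl
  rw [h0]
  constructor
  · intro hG
    have h2 : (T ⋙ forget₂ (ModuleCat.{u} A) AddCommGrpCat.{u}).map g =
        (Φ.hom.app M ≫ G.map g) ≫ Φ.inv.app N := by
      rw [← h]; simp
    rw [h2]; infer_instance
  · intro hF
    have h1 : Epi (Φ.hom.app M ≫ G.map g) := by rw [← h]; infer_instance
    have h2 : G.map g = Φ.inv.app M ≫ (Φ.hom.app M ≫ G.map g) := by simp
    rw [h2]; infer_instance

include Φ in
lemma injective_map_iff {M N : ModuleCat.{u} A} (g : M ⟶ N) :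
    Function.Injective (G.map g).hom ↔ Function.Injective (T.map g).hom := by
  rw [← AddCommGrpCat.mono_iff_injective, ← ModuleCat.mono_iff_injective]
  have h : (T ⋙ forget₂ (ModuleCat.{u} A) AddCommGrpCat.{u}).map g ≫ Φ.hom.app N =
      Φ.hom.app M ≫ G.map g := Φ.hom.naturality g
  have h0 : Mono (T.map g) ↔ Mono ((T ⋙ forget₂ (ModuleCat.{u} A) AddCommGrpCat.{u}).map g) := by
    rw [ModuleCat.mono_iff_injective, AddCommGrpCat.mono_iff_injective]
    rfl
  rw [h0]
  constructor
  · intro hG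
    have h2 : (T ⋙ forget₂ (ModuleCat.{u} A) AddCommGrpCat.{u}).map g =
        (Φ.hom.app M ≫ G.map g) ≫ Φ.inv.app N := by
      rw [← h]; simp
    rw [h2]; infer_instance
  · intro hF
    have h1 : Mono (Φ.hom.app M ≫ G.map g) := by rw [← h]; infer_instance
    have h2 : G.map g = Φ.inv.app M ≫ (Φ.hom.app M ≫ G.map g) := by simp
    rw [h2]; infer_instance

include Φ in
lemma isZero_obj_iff (M : ModuleCat.{u} A) : IsZero (G.obj M) ↔ IsZero (T.obj M) := by
  have h1 : IsZero (G.obj M) ↔ IsZero ((T ⋙ forget₂ (ModuleCat.{u} A) AddCommGrpCat.{u}).obj M) :=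
    (Φ.app M).isZero_iff.symm
  rw [h1]
  constructor
  · intro h
    have : Subsingleton (T.obj M) := AddCommGrpCat.subsingleton_of_isZero h
    exact ModuleCat.isZero_of_subsingleton _
  · intro h
    have : Subsingleton (T.obj M) := ModuleCat.subsingleton_of_isZero h
    have : Subsingleton ((T ⋙ forget₂ (ModuleCat.{u} A) AddCommGrpCat.{u}).obj M) := this
    exact AddCommGrpCat.isZero_of_subsingleton _

end

end Groth.Agent.Lib.helper11.GCM
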