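import Mathlib
import Groth.Agent.Lib.Helper8.LocalFlat

set_option autoImplicit false
universe u

open CategoryTheory CategoryTheory.Limits AlgebraicGeometry TensorProduct

namespace Groth.Agent.Lib.helper11.FlatStalk

/-- `Spec 𝒪_{X,x} ⟶ X` is flat. -/
theorem flat_fromSpecStalk {X : Scheme.{u}} (x : X) : Flat (X.fromSpecStalk x) := by
  obtain ⟨_, ⟨U, hU, rfl⟩, hxU, -⟩ :=
    X.isBasis_affineOpens.exists_subset_of_mem_open (Set.mem_univ x) isOpen_univ
  rw [← hU.fromSpecStalk_eq_fromSpecStalk hxU, IsAffineOpen.fromSpecStalk]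
  have : Flat (Spec.map (X.presheaf.germ U x hxU)) := by
    rw [Flat.SpecMap_iff]
    letI : Algebra Γ(X, U) (X.presheaf.stalk x) := (X.presheaf.germ U x hxU).hom.toAlgebra
    haveI := hU.isLocalization_stalk ⟨x, hxU⟩
    exact RingHom.flat_algebraMap_iff.mpr
      (IsLocalization.flat _ (hU.primeIdealOf ⟨x, hxU⟩).asIdeal.primeCompl)
  infer_instance

/-- If `Spec 𝒪_{X,x} ⟶ X ⟶ Y` is flat then `f` is flat at every generization of `x`. -/
theorem flat_stalkMap_of_flat_fromSpecStalk_comp {X Y : Scheme.{u}} (f : X ⟶ Y) (x : X)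
    (h : Flat (X.fromSpecStalk x ≫ f)) (y : X) (hy : y ⤳ x) : (f.stalkMap y).hom.Flat := by
  have hr : y ∈ Set.range (X.fromSpecStalk x) := by
    rw [Scheme.range_fromSpecStalk]; exact hy
  obtain ⟨y', rfl⟩ := hr
  haveI := flat_fromSpecStalk x
  have h1 : ((X.fromSpecStalk x ≫ f).stalkMap y').hom.Flat := Flat.stalkMap _ y'
  have h2 : ((X.fromSpecStalk x).stalkMap y').hom.Flat := Flat.stalkMap _ y'
  rw [Scheme.Hom.stalkMap_comp] at h1
  letI a1 : Algebra (Y.presheaf.stalk (f (X.fromSpecStalk x y'))) (X.presheaf.stalk (X.fromSpecStalk x y')) :=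
    (f.stalkMap (X.fromSpecStalk x y')).hom.toAlgebra
  letI a2 : Algebra (X.presheaf.stalk (X.fromSpecStalk x y'))
      ((Spec (X.presheaf.stalk x)).presheaf.stalk y') :=
    ((X.fromSpecStalk x).stalkMap y').hom.toAlgebra
  letI a3 : Algebra (Y.presheaf.stalk (f (X.fromSpecStalk x y')))
      ((Spec (X.presheaf.stalk x)).presheaf.stalk y') :=
    ((f.stalkMap (X.fromSpecStalk x y') ≫ (X.fromSpecStalk x).stalkMap y').hom).toAlgebra
  haveI : IsScalarTower (Y.presheaf.stalk (f (X.fromSpecStalk x y')))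
      (X.presheaf.stalk (X.fromSpecStalk x y')) ((Spec (X.presheaf.stalk x)).presheaf.stalk y') :=
    IsScalarTower.of_algebraMap_eq (fun r => rfl)
  haveI : Module.Flat (Y.presheaf.stalk (f (X.fromSpecStalk x y')))
      ((Spec (X.presheaf.stalk x)).presheaf.stalk y') := h1
  haveI : Module.Flat (X.presheaf.stalk (X.fromSpecStalk x y'))
      ((Spec (X.presheaf.stalk x)).presheaf.stalk y') := h2
  haveI : IsLocalHom (algebraMap (X.presheaf.stalk (X.fromSpecStalk x y'))
      ((Spec (X.presheaf.stalk x)).presheaf.stalk y')) := (X.fromSpecStalk x).toLRSHom.prop y'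
  haveI : Module.FaithfullyFlat (X.presheaf.stalk (X.fromSpecStalk x y'))
      ((Spec (X.presheaf.stalk x)).presheaf.stalk y') := Module.FaithfullyFlat.of_flat_of_isLocalHom
  exact Groth.Agent.Lib.helper8.LocalFlat.flat_of_faithfullyFlat_of_flat
    (R := Y.presheaf.stalk (f (X.fromSpecStalk x y')))
    (S := X.presheaf.stalk (X.fromSpecStalk x y'))
    ((Spec (X.presheaf.stalk x)).presheaf.stalk y')

/-- Local criterion at a point over the closed point. -/
theorem flat_fromSpecStalk_comp_of_flat_mod_powers (A : Type u) [CommRing A] [IsLocalRing A]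
    [IsNoetherianRing A]
    {X : Scheme.{u}} (f : X ⟶ Spec (CommRingCat.of A)) [LocallyOfFiniteType f]
    (hflat : ∀ n : ℕ, Flat (pullback.snd f
      (Spec.map (CommRingCat.ofHom (Ideal.Quotient.mk ((IsLocalRing.maximalIdeal A) ^ (n + 1)))))))
    (x : X) (hx : f x = IsLocalRing.closedPoint A) : Flat (X.fromSpecStalk x ≫ f) := by
  haveI : IsLocallyNoetherian X := LocallyOfFiniteType.isLocallyNoetherian f
  let φ : CommRingCat.of A ⟶ X.presheaf.stalk x := Spec.preimage (X.fromSpecStalk x ≫ f)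
  have hφ : Spec.map φ = X.fromSpecStalk x ≫ f := Spec.map_preimage _
  rw [← hφ, Flat.SpecMap_iff]
  letI : Algebra A (X.presheaf.stalk x) := φ.hom.toAlgebra
  show Module.Flat A (X.presheaf.stalk x)
  apply Groth.Agent.Lib.helper8.LocalFlat.flat_of_forall_flat_quotient_pow
    (S := X.presheaf.stalk x) (IsLocalRing.maximalIdeal A)
  · rw [IsLocalRing.jacobson_eq_maximalIdeal ⊥ bot_ne_top, Ideal.map_le_iff_le_comap]
    have e1 : (Spec.map φ) (IsLocalRing.closedPoint (X.presheaf.stalk x)) =
        IsLocalRing.closedPoint A := by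
      rw [hφ, Scheme.Hom.comp_apply, Scheme.fromSpecStalk_closedPoint, hx]
    have e2 := congrArg PrimeSpectrum.asIdeal e1
    exact le_of_eq e2.symm
  · intro k hk
    obtain ⟨n, rfl⟩ : ∃ n, k = n + 1 := ⟨k - 1, by omega⟩
    haveI := hflat n
    haveI := flat_fromSpecStalk x
    have h1 : Flat (pullback.snd (X.fromSpecStalk x ≫ f)
        (Spec.map (CommRingCat.ofHom (Ideal.Quotient.mk ((IsLocalRing.maximalIdeal A) ^ (n + 1)))))) := by
      rw [← pullbackRightPullbackFstIso_inv_snd_snd]
      infer_instance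
    rw [← hφ] at h1
    have h2 : Flat (pullback.fst
        (Spec.map (CommRingCat.ofHom (Ideal.Quotient.mk ((IsLocalRing.maximalIdeal A) ^ (n + 1)))))
        (Spec.map φ)) := by
      rw [← pullbackSymmetry_hom_comp_snd]
      infer_instance
    have h3 := pullbackSpecIso_inv_fst' A (A ⧸ (IsLocalRing.maximalIdeal A) ^ (n + 1))
      (X.presheaf.stalk x)
    have h4 : Flat (Spec.map (CommRingCat.ofHom (algebraMap (A ⧸ (IsLocalRing.maximalIdeal A) ^ (n + 1))
        ((A ⧸ (IsLocalRing.maximalIdeal A) ^ (n + 1)) ⊗[A] (X.presheaf.stalk x))))) := by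
      rw [← h3]
      haveI : Flat (pullback.fst
        (Spec.map (CommRingCat.ofHom (algebraMap A (A ⧸ (IsLocalRing.maximalIdeal A) ^ (n + 1)))))
        (Spec.map (CommRingCat.ofHom (algebraMap A (X.presheaf.stalk x))))) := h2
      infer_instance
    rw [Flat.SpecMap_iff] at h4
    exact RingHom.flat_algebraMap_iff.mp h4

/-- A closed, locally finite type morphism to the spectrum of a Noetherian local ring whose
base changes to all `A / m^(n+1)` are flat is flat. -/
theorem flat_of_flat_mod_powers (A : Type u) [CommRing A] [IsLocalRing A] [IsNoetherianRing A]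
    {X : Scheme.{u}} (f : X ⟶ Spec (CommRingCat.of A)) [LocallyOfFiniteType f]
    (hcl : IsClosedMap f)
    (hflat : ∀ n : ℕ, Flat (pullback.snd f
      (Spec.map (CommRingCat.ofHom (Ideal.Quotient.mk ((IsLocalRing.maximalIdeal A) ^ (n + 1)))))))
    : Flat f := by
  apply Flat.of_stalkMap
  intro y
  have hcl' : IsClosed (f '' closure {y}) := hcl _ isClosed_closure
  have hp : f y ∈ f '' closure {y} := ⟨y, subset_closure rfl, rfl⟩
  have hcp : IsLocalRing.closedPoint A ∈ f '' closure {y} :=
    (IsLocalRing.specializes_closedPoint (f y)).mem_closed hcl' hp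
  obtain ⟨x, hxy, hx⟩ := hcp
  have hyx : y ⤳ x := specializes_iff_mem_closure.mpr hxy
  exact flat_stalkMap_of_flat_fromSpecStalk_comp f x
    (flat_fromSpecStalk_comp_of_flat_mod_powers A f hflat x hx) y hyx

end Groth.Agent.Lib.helper11.FlatStalk
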