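import Mathlib
import Groth.Agent.Lib.Helper11.SerreGG
import Groth.Agent.Lib.Helper12.TwistKill
import Groth.Agent.Lib.Helper12.TwistExtend
import Groth.Agent.Lib.Helper12.TensorAssoc

/-!
# Flatness of `Γ(X_s, G)` from flatness of the twisted global sections (helper11)

* `flat_of_lifts`: a module `N` all of whose finite relations lift to flat modules mapping to `N` is flat
  (equational criterion).
* `secRing φ W`, `modSec φ G W`: the `A`-module structure on `G(W)` induced by `φ : A →+* Γ(Z, ⊤)`.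
* `flat_sections_genLocus`: `Z` qcqs, `G` quasi-coherent, `L` invertible, `s : O ⟶ L`.  If the
  `A`-modules `Γ(Z, G ⊗ L^{⊗ n})` are flat for all `n ≥ n₀`, then `Γ(Z_s, G)` is a flat `A`-module
  (it is the filtered colimit of the former; EGA I 9.3.1 + equational criterion).
-/

set_option autoImplicit false
set_option linter.style.haveILetI false
universe u

open CategoryTheory CategoryTheory.Limits AlgebraicGeometry Opposite TopologicalSpace

namespace Groth.Agent.Lib.helper11.FlatTwist

open Groth.Agent.Lib.helper12.TwistExtend Groth.Agent.Lib.helper11.IsoLocus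
open Groth.Agent.Lib.helper11.SerreGG

section Alg

variable {A : Type u} [CommRing A] {N : Type u} [AddCommGroup N] [Module A N]

/-- A module all of whose finite relations lift to flat modules mapping to it is flat. -/
theorem flat_of_lifts
    (h : ∀ (r : ℕ) (a : Fin r → A) (x : Fin r → N), ∑ k, a k • x k = 0 →
      ∃ (M : Type u) (_ : AddCommGroup M) (_ : Module A M) (_ : Module.Flat A M)
        (φ : M →ₗ[A] N) (m : Fin r → M), (∀ k, φ (m k) = x k) ∧ ∑ k, a k • m k = 0) :
    Module.Flat A N := by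
  rw [Module.Flat.iff_forall_isTrivialRelation]
  intro l f x hfx
  obtain ⟨M, _, _, hM, φ, m, hm, hrel⟩ := h l f x hfx
  obtain ⟨k, a, y, h1, h2⟩ := (Module.Flat.iff_forall_isTrivialRelation.mp hM) hrel
  refine ⟨k, a, fun j => φ (y j), fun i => ?_, h2⟩
  rw [← hm i, h1 i, map_sum]
  simp only [map_smul]

end Alg

section Geo

variable {Z : Scheme.{u}} {A : Type u} [CommRing A] (φ : A →+* Z.ringCatSheaf.obj.obj (op ⊤))

/-- `A → Γ(Z, ⊤) → Γ(Z, W)` -/
noncomputable def secRing (W : Z.Opens) : A →+* Z.ringCatSheaf.obj.obj (op W) :=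
  (Z.ringCatSheaf.obj.map (homOfLE (le_top : W ≤ ⊤)).op).hom.comp φ

/-- the `A`-module structure on `G(W)` induced by `φ` -/
@[reducible] noncomputable def modSec (G : Z.Modules) (W : Z.Opens) : Module A (G.val.obj (op W)) :=
  Module.compHom _ (secRing φ W)

theorem secRing_res {W W' : Z.Opens} (h : W ≤ W') (a : A) :
    (Z.ringCatSheaf.obj.map (homOfLE h).op).hom (secRing φ W' a) = secRing φ W a := by
  unfold secRing
  simp only [RingHom.comp_apply]
  have := congrArg (fun g => (RingCat.Hom.hom g) (φ a))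
    (Z.ringCatSheaf.obj.map_comp (homOfLE (le_top : W' ≤ ⊤)).op (homOfLE h).op)
  exact this.symm

/-- restriction as an `A`-linear map -/
noncomputable def resLin (G : Z.Modules) {W W' : Z.Opens} (h : W ≤ W') :
    @LinearMap A A _ _ (RingHom.id A) (G.val.obj (op W')) (G.val.obj (op W)) _ _
      (modSec φ G W') (modSec φ G W) :=
  letI := modSec φ G W'
  letI := modSec φ G W
  { toFun := res G h
    map_add' := fun x y => res_add G h x y
    map_smul' := fun a x => by
      change res G h (secRing φ W' a • x) = secRing φ W a • res G h x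
      rw [res_smul, secRing_res] }

/-- a morphism of modules on sections, as an `A`-linear map -/
noncomputable def appLin {G H : Z.Modules} (ψ : G ⟶ H) (W : Z.Opens) :
    @LinearMap A A _ _ (RingHom.id A) (G.val.obj (op W)) (H.val.obj (op W)) _ _
      (modSec φ G W) (modSec φ H W) :=
  letI := modSec φ G W
  letI := modSec φ H W
  { toFun := (ψ.val.app (op W)).hom
    map_add' := fun x y => map_add _ x y
    map_smul' := fun a x => by
      change (ψ.val.app (op W)).hom (secRing φ W a • x) = secRing φ W a • (ψ.val.app (op W)).hom x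
      exact map_smul _ _ _ }

theorem bijective_app_of_le_isoLocus {G H : Z.Modules} (ψ : G ⟶ H) {W : Z.Opens}
    (hW : W ≤ isoLocus ψ) : Function.Bijective (ψ.val.app (op W)).hom := by
  have h1 : IsIso (ψ.app W) := isIso_app_of_le_isoLocus ψ hW
  exact (ConcreteCategory.isIso_iff_bijective (ψ.app W)).mp h1

open Groth.Agent.Lib.helper12.TensorAssoc Groth.Agent.Lib.helper12.TwistKill in
/-- **Flatness of `Γ(Z_s, G)`** from flatness of the twisted global sections `Γ(Z, G ⊗ L^{⊗ n})`, `n ≫ 0`. -/
theorem flat_sections_genLocus [CompactSpace Z] [QuasiSeparatedSpace Z] (G : Z.Modules)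
    [G.IsQuasicoherent] {L : Z.Modules} (hL : PicF.IsInvertible L)
    (s : Coh.structureModule Z ⟶ L) (n₀ : ℕ)
    (hflat : ∀ n : ℕ, n₀ ≤ n →
      @Module.Flat A ((CohB1.tensorMod G (CohB1.tensorPow L n)).val.obj (op ⊤)) _ _
        (modSec φ _ ⊤)) :
    @Module.Flat A (G.val.obj (op (CohB1.genLocus L s))) _ _
      (modSec φ G (CohB1.genLocus L s)) := by
  classical
  letI := modSec φ G (CohB1.genLocus L s)
  apply flat_of_lifts
  intro r a x hax
  -- extension of the `x k`
  have hext := fun k => exists_extend_twist_ge G hL s (x k)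
  choose e he using hext
  let m₁ : ℕ := max n₀ (Finset.univ.sup e)
  have hTex : ∀ k, ∃ T : (CohB1.tensorMod G (CohB1.tensorPow L m₁)).val.obj (op ⊤),
      res _ (le_top : CohB1.genLocus L s ≤ ⊤) T =
        SecTwist.twist s m₁ G (CohB1.genLocus L s) (x k) := fun k =>
    he k m₁ (le_trans (Finset.le_sup (f := e) (Finset.mem_univ k)) (le_max_right _ _))
  choose T hT using hTex
  let G₁ : Z.Modules := CohB1.tensorMod G (CohB1.tensorPow L m₁)
  have hG₁ : G₁.IsQuasicoherent := isQuasicoherent_twist G hL m₁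
  letI i₁ := modSec φ G₁ ⊤
  letI i₁U := modSec φ G₁ (CohB1.genLocus L s)
  let t : G₁.val.obj (op ⊤) := ∑ k, a k • T k
  have ht : G₁.val.map (homOfLE (le_top : CohB1.genLocus L s ≤ ⊤)).op t = 0 := by
    have h1 : G₁.val.map (homOfLE (le_top : CohB1.genLocus L s ≤ ⊤)).op t =
        resLin φ G₁ (le_top : CohB1.genLocus L s ≤ ⊤) t := rfl
    rw [h1, map_sum]
    have h2 : ∀ k, resLin φ G₁ (le_top : CohB1.genLocus L s ≤ ⊤) (a k • T k) =
        appLin φ (twistHom s m₁ G) (CohB1.genLocus L s) (a k • x k) := by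
      intro k
      rw [map_smul, map_smul]
      congr 1
      change res G₁ _ (T k) = ((twistHom s m₁ G).val.app (op (CohB1.genLocus L s))).hom (x k)
      rw [hT k, twistHom_apply]
    rw [Finset.sum_congr rfl (fun k _ => h2 k), ← map_sum, hax]
    exact map_zero _
  obtain ⟨m₂, -, hm₂⟩ := kill_top G₁ hL s t ht
  let G₂ : Z.Modules := CohB1.tensorMod G (CohB1.tensorPow L (m₁ + m₂))
  let Θ : G₁ ⟶ G₂ := twistHom s m₂ G₁ ≫ (twistAddIso G L m₁ m₂).hom
  have hΘ : ∀ (W : Z.Opens) (y : G₁.val.obj (op W)), (Θ.val.app (op W)).hom y =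
      ((twistAddIso G L m₁ m₂).hom.val.app (op W)).hom (SecTwist.twist s m₂ G₁ W y) := by
    intro W y
    change ((twistAddIso G L m₁ m₂).hom.val.app (op W)).hom
      (((twistHom s m₂ G₁).val.app (op W)).hom y) = _
    rw [twistHom_apply]
  letI i₂ := modSec φ G₂ ⊤
  letI i₂U := modSec φ G₂ (CohB1.genLocus L s)
  have hfl₂ : Module.Flat A (G₂.val.obj (op ⊤)) := hflat (m₁ + m₂)
    ((le_max_left _ _).trans (Nat.le_add_right _ _))
  let θ := appLin φ (twistHom s (m₁ + m₂) G) (CohB1.genLocus L s)
  have hθ : Function.Bijective θ :=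
    bijective_app_of_le_isoLocus (twistHom s (m₁ + m₂) G)
      (genLocus_le_isoLocus_twistHom hL s (m₁ + m₂) G)
  let ρ := resLin φ G₂ (le_top : CohB1.genLocus L s ≤ ⊤)
  let T' : Fin r → G₂.val.obj (op ⊤) := fun k => appLin φ Θ ⊤ (T k)
  have hρT' : ∀ k, ρ (T' k) = θ (x k) := by
    intro k
    change res G₂ _ ((Θ.val.app (op ⊤)).hom (T k)) =
      ((twistHom s (m₁ + m₂) G).val.app (op (CohB1.genLocus L s))).hom (x k)
    rw [res_app, hΘ, hT k, twistAddIso_hom_twist, twistHom_apply]
  refine ⟨G₂.val.obj (op ⊤), inferInstance, i₂, hfl₂,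
    (LinearEquiv.ofBijective θ hθ).symm.toLinearMap ∘ₗ ρ, T', fun k => ?_, ?_⟩
  · rw [LinearMap.comp_apply, hρT' k]
    exact (LinearEquiv.ofBijective θ hθ).symm_apply_apply (x k)
  · have h3 : ∑ k, a k • T' k = appLin φ Θ ⊤ t := by
      rw [map_sum]
      exact Finset.sum_congr rfl (fun k _ => (map_smul (appLin φ Θ ⊤) (a k) (T k)).symm)
    rw [h3]
    change (Θ.val.app (op ⊤)).hom t = 0
    rw [hΘ, hm₂, map_zero]

end Geo

end Groth.Agent.Lib.helper11.FlatTwist
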