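import Mathlib
import Groth.Agent.Lib.Helper11.FlatTwist
import Groth.Agent.Lib.Helper12.SecExtend
import Groth.Agent.Lib.Helper12.AmplePow
import Groth.Agent.Lib.Helper17.FlatOver1

/-!
# Flatness over the base from flatness of the twisted direct images (helper11)

`isFlatOver_of_flat_twists`: `f : X ⟶ Y` qcqs, `F` quasi-coherent, `L` invertible with sections `s j` whose loci
`X_{s j}` cover `X` and are affine over affine opens of `Y`.  If `Γ(f⁻¹V, F ⊗ L^{⊗ n})` is flat over `Γ(Y, V)` for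
all affine `V` and all `n ≥ n₀`, then `F` is flat over `Y`.
-/

set_option autoImplicit false
set_option linter.style.haveILetI false
universe u

open CategoryTheory CategoryTheory.Limits AlgebraicGeometry Opposite TopologicalSpace

namespace Groth.Agent.Lib.helper11.FlatTwist

open Groth.Agent.Lib.helper12.TwistExtend Groth.Agent.Lib.helper11.IsoLocus
open Groth.Agent.Lib.helper11.SerreGG Groth.Agent.Lib.helper17.FlatOver1
open Groth.Agent.Lib.helper12.SecExtend Groth.Agent.Lib.helper12.AmplePow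
open Groth.Agent.Lib.helper12.TensorRestrict

variable {X Y : Scheme.{u}} (f : X ⟶ Y)

section Transfer

variable {V : Y.Opens} (W : X.Opens) (hW : W ≤ f ⁻¹ᵁ V)

/-- `Γ(Y, V) → Γ(W, ⊤)` -/
noncomputable def phi : Γ(Y, V) →+* (↑W : Scheme.{u}).ringCatSheaf.obj.obj (op ⊤) :=
  (f.appLE V (W.ι ''ᵁ ⊤) ((Scheme.Hom.image_le_opensRange _ _).trans
    (by rw [Scheme.Opens.opensRange_ι]; exact hW))).hom

theorem secRing_phi (W' : (↑W : Scheme.{u}).Opens) (hle : W.ι ''ᵁ W' ≤ f ⁻¹ᵁ V) (a : Γ(Y, V)) :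
    secRing (phi f W hW) W' a = (f.appLE V (W.ι ''ᵁ W') hle).hom a := by
  unfold secRing phi
  simp only [RingHom.comp_apply]
  have h1 := Scheme.Hom.appLE_map f (V := W.ι ''ᵁ ⊤) (U := V)
    ((Scheme.Hom.image_le_opensRange _ _).trans (by rw [Scheme.Opens.opensRange_ι]; exact hW))
    (homOfLE (Scheme.Hom.image_mono W.ι (le_top : W' ≤ ⊤))).op
  have h2 := congrArg (fun g => (CommRingCat.Hom.hom g) a) h1
  exact h2

theorem restrict_smul (H : X.Modules) (W' : (↑W : Scheme.{u}).Opens)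
    (r : (↑W : Scheme.{u}).ringCatSheaf.obj.obj (op W')) (x : Γ(H, W.ι ''ᵁ W')) :
    (r • (show (H.restrict W.ι).val.obj (op W') from x) : (H.restrict W.ι).val.obj (op W')) =
      ((show Γ(X, W.ι ''ᵁ W') from r) • x : Γ(H, W.ι ''ᵁ W')) := by
  have h1 : (r • (show (H.restrict W.ι).val.obj (op W') from x) : (H.restrict W.ι).val.obj (op W')) =
      (((W.ι.appIso W').inv.hom r) • x : Γ(H, W.ι ''ᵁ W')) := rfl
  rw [h1, Scheme.Opens.ι_appIso]
  rfl

/-- the two `Γ(Y, V)`-module structures on `Γ(H, W.ι ''ᵁ W')` agree -/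
theorem modSec_smul (H : X.Modules) (W' : (↑W : Scheme.{u}).Opens) (hle : W.ι ''ᵁ W' ≤ f ⁻¹ᵁ V)
    (a : Γ(Y, V)) (x : Γ(H, W.ι ''ᵁ W')) :
    (letI := modSec (phi f W hW) (H.restrict W.ι) W'; (a • (show (H.restrict W.ι).val.obj (op W') from x) :
      (H.restrict W.ι).val.obj (op W'))) =
    (letI := modSecBase f H hle; (a • x : Γ(H, W.ι ''ᵁ W'))) := by
  change (secRing (phi f W hW) W' a) • (show (H.restrict W.ι).val.obj (op W') from x) =
    ((f.appLE V (W.ι ''ᵁ W') hle).hom a) • x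
  rw [restrict_smul, secRing_phi f W hW W' hle a]

theorem flat_modSec_iff (H : X.Modules) (W' : (↑W : Scheme.{u}).Opens) (hle : W.ι ''ᵁ W' ≤ f ⁻¹ᵁ V) :
    @Module.Flat Γ(Y, V) ((H.restrict W.ι).val.obj (op W')) _ _
      (modSec (phi f W hW) (H.restrict W.ι) W') ↔
    @Module.Flat Γ(Y, V) Γ(H, W.ι ''ᵁ W') _ _ (modSecBase f H hle) := by
  let e : @LinearEquiv Γ(Y, V) Γ(Y, V) _ _ (RingHom.id _) (RingHom.id _) _ _
      ((H.restrict W.ι).val.obj (op W')) Γ(H, W.ι ''ᵁ W') _ _
      (modSec (phi f W hW) (H.restrict W.ι) W') (modSecBase f H hle) :=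
    letI := modSec (phi f W hW) (H.restrict W.ι) W'
    letI := modSecBase f H hle
    { toFun := fun x => x
      invFun := fun x => x
      map_add' := fun _ _ => rfl
      map_smul' := fun a x => modSec_smul f W hW H W' hle a x
      left_inv := fun _ => rfl
      right_inv := fun _ => rfl }
  constructor
  · intro h
    exact @Module.Flat.of_linearEquiv Γ(Y, V) _ _ _ _ (modSec (phi f W hW) (H.restrict W.ι) W') _
      (modSecBase f H hle) h e.symm
  · intro h
    exact @Module.Flat.of_linearEquiv Γ(Y, V) _ _ _ _ (modSecBase f H hle) _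
      (modSec (phi f W hW) (H.restrict W.ι) W') h e

end Transfer

section IsoTransfer

variable {Z : Scheme.{u}} {A : Type u} [CommRing A] (φ : A →+* Z.ringCatSheaf.obj.obj (op ⊤))

theorem flat_modSec_of_iso {H H' : Z.Modules} (E : H ≅ H') (W : Z.Opens)
    (h : @Module.Flat A (H.val.obj (op W)) _ _ (modSec φ H W)) :
    @Module.Flat A (H'.val.obj (op W)) _ _ (modSec φ H' W) := by
  letI := modSec φ H W
  letI := modSec φ H' W
  have hb : Function.Bijective (appLin φ E.hom W) := by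
    have h1 : IsIso (E.hom.app W) := inferInstance
    exact (ConcreteCategory.isIso_iff_bijective (E.hom.app W)).mp h1
  exact Module.Flat.of_linearEquiv (LinearEquiv.ofBijective (appLin φ E.hom W) hb).symm

end IsoTransfer

section Main

variable [QuasiCompact f] [QuasiSeparated f] (F : X.Modules) [F.IsQuasicoherent] {L : X.Modules}
  (hL : PicF.IsInvertible L) {J : Type*} (s : J → (Coh.structureModule X ⟶ L))

include hL in
/-- **Flatness from flat twisted direct images.** -/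
theorem isFlatOver_of_flat_twists (hcov : ∀ x : X, ∃ j, x ∈ CohB1.genLocus L (s j))
    (haff : ∀ V : Y.Opens, IsAffineOpen V → ∀ j, IsAffineOpen (f ⁻¹ᵁ V ⊓ CohB1.genLocus L (s j)))
    (n₀ : ℕ)
    (hflat : ∀ n : ℕ, n₀ ≤ n → ∀ V : Y.Opens, IsAffineOpen V → ∀ (U : X.Opens) (hU : U = f ⁻¹ᵁ V),
      @Module.Flat Γ(Y, V) Γ(CohB1.tensorMod F (CohB1.tensorPow L n), U) _ _
        (modSecBase f _ hU.le)) :
    FlatMod.IsFlatOver f F := by
  intro x
  obtain ⟨V, hV', hxV, -⟩ := Opens.isBasis_iff_nbhd.mp Y.isBasis_affineOpens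
    (show f.base x ∈ (⊤ : Y.Opens) from trivial)
  have hV : IsAffineOpen V := hV'
  obtain ⟨j, hxj⟩ := hcov x
  let W : X.Opens := f ⁻¹ᵁ V
  have hc : IsCompact (W : Set X) := QuasiCompact.isCompact_preimage (f := f) _ V.isOpen hV.isCompact
  haveI : CompactSpace (↑W : Scheme.{u}) := isCompact_iff_compactSpace.mp hc
  haveI : QuasiSeparatedSpace (↑W : Scheme.{u}) := by
    haveI : IsAffine (↑V : Scheme.{u}) := hV
    exact quasiSeparatedSpace_of_quasiSeparated (f ∣_ V)
  let G : (↑W : Scheme.{u}).Modules := F.restrict W.ι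
  let LZ : (↑W : Scheme.{u}).Modules := L.restrict W.ι
  have hLZ : PicF.IsInvertible LZ := Groth.Agent.Lib.helper11.InvMod.isInvertible_restrict W.ι hL
  let sZ : Coh.structureModule (↑W : Scheme.{u}) ⟶ LZ := resHom W.ι (s j)
  have hgl : CohB1.genLocus LZ sZ = W.ι ⁻¹ᵁ CohB1.genLocus L (s j) := genLocus_resHom W.ι (s j)
  have himg : W.ι ''ᵁ CohB1.genLocus LZ sZ = f ⁻¹ᵁ V ⊓ CohB1.genLocus L (s j) := by
    rw [hgl, Scheme.Hom.image_preimage_eq_opensRange_inf, Scheme.Opens.opensRange_ι]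
  have htop : W.ι ''ᵁ ⊤ = f ⁻¹ᵁ V := W.ι_image_top
  -- flatness of the twisted global sections on `Z = f⁻¹V`
  have hfl : ∀ n : ℕ, n₀ ≤ n →
      @Module.Flat Γ(Y, V) ((CohB1.tensorMod G (CohB1.tensorPow LZ n)).val.obj (op ⊤)) _ _
        (modSec (phi f W le_rfl) _ ⊤) := by
    intro n hn
    have h1 := hflat n hn V hV (W.ι ''ᵁ ⊤) htop
    have h2 := (flat_modSec_iff f W le_rfl (CohB1.tensorMod F (CohB1.tensorPow L n)) ⊤ htop.le).mpr h1
    let E : (CohB1.tensorMod F (CohB1.tensorPow L n)).restrict W.ι ≅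
        CohB1.tensorMod G (CohB1.tensorPow LZ n) :=
      restrictTensorIso W.ι F (CohB1.tensorPow L n) ≪≫
        PicGrp.tensorModIso (Iso.refl _) (restrictTensorPowIso W.ι L n)
    exact flat_modSec_of_iso (phi f W le_rfl) E ⊤ h2
  have hcore := flat_sections_genLocus (phi f W le_rfl) G hLZ sZ n₀ hfl
  have hle : W.ι ''ᵁ CohB1.genLocus LZ sZ ≤ f ⁻¹ᵁ V := himg.le.trans inf_le_left
  have h3 := (flat_modSec_iff f W le_rfl F (CohB1.genLocus LZ sZ) hle).mp hcore
  have hUaff : IsAffineOpen (W.ι ''ᵁ CohB1.genLocus LZ sZ) := by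
    rw [himg]; exact haff V hV j
  have hxU : x ∈ W.ι ''ᵁ CohB1.genLocus LZ sZ := by
    rw [himg]; exact ⟨hxV, hxj⟩
  exact isFlatOverAt_of_flat_sections f F hle hUaff hV h3 x hxU

end Main

end Groth.Agent.Lib.helper11.FlatTwist
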