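import Mathlib
import Groth.Agent.Lib.Helper11.GCLocAlg
import Groth.Agent.Lib.Helper21.GCBase
import Groth.Agent.Lib.Helper16.FLF8
import Groth.Agent.Lib.Helper16.CohStalk

/-!
# Local structure of higher direct images of flat coherent sheaves (helper11)

Geometric glue for the rows on cohomology and base change over a locally Noetherian base.
-/

set_option autoImplicit false
universe u
open CategoryTheory CategoryTheory.Limits AlgebraicGeometry TopologicalSpace Opposite TensorProduct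

namespace Groth.Agent.Lib.helper11.GCLoc

open Scheme.Modules Groth.Agent.Lib.helper16.CohStalk

section Support

variable {Y : Scheme.{u}} (M : Y.Modules)

/-- a module whose sections vanish on all opens inside `O` restricts to zero on `O` -/
lemma isZero_restrict_of_sections_vanish (O : Y.Opens)
    (h : ∀ P : Y.Opens, P ≤ O → Subsingleton Γ(M, P)) : IsZero (M.restrict O.ι) := by
  rw [IsZero.iff_id_eq_zero]
  apply Scheme.Modules.hom_ext
  intro P
  ext m
  have hsub : Subsingleton Γ(M, O.ι ''ᵁ P) := h _ (Scheme.Opens.ι_image_le O P)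
  exact hsub.elim _ _

/-- a module whose stalks vanish on `O` restricts to zero on `O` -/
lemma isZero_restrict_of_stalks_vanish (O : Y.Opens)
    (h : ∀ z ∈ O, Subsingleton (M.presheaf.stalk z)) : IsZero (M.restrict O.ι) := by
  apply isZero_restrict_of_sections_vanish
  intro P hP
  refine ⟨fun s t => ?_⟩
  refine TopCat.Presheaf.section_ext (⟨M.presheaf, M.isSheaf⟩ : TopCat.Sheaf Ab Y) P s t
    (fun z hz => ?_)
  have := h z (hP hz)
  exact Subsingleton.elim _ _

/-- stalks of a quasi-coherent module vanish at the points of an affine open outside the support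
of the module of sections. -/
lemma subsingleton_stalk_of_not_mem_support [M.IsQuasicoherent] {V : Y.Opens}
    (hV : IsAffineOpen V) (z : Y) (hz : z ∈ V)
    (hs : hV.primeIdealOf ⟨z, hz⟩ ∉ Module.support Γ(Y, V) Γ(M, V)) :
    Subsingleton (M.presheaf.stalk z) := by
  let _ := modStalk M z hz
  have hloc := isLocalizedModule_stalk M hV z hz
  rw [Module.notMem_support_iff] at hs
  exact (IsLocalizedModule.iso (hV.primeIdealOf ⟨z, hz⟩).asIdeal.primeCompl
    (germLin M z hz)).symm.toEquiv.subsingleton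

lemma subsingleton_sections_of_isZero (h : IsZero M) (V : Y.Opens) : Subsingleton Γ(M, V) := by
  refine ⟨fun a b => ?_⟩
  have h0 : (𝟙 M : M ⟶ M) = 0 := (IsZero.iff_id_eq_zero M).mp h
  have ha : ((𝟙 M : M ⟶ M).app V).hom a = ((0 : M ⟶ M).app V).hom a := by rw [h0]
  have hb : ((𝟙 M : M ⟶ M).app V).hom b = ((0 : M ⟶ M).app V).hom b := by rw [h0]
  have ea : ((𝟙 M : M ⟶ M).app V).hom a = a := rfl
  have eb : ((𝟙 M : M ⟶ M).app V).hom b = b := rfl
  have za : ((0 : M ⟶ M).app V).hom a = 0 := rfl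
  have zb : ((0 : M ⟶ M).app V).hom b = 0 := rfl
  rw [← ea, ← eb, ha, hb, za, zb]

end Support

section Main

variable {X Y : Scheme.{u}} (f : X ⟶ Y) [IsProper f] [IsLocallyNoetherian Y]
  [HasInjectiveResolutions X.Modules] (F : X.Modules) (hF : Coh.IsCoh F)
  (hfl : FlatMod.IsFlatOver f F)

include hF hfl in
/-- S2385: vanishing of `H^n` of a fibre ⇒ `R^n f_* F` vanishes near the point. -/
theorem rpush_vanishes_near (y : Y) (n : ℕ) (hvan : Subsingleton (CohIII.fiberH f F y n)) :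
    ∃ U : Y.Opens, y ∈ U ∧ IsZero (((Coh.Rpush f n).obj F).restrict U.ι) := by
  obtain ⟨V, hV', hyV, -⟩ := Opens.isBasis_iff_nbhd.mp Y.isBasis_affineOpens
    (show y ∈ (⊤ : Y.Opens) from trivial)
  have hV : IsAffineOpen V := hV'
  obtain ⟨L, hL, ⟨N, hN⟩, hsec, hneg, hBneg, hrank, hsub⟩ :=
    Groth.Agent.Lib.helper21.GCBase.exists_complex_rpush f hV F hF hfl
  have hLff : ∀ i, Module.Finite Γ(Y, V) (L.X i) ∧ Module.Flat Γ(Y, V) (L.X i) := fun i => by
    obtain ⟨h1, h2⟩ := hL i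
    exact ⟨h1, inferInstance⟩
  have hcoh : Coh.IsCoh ((Coh.Rpush f n).obj F) :=
    Groth.Agent.Lib.Lead.RpushCoh.isCoh_rpush f F hF n
  have hqc : ((Coh.Rpush f n).obj F).IsQuasicoherent := hcoh.1
  obtain ⟨e⟩ := hsec n
  have hfinH : Module.Finite Γ(Y, V) (L.homology (n : ℤ)) := by
    have : IsNoetherianRing Γ(Y, V) := IsLocallyNoetherian.component_noetherian ⟨V, hV⟩
    exact finite_homology_cochain L hLff n
  have hfinS : Module.Finite Γ(Y, V) Γ((Coh.Rpush f n).obj F, V) := Module.Finite.equiv e.symm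
  let S : (Spec Γ(Y, V)).Opens :=
    ⟨(Module.support Γ(Y, V) Γ((Coh.Rpush f n).obj F, V))ᶜ, Module.isClosed_support.isOpen_compl⟩
  have hx : hV.fromSpec (hV.primeIdealOf ⟨y, hyV⟩) = y := hV.fromSpec_primeIdealOf ⟨y, hyV⟩
  have hxS : hV.primeIdealOf ⟨y, hyV⟩ ∈ S := by
    show hV.primeIdealOf ⟨y, hyV⟩ ∉ Module.support Γ(Y, V) Γ((Coh.Rpush f n).obj F, V)
    rw [e.support_eq]
    apply not_mem_support_of_dRank_eq_zero L hLff
    rw [hrank, hx]
    unfold CohIII.fiberRank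
    exact Module.finrank_zero_of_subsingleton
  refine ⟨hV.fromSpec ''ᵁ S, ⟨_, hxS, hx⟩, ?_⟩
  apply isZero_restrict_of_stalks_vanish
  rintro z ⟨x', hx'S, rfl⟩
  have hzV : hV.fromSpec x' ∈ V := by
    have h1 : hV.fromSpec x' ∈ Set.range hV.fromSpec := ⟨x', rfl⟩
    rwa [hV.range_fromSpec] at h1
  apply subsingleton_stalk_of_not_mem_support _ hV _ hzV
  have : hV.primeIdealOf ⟨hV.fromSpec x', hzV⟩ = x' :=
    hV.fromSpec.isOpenEmbedding.injective (hV.fromSpec_primeIdealOf ⟨_, hzV⟩)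
  rw [this]
  exact hx'S

include hF hfl in
/-- S2441: all `R^i f_* F` finite locally free ⇒ all fibre ranks locally constant. -/
theorem fiberRank_locallyConstant_of_locFree
    (hlf : ∀ i : ℕ, FlatMod.IsFinLocFree ((Coh.Rpush f i).obj F)) (i : ℕ) :
    IsLocallyConstant (CohIII.fiberRank f F i) := by
  rw [IsLocallyConstant.iff_exists_open]
  intro y
  obtain ⟨V, hV', hyV, -⟩ := Opens.isBasis_iff_nbhd.mp Y.isBasis_affineOpens
    (show y ∈ (⊤ : Y.Opens) from trivial)
  have hV : IsAffineOpen V := hV'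
  obtain ⟨L, hL, ⟨N, hN⟩, hsec, hneg, hBneg, hrank, hsub⟩ :=
    Groth.Agent.Lib.helper21.GCBase.exists_complex_rpush f hV F hF hfl
  have hLff : ∀ i, Module.Finite Γ(Y, V) (L.X i) ∧ Module.Flat Γ(Y, V) (L.X i) := fun i => by
    obtain ⟨h1, h2⟩ := hL i
    exact ⟨h1, inferInstance⟩
  have : IsNoetherianRing Γ(Y, V) := IsLocallyNoetherian.component_noetherian ⟨V, hV⟩
  have hflat : ∀ j : ℤ, Module.Flat Γ(Y, V) (L.homology j) := by
    intro j
    by_cases hj : j < 0
    · have := ModuleCat.subsingleton_of_isZero (hneg j hj)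
      infer_instance
    · obtain ⟨k, rfl⟩ := Int.eq_ofNat_of_zero_le (not_lt.mp hj)
      obtain ⟨e⟩ := hsec k
      have := (Groth.Agent.Lib.helper16.FLF.projective_sections_of_isFinLocFree _ (hlf k) hV).2
      have : Module.Projective Γ(Y, V) (L.homology (k : ℤ)) := Module.Projective.of_equiv e
      infer_instance
  have hlc := locConst_dRank_of_flat_homology_cochain L hLff N hN hflat (i : ℤ)
  have hx : hV.fromSpec (hV.primeIdealOf ⟨y, hyV⟩) = y := hV.fromSpec_primeIdealOf ⟨y, hyV⟩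
  let S : (Spec Γ(Y, V)).Opens :=
    ⟨{x' | CohIII.dRank L (i : ℤ) x' = CohIII.dRank L (i : ℤ) (hV.primeIdealOf ⟨y, hyV⟩)},
      hlc.isOpen_fiber _⟩
  refine ⟨hV.fromSpec ''ᵁ S, (hV.fromSpec ''ᵁ S).2, ⟨_, rfl, hx⟩, ?_⟩
  rintro _ ⟨x', hx'S, rfl⟩
  have h1 : CohIII.dRank L (i : ℤ) x' = CohIII.dRank L (i : ℤ) (hV.primeIdealOf ⟨y, hyV⟩) := hx'S
  rw [hrank, hrank, hx] at h1
  exact h1

include hF hfl in
/-- chart form of S2389: over an affine open, if the fibre cohomology is concentrated in degree `i0`, then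
`Γ(R^{i0} f_* F, V)` is finite projective and its fibre ranks are the fibre cohomology ranks. -/
theorem chart_projective_of_concentrated {V : Y.Opens} (hV : IsAffineOpen V) (i0 : ℕ)
    (hconc : ∀ y : Y, ∀ i : ℕ, i ≠ i0 → Subsingleton (CohIII.fiberH f F y i)) :
    Module.Finite Γ(Y, V) Γ((Coh.Rpush f i0).obj F, V) ∧
      Module.Projective Γ(Y, V) Γ((Coh.Rpush f i0).obj F, V) ∧
      ∀ x : ↑(Spec (CommRingCat.of Γ(Y, V))), CohIII.fiberRank f F i0 (hV.fromSpec x) =
        Module.finrank x.asIdeal.ResidueField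
          (x.asIdeal.ResidueField ⊗[Γ(Y, V)] Γ((Coh.Rpush f i0).obj F, V)) := by
  obtain ⟨L, hL, ⟨N, hN⟩, hsec, hneg, hBneg, hrank, hsub⟩ :=
    Groth.Agent.Lib.helper21.GCBase.exists_complex_rpush f hV F hF hfl
  have hLff : ∀ i, Module.Finite Γ(Y, V) (L.X i) ∧ Module.Flat Γ(Y, V) (L.X i) := fun i => by
    obtain ⟨h1, h2⟩ := hL i
    exact ⟨h1, inferInstance⟩
  have : IsNoetherianRing Γ(Y, V) := IsLocallyNoetherian.component_noetherian ⟨V, hV⟩
  have hd : ∀ j : ℤ, j ≠ (i0 : ℤ) → ∀ x, CohIII.dRank L j x = 0 := by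
    intro j hj x
    by_cases hj0 : j < 0
    · exact dRank_eq_zero_of_isZero_homology L j x (hBneg _ j hj0)
    · obtain ⟨k, rfl⟩ := Int.eq_ofNat_of_zero_le (not_lt.mp hj0)
      have hk : k ≠ i0 := fun h => hj (by rw [h])
      rw [hrank]
      have := hconc (hV.fromSpec x) k hk
      unfold CohIII.fiberRank
      exact Module.finrank_zero_of_subsingleton
  obtain ⟨hproj, hr⟩ := projective_of_neighbours_zero L hLff (i0 : ℤ)
    (hd _ (by omega)) (hd _ (by omega))
  obtain ⟨e⟩ := hsec i0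
  have hfinH := finite_homology_cochain L hLff (i0 : ℤ)
  refine ⟨Module.Finite.equiv e.symm, Module.Projective.of_equiv e.symm, fun x => ?_⟩
  rw [← hrank, hr x]
  exact (LinearEquiv.baseChange Γ(Y, V) x.asIdeal.ResidueField _ _ e.symm).finrank_eq

include hF hfl in
/-- S2389 -/
theorem locFree_of_concentrated (i0 : ℕ)
    (hconc : ∀ y : Y, ∀ i : ℕ, i ≠ i0 → Subsingleton (CohIII.fiberH f F y i)) :
    FlatMod.IsFinLocFree ((Coh.Rpush f i0).obj F) ∧
      ∀ y : Y, ∃ U : Y.Opens, y ∈ U ∧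
        Nonempty (((Coh.Rpush f i0).obj F).restrict U.ι ≅
          FlatMod.freeMod (↑U) (CohIII.fiberRank f F i0 y)) := by
  have hcoh : Coh.IsCoh ((Coh.Rpush f i0).obj F) :=
    Groth.Agent.Lib.Lead.RpushCoh.isCoh_rpush f F hF i0
  have hqc : ((Coh.Rpush f i0).obj F).IsQuasicoherent := hcoh.1
  have hlf : FlatMod.IsFinLocFree ((Coh.Rpush f i0).obj F) :=
    Groth.Agent.Lib.helper16.FLF.isFinLocFree_of_projective_sections _
      (fun V : Y.affineOpens => V.1) (fun V => V.2) (iSup_affineOpens_eq_top Y)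
      (fun V => by
        obtain ⟨h1, h2, -⟩ := chart_projective_of_concentrated f F hF hfl V.2 i0 hconc
        exact ⟨h1, h2⟩)
  refine ⟨hlf, fun y => ?_⟩
  obtain ⟨U, n, hyU, ⟨iso⟩⟩ := hlf y
  obtain ⟨V, hV', hyV, hVU⟩ := Opens.isBasis_iff_nbhd.mp Y.isBasis_affineOpens hyU
  have hV : IsAffineOpen V := hV'
  obtain ⟨iso'⟩ := Groth.Agent.Lib.helper16.FLF.restrict_iso_freeMod_of_le _ hVU n iso
  obtain ⟨es⟩ := Groth.Agent.Lib.helper16.FLF.sections_of_restrict_iso_freeMod _ hV n iso'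
  obtain ⟨-, -, hr⟩ := chart_projective_of_concentrated f F hF hfl hV i0 hconc
  have hx : hV.fromSpec (hV.primeIdealOf ⟨y, hyV⟩) = y := hV.fromSpec_primeIdealOf ⟨y, hyV⟩
  have hn : CohIII.fiberRank f F i0 y = n := by
    rw [← hx, hr (hV.primeIdealOf ⟨y, hyV⟩)]
    rw [(LinearEquiv.baseChange Γ(Y, V) (hV.primeIdealOf ⟨y, hyV⟩).asIdeal.ResidueField _ _
      es).finrank_eq]
    rw [(TensorProduct.piScalarRight Γ(Y, V) (hV.primeIdealOf ⟨y, hyV⟩).asIdeal.ResidueField
      (hV.primeIdealOf ⟨y, hyV⟩).asIdeal.ResidueField (Fin n)).finrank_eq]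
    exact Module.finrank_fin_fun _
  refine ⟨V, hyV, ?_⟩
  rw [hn]
  exact ⟨iso'⟩

include hF hfl in
/-- S2390 -/
theorem push_locFree_of_rpush_zero (hR : ∀ i : ℕ, 0 < i → IsZero ((Coh.Rpush f i).obj F)) :
    (∀ y : Y, ∀ i : ℕ, 0 < i → Subsingleton (CohIII.fiberH f F y i)) ∧
      ∀ y : Y, ∃ U : Y.Opens, y ∈ U ∧
        Nonempty (((Coh.push f).obj F).restrict U.ι ≅
          FlatMod.freeMod (↑U) (CohIII.fiberRank f F 0 y)) := by
  have part1 : ∀ y : Y, ∀ i : ℕ, 0 < i → Subsingleton (CohIII.fiberH f F y i) := by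
    intro y i hi
    obtain ⟨V, hV', hyV, -⟩ := Opens.isBasis_iff_nbhd.mp Y.isBasis_affineOpens
      (show y ∈ (⊤ : Y.Opens) from trivial)
    have hV : IsAffineOpen V := hV'
    obtain ⟨L, hL, ⟨N, hN⟩, hsec, hneg, hBneg, hrank, hsub⟩ :=
      Groth.Agent.Lib.helper21.GCBase.exists_complex_rpush f hV F hF hfl
    have hLff : ∀ i, Module.Finite Γ(Y, V) (L.X i) ∧ Module.Flat Γ(Y, V) (L.X i) := fun i => by
      obtain ⟨h1, h2⟩ := hL i
      exact ⟨h1, inferInstance⟩
    have hz : ∀ j : ℤ, 0 < j → IsZero (L.homology j) := by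
      intro j hj
      obtain ⟨k, rfl⟩ := Int.eq_ofNat_of_zero_le hj.le
      obtain ⟨e⟩ := hsec k
      have := subsingleton_sections_of_isZero _ (hR k (by exact_mod_cast hj)) V
      have : Subsingleton (L.homology (k : ℤ)) := e.symm.toEquiv.subsingleton
      exact ModuleCat.isZero_of_subsingleton _
    have hx : hV.fromSpec (hV.primeIdealOf ⟨y, hyV⟩) = y := hV.fromSpec_primeIdealOf ⟨y, hyV⟩
    have hd := dRank_eq_zero_of_homology_zero_cochain L hLff N hN hz (i : ℤ)
      (by exact_mod_cast hi) (hV.primeIdealOf ⟨y, hyV⟩)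
    have hzero := isZero_homology_of_dRank_eq_zero_cochain L (fun i => (hLff i).1) (i : ℤ)
      (hV.primeIdealOf ⟨y, hyV⟩) hd
    have := (hsub (hV.primeIdealOf ⟨y, hyV⟩) i).mpr hzero
    rwa [hx] at this
  refine ⟨part1, fun y => ?_⟩
  obtain ⟨U, hyU, ⟨iso⟩⟩ := (locFree_of_concentrated f F hF hfl 0
    (fun y i hi => part1 y i (Nat.pos_of_ne_zero hi))).2 y
  exact ⟨U, hyU, ⟨(Scheme.Modules.restrictFunctor U.ι).mapIso
    ((Scheme.Modules.pushforward f).rightDerivedZeroIsoSelf.app F).symm ≪≫ iso⟩⟩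

end Main

end Groth.Agent.Lib.helper11.GCLoc
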