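import Mathlib
import Groth.Prelude.Def_Coh
import Groth.Agent.Lib.Helper21.RpushTheta

/-!
# `R^p f_*` on modules vs. on underlying abelian sheaves (helper11)

* `nonempty_rpush_toSheaf_iso`: `Coh.Rpush f p ⋙ toSheaf ≅ toSheaf ⋙ Coh.RpushAb f p`.
* `isZero_rpush_of_isZero_rpushAb`, `isZero_rpushAb_of_isZero_rpush`.
-/

set_option autoImplicit false
set_option linter.style.haveILetI false
universe u

namespace Groth.Agent.Lib.helper11.RpushAbBridge

open CategoryTheory CategoryTheory.Limits Opposite TopologicalSpace AlgebraicGeometry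
open Groth.Agent.Lib.helper27 Groth.Agent.Lib.helper7 Groth.Agent.Lib.helper21.RpushTheta

variable {X S : Scheme.{u}} (f : X ⟶ S)

theorem nonempty_rpush_toSheaf_iso [HasInjectiveResolutions X.Modules] (p : ℕ) :
    Nonempty (Coh.Rpush f p ⋙ SheafOfModules.toSheaf.{u} S.ringCatSheaf ≅
      SheafOfModules.toSheaf.{u} X.ringCatSheaf ⋙ Coh.RpushAb f p) := by
  classical
  haveI : EnoughInjectives X.Modules :=
    SSGroth.enoughInjectives_of_hasInjectiveResolutions _
  haveI : PreservesFiniteLimits (Coh.pushAb f) := by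
    have h : PreservesLimitsOfSize.{u, u} (Coh.pushAb f) :=
      (TopCat.Sheaf.pullbackPushforwardAdjunction AddCommGrpCat.{u}
        f.base).rightAdjoint_preservesLimits
    exact PreservesLimitsOfSize.preservesFiniteLimits.{u, u} _
  let ΦX : X.Modules ⥤ Sheaf (Opens.grothendieckTopology X) AddCommGrpCat.{u} :=
    SheafOfModules.toSheaf.{u} X.ringCatSheaf
  let ΦS : S.Modules ⥤ Sheaf (Opens.grothendieckTopology S) AddCommGrpCat.{u} :=
    SheafOfModules.toSheaf.{u} S.ringCatSheaf
  haveI addX : ΦX.Additive := { map_add := by intros; rfl }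
  haveI addS : ΦS.Additive := { map_add := by intros; rfl }
  haveI : PreservesFiniteLimits ΦX := Groth.Agent.Lib.helper21.InjAcyc.toSheaf_preservesFiniteLimits X.ringCatSheaf
  haveI : PreservesFiniteLimits ΦS := Groth.Agent.Lib.helper21.InjAcyc.toSheaf_preservesFiniteLimits S.ringCatSheaf
  haveI : PreservesFiniteColimits ΦX := Groth.Agent.Lib.helper21.InjAcyc.toSheaf_preservesFiniteColimits X.ringCatSheaf
  haveI : PreservesFiniteColimits ΦS := Groth.Agent.Lib.helper21.InjAcyc.toSheaf_preservesFiniteColimits S.ringCatSheaf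
  haveI : (Scheme.Modules.pushforward f ⋙ ΦS).Additive := inferInstance
  haveI : (ΦX ⋙ Coh.pushAb f).Additive := inferInstance
  obtain ⟨e3⟩ := DeltaFPre.rightDerived_comp_exact_iso ΦX (Coh.pushAb f)
    (fun I hI q => isZero_rpushAb_of_injective f I hI q) p
  exact ⟨(Groth.Agent.Lib.Helper21.DerivedComm.rightDerivedPostIso ΦS (Scheme.Modules.pushforward f) p).symm ≪≫
    Groth.Agent.Lib.Helper21.DerivedComm.rightDerivedIso
      (Iso.refl _ : Scheme.Modules.pushforward f ⋙ ΦS ≅ ΦX ⋙ Coh.pushAb f) p ≪≫ e3⟩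

theorem isZero_rpush_of_isZero_rpushAb [HasInjectiveResolutions X.Modules] (p : ℕ) (G : X.Modules)
    (h : IsZero ((Coh.RpushAb f p).obj (Coh.toAb G))) : IsZero ((Coh.Rpush f p).obj G) := by
  obtain ⟨e⟩ := nonempty_rpush_toSheaf_iso f p
  have h1 : IsZero ((SheafOfModules.toSheaf.{u} S.ringCatSheaf).obj ((Coh.Rpush f p).obj G)) :=
    IsZero.of_iso h (e.app G)
  rw [IsZero.iff_id_eq_zero] at h1 ⊢
  apply (SheafOfModules.toSheaf.{u} S.ringCatSheaf).map_injective
  exact ((SheafOfModules.toSheaf.{u} S.ringCatSheaf).map_id _).trans h1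

end Groth.Agent.Lib.helper11.RpushAbBridge
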