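import Mathlib
import Groth.Agent.Lib.Helper11.FlatTwist2
import Groth.Agent.Lib.Helper12.VAmple5
import Groth.Agent.Lib.Helper12.PullAmple
import Groth.Agent.Lib.Helper16.FLF8
import Groth.Agent.Lib.Helper28.TwistPn
import Groth.Agent.Lib.Helper19.ProjSpaceProper
import Groth.Agent.Lib.Helper11.RpushAbBridge
import Groth.Agent.Lib.Helper11.RelAmpleVan
import Groth.Agent.Lib.Helper11.GCLocGeo
import Groth.Agent.Lib.Helper21.ModOpenBC2

/-!
# Flatness and the twisted direct images for `X ⊆ P^r_Y` (helper11; EGA III 7.9.14 / Hartshorne III.9.9)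
-/

set_option autoImplicit false
set_option linter.style.haveILetI false
universe u

open CategoryTheory CategoryTheory.Limits AlgebraicGeometry Opposite TopologicalSpace

namespace Groth.Agent.Lib.helper11.FlatTwistPn

open Groth.Agent.Lib.helper11.FlatTwist Groth.Agent.Lib.helper17.FlatOver1
open Groth.Agent.Lib.helper12.ProjUP5 Groth.Agent.Lib.helper12.ProjUP6
open Groth.Agent.Lib.helper12.VAmple1 Groth.Agent.Lib.helper12.ImmCharts
open Groth.Agent.Lib.helper12.PullAmple Groth.Agent.Lib.helper11.InvMod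

section Base

variable {X Y : Scheme.{u}} (f : X ⟶ Y)

theorem flat_modSecBase_of_iso {H H' : X.Modules} (E : H ≅ H') {U : X.Opens} {V : Y.Opens}
    (hUV : U ≤ f ⁻¹ᵁ V) (h : @Module.Flat Γ(Y, V) Γ(H, U) _ _ (modSecBase f H hUV)) :
    @Module.Flat Γ(Y, V) Γ(H', U) _ _ (modSecBase f H' hUV) := by
  letI := modSecBase f H hUV
  letI := modSecBase f H' hUV
  let e : Γ(H, U) →ₗ[Γ(Y, V)] Γ(H', U) :=
    { toFun := (E.hom.app U).hom
      map_add' := fun x y => map_add _ x y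
      map_smul' := fun a x => by
        change (E.hom.app U).hom ((f.appLE V U hUV).hom a • x) =
          (f.appLE V U hUV).hom a • (E.hom.app U).hom x
        exact Scheme.Modules.Hom.app_smul E.hom _ x }
  have hb : Function.Bijective e := by
    have h1 : IsIso (E.hom.app U) := inferInstance
    exact (ConcreteCategory.isIso_iff_bijective (E.hom.app U)).mp h1
  exact Module.Flat.of_linearEquiv (LinearEquiv.ofBijective e hb).symm

theorem flat_modSecBase_of_isFinLocFree_push (N : X.Modules)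
    (h : FlatMod.IsFinLocFree ((Coh.push f).obj N)) {V : Y.Opens} (hV : IsAffineOpen V)
    (U : X.Opens) (hU : U = f ⁻¹ᵁ V) :
    @Module.Flat Γ(Y, V) Γ(N, U) _ _ (modSecBase f N hU.le) := by
  subst hU
  obtain ⟨-, hp⟩ := Groth.Agent.Lib.helper16.FLF.projective_sections_of_isFinLocFree _ h hV
  have hfl : Module.Flat Γ(Y, V) Γ((Coh.push f).obj N, V) := Module.Flat.of_projective
  letI := modSecBase f N (le_refl (f ⁻¹ᵁ V))
  let e : Γ((Coh.push f).obj N, V) →ₗ[Γ(Y, V)] Γ(N, f ⁻¹ᵁ V) :=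
    { toFun := fun x => x
      map_add' := fun _ _ => rfl
      map_smul' := fun a x => by
        change (a • x : Γ((Coh.push f).obj N, V)) =
          ((f.appLE V (f ⁻¹ᵁ V) le_rfl).hom a • (show Γ(N, f ⁻¹ᵁ V) from x) : Γ(N, f ⁻¹ᵁ V))
        rw [Scheme.Hom.appLE_eq_app]
        rfl }
  have hb : Function.Bijective e := ⟨fun _ _ h => h, fun y => ⟨y, rfl⟩⟩
  exact Module.Flat.of_linearEquiv (LinearEquiv.ofBijective e hb).symm

/-- tensoring with an invertible module preserves flatness over the base -/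
theorem isFlatOver_tensorMod_of_isInvertible (F : X.Modules) [F.IsQuasicoherent]
    (hfl : FlatMod.IsFlatOver f F) {N : X.Modules} (hN : PicF.IsInvertible N)
    [(CohB1.tensorMod F N).IsQuasicoherent] :
    FlatMod.IsFlatOver f (CohB1.tensorMod F N) := by
  intro x
  obtain ⟨V, hV', hxV, -⟩ := Opens.isBasis_iff_nbhd.mp Y.isBasis_affineOpens
    (show f.base x ∈ (⊤ : Y.Opens) from trivial)
  have hV : IsAffineOpen V := hV'
  obtain ⟨U, hU, hxU, hUV, ⟨e⟩⟩ := exists_affine_isTrivOn hN x (f ⁻¹ᵁ V) hxV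
  have htop : U.ι ''ᵁ ⊤ = U := U.ι_image_top
  have hle : U.ι ''ᵁ ⊤ ≤ f ⁻¹ᵁ V := htop.le.trans hUV
  have hUa : IsAffineOpen (U.ι ''ᵁ ⊤) := by rw [htop]; exact hU
  have h1 : @Module.Flat Γ(Y, V) Γ(F, U.ι ''ᵁ ⊤) _ _ (modSecBase f F hle) :=
    flat_sections_of_isFlatOverAt f F hle hUa hV (fun y _ => hfl y)
  have h2 := (flat_modSec_iff f U hUV F ⊤ hle).mpr h1
  have h3 := flat_modSec_of_iso (phi f U hUV)
    (Groth.Agent.Lib.helper12.TensorInv.tensorTrivIso F N U e).symm ⊤ h2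
  have h4 := (flat_modSec_iff f U hUV (CohB1.tensorMod F N) ⊤ hle).mp h3
  exact isFlatOverAt_of_flat_sections f (CohB1.tensorMod F N) hle hUa hV h4 x (by rw [htop]; exact hxU)

end Base

section Pn

variable (r : ℕ) {X Y : Scheme.{u}} (i : X ⟶ CohB1.ProjSpaceOver r Y)

/-- the projection `P^r_Y ⟶ P^r_ℤ` -/
noncomputable abbrev qq : CohB1.ProjSpaceOver r Y ⟶ Proj (CohB1.polyGrading r (ULift.{u} ℤ)) :=
  pullback.fst (CohB1.ProjSpace.toSpec r (ULift.{u} ℤ)) (specULiftZIsTerminal.from Y)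

/-- `X ⟶ P^r_Y ⟶ P^r_ℤ` -/
noncomputable abbrev gg : X ⟶ Proj (CohB1.polyGrading r (ULift.{u} ℤ)) := i ≫ qq r

/-- `O_X(1)` -/
noncomputable abbrev LL : X.Modules :=
  (Scheme.Modules.pullback (gg r i)).obj (Twist.twist (CohB1.polyGrading r (ULift.{u} ℤ)) ((1 : ℕ) : ℤ))

theorem isInvertible_LL : PicF.IsInvertible (LL r i) :=
  isInvertible_pullback (gg r i) isInvertible_twist_one

/-- `i^* O(m) ≅ O_X(1)^{⊗ m}` -/
noncomputable def twistIso (m : ℕ) :
    (Scheme.Modules.pullback i).obj (Twist.twistOver r Y (m : ℤ)) ≅ CohB1.tensorPow (LL r i) m :=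
  (Scheme.Modules.pullbackComp i (qq r)).app _ ≪≫
    (Scheme.Modules.pullback (gg r i)).mapIso
      (Groth.Agent.Lib.helper28.TwistPn.powIso r (ULift.{u} ℤ) m) ≪≫
    pullTensorPowIso (gg r i) isInvertible_twist_one m

theorem mem_genLocus_nu (x : X) : ∃ j, x ∈ CohB1.genLocus (LL r i) (nu (gg r i) j) := by
  obtain ⟨a, ha⟩ := Groth.Agent.Lib.helper28.TwistPn.exists_X_notMem r (ULift.{u} ℤ) (gg r i x)
  refine ⟨a, ?_⟩
  rw [genLocus_nu]
  exact (ProjectiveSpectrum.mem_basicOpen _ _ _).mpr ha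

theorem isAffineOpen_preimage_inf_genLocus [IsAffineHom i] (V : Y.Opens) (hV : IsAffineOpen V)
    (j : Fin (r + 1)) :
    IsAffineOpen ((i ≫ CohB1.ProjSpaceOver.toBase r Y) ⁻¹ᵁ V ⊓
      CohB1.genLocus (LL r i) (nu (gg r i) j)) := by
  rw [genLocus_nu]
  have hD : IsAffineOpen (Dp (ULift.{u} ℤ) r j) :=
    Proj.isAffineOpen_basicOpen _ _ (Groth.Agent.Lib.helper28.TwistPn.X_mem r (ULift.{u} ℤ) j) one_pos
  have h1 : IsAffineOpen ((qq r ⁻¹ᵁ Dp (ULift.{u} ℤ) r j ⊓ CohB1.ProjSpaceOver.toBase r Y ⁻¹ᵁ V :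
      (CohB1.ProjSpaceOver r Y).Opens)) :=
    isAffineOpen_pullback_inf (CohB1.ProjSpace.toSpec r (ULift.{u} ℤ))
      (specULiftZIsTerminal.from Y) hD hV
  have h2 := h1.preimage i
  have h3 : (i ≫ CohB1.ProjSpaceOver.toBase r Y) ⁻¹ᵁ V ⊓ gg r i ⁻¹ᵁ Dp (ULift.{u} ℤ) r j =
      i ⁻¹ᵁ (qq r ⁻¹ᵁ Dp (ULift.{u} ℤ) r j ⊓ CohB1.ProjSpaceOver.toBase r Y ⁻¹ᵁ V) := by
    rw [inf_comm]
    rfl
  rw [h3]
  exact h2

/-- **(⇐)**: if `f_*(F(n))` is finite locally free for all `n ≥ n₀`, then `F` is flat over `Y`. -/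
theorem isFlatOver_of_isFinLocFree_push [IsClosedImmersion i] [IsNoetherian Y] (F : X.Modules)
    [F.IsQuasicoherent] (n₀ : ℤ)
    (h : ∀ n : ℤ, n₀ ≤ n → FlatMod.IsFinLocFree
      ((Coh.push (i ≫ CohB1.ProjSpaceOver.toBase r Y)).obj
        (CohB1.tensorMod F ((Scheme.Modules.pullback i).obj (Twist.twistOver r Y n))))) :
    FlatMod.IsFlatOver (i ≫ CohB1.ProjSpaceOver.toBase r Y) F := by
  haveI : IsProper (CohB1.ProjSpaceOver.toBase r Y) :=
    Groth.Agent.Lib.helper19.ProjSpaceProper.proper_toBase r Y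
  refine isFlatOver_of_flat_twists (i ≫ CohB1.ProjSpaceOver.toBase r Y) F (isInvertible_LL r i)
    (fun j => nu (gg r i) j) (mem_genLocus_nu r i)
    (fun V hV j => isAffineOpen_preimage_inf_genLocus r i V hV j) n₀.toNat ?_
  intro n hn V hV U hU
  have hn' : n₀ ≤ (n : ℤ) := by omega
  have h1 := flat_modSecBase_of_isFinLocFree_push (i ≫ CohB1.ProjSpaceOver.toBase r Y) _
    (h (n : ℤ) hn') hV U hU
  exact flat_modSecBase_of_iso (i ≫ CohB1.ProjSpaceOver.toBase r Y)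
    (PicGrp.tensorModIso (Iso.refl F) (twistIso r i n)) hU.le h1

/-- `O_X(1)` is ample over every affine open of the base -/
theorem isAmple_LL_restrict [IsClosedImmersion i] (W : Y.Opens) (hW : IsAffineOpen W) :
    CohB1.IsAmple ((LL r i).restrict ((i ≫ CohB1.ProjSpaceOver.toBase r Y) ⁻¹ᵁ W).ι) := by
  haveI : IsProper (CohB1.ProjSpaceOver.toBase r Y) :=
    Groth.Agent.Lib.helper19.ProjSpaceProper.proper_toBase r Y
  have h1 : RelAmple.IsRelVeryAmplePn (i ≫ CohB1.ProjSpaceOver.toBase r Y)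
      ((Scheme.Modules.pullback i).obj (Twist.twistOver r Y 1)) :=
    ⟨r, i, inferInstance, rfl, ⟨Iso.refl _⟩⟩
  have h2 := Groth.Agent.Lib.helper12.VAmple5.isRelAmple_of_isRelVeryAmplePn _ h1
  have h3 := h2.2 ⟨W, hW⟩
  let τ : (Scheme.Modules.pullback i).obj (Twist.twistOver r Y 1) ≅ LL r i :=
    (Scheme.Modules.pullbackComp i (qq r)).app _
  exact Groth.Agent.Lib.helper12.AmplePow.isAmple_of_iso
    ((Scheme.Modules.restrictFunctor _).mapIso τ) h3

/-- **(⇒)**: if `F` is coherent and flat over `Y`, then `f_*(F(n))` is finite locally free for `n ≫ 0`. -/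
theorem exists_isFinLocFree_push_of_isFlatOver [IsClosedImmersion i] [IsNoetherian Y] (F : X.Modules)
    (hF : Coh.IsCoh F) (hfl : FlatMod.IsFlatOver (i ≫ CohB1.ProjSpaceOver.toBase r Y) F) :
    ∃ n₀ : ℤ, ∀ n : ℤ, n₀ ≤ n → FlatMod.IsFinLocFree
      ((Coh.push (i ≫ CohB1.ProjSpaceOver.toBase r Y)).obj
        (CohB1.tensorMod F ((Scheme.Modules.pullback i).obj (Twist.twistOver r Y n)))) := by
  haveI : IsProper (CohB1.ProjSpaceOver.toBase r Y) :=
    Groth.Agent.Lib.helper19.ProjSpaceProper.proper_toBase r Y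
  haveI : F.IsQuasicoherent := hF.1
  have hL := isInvertible_LL r i
  obtain ⟨m₀, hm₀⟩ := Groth.Agent.Lib.helper11.RelAmpleVan.isZero_RpushAb_twist
    (i ≫ CohB1.ProjSpaceOver.toBase r Y) (LL r i) hL (isAmple_LL_restrict r i) F hF
  refine ⟨(m₀ : ℤ), fun n hn => ?_⟩
  obtain ⟨m, rfl⟩ := Int.eq_ofNat_of_zero_le (show 0 ≤ n by omega)
  have hm : m₀ ≤ m := by omega
  let G : X.Modules := CohB1.tensorMod F (CohB1.tensorPow (LL r i) m)
  have hG : Coh.IsCoh G := Groth.Agent.Lib.helper11.SerreGG.isCoh_twist hL hF m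
  haveI : G.IsQuasicoherent := hG.1
  have hflG : FlatMod.IsFlatOver (i ≫ CohB1.ProjSpaceOver.toBase r Y) G :=
    isFlatOver_tensorMod_of_isInvertible _ F hfl
      (Groth.Agent.Lib.helper12.TensorInv.isInvertible_tensorPow hL m)
  have hR : ∀ p : ℕ, 0 < p → IsZero ((Coh.Rpush (i ≫ CohB1.ProjSpaceOver.toBase r Y) p).obj G) :=
    fun p hp => Groth.Agent.Lib.helper11.RpushAbBridge.isZero_rpush_of_isZero_rpushAb _ p G
      (hm₀ m hm p hp)
  obtain ⟨-, h2⟩ := Groth.Agent.Lib.helper11.GCLoc.push_locFree_of_rpush_zero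
    (i ≫ CohB1.ProjSpaceOver.toBase r Y) G hG hflG hR
  have h3 : FlatMod.IsFinLocFree ((Coh.push (i ≫ CohB1.ProjSpaceOver.toBase r Y)).obj G) := by
    intro y
    obtain ⟨U, hyU, e⟩ := h2 y
    exact ⟨U, _, hyU, e⟩
  exact Groth.Agent.Lib.helper16.FLF.isFinLocFree_of_iso
    ((Coh.push (i ≫ CohB1.ProjSpaceOver.toBase r Y)).mapIso
      (PicGrp.tensorModIso (Iso.refl F) (twistIso r i m)).symm) h3

end Pn

end Groth.Agent.Lib.helper11.FlatTwistPn
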