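import Mathlib
import Groth.Agent.Lib.Helper11.BCLim

/-!
# Algebra for EGA I 10.11.3 (helper11): Nakayama lifting of generators, Krull lifting of syzygies
-/

set_option autoImplicit false
set_option backward.isDefEq.respectTransparency false
universe u
open Groth.Agent.Lib.helper8.PullbackUnit

namespace Groth.Agent.Lib.helper11.FormalAlg

/-- **Nakayama**: generators of the reduction generate -/
theorem span_eq_top_of_isBC {A R₀ : Type u} [CommRing A] [CommRing R₀] (φ : A →+* R₀)
    (hφ : Function.Surjective φ) (hJ : RingHom.ker φ ≤ Ideal.jacobson (⊥ : Ideal A))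
    {N M₀ : Type u} [AddCommGroup N] [Module A N] [Module.Finite A N] [AddCommGroup M₀]
    [Module R₀ M₀] (k : N →+ M₀) (hk : IsBC φ k) {I : Type*} (g : I → N)
    (hg : ∀ y : M₀, y ∈ Submodule.span R₀ (Set.range fun l => k (g l))) :
    Submodule.span A (Set.range g) = ⊤ := by
  classical
  apply top_unique
  apply Submodule.le_of_le_smul_of_le_jacobson_bot (Module.Finite.fg_top) hJ
  intro n _
  have h1 := hg (k n)
  -- lift the coefficients
  have h2 : ∀ y ∈ Submodule.span R₀ (Set.range fun l => k (g l)),
      ∃ n' ∈ Submodule.span A (Set.range g), k n' = y := by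
    intro y hy
    induction hy using Submodule.span_induction with
    | mem y hy =>
      obtain ⟨l, rfl⟩ := hy
      exact ⟨g l, Submodule.subset_span ⟨l, rfl⟩, rfl⟩
    | zero => exact ⟨0, Submodule.zero_mem _, map_zero k⟩
    | add y z _ _ hy hz =>
      obtain ⟨y', hy', rfl⟩ := hy
      obtain ⟨z', hz', rfl⟩ := hz
      exact ⟨y' + z', Submodule.add_mem _ hy' hz', map_add k y' z'⟩
    | smul r y _ hy =>
      obtain ⟨y', hy', rfl⟩ := hy
      obtain ⟨r', rfl⟩ := hφ r
      exact ⟨r' • y', Submodule.smul_mem _ _ hy', hk.map_smul r' y'⟩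
  obtain ⟨n', hn', hkn'⟩ := h2 _ h1
  have h3 : n - n' ∈ RingHom.ker φ • (⊤ : Submodule A N) :=
    Groth.Agent.Lib.helper7.ThickAff.IsBC.mem_smul_top_of_map_eq_zero hk hφ (n - n')
      (by rw [map_sub, hkn', sub_self])
  have h4 : n = n' + (n - n') := by abel
  rw [h4]
  exact Submodule.add_mem_sup hn' h3

/-- **Krull**: a vector which is a combination of the rows modulo every power of an ideal in the
radical of a Noetherian ring is a combination of the rows -/
theorem syz_of_levels {A : Type u} [CommRing A] [IsNoetherianRing A] (J : Ideal A)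
    (hJ : J ≤ Ideal.jacobson (⊥ : Ideal A)) {I K : Type u} [Fintype I] [Fintype K]
    (a : K → I → A) (c : I → A)
    (h : ∀ k : ℕ, ∃ e : K → A, ∀ l, c l - ∑ κ, e κ * a κ l ∈ J ^ k) :
    ∃ e : K → A, ∀ l, c l = ∑ κ, e κ * a κ l := by
  classical
  set Row : Submodule A (I → A) := Submodule.span A (Set.range a) with hRow
  suffices hmem : c ∈ Row by
    obtain ⟨e, he⟩ := (Submodule.mem_span_range_iff_exists_fun _).mp hmem
    refine ⟨e, fun l => ?_⟩
    have := congrFun he l
    rw [Finset.sum_apply] at this
    exact this.symm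
  have hK := Ideal.iInf_pow_smul_eq_bot_of_le_jacobson (M := (I → A) ⧸ Row) J hJ
  have h0 : Row.mkQ c = 0 := by
    have h1 : Row.mkQ c ∈ ⨅ i : ℕ, J ^ i • (⊤ : Submodule A ((I → A) ⧸ Row)) := by
      rw [Submodule.mem_iInf]
      intro k
      obtain ⟨e, he⟩ := h k
      set d : I → A := fun l => c l - ∑ κ, e κ * a κ l with hd
      have h2 : c = d + ∑ κ, e κ • a κ := by
        funext l
        rw [Pi.add_apply, Finset.sum_apply, hd]
        simp only [Pi.smul_apply, smul_eq_mul]
        ring
      have h3 : Row.mkQ c = Row.mkQ d := by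
        rw [h2, map_add]
        have : Row.mkQ (∑ κ, e κ • a κ) = 0 := by
          rw [Submodule.mkQ_apply, Submodule.Quotient.mk_eq_zero]
          exact Submodule.sum_mem _ (fun κ _ =>
            Submodule.smul_mem _ _ (Submodule.subset_span ⟨κ, rfl⟩))
        rw [this, add_zero]
      rw [h3]
      have h4 : d = ∑ l, d l • (Pi.single l (1 : A) : I → A) := by
        funext l'
        rw [Finset.sum_apply]
        simp only [Pi.smul_apply, smul_eq_mul, Pi.single_apply]
        rw [Finset.sum_eq_single l']
        · simp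
        · intro b _ hb
          rw [if_neg (Ne.symm hb), mul_zero]
        · intro hh
          exact absurd (Finset.mem_univ l') hh
      rw [h4, map_sum]
      refine Submodule.sum_mem _ (fun l _ => ?_)
      rw [map_smul]
      exact Submodule.smul_mem_smul (he l) Submodule.mem_top
    rw [hK] at h1
    exact (Submodule.mem_bot _).mp h1
  exact (Submodule.Quotient.mk_eq_zero _).mp h0

end Groth.Agent.Lib.helper11.FormalAlg
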