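import Mathlib
import Groth.Agent.Lib.Helper26.HenselPairIdem

/-!
# Henselian couples: proper schemes over a henselian pair (helper11), part 1: algebra and topology
-/

set_option autoImplicit false
universe u
open CategoryTheory CategoryTheory.Limits AlgebraicGeometry Opposite TopologicalSpace

namespace Groth.Agent.Lib.helper11.HensCouple

section Algebra

variable {A : Type u} [CommRing A] {I : Ideal A}

open PrimeSpectrum in
/-- Over a henselian pair `(A, I)`, a decomposition of `V(IC)` into two disjoint closed subsets, for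
`C` integral over `A`, is cut out by an idempotent of `C`. -/
theorem exists_idempotent_of_closed_cover (hI : HenselianRing A I) (C : Type u) [CommRing C]
    [Algebra A C] [Algebra.IsIntegral A C] (T₁ T₂ : Set (PrimeSpectrum C)) (h₁ : IsClosed T₁)
    (h₂ : IsClosed T₂) (hdisj : Disjoint T₁ T₂)
    (hunion : T₁ ∪ T₂ = zeroLocus (I.map (algebraMap A C) : Set C)) :
    ∃ e : C, IsIdempotentElem e ∧ (∀ p ∈ T₁, e ∉ p.asIdeal) ∧ (∀ p ∈ T₂, e ∈ p.asIdeal) := by
  set K := I.map (algebraMap A C) with hK
  let q := Ideal.Quotient.mk K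
  have hq : Function.Surjective q := Ideal.Quotient.mk_surjective
  have hrange : Set.range (comap q) = zeroLocus (K : Set C) := by
    rw [range_comap_of_surjective _ q hq, Ideal.mk_ker]
  have hcont : Continuous (comap q) := continuous_comap q
  let S₁ : Set (PrimeSpectrum (C ⧸ K)) := comap q ⁻¹' T₁
  have hS₁c : S₁ᶜ = comap q ⁻¹' T₂ := by
    ext p
    have hp : comap q p ∈ T₁ ∪ T₂ := by
      rw [hunion, ← hrange]
      exact ⟨p, rfl⟩
    simp only [S₁, Set.mem_compl_iff, Set.mem_preimage]
    constructor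
    · intro h
      rcases hp with hp | hp
      · exact absurd hp h
      · exact hp
    · intro h h'
      exact Set.disjoint_left.mp hdisj h' h
  have hclopen : IsClopen S₁ := by
    refine ⟨h₁.preimage hcont, ?_⟩
    rw [← isClosed_compl_iff, hS₁c]
    exact h₂.preimage hcont
  obtain ⟨ē, hē, hS₁⟩ := PrimeSpectrum.isClopen_iff.mp hclopen
  obtain ⟨e, he, hee⟩ :=
    Groth.Agent.Lib.helper26.HenselPair.exists_idempotent_lift_of_henselianRing hI C ē hē
  refine ⟨e, he, ?_, ?_⟩
  · intro p hp
    have hpz : p ∈ zeroLocus (K : Set C) := by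
      rw [← hunion]
      exact Or.inl hp
    rw [← hrange] at hpz
    obtain ⟨p', rfl⟩ := hpz
    have hp' : p' ∈ S₁ := hp
    rw [hS₁] at hp'
    intro hmem
    apply hp'
    show ē ∈ p'.asIdeal
    rw [← hee]
    exact hmem
  · intro p hp
    have hpz : p ∈ zeroLocus (K : Set C) := by
      rw [← hunion]
      exact Or.inr hp
    rw [← hrange] at hpz
    obtain ⟨p', rfl⟩ := hpz
    have hp' : p' ∉ S₁ := by
      intro h
      exact Set.disjoint_left.mp hdisj h hp
    rw [hS₁] at hp'
    have : ē ∈ p'.asIdeal := by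
      by_contra h
      exact hp' h
    show q e ∈ p'.asIdeal
    rw [hee]
    exact this

end Algebra

section Topology

variable {Y P : Type*} [TopologicalSpace Y]

/-- A closed surjection with preconnected fibres: images of disjoint closed sets covering a saturated
closed set are disjoint. -/
theorem disjoint_image_of_preconnected_fibres (ψ : Y → P)
    (hfib : ∀ c : P, IsPreconnected (ψ ⁻¹' {c})) (W : Set P)
    (V₁ V₂ : Set Y) (h₁ : IsClosed V₁) (h₂ : IsClosed V₂) (hdisj : Disjoint V₁ V₂)
    (hunion : V₁ ∪ V₂ = ψ ⁻¹' W) : Disjoint (ψ '' V₁) (ψ '' V₂) := by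
  rw [Set.disjoint_left]
  rintro c ⟨y₁, hy₁, rfl⟩ ⟨y₂, hy₂, hy₂c⟩
  have hcW : ψ y₁ ∈ W := by
    have : y₁ ∈ ψ ⁻¹' W := by
      rw [← hunion]
      exact Or.inl hy₁
    exact this
  have hsub : ψ ⁻¹' {ψ y₁} ⊆ V₁ ∪ V₂ := by
    intro y hy
    rw [hunion]
    show ψ y ∈ W
    rw [Set.mem_preimage, Set.mem_singleton_iff] at hy
    rw [hy]
    exact hcW
  have := (isPreconnected_iff_subset_of_disjoint_closed.mp (hfib (ψ y₁))) V₁ V₂ h₁ h₂ hsub
    (by
      rw [Set.disjoint_iff_inter_eq_empty.mp hdisj, Set.inter_empty])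
  rcases this with h | h
  · exact Set.disjoint_left.mp hdisj (h hy₂c) hy₂
  · exact Set.disjoint_left.mp hdisj hy₁ (h rfl)

end Topology

end Groth.Agent.Lib.helper11.HensCouple
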