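import Mathlib
import Groth.Agent.Lib.Helper8.ZConn6

set_option autoImplicit false
universe u
open CategoryTheory CategoryTheory.Limits AlgebraicGeometry Opposite TopologicalSpace

namespace Groth.Agent.Lib.helper11.HensCouple

section Stein

variable {A : Type u} [CommRing A] [IsNoetherianRing A] {Y : Scheme.{u}}
  (h : Y ⟶ Spec (CommRingCat.of A)) [IsProper h]

/-- fibres of a geometrically connected (Stein) proper morphism are preconnected, as subsets. -/
theorem isPreconnected_fibre {X N : Scheme.{u}} (π : X ⟶ N) [IsProper π] [IsLocallyNoetherian N]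
    (hπ : ∀ U : N.Opens, IsIso (π.app U)) (n : N) : _root_.IsPreconnected (π ⁻¹' {n}) := by
  haveI := Groth.Agent.Lib.helper8.ZConn.connectedSpace_pullback π hπ (N.residueField n)
    (N.fromSpecResidueField n)
  have hr : Set.range (pullback.fst π (N.fromSpecResidueField n)) = π ⁻¹' {n} := by
    rw [Scheme.Pullback.range_fst, Scheme.range_fromSpecResidueField]
  rw [← hr]
  exact isPreconnected_range (pullback.fst π (N.fromSpecResidueField n)).continuous

/-- **Stein factorization over a Noetherian affine base, affine form.** -/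
theorem exists_stein :
    ∃ (C : Type u) (_ : CommRing C) (_ : Algebra A C) (_ : Algebra.IsIntegral A C)
      (ψ : Y ⟶ Spec (CommRingCat.of C)),
      ψ ≫ Spec.map (CommRingCat.ofHom (algebraMap A C)) = h ∧ IsClosedMap ψ ∧
        Function.Surjective ψ ∧ ∀ c, _root_.IsPreconnected (ψ ⁻¹' {c}) := by
  haveI : IsLocallyNoetherian (Spec (CommRingCat.of A)) := inferInstance
  let N := h.normalization
  let π : Y ⟶ N := h.toNormalization
  let ν : N ⟶ Spec (CommRingCat.of A) := h.fromNormalization
  haveI : IsAffine N := isAffine_of_isAffineHom ν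
  haveI : IsProper π := Groth.Agent.Lib.helper8.ZConn.isProper_toNormalization h
  haveI : IsLocallyNoetherian N := Groth.Agent.Lib.helper8.ZConn.isLocallyNoetherian_normalization h
  have hπ : ∀ U : N.Opens, IsIso (π.app U) := Groth.Agent.Lib.Lead.SteinUC.isIso_toNormalization_app h
  let α : CommRingCat.of A ⟶ Γ(N, ⊤) := (Scheme.ΓSpecIso (CommRingCat.of A)).inv ≫ ν.appTop
  letI alg : Algebra A Γ(N, ⊤) := α.hom.toAlgebra
  have hint : Algebra.IsIntegral A Γ(N, ⊤) := by
    rw [← algebraMap_isIntegral_iff]
    show α.hom.IsIntegral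
    have h1 : (ν.app ⊤).hom.IsIntegral := IsIntegralHom.isIntegral_app ν ⊤ (isAffineOpen_top _)
    have h2 : (Scheme.ΓSpecIso (CommRingCat.of A)).inv.hom.IsIntegral :=
      RingHom.isIntegral_of_surjective _
        (ConcreteCategory.bijective_of_isIso (Scheme.ΓSpecIso (CommRingCat.of A)).inv).2
    exact RingHom.IsIntegral.trans _ _ h2 h1
  let ψ : Y ⟶ Spec (CommRingCat.of Γ(N, ⊤)) := π ≫ N.isoSpec.hom
  refine ⟨Γ(N, ⊤), inferInstance, alg, hint, ψ, ?_, ?_, ?_, ?_⟩
  · show (π ≫ N.isoSpec.hom) ≫ Spec.map α = h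
    have e1 : N.isoSpec.hom ≫ Spec.map ν.appTop = ν ≫ (Spec (CommRingCat.of A)).isoSpec.hom :=
      Scheme.isoSpec_hom_naturality ν
    have e2 : Spec.map α = Spec.map ν.appTop ≫ Spec.map (Scheme.ΓSpecIso (CommRingCat.of A)).inv :=
      Spec.map_comp _ _
    rw [e2, Category.assoc, reassoc_of% e1, Scheme.isoSpec_Spec_hom, ← Spec.map_comp,
      Iso.inv_hom_id, Spec.map_id, Category.comp_id]
    exact h.toNormalization_fromNormalization
  · exact (N.isoSpec.hom.homeomorph.isClosedMap).comp π.isClosedMap
  · exact (N.isoSpec.hom.homeomorph.surjective).comp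
      (Groth.Agent.Lib.helper8.ZConn.surjective_of_isIso_app π hπ)
  · intro c
    have : ψ ⁻¹' {c} = π ⁻¹' {N.isoSpec.inv c} := by
      ext y
      simp only [Set.mem_preimage, Set.mem_singleton_iff]
      show N.isoSpec.hom (π y) = c ↔ _
      constructor
      · intro hy
        rw [← hy, Scheme.hom_inv_apply]
      · intro hy
        rw [hy, Scheme.inv_hom_apply]
    rw [this]
    exact isPreconnected_fibre π hπ _

end Stein

end Groth.Agent.Lib.helper11.HensCouple
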