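import Mathlib
import Groth.Agent.Lib.Helper11.HensCouple1
import Groth.Agent.Lib.Helper11.HensCouple2

set_option autoImplicit false
universe u
open CategoryTheory CategoryTheory.Limits AlgebraicGeometry Opposite TopologicalSpace

namespace Groth.Agent.Lib.helper11.HensCouple

section Core

variable {A : Type u} [CommRing A]

/-- every nonempty closed subset of `Spec A` meets `V(I)` when `I` lies in the Jacobson radical -/
theorem exists_mem_zeroLocus_of_isClosed (I : Ideal A) (hI : I ≤ Ideal.jacobson ⊥)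
    (t : Set (PrimeSpectrum A)) (ht : IsClosed t) (hne : t.Nonempty) :
    ∃ p ∈ t, p ∈ PrimeSpectrum.zeroLocus (I : Set A) := by
  obtain ⟨K, rfl⟩ := (PrimeSpectrum.isClosed_iff_zeroLocus_ideal t).mp ht
  obtain ⟨p, hp⟩ := hne
  have hK : K ≠ ⊤ := by
    rintro rfl
    have : (1 : A) ∈ p.asIdeal := hp (Submodule.mem_top)
    exact p.2.ne_top ((Ideal.eq_top_iff_one _).mpr this)
  obtain ⟨m, hm, hKm⟩ := Ideal.exists_le_maximal K hK
  refine ⟨⟨m, hm.isPrime⟩, ?_, ?_⟩
  · exact (PrimeSpectrum.mem_zeroLocus _ _).mpr hKm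
  · rw [PrimeSpectrum.mem_zeroLocus]
    intro x hx
    have h1 : x ∈ Ideal.jacobson (⊥ : Ideal A) := hI hx
    rw [Ideal.jacobson, Ideal.mem_sInf] at h1
    exact h1 ⟨bot_le, hm⟩

variable [IsNoetherianRing A]

/-- **Core.** `(A, I)` henselian, `A` Noetherian, `Y` proper over `Spec A`, `j : Y₀ → Y` a closed
embedding onto the preimage of `V(I)`: every clopen subset of `Y₀` is the preimage of a unique
clopen subset of `Y`. -/
theorem existsUnique_clopen (I : Ideal A) (hI : HenselianRing A I) {Y : Scheme.{u}}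
    (h : Y ⟶ Spec (CommRingCat.of A)) [IsProper h] {Y₀ : Type*} [TopologicalSpace Y₀]
    (j : Y₀ → Y) (hj : Topology.IsClosedEmbedding j)
    (hrange : Set.range j = h ⁻¹' (PrimeSpectrum.zeroLocus (I : Set A)))
    (V : Set Y₀) (hV : IsClopen V) : ∃! U : Set Y, IsClopen U ∧ j ⁻¹' U = V := by
  obtain ⟨C, _, _, _, ψ, hψh, hcl, hsurj, hfib⟩ := exists_stein h
  set W : Set (PrimeSpectrum C) := PrimeSpectrum.zeroLocus (I.map (algebraMap A C) : Set C) with hW
  -- `range j = ψ⁻¹ W`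
  have hrange' : Set.range j = ψ ⁻¹' W := by
    rw [hrange]
    ext y
    simp only [Set.mem_preimage]
    have hy : h y = (Spec.map (CommRingCat.ofHom (algebraMap A C))) (ψ y) := by
      rw [← Scheme.Hom.comp_apply, hψh]
    rw [hy]
    let p : PrimeSpectrum C := ψ y
    show PrimeSpectrum.comap (algebraMap A C) p ∈ PrimeSpectrum.zeroLocus (I : Set A) ↔
      p ∈ PrimeSpectrum.zeroLocus (I.map (algebraMap A C) : Set C)
    rw [PrimeSpectrum.mem_zeroLocus, PrimeSpectrum.mem_zeroLocus, SetLike.coe_subset_coe,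
      SetLike.coe_subset_coe, Ideal.map_le_iff_le_comap]
    rfl
  let V₁ : Set Y := j '' V
  let V₂ : Set Y := j '' Vᶜ
  have h₁ : IsClosed V₁ := hj.isClosedMap _ hV.1
  have h₂ : IsClosed V₂ := hj.isClosedMap _ hV.2.isClosed_compl
  have hdisj : Disjoint V₁ V₂ := by
    rw [Set.disjoint_image_iff hj.injective]
    exact disjoint_compl_right
  have hunion : V₁ ∪ V₂ = ψ ⁻¹' W := by
    rw [← hrange', ← Set.image_union, Set.union_compl_self, Set.image_univ]
  have hT₁ : IsClosed (ψ '' V₁) := hcl _ h₁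
  have hT₂ : IsClosed (ψ '' V₂) := hcl _ h₂
  have hTdisj : Disjoint (ψ '' V₁) (ψ '' V₂) :=
    disjoint_image_of_preconnected_fibres ψ hfib W V₁ V₂ h₁ h₂ hdisj hunion
  have hTunion : ψ '' V₁ ∪ ψ '' V₂ = W := by
    rw [← Set.image_union, hunion, Set.image_preimage_eq _ hsurj]
  obtain ⟨e, he, he₁, he₂⟩ :=
    exists_idempotent_of_closed_cover hI C (ψ '' V₁) (ψ '' V₂) hT₁ hT₂ hTdisj hTunion
  have hclopenD : IsClopen ((PrimeSpectrum.basicOpen e : Set (PrimeSpectrum C))) :=
    PrimeSpectrum.isClopen_iff.mpr ⟨e, he, rfl⟩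
  refine ⟨ψ ⁻¹' (PrimeSpectrum.basicOpen e : Set (PrimeSpectrum C)),
    ⟨hclopenD.preimage ψ.continuous, ?_⟩, ?_⟩
  · ext y₀
    simp only [Set.mem_preimage]
    constructor
    · intro hy
      by_contra hyV
      have : ψ (j y₀) ∈ ψ '' V₂ := ⟨j y₀, ⟨y₀, hyV, rfl⟩, rfl⟩
      exact hy (he₂ _ this)
    · intro hyV
      have : ψ (j y₀) ∈ ψ '' V₁ := ⟨j y₀, ⟨y₀, hyV, rfl⟩, rfl⟩
      exact he₁ _ this
  · rintro U' ⟨hU', hU'V⟩
    set U := ψ ⁻¹' (PrimeSpectrum.basicOpen e : Set (PrimeSpectrum C)) with hU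
    have hUcl : IsClopen U := hclopenD.preimage ψ.continuous
    have hUV : j ⁻¹' U = V := by
      ext y₀
      simp only [Set.mem_preimage]
      constructor
      · intro hy
        by_contra hyV
        have : ψ (j y₀) ∈ ψ '' V₂ := ⟨j y₀, ⟨y₀, hyV, rfl⟩, rfl⟩
        exact hy (he₂ _ this)
      · intro hyV
        have : ψ (j y₀) ∈ ψ '' V₁ := ⟨j y₀, ⟨y₀, hyV, rfl⟩, rfl⟩
        exact he₁ _ this
    -- the symmetric difference is closed and misses `range j`
    let D : Set Y := (U' \ U) ∪ (U \ U')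
    have hDcl : IsClosed D :=
      (hU'.1.inter hUcl.2.isClosed_compl).union (hUcl.1.inter hU'.2.isClosed_compl)
    have hDj : ∀ y ∈ D, y ∉ Set.range j := by
      rintro y hy ⟨y₀, rfl⟩
      have e1 : j y₀ ∈ U' ↔ y₀ ∈ V := by rw [← hU'V]; rfl
      have e2 : j y₀ ∈ U ↔ y₀ ∈ V := by rw [← hUV]; rfl
      rcases hy with ⟨a, b⟩ | ⟨a, b⟩
      · exact b (e2.mpr (e1.mp a))
      · exact b (e1.mpr (e2.mp a))
    have hDempty : D = ∅ := by
      by_contra hne
      have hne' : D.Nonempty := Set.nonempty_iff_ne_empty.mpr hne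
      obtain ⟨p, ⟨y, hyD, rfl⟩, hpI⟩ := exists_mem_zeroLocus_of_isClosed I hI.jac (h '' D)
        (h.isClosedMap _ hDcl) (hne'.image _)
      apply hDj y hyD
      rw [hrange]
      exact hpI
    ext y
    constructor
    · intro hy
      by_contra hyU
      have : y ∈ D := Or.inl ⟨hy, hyU⟩
      rw [hDempty] at this
      exact this
    · intro hy
      by_contra hyU
      have : y ∈ D := Or.inr ⟨hy, hyU⟩
      rw [hDempty] at this
      exact this

end Core

end Groth.Agent.Lib.helper11.HensCouple
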