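import Mathlib
import Groth.Prelude.Def_FSch5
import Groth.Agent.Lib.Helper11.OverPres
import Groth.Agent.Lib.Helper11.RealModBC

set_option autoImplicit false
universe u
open CategoryTheory CategoryTheory.Limits AlgebraicGeometry TopologicalSpace Opposite
open Groth.Agent.Lib.helper11.AdicRingLim Groth.Agent.Lib.helper11.RealLimSec
open Groth.Agent.Lib.helper11.FormalOpenTower Groth.Agent.Lib.helper11.FormalOpenRing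
open Groth.Agent.Lib.helper8.PullbackUnit Groth.Agent.Lib.helper11.RealModBC
open Groth.Agent.Lib.helper11

namespace Groth.Agent.Lib.helper11.RealModCoh

variable (𝔛 : FSch.Sys.{u}) (h𝔛 : 𝔛.IsLocNoethFormal) (𝔐 : FSch.ModSys 𝔛) (h𝔐 : 𝔐.IsCoh)

section local_

variable (W : (𝔛.X 0).Opens) (hW : IsAffineOpen W)
  {I K : Type u} [Fintype I] [Fintype K]
  (m : I → FU 𝔛 h𝔛.1 W 𝔐.F 𝔐.toPush) (a : K → I → OU 𝔛 h𝔛.1 W)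
  (hgenN : ∀ n : FU 𝔛 h𝔛.1 W 𝔐.F 𝔐.toPush, ∃ c : I → OU 𝔛 h𝔛.1 W, n = ∑ i, c i • m i)
  (hsyzN : ∀ c : I → OU 𝔛 h𝔛.1 W, ∑ i, c i • m i = 0 →
    ∃ e : K → OU 𝔛 h𝔛.1 W, ∀ i, c i = ∑ κ, e κ * a κ i)
  {D : (𝔛.X 0).Opens} (hD : IsAffineOpen D) (hDW : D ≤ W)

include h𝔐 hW hD hgenN in
theorem gen_D (y : FU 𝔛 h𝔛.1 D 𝔐.F 𝔐.toPush) :
    ∃ c' : I → OU 𝔛 h𝔛.1 D, y = ∑ i, c' i • resF 𝔛 h𝔛 𝔐 hDW (m i) :=
  BCLim.IsBC.gen (isBC_resF 𝔛 h𝔛 𝔐 h𝔐 hDW hW hD) m hgenN y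

include h𝔐 hW hD hgenN hsyzN in
theorem syz_D (c' : I → OU 𝔛 h𝔛.1 D) (hc' : ∑ i, c' i • resF 𝔛 h𝔛 𝔐 hDW (m i) = 0) :
    ∃ e' : K → OU 𝔛 h𝔛.1 D, ∀ i, c' i = ∑ κ, e' κ * resO 𝔛 h𝔛.1 hDW (a κ i) := by
  classical
  exact BCLim.IsBC.syz (isBC_resF 𝔛 h𝔛 𝔐 h𝔐 hDW hW hD) m a hgenN hsyzN c' hc'

end local_

include h𝔐 in
theorem exists_gen_rel (W : (𝔛.X 0).Opens) (hW : IsAffineOpen W) :
    ∃ (I K : Type u) (_ : Fintype I) (_ : Fintype K)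
      (m : I → FU 𝔛 h𝔛.1 W 𝔐.F 𝔐.toPush) (a : K → I → OU 𝔛 h𝔛.1 W),
      (∀ κ, ∑ i, a κ i • m i = 0) ∧
      (∀ n : FU 𝔛 h𝔛.1 W 𝔐.F 𝔐.toPush, ∃ c : I → OU 𝔛 h𝔛.1 W, n = ∑ i, c i • m i) ∧
      (∀ c : I → OU 𝔛 h𝔛.1 W, ∑ i, c i • m i = 0 →
        ∃ e : K → OU 𝔛 h𝔛.1 W, ∀ i, c i = ∑ κ, e κ * a κ i) := by
  classical
  haveI := isNoetherianRing_OU 𝔛 h𝔛 W hW
  haveI := finite_FU 𝔛 h𝔛 W hW 𝔐 h𝔐
  obtain ⟨s, hs⟩ := Module.Finite.fg_top (R := OU 𝔛 h𝔛.1 W) (M := FU 𝔛 h𝔛.1 W 𝔐.F 𝔐.toPush)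
  let m : ↥s → FU 𝔛 h𝔛.1 W 𝔐.F 𝔐.toPush := Subtype.val
  let L : (↥s → OU 𝔛 h𝔛.1 W) →ₗ[OU 𝔛 h𝔛.1 W] FU 𝔛 h𝔛.1 W 𝔐.F 𝔐.toPush :=
    Fintype.linearCombination (OU 𝔛 h𝔛.1 W) m
  have hL : ∀ c, L c = ∑ i, c i • m i := fun c => Fintype.linearCombination_apply _ _ _
  obtain ⟨t, ht⟩ := IsNoetherian.noetherian (LinearMap.ker L)
  refine ⟨↥s, ↥t, inferInstance, inferInstance, m, fun κ => κ.1, ?_, ?_, ?_⟩
  · intro κ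
    rw [← hL, ← LinearMap.mem_ker, ← ht]
    exact Submodule.subset_span κ.2
  · intro n
    have hn : n ∈ Submodule.span (OU 𝔛 h𝔛.1 W) (Set.range m) := by
      rw [Subtype.range_coe, hs]
      trivial
    rw [Submodule.mem_span_range_iff_exists_fun] at hn
    obtain ⟨c, hc⟩ := hn
    exact ⟨c, hc.symm⟩
  · intro c hc
    have h1 : c ∈ LinearMap.ker L := by
      rw [LinearMap.mem_ker, hL]
      exact hc
    rw [← ht, ← Subtype.range_coe (s := (t : Set (↥s → OU 𝔛 h𝔛.1 W))),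
      Submodule.mem_span_range_iff_exists_fun] at h1
    obtain ⟨e, he⟩ := h1
    refine ⟨e, fun i => ?_⟩
    have := congrArg (fun f => f i) he
    simp only [Finset.sum_apply, Pi.smul_apply, smul_eq_mul] at this
    exact this.symm

include h𝔐 in
/-- **EGA I 10.10.5/10.11.3**: the `O_𝔛`-module `lim (u_k)_* F_k` of a coherent system on a locally
Noetherian formal scheme is of finite presentation. -/
theorem isFinitePresentation_realLim :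
    SheafOfModules.IsFinitePresentation (R := ModSite.ringSh (𝔛.Osh h𝔛.1))
      (FSch.realLim 𝔛 h𝔛.1 𝔐.F 𝔐.toPush) := by
  choose I K fI fK m a hrel hgenN hsyzN using
    fun W : (𝔛.X 0).affineOpens => exists_gen_rel 𝔛 h𝔛 𝔐 h𝔐 W.1 W.2
  letI : ∀ W, Fintype (I W) := fI
  letI : ∀ W, Fintype (K W) := fK
  refine OverPres.isFinitePresentation_of_local (FSch.realLim 𝔛 h𝔛.1 𝔐.F 𝔐.toPush)
    (fun W : (𝔛.X 0).affineOpens => W.1) (iSup_affineOpens_eq_top _)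
    ((𝔛.X 0).affineOpens) (𝔛.X 0).isBasis_affineOpens I K m a hrel ?_ ?_
  · intro W D hD hDW y
    obtain ⟨c', hc'⟩ := gen_D 𝔛 h𝔛 𝔐 h𝔐 W.1 W.2 (m W) (hgenN W) hD hDW y
    rw [Submodule.mem_span_range_iff_exists_fun]
    exact ⟨c', hc'.symm⟩
  · intro W D hD hDW c hc
    exact syz_D 𝔛 h𝔛 𝔐 h𝔐 W.1 W.2 (m W) (a W) (hgenN W) (hsyzN W) hD hDW c hc

end Groth.Agent.Lib.helper11.RealModCoh
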