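import Mathlib
import Groth.Prelude.Def_FSch5
import Groth.Agent.Lib.Helper11.CohTower
import Groth.Agent.Lib.Helper11.LevelPushFF

/-!
# The universal property of `lim (u_j)_* F_j ⟶ (u_k)_* F_k` (helper11; EGA I 10.11.3)

For a coherent system `𝔐` on a locally Noetherian formal system: `epi_realProj`,
`hom_ext_realProj`, `kernel_comp_eq_zero`, `exists_desc`: composition with the projection is a
bijection `Hom(F_k, W) ≃ Hom(lim (u_j)_* F_j, (u_k)_* W)` for every `O_{X_k}`-module `W`.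
-/

set_option autoImplicit false
universe u
open CategoryTheory CategoryTheory.Limits AlgebraicGeometry TopologicalSpace Opposite
open Groth.Agent.Lib.helper11.RealLimSec Groth.Agent.Lib.helper11.FormalOpenTower
open Groth.Agent.Lib.helper11.CohTower Groth.Agent.Lib.helper11.LevelPushFF
open Groth.Agent.Lib.helper11.ModTop

namespace Groth.Agent.Lib.helper11.RealProjUniv

variable (𝔛 : FSch.Sys.{u}) (h𝔛 : 𝔛.IsLocNoethFormal) (𝔐 : FSch.ModSys 𝔛) (h𝔐 : 𝔐.IsCoh) (k : ℕ)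

include h𝔐 in
/-- the projections `lim (u_j)_* F_j ⟶ (u_k)_* F_k` are epimorphisms -/
theorem epi_realProj : Epi (FSch.realProj 𝔛 h𝔛.1 𝔐.F 𝔐.toPush k) := by
  refine epi_of_surjective_on_basis _ (𝔛.X 0).affineOpens (𝔛.X 0).isBasis_affineOpens
    (fun U hU => ?_)
  exact (tower_main 𝔛 𝔐 U h𝔛 h𝔐 hU k).1

include h𝔐 in
theorem hom_ext_realProj {W : (𝔛.X k).Modules} (ψ₁ ψ₂ : 𝔐.F k ⟶ W)
    (hψ : FSch.realProj 𝔛 h𝔛.1 𝔐.F 𝔐.toPush k ≫ (FSch.levelMor 𝔛 h𝔛.1 k).push.map ψ₁ =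
      FSch.realProj 𝔛 h𝔛.1 𝔐.F 𝔐.toPush k ≫ (FSch.levelMor 𝔛 h𝔛.1 k).push.map ψ₂) : ψ₁ = ψ₂ := by
  haveI := epi_realProj 𝔛 h𝔛 𝔐 h𝔐 k
  exact push_faithful 𝔛 h𝔛.1 k ψ₁ ψ₂ ((cancel_epi _).mp hψ)

include h𝔐 in
theorem kernel_comp_eq_zero {W : (𝔛.X k).Modules}
    (Ψ : 𝔐.realMod h𝔛.1 ⟶ (FSch.levelMor 𝔛 h𝔛.1 k).push.obj W) :
    kernel.ι (FSch.realProj 𝔛 h𝔛.1 𝔐.F 𝔐.toPush k) ≫ Ψ = 0 := by
  refine eq_zero_of_basis _ (𝔛.X 0).affineOpens (𝔛.X 0).isBasis_affineOpens (fun U hU s => ?_)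
  let y : FU 𝔛 h𝔛.1 U 𝔐.F 𝔐.toPush :=
    ((kernel.ι (FSch.realProj 𝔛 h𝔛.1 𝔐.F 𝔐.toPush k)).val.app (op U)).hom s
  have hy : secProj 𝔛 h𝔛.1 U 𝔐.F 𝔐.toPush k y = 0 := by
    have h1 : kernel.ι (FSch.realProj 𝔛 h𝔛.1 𝔐.F 𝔐.toPush k) ≫
        FSch.realProj 𝔛 h𝔛.1 𝔐.F 𝔐.toPush k = 0 := kernel.condition _
    have h2 := congrArg (fun φ => (φ.val.app (op U)).hom s) h1
    exact h2
  have hmem := (tower_main 𝔛 𝔐 U h𝔛 h𝔐 hU k).2 y hy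
  change (Ψ.val.app (op U)).hom y = 0
  refine AddSubgroup.closure_induction (p := fun z _ => (Ψ.val.app (op U)).hom z = 0)
    ?_ ?_ ?_ ?_ hmem
  · rintro z ⟨a, y', ha, rfl⟩
    have h1 := (Ψ.val.app (op U)).hom.map_smul a y'
    refine h1.trans ?_
    change prU 𝔛 h𝔛.1 U k a • (show Γ(W, 𝔛.lvU h𝔛.1 k U) from (Ψ.val.app (op U)).hom y') = 0
    rw [ha, zero_smul]
  · exact map_zero _
  · intro z₁ z₂ _ _ h₁ h₂
    rw [map_add, h₁, h₂, add_zero]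
  · intro z _ hz
    rw [map_neg, hz, neg_zero]

include h𝔐 in
/-- **universal property of the projection**: every `O_𝔛`-linear map from `lim (u_j)_* F_j` to a
module coming from the level `k` factors through the projection to `(u_k)_* F_k`. -/
theorem exists_desc {W : (𝔛.X k).Modules}
    (Ψ : 𝔐.realMod h𝔛.1 ⟶ (FSch.levelMor 𝔛 h𝔛.1 k).push.obj W) :
    ∃ ψ : 𝔐.F k ⟶ W,
      FSch.realProj 𝔛 h𝔛.1 𝔐.F 𝔐.toPush k ≫ (FSch.levelMor 𝔛 h𝔛.1 k).push.map ψ = Ψ := by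
  haveI := epi_realProj 𝔛 h𝔛 𝔐 h𝔐 k
  let ψ' := Abelian.epiDesc (FSch.realProj 𝔛 h𝔛.1 𝔐.F 𝔐.toPush k) Ψ
    (kernel_comp_eq_zero 𝔛 h𝔛 𝔐 h𝔐 k Ψ)
  obtain ⟨ψ, hψ⟩ := push_full 𝔛 h𝔛.1 k ψ'
  refine ⟨ψ, ?_⟩
  rw [hψ]
  exact Abelian.comp_epiDesc _ _ _

end Groth.Agent.Lib.helper11.RealProjUniv
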