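import Groth.Agent.Lib.Helper11.PullPres
import Groth.Agent.Lib.Helper11.RealModCoh
import Groth.Agent.Lib.Helper11.RealProjUniv

/-!
# The system of inverse images of an `O_𝔛`-module to the levels (helper11; EGA I 10.11.3)

For a formal system `𝔛` and an `O_𝔛`-module `𝔉`: `sys 𝔛 h 𝔉 : FSch.ModSys 𝔛` with levels
`u_k^* 𝔉` and the canonical transition isomorphisms, and the canonical morphism
`eta : 𝔉 ⟶ (sys 𝔛 h 𝔉).realMod h` with `eta ≫ realProj k = unit_k` (`eta_realProj`).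
-/

set_option autoImplicit false
set_option backward.isDefEq.respectTransparency false
universe u
open CategoryTheory CategoryTheory.Limits AlgebraicGeometry TopologicalSpace Opposite

namespace Groth.Agent.Lib.helper11.FormalPull

open FSch

variable (𝔛 : FSch.Sys.{u}) (h : 𝔛.IsFormal)

/-- the comparison of direct images as an isomorphism of functors -/
noncomputable def pushCompareIso (k : ℕ) :
    Scheme.Modules.pushforward (𝔛.ι k) ⋙ (levelMor 𝔛 h (k + 1)).push ≅ (levelMor 𝔛 h k).push where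
  hom := pushCompare 𝔛 h k
  inv := pushCompareInv 𝔛 h k
  hom_inv_id := by
    ext G : 2
    exact pushCompare_pushCompareInv 𝔛 h k G
  inv_hom_id := by
    ext G : 2
    exact pushCompareInv_pushCompare 𝔛 h k G

/-- the composite adjunction `u_{k+1}^* ⋙ ι_k^* ⊣ ι_{k*} ⋙ u_{k+1 *}` -/
noncomputable def adjComp (k : ℕ) :
    (levelMor 𝔛 h (k + 1)).pull ⋙ Scheme.Modules.pullback (𝔛.ι k) ⊣
      Scheme.Modules.pushforward (𝔛.ι k) ⋙ (levelMor 𝔛 h (k + 1)).push :=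
  (levelMor 𝔛 h (k + 1)).adj.comp (Scheme.Modules.pullbackPushforwardAdjunction (𝔛.ι k))

/-- the canonical isomorphism `ι_k^* u_{k+1}^* ≅ u_k^*` -/
noncomputable def pullIso (k : ℕ) :
    (levelMor 𝔛 h (k + 1)).pull ⋙ Scheme.Modules.pullback (𝔛.ι k) ≅ (levelMor 𝔛 h k).pull :=
  (conjugateIsoEquiv (levelMor 𝔛 h k).adj (adjComp 𝔛 h k)).symm (pushCompareIso 𝔛 h k).symm

variable (𝔉 : FSch.ModF 𝔛 h)

/-- the system of inverse images of `𝔉` to the levels -/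
noncomputable def sys : FSch.ModSys 𝔛 where
  F k := (levelMor 𝔛 h k).pull.obj 𝔉
  e k := (pullIso 𝔛 h k).app 𝔉

theorem sys_F (k : ℕ) : (sys 𝔛 h 𝔉).F k = (levelMor 𝔛 h k).pull.obj 𝔉 := rfl

/-- the units are compatible with the transition maps of the system -/
theorem unit_toPush (k : ℕ) :
    (levelMor 𝔛 h (k + 1)).adj.unit.app 𝔉 ≫
      ((levelMor 𝔛 h (k + 1)).push.map ((sys 𝔛 h 𝔉).toPush k) ≫
        (pushCompare 𝔛 h k).app ((sys 𝔛 h 𝔉).F k)) = (levelMor 𝔛 h k).adj.unit.app 𝔉 := by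
  have h1 := unit_conjugateEquiv_symm (levelMor 𝔛 h k).adj (adjComp 𝔛 h k)
    (pushCompareInv 𝔛 h k) 𝔉
  have h2 : (adjComp 𝔛 h k).unit.app 𝔉 = (levelMor 𝔛 h (k + 1)).adj.unit.app 𝔉 ≫
      (levelMor 𝔛 h (k + 1)).push.map
        ((Scheme.Modules.pullbackPushforwardAdjunction (𝔛.ι k)).unit.app
          ((levelMor 𝔛 h (k + 1)).pull.obj 𝔉)) :=
    Adjunction.comp_unit_app _ _ 𝔉
  have h3 : (sys 𝔛 h 𝔉).toPush k =
      (Scheme.Modules.pullbackPushforwardAdjunction (𝔛.ι k)).unit.app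
        ((levelMor 𝔛 h (k + 1)).pull.obj 𝔉) ≫
      (Scheme.Modules.pushforward (𝔛.ι k)).map ((pullIso 𝔛 h k).hom.app 𝔉) :=
    Adjunction.homEquiv_unit _ _ _ _
  rw [h3, Functor.map_comp, ← Category.assoc, ← Category.assoc]
  have h4 : ((levelMor 𝔛 h (k + 1)).adj.unit.app 𝔉 ≫
      (levelMor 𝔛 h (k + 1)).push.map
        ((Scheme.Modules.pullbackPushforwardAdjunction (𝔛.ι k)).unit.app
          ((levelMor 𝔛 h (k + 1)).pull.obj 𝔉))) ≫
      (levelMor 𝔛 h (k + 1)).push.map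
        ((Scheme.Modules.pushforward (𝔛.ι k)).map ((pullIso 𝔛 h k).hom.app 𝔉)) =
      (levelMor 𝔛 h k).adj.unit.app 𝔉 ≫ (pushCompareInv 𝔛 h k).app _ := by
    rw [← h2]
    exact h1.symm
  rw [h4, Category.assoc]
  have h5 := pushCompareInv_pushCompare 𝔛 h k ((levelMor 𝔛 h k).pull.obj 𝔉)
  change _ ≫ ((pushCompareInv 𝔛 h k).app ((levelMor 𝔛 h k).pull.obj 𝔉) ≫
    (pushCompare 𝔛 h k).app ((levelMor 𝔛 h k).pull.obj 𝔉)) = _
  rw [h5, Category.comp_id]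

/-- the cone of units -/
noncomputable def etaCone : Cone (levelSysOf 𝔛 h (sys 𝔛 h 𝔉).F (sys 𝔛 h 𝔉).toPush) where
  pt := 𝔉
  π := NatTrans.ofOpSequence (fun k => (levelMor 𝔛 h k).adj.unit.app 𝔉) (fun k => by
    simp only [Functor.const_obj_obj, Functor.const_obj_map, Category.id_comp]
    rw [levelSysOf_map_succ]
    exact (unit_toPush 𝔛 h 𝔉 k).symm)

/-- the canonical morphism `𝔉 ⟶ lim_k (u_k)_* u_k^* 𝔉` -/
noncomputable def eta : 𝔉 ⟶ (sys 𝔛 h 𝔉).realMod h :=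
  limit.lift _ (etaCone 𝔛 h 𝔉)

theorem eta_realProj (k : ℕ) :
    eta 𝔛 h 𝔉 ≫ realProj 𝔛 h (sys 𝔛 h 𝔉).F (sys 𝔛 h 𝔉).toPush k =
      (levelMor 𝔛 h k).adj.unit.app 𝔉 :=
  limit.lift_π _ _

end Groth.Agent.Lib.helper11.FormalPull
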