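import Groth.Agent.Lib.Helper11.LocPres

/-!
# Local generators and relations from a finite presentation (helper11)
-/

set_option autoImplicit false
universe u
open CategoryTheory CategoryTheory.Limits TopologicalSpace Opposite

namespace Groth.Agent.Lib.helper11.LocPres

open Groth.Agent.Lib.helper11.OverGen Groth.Agent.Lib.helper11.FreeSec
  Groth.Agent.Lib.helper11.EpiLocSurj Groth.Agent.Lib.helper11.LocGen
  Groth.Agent.Lib.helper11.OverPres

variable {T : TopCat.{u}} {R : Sheaf (Opens.grothendieckTopology T) RingCat.{u}}
  {M : SheafOfModules.{u} R}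

/-- the value of a section of `N` (a sheaf on `Over W`) over `D ≤ W` is the restriction of its value on `W` -/
theorem secVal_over {W : Opens T} {N : SheafOfModules.{u} (R.over W)} (s : N.sections)
    {D : Opens T} (hD : D ≤ W) :
    secVal s (op (Over.mk (homOfLE hD))) =
      (N.val.map (Over.homMk (homOfLE hD) (Subsingleton.elim _ _) :
        Over.mk (homOfLE hD) ⟶ Over.mk (𝟙 W)).op).hom (secVal s (op (Over.mk (𝟙 W)))) :=
  (PresheafOfModules.sections_property s _).symm

section

variable (W : Opens T) (P : (M.over W).Presentation) [Fintype P.generators.I]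
  [Fintype P.relations.I] [DecidableEq P.generators.I] [DecidableEq P.relations.I]

/-- the generators over `W` -/
noncomputable def genOf (l : P.generators.I) : M.val.obj (op W) :=
  (P.generators.s l).val (op (Over.mk (𝟙 W)))

/-- the relations over `W` -/
noncomputable def relOf (k : P.relations.I) (l : P.generators.I) : R.obj.obj (op W) :=
  ((coord (R := R.over W) l).val.app (op (Over.mk (𝟙 W)))).hom
    (((kernel.ι P.generators.π).val.app (op (Over.mk (𝟙 W)))).hom
      (secVal (P.relations.s k) (op (Over.mk (𝟙 W)))))

theorem secVal_gen {D : Opens T} (hD : D ≤ W) (l : P.generators.I) :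
    secVal (P.generators.s l) (op (Over.mk (homOfLE hD))) = resM M hD (genOf W P l) :=
  secVal_over (P.generators.s l) hD

theorem locSpan_genOf : LocSpan M W (genOf W P) := by
  have hs : P.generators.s = fun l => secOver M W (genOf W P l) := by
    funext l
    exact sections_eq_secOver W _
  haveI : Epi ((M.over W).freeHomEquiv.symm (fun l => secOver M W (genOf W P l))) := by
    rw [← hs]
    exact P.generators.epi
  haveI : Finite P.generators.I := inferInstance
  exact locSpan_of_epi W (genOf W P)

theorem relOf_rel (k : P.relations.I) : ∑ l, relOf W P k l • genOf W P l = 0 := by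
  have h1 : (P.generators.π.val.app (op (Over.mk (𝟙 W)))).hom
      (((kernel.ι P.generators.π).val.app (op (Over.mk (𝟙 W)))).hom
        (secVal (P.relations.s k) (op (Over.mk (𝟙 W))))) = 0 := by
    have h := kernel.condition P.generators.π
    exact congrArg (fun ψ => (ψ.val.app (op (Over.mk (𝟙 W)))).hom
      (secVal (P.relations.s k) (op (Over.mk (𝟙 W))))) h
  rw [π_apply] at h1
  exact h1

theorem coord_kerι_rel {D : Opens T} (hD : D ≤ W) (k : P.relations.I) (l : P.generators.I) :
    (show R.obj.obj (op D) from ((coord (R := R.over W) l).val.app (op (Over.mk (homOfLE hD)))).hom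
      (((kernel.ι P.generators.π).val.app (op (Over.mk (homOfLE hD)))).hom
        (secVal (P.relations.s k) (op (Over.mk (homOfLE hD)))))) = resR hD (relOf W P k l) := by
  rw [secVal_over (P.relations.s k) hD]
  let g : Over.mk (homOfLE hD) ⟶ Over.mk (𝟙 W) := Over.homMk (homOfLE hD) (Subsingleton.elim _ _)
  have h1 := PresheafOfModules.naturality_apply (kernel.ι P.generators.π).val g.op
    (secVal (P.relations.s k) (op (Over.mk (𝟙 W))))
  have h2 := PresheafOfModules.naturality_apply (coord (R := R.over W) l).val g.op
    (((kernel.ι P.generators.π).val.app (op (Over.mk (𝟙 W)))).hom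
      (secVal (P.relations.s k) (op (Over.mk (𝟙 W)))))
  exact (congrArg _ h1).trans h2

theorem locSyz_relOf : LocSyz M W (genOf W P) (relOf W P) := by
  refine ⟨relOf_rel W P, ?_⟩
  intro D hD c hc x hx
  -- the element of the kernel with coordinates `c`
  have hπ : (P.generators.π.val.app (op (Over.mk (homOfLE hD)))).hom
      (ofCoord (R := R.over W) (op (Over.mk (homOfLE hD))) c) = 0 := by
    rw [π_ofCoord]
    refine Eq.trans ?_ hc
    refine Finset.sum_congr rfl (fun l _ => ?_)
    rw [secVal_gen W P hD l]
    rfl
  obtain ⟨y, hy⟩ := (Groth.Agent.Lib.helper7.KerSections.sections_leftExact_general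
    (ShortComplex.mk (kernel.ι P.generators.π) P.generators.π (kernel.condition _))
    (ShortComplex.exact_of_f_is_kernel _ (kernelIsKernel _)) (op (Over.mk (homOfLE hD)))).2 _ hπ
  haveI := P.relations.epi
  obtain ⟨D', hD', hxD', w, hw⟩ := exists_local_preimage_over P.relations.π D hD y x hx
  refine ⟨D', hD', hxD', fun k => ((coord (R := R.over W) k).val.app
    (op (Over.mk (homOfLE (hD'.trans hD))))).hom w, fun l => ?_⟩
  let g : Over.mk (homOfLE (hD'.trans hD)) ⟶ Over.mk (homOfLE hD) :=
    Over.homMk (homOfLE hD') (Subsingleton.elim _ _)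
  rw [π_apply] at hw
  have h3 := congrArg (fun t => ((coord (R := R.over W) l).val.app
    (op (Over.mk (homOfLE (hD'.trans hD))))).hom
      (((kernel.ι P.generators.π).val.app (op (Over.mk (homOfLE (hD'.trans hD))))).hom t)) hw
  simp only [map_sum, map_smul] at h3
  have h4 : ((coord (R := R.over W) l).val.app (op (Over.mk (homOfLE (hD'.trans hD))))).hom
      (((kernel.ι P.generators.π).val.app (op (Over.mk (homOfLE (hD'.trans hD))))).hom
        (((kernel P.generators.π).val.map g.op).hom y)) = resR hD' (c l) := by
    have h1 := PresheafOfModules.naturality_apply (kernel.ι P.generators.π).val g.op y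
    have h2 := PresheafOfModules.naturality_apply (coord (R := R.over W) l).val g.op
      (((kernel.ι P.generators.π).val.app (op (Over.mk (homOfLE hD)))).hom y)
    refine ((congrArg _ h1).trans h2).trans ?_
    rw [hy, coord_ofCoord]
    rfl
  refine h4.symm.trans (h3.symm.trans ?_)
  refine Finset.sum_congr rfl (fun k _ => ?_)
  exact congrArg (fun t : R.obj.obj (op D') => (show R.obj.obj (op D') from
    ((coord (R := R.over W) k).val.app (op (Over.mk (homOfLE (hD'.trans hD))))).hom w) * t)
    (coord_kerι_rel W P (hD'.trans hD) k l)

end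

/-- local generators and relations of a finitely presented module -/
theorem exists_locPres_of_isFinitePresentation (M : SheafOfModules.{u} R)
    [SheafOfModules.IsFinitePresentation (R := R) M] (x : T) :
    ∃ (U : Opens T), x ∈ U ∧ ∃ (I K : Type u) (_ : Fintype I) (_ : Fintype K)
      (m : I → M.val.obj (op U)) (a : K → I → R.obj.obj (op U)),
      LocSpan M U m ∧ LocSyz M U m a := by
  classical
  obtain ⟨σ, hσ⟩ := SheafOfModules.IsFinitePresentation.exists_quasicoherentData (R := R) M
  have hcov := (Opens.coversTop_iff _ _).mp σ.coversTop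
  have hx : x ∈ (⨆ i, σ.X i) := hcov ▸ Opens.mem_top x
  obtain ⟨i, hi⟩ := Opens.mem_iSup.mp hx
  haveI : Finite (σ.presentation i).generators.I :=
    ((hσ.isFinite_presentation i).isFiniteType_generators).finite
  haveI : Finite (σ.presentation i).relations.I :=
    ((hσ.isFinite_presentation i).isFiniteType_relations).finite
  letI : Fintype (σ.presentation i).generators.I := Fintype.ofFinite _
  letI : Fintype (σ.presentation i).relations.I := Fintype.ofFinite _
  exact ⟨σ.X i, hi, _, _, inferInstance, inferInstance, genOf (σ.X i) (σ.presentation i),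
    relOf (σ.X i) (σ.presentation i), locSpan_genOf _ _, locSyz_relOf _ _⟩

end Groth.Agent.Lib.helper11.LocPres
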