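import Groth.Agent.Lib.Helper11.FormalPull
import Groth.Agent.Lib.Helper11.LocPres2

/-!
# Inverse images of finitely presented modules are finitely presented (helper11)
-/

set_option autoImplicit false
set_option backward.isDefEq.respectTransparency false
universe u
open CategoryTheory CategoryTheory.Limits AlgebraicGeometry TopologicalSpace Opposite

namespace Groth.Agent.Lib.helper11.PullPres

open Groth.Agent.Lib.helper11.LocGen Groth.Agent.Lib.helper11.LocPres

variable {Z X : TopCat.{u}} (i : Z ⟶ X)
  {O_Z : TopCat.Sheaf CommRingCat.{u} Z} {O_X : TopCat.Sheaf CommRingCat.{u} X}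
  (c : O_X ⟶ ((TopologicalSpace.Opens.map i).sheafPushforwardContinuous CommRingCat.{u}
      (Opens.grothendieckTopology X) (Opens.grothendieckTopology Z)).obj O_Z)

/-- the inverse image of a finitely presented module is finitely presented -/
theorem isFinitePresentation_pull (M : ModSite.Mod O_X)
    [SheafOfModules.IsFinitePresentation (R := ModSite.ringSh O_X) M] :
    SheafOfModules.IsFinitePresentation (R := ModSite.ringSh O_Z) ((f i c).pull.obj M) := by
  apply LocPres.isFinitePresentation_of_locPres
  intro x
  obtain ⟨U, hxU, I, K, _, _, m, a, hm, ha⟩ :=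
    LocPres.exists_locPres_of_isFinitePresentation (R := ModSite.ringSh O_X) M (i x)
  exact ⟨(Opens.map i).obj U, hxU, I, K, inferInstance, inferInstance, m' i c M U m, a' i c U a,
    locSpan_pull i c M U m hm, locSyz_pull i c M U m a hm ha⟩

end Groth.Agent.Lib.helper11.PullPres

namespace Groth.Agent.Lib.helper11.FormalPull

open FSch

variable (𝔛 : FSch.Sys.{u}) (h : 𝔛.IsFormal) (𝔉 : FSch.ModF 𝔛 h)

/-- the levels of the system of inverse images of a finitely presented module are finitely
presented -/
theorem isFinitePresentation_sys (h𝔉 : FSch.IsCohF 𝔛 h 𝔉) (k : ℕ) :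
    SheafOfModules.IsFinitePresentation (R := (𝔛.X k).ringCatSheaf) ((sys 𝔛 h 𝔉).F k) :=
  haveI := h𝔉
  PullPres.isFinitePresentation_pull (𝔛.gInv h k) (𝔛.OshProj h k) 𝔉

/-- the system of inverse images of a finitely presented module is coherent -/
theorem isCoh_sys (h𝔉 : FSch.IsCohF 𝔛 h 𝔉) : (sys 𝔛 h 𝔉).IsCoh := by
  intro k
  haveI := isFinitePresentation_sys 𝔛 h 𝔉 h𝔉 k
  exact ⟨inferInstance, inferInstance⟩

end Groth.Agent.Lib.helper11.FormalPull
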