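import Groth.Agent.Lib.Helper11.LocHom

/-!
# A morphism matching local presentations is an isomorphism (helper11)
-/

set_option autoImplicit false
set_option backward.isDefEq.respectTransparency false
universe u
open CategoryTheory CategoryTheory.Limits TopologicalSpace Opposite

namespace Groth.Agent.Lib.helper11.LocIso

open Groth.Agent.Lib.helper11.OverGen Groth.Agent.Lib.helper11.LocGen
  Groth.Agent.Lib.helper11.LocPres Groth.Agent.Lib.helper11.LocGenExt
  Groth.Agent.Lib.helper11.ClosedPushMod Groth.Agent.Lib.helper11.LocFree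
  Groth.Agent.Lib.helper11.LocKer

variable {T : TopCat.{u}} {R : Sheaf (Opens.grothendieckTopology T) RingCat.{u}}
  {F G : SheafOfModules.{u} R}

/-- a morphism carrying local generators to local generators is an epimorphism -/
theorem epi_of_locSpan_image (η : F ⟶ G)
    (h : ∀ x : T, ∃ (U : Opens T), x ∈ U ∧ ∃ (I : Type u) (_ : Fintype I)
      (m : I → F.val.obj (op U)), LocSpan G U (fun l => (η.val.app (op U)).hom (m l))) :
    Epi η := by
  apply epi_of_imgSieve_mem
  intro X y x hx
  obtain ⟨U, hxU, I, _, m, hG⟩ := h x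
  obtain ⟨D', hD', hxD', hy⟩ := hG (X ⊓ U) inf_le_right (resM G inf_le_left y) x ⟨hx, hxU⟩
  refine ⟨D', homOfLE (hD'.trans inf_le_left), ?_, hxD'⟩
  rw [resM_resM] at hy
  have h1 : (fun i => resM G (hD'.trans inf_le_right) ((η.val.app (op U)).hom (m i))) =
      fun i => (η.val.app (op D')).hom (resM F (hD'.trans inf_le_right) (m i)) := by
    funext i
    exact (app_resM η _ (m i)).symm
  rw [h1] at hy
  obtain ⟨w, -, hw⟩ := exists_mem_span_of_map η _ hy
  exact ⟨w, hw⟩

/-- a morphism carrying a local presentation to a local presentation is a monomorphism -/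
theorem mono_of_locSyz_image (η : F ⟶ G)
    (h : ∀ x : T, ∃ (U : Opens T), x ∈ U ∧ ∃ (I K : Type u) (_ : Fintype I) (_ : Fintype K)
      (m : I → F.val.obj (op U)) (a : K → I → R.obj.obj (op U)),
      LocSpan F U m ∧ (∀ k, ∑ l, a k l • m l = 0) ∧
      LocSyz G U (fun l => (η.val.app (op U)).hom (m l)) a) :
    Mono η := by
  classical
  apply mono_of_injective
  intro D
  rw [injective_iff_map_eq_zero]
  intro s hs
  apply eq_zero_of_locally_zero
  intro x hx
  obtain ⟨U, hxU, I, K, _, _, m, a, hF, hrel, hG⟩ := h x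
  obtain ⟨D', hD', hxD', hy⟩ := hF (D ⊓ U) inf_le_right (resM F inf_le_left s) x ⟨hx, hxU⟩
  rw [resM_resM] at hy
  obtain ⟨c, hc⟩ := (Submodule.mem_span_range_iff_exists_fun _).mp hy
  have hD'U : D' ≤ U := hD'.trans inf_le_right
  have h1 : ∑ l, c l • resM G hD'U ((η.val.app (op U)).hom (m l)) = 0 := by
    have h2 : (η.val.app (op D')).hom (resM F (hD'.trans inf_le_left) s) = 0 := by
      rw [app_resM, hs, resM_zero]
    rw [← hc, app_sum_smul] at h2
    refine Eq.trans ?_ h2
    refine Finset.sum_congr rfl (fun l _ => ?_)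
    rw [app_resM]
  obtain ⟨D'', hD'', hxD'', e, he⟩ := hG.2 D' hD'U c h1 x hxD'
  refine ⟨D'', hD''.trans (hD'.trans inf_le_left), hxD'', ?_⟩
  have h3 : resM F (hD''.trans (hD'.trans inf_le_left)) s =
      resM F hD'' (resM F (hD'.trans inf_le_left) s) := (resM_resM _ _ _).symm
  rw [h3, ← hc, resM_sum_smul]
  have h4 : ∀ l, resR hD'' (c l) • resM F hD'' (resM F hD'U (m l)) =
      ∑ k, e k • (resR (hD''.trans hD'U) (a k l) • resM F (hD''.trans hD'U) (m l)) := by
    intro l
    rw [he l, Finset.sum_smul, resM_resM]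
    exact Finset.sum_congr rfl (fun k _ => mul_smul _ _ _)
  rw [Finset.sum_congr rfl (fun l _ => h4 l), Finset.sum_comm]
  refine Finset.sum_eq_zero (fun k _ => ?_)
  rw [← Finset.smul_sum, ← resM_sum_smul, hrel k, resM_zero, smul_zero]

/-- **a morphism carrying a local presentation to a local presentation is an isomorphism** -/
theorem isIso_of_locPres_image (η : F ⟶ G)
    (h : ∀ x : T, ∃ (U : Opens T), x ∈ U ∧ ∃ (I K : Type u) (_ : Fintype I) (_ : Fintype K)
      (m : I → F.val.obj (op U)) (a : K → I → R.obj.obj (op U)),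
      LocSpan F U m ∧ (∀ k, ∑ l, a k l • m l = 0) ∧
      LocSpan G U (fun l => (η.val.app (op U)).hom (m l)) ∧
      LocSyz G U (fun l => (η.val.app (op U)).hom (m l)) a) :
    IsIso η := by
  haveI : Epi η := epi_of_locSpan_image η (fun x => by
    obtain ⟨U, hxU, I, K, fI, fK, m, a, -, -, hG, -⟩ := h x
    exact ⟨U, hxU, I, fI, m, hG⟩)
  haveI : Mono η := mono_of_locSyz_image η (fun x => by
    obtain ⟨U, hxU, I, K, fI, fK, m, a, hF, hrel, -, hS⟩ := h x
    exact ⟨U, hxU, I, K, fI, fK, m, a, hF, hrel, hS⟩)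
  exact isIso_of_mono_of_epi η

end Groth.Agent.Lib.helper11.LocIso
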