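import Groth.Agent.Lib.Helper11.LocHom
import Groth.Agent.Lib.Helper16.CohFinite

/-!
# From local to global generators and relations on affine opens of a scheme (helper11)

`F` a quasi-coherent module on a scheme `X`, with local generators `m` over `U'` (`LocSpan`) and local
relations `a` (`LocSyz`).  For every affine open `V ≤ U'`: the restrictions of the `m l` generate
`Γ(F, V)` (`span_affine`), and every relation among them over `V` is a combination of the rows of
`a` (`syz_affine`; no quasi-coherence needed).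
-/

set_option autoImplicit false
set_option backward.isDefEq.respectTransparency false
universe u
open CategoryTheory CategoryTheory.Limits AlgebraicGeometry TopologicalSpace Opposite

namespace Groth.Agent.Lib.helper11.SchemeLocGlob

open Groth.Agent.Lib.helper11.OverGen Groth.Agent.Lib.helper11.LocGen
  Groth.Agent.Lib.helper11.LocPres Groth.Agent.Lib.helper11.ClosedPushMod
  Groth.Agent.Lib.helper16.CohFinite

variable {X : Scheme.{u}}

/-- a cover of an affine open by basic opens of functions generates the unit ideal -/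
theorem span_eq_top_of_cover {V : X.Opens} (hV : IsAffineOpen V) (f : V → Γ(X, V))
    (hf : ∀ x : V, x.1 ∈ X.basicOpen (f x)) : Ideal.span (Set.range f) = ⊤ := by
  rw [← hV.self_le_iSup_basicOpen_iff]
  intro x hx
  exact Opens.mem_iSup.mpr ⟨⟨f ⟨x, hx⟩, Set.mem_range_self _⟩, hf ⟨x, hx⟩⟩

/-- common denominators in a localization away from `f` -/
theorem exists_common_denom {A B : Type*} [CommRing A] [CommRing B] [Algebra A B] (f : A)
    [IsLocalization.Away f B] {ι : Type*} [Fintype ι] (cc : ι → B) :
    ∃ (n : ℕ) (b : ι → A), ∀ l, algebraMap A B (f ^ n) * cc l = algebraMap A B (b l) := by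
  obtain ⟨⟨_, n, rfl⟩, hb⟩ :=
    IsLocalization.exist_integer_multiples (Submonoid.powers f) Finset.univ cc
  have hb' : ∀ l, ∃ b : A, algebraMap A B b = algebraMap A B (f ^ n) * cc l := by
    intro l
    obtain ⟨b, hb⟩ := hb l (Finset.mem_univ l)
    exact ⟨b, hb.trans (Algebra.smul_def _ _)⟩
  choose b hb'' using hb'
  exact ⟨n, b, fun l => (hb'' l).symm⟩

variable (F : X.Modules) {I K : Type u} [Fintype I] [Fintype K] {U' : X.Opens}
  (m' : I → F.val.obj (op U')) (a' : K → I → X.ringCatSheaf.obj.obj (op U'))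

/-- **local generators of a quasi-coherent module generate its sections over affine opens** -/
theorem span_affine [F.IsQuasicoherent] (hgen : LocSpan F U' m') {V : X.Opens}
    (hV : IsAffineOpen V) (hVU : V ≤ U') (y : F.val.obj (op V)) :
    y ∈ Submodule.span (X.ringCatSheaf.obj.obj (op V)) (Set.range fun l => resM F hVU (m' l)) := by
  have key : ∀ x : V, ∃ f : Γ(X, V), x.1 ∈ X.basicOpen f ∧ ∃ n : ℕ,
      (show X.ringCatSheaf.obj.obj (op V) from f ^ n) • y ∈
        Submodule.span (X.ringCatSheaf.obj.obj (op V)) (Set.range fun l => resM F hVU (m' l)) := by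
    intro x
    obtain ⟨D', hD', hxD', hy⟩ := hgen V hVU y x.1 x.2
    obtain ⟨f, hfD', hxf⟩ := hV.exists_basicOpen_le (V := D') ⟨x.1, hxD'⟩ x.2
    refine ⟨f, hxf, ?_⟩
    have hfV : X.basicOpen f ≤ V := X.basicOpen_le f
    have hy' := resM_mem_span (hD'.trans hVU) m' hfD' hy
    obtain ⟨cc, hcc⟩ := (Submodule.mem_span_range_iff_exists_fun _).mp hy'
    rw [resM_resM] at hcc
    letI := algOfLE (X := X) hfV
    haveI : IsLocalization.Away f Γ(X, X.basicOpen f) := hV.isLocalization_basicOpen f
    obtain ⟨n, b, hb⟩ := exists_common_denom f (fun l => (show Γ(X, X.basicOpen f) from cc l))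
    set z : F.val.obj (op V) := (show X.ringCatSheaf.obj.obj (op V) from f ^ n) • y -
      ∑ l, (show X.ringCatSheaf.obj.obj (op V) from b l) • resM F hVU (m' l) with hzdef
    have hz : resM F hfV z = 0 := by
      rw [hzdef, resM_sub, resM_smul', LocHom.resM_sum_smul, ← hcc, Finset.smul_sum,
        ← Finset.sum_sub_distrib]
      refine Finset.sum_eq_zero (fun l _ => ?_)
      rw [resM_resM, smul_smul, sub_eq_zero]
      congr 1
      exact hb l
    obtain ⟨n', hn'⟩ := Groth.Agent.Lib.helper7.exists_pow_smul_eq_zero_of_isAffineOpen hV F f z hz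
    refine ⟨n' + n, ?_⟩
    have h1 : (show X.ringCatSheaf.obj.obj (op V) from f ^ n) • y =
        z + ∑ l, (show X.ringCatSheaf.obj.obj (op V) from b l) • resM F hVU (m' l) := by
      rw [hzdef, sub_add_cancel]
    have h2 : (show X.ringCatSheaf.obj.obj (op V) from f ^ (n' + n)) • y =
        ∑ l, (show X.ringCatSheaf.obj.obj (op V) from f ^ n' * b l) • resM F hVU (m' l) := by
      have h3 : (show X.ringCatSheaf.obj.obj (op V) from f ^ (n' + n)) • y =
          (show X.ringCatSheaf.obj.obj (op V) from f ^ n') •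
            ((show X.ringCatSheaf.obj.obj (op V) from f ^ n) • y) := by
        rw [smul_smul]
        congr 1
        exact pow_add f n' n
      rw [h3, h1, smul_add]
      have h4 : (show X.ringCatSheaf.obj.obj (op V) from f ^ n') • z = 0 := hn'
      rw [h4, zero_add, Finset.smul_sum]
      refine Finset.sum_congr rfl (fun l _ => ?_)
      rw [smul_smul]
    rw [h2]
    exact Submodule.sum_mem _ (fun l _ => Submodule.smul_mem _ _ (Submodule.subset_span ⟨l, rfl⟩))
  choose f hxf n hn using key
  refine Submodule.mem_of_span_eq_top_of_smul_pow_mem _ (Set.range f)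
    (span_eq_top_of_cover hV f hxf) y ?_
  rintro ⟨_, x, rfl⟩
  exact ⟨n x, hn x⟩

/-- **local relations generate the relations over affine opens** -/
theorem syz_affine (hsyz : LocSyz F U' m' a') {V : X.Opens} (hV : IsAffineOpen V) (hVU : V ≤ U')
    (c : I → X.ringCatSheaf.obj.obj (op V)) (hc : ∑ l, c l • resM F hVU (m' l) = 0) :
    ∃ e : K → X.ringCatSheaf.obj.obj (op V), ∀ l, c l = ∑ κ, e κ * resR hVU (a' κ l) := by
  classical
  let row : K → I → Γ(X, V) := fun κ l => resR (R := X.ringCatSheaf) hVU (a' κ l)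
  let cV : I → Γ(X, V) := fun l => c l
  set Row : Submodule Γ(X, V) (I → Γ(X, V)) := Submodule.span _ (Set.range row) with hRow
  suffices hmem : cV ∈ Row by
    obtain ⟨e, he⟩ := (Submodule.mem_span_range_iff_exists_fun _).mp hmem
    refine ⟨e, fun l => ?_⟩
    have h1 := congrFun he l
    rw [Finset.sum_apply] at h1
    exact h1.symm
  have key : ∀ x : V, ∃ f : Γ(X, V), x.1 ∈ X.basicOpen f ∧ ∃ n : ℕ, f ^ n • cV ∈ Row := by
    intro x
    obtain ⟨D', hD', hxD', e', he'⟩ := hsyz.2 V hVU c hc x.1 x.2
    obtain ⟨f, hfD', hxf⟩ := hV.exists_basicOpen_le (V := D') ⟨x.1, hxD'⟩ x.2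
    refine ⟨f, hxf, ?_⟩
    have hfV : X.basicOpen f ≤ V := X.basicOpen_le f
    letI := algOfLE (X := X) hfV
    haveI : IsLocalization.Away f Γ(X, X.basicOpen f) := hV.isLocalization_basicOpen f
    let eB : K → Γ(X, X.basicOpen f) := fun κ => resR (R := X.ringCatSheaf) hfD' (e' κ)
    obtain ⟨n, b, hb⟩ := exists_common_denom f eB
    set d : I → Γ(X, V) := fun l => f ^ n * cV l - ∑ κ, b κ * row κ l with hd
    have hd0 : ∀ l, algebraMap Γ(X, V) Γ(X, X.basicOpen f) (d l) = 0 := by
      intro l
      have h1 : algebraMap Γ(X, V) Γ(X, X.basicOpen f) (cV l) =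
          ∑ κ, eB κ * algebraMap Γ(X, V) Γ(X, X.basicOpen f) (row κ l) := by
        have h2 := congrArg (resR (R := X.ringCatSheaf) hfD') (he' l)
        rw [resR_resR, resR_sum] at h2
        refine h2.trans (Finset.sum_congr rfl (fun κ _ => ?_))
        rw [resR_mul, resR_resR]
        exact congrArg (fun t => eB κ * t) (resR_resR (R := X.ringCatSheaf) hVU hfV (a' κ l)).symm
      rw [hd]
      simp only [map_sub, map_mul, map_sum]
      rw [h1, Finset.mul_sum, ← Finset.sum_sub_distrib]
      refine Finset.sum_eq_zero (fun κ _ => ?_)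
      rw [← mul_assoc, hb κ, sub_self]
    have hd1 : ∀ l, ∃ n' : ℕ, f ^ n' * d l = 0 := by
      intro l
      obtain ⟨⟨_, n', rfl⟩, hm⟩ :=
        (IsLocalization.map_eq_zero_iff (Submonoid.powers f) Γ(X, X.basicOpen f) (d l)).mp (hd0 l)
      exact ⟨n', hm⟩
    choose n' hn' using hd1
    refine ⟨(∑ l, n' l) + n, ?_⟩
    have h4 : f ^ ((∑ l, n' l) + n) • cV = ∑ κ, (f ^ (∑ l, n' l) * b κ) • row κ := by
      funext l
      rw [Finset.sum_apply]
      simp only [Pi.smul_apply, smul_eq_mul]
      have h5 : f ^ (∑ l, n' l) * d l = 0 := by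
        have h6 : f ^ (∑ l, n' l) = f ^ (∑ l ∈ Finset.univ.erase l, n' l) * f ^ (n' l) := by
          rw [← pow_add, Finset.sum_erase_add _ _ (Finset.mem_univ l)]
        rw [h6, mul_assoc, hn' l, mul_zero]
      have h7 : f ^ n * cV l = d l + ∑ κ, b κ * row κ l := by
        rw [hd]
        ring
      calc f ^ ((∑ l, n' l) + n) * cV l
          = f ^ (∑ l, n' l) * (f ^ n * cV l) := by rw [pow_add, mul_assoc]
        _ = f ^ (∑ l, n' l) * d l + f ^ (∑ l, n' l) * ∑ κ, b κ * row κ l := by
            rw [h7, mul_add]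
        _ = ∑ κ, f ^ (∑ l, n' l) * b κ * row κ l := by
            rw [h5, zero_add, Finset.mul_sum]
            exact Finset.sum_congr rfl (fun κ _ => (mul_assoc _ _ _).symm)
    rw [h4]
    exact Submodule.sum_mem _ (fun κ _ => Submodule.smul_mem _ _ (Submodule.subset_span ⟨κ, rfl⟩))
  choose f hxf n hn using key
  refine Submodule.mem_of_span_eq_top_of_smul_pow_mem _ (Set.range f)
    (span_eq_top_of_cover hV f hxf) cV ?_
  rintro ⟨_, x, rfl⟩
  exact ⟨n x, hn x⟩

end Groth.Agent.Lib.helper11.SchemeLocGlob
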