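import Groth.Agent.Lib.Helper11.FormalPull2
import Groth.Agent.Lib.Helper11.FormalAlg
import Groth.Agent.Lib.Helper11.SchemeLocGlob
import Groth.Agent.Lib.Helper11.LocIso

/-!
# A coherent `O_𝔛`-module is the limit of its inverse images to the levels (helper11; EGA I 10.11.3)
-/

set_option autoImplicit false
set_option backward.isDefEq.respectTransparency false
universe u
open CategoryTheory CategoryTheory.Limits AlgebraicGeometry TopologicalSpace Opposite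

namespace Groth.Agent.Lib.helper11.FormalPull

open FSch Groth.Agent.Lib.helper11.RealLimSec Groth.Agent.Lib.helper11.LocGen
  Groth.Agent.Lib.helper11.OverGen
  Groth.Agent.Lib.helper11.LocPres Groth.Agent.Lib.helper8.PullbackUnit

variable (𝔛 : FSch.Sys.{u}) (h𝔛 : 𝔛.IsLocNoethFormal) (𝔉 : FSch.ModF 𝔛 h𝔛.1)
  (h𝔉 : FSch.IsCohF 𝔛 h𝔛.1 𝔉)

section local_

variable (W : (𝔛.X 0).Opens) (hW : IsAffineOpen W) {I K : Type u} [Fintype I] [Fintype K]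
  (m : I → 𝔉.val.obj (op W)) (a : K → I → OU 𝔛 h𝔛.1 W)

/-- the images of the generators in the limit -/
noncomputable def g (l : I) :
    FU 𝔛 h𝔛.1 W (sys 𝔛 h𝔛.1 𝔉).F (sys 𝔛 h𝔛.1 𝔉).toPush :=
  ((eta 𝔛 h𝔛.1 𝔉).val.app (op W)).hom (m l)

theorem secProj_g (k : ℕ) (l : I) :
    secProj 𝔛 h𝔛.1 W (sys 𝔛 h𝔛.1 𝔉).F (sys 𝔛 h𝔛.1 𝔉).toPush k (g 𝔛 h𝔛 𝔉 W m l) =
      PullPres.m' (𝔛.gInv h𝔛.1 k) (𝔛.OshProj h𝔛.1 k) 𝔉 W m l :=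
  congrArg (fun φ => (φ.val.app (op W)).hom (m l)) (eta_realProj 𝔛 h𝔛.1 𝔉 k)

include hW h𝔉 in
/-- the images of local generators generate the sections of the limit over an affine open -/
theorem gen_g (hgen : LocSpan 𝔉 W m)
    (n : FU 𝔛 h𝔛.1 W (sys 𝔛 h𝔛.1 𝔉).F (sys 𝔛 h𝔛.1 𝔉).toPush) :
    ∃ c : I → OU 𝔛 h𝔛.1 W, n = ∑ i, c i • g 𝔛 h𝔛 𝔉 W m i := by
  have h𝔐 := isCoh_sys 𝔛 h𝔛.1 𝔉 h𝔉
  haveI := RealModBC.finite_FU 𝔛 h𝔛 W hW (sys 𝔛 h𝔛.1 𝔉) h𝔐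
  have h1 := FormalAlg.span_eq_top_of_isBC (prU 𝔛 h𝔛.1 W 0)
    (LevelPushFF.prU_surjective 𝔛 h𝔛.1 W hW 0) (RealModBC.ker_prU_zero_le_jacobson 𝔛 h𝔛 W hW)
    (secProj 𝔛 h𝔛.1 W (sys 𝔛 h𝔛.1 𝔉).F (sys 𝔛 h𝔛.1 𝔉).toPush 0)
    (RealModBC.isBC_secProj 𝔛 h𝔛 W hW (sys 𝔛 h𝔛.1 𝔉) h𝔐 0) (g 𝔛 h𝔛 𝔉 W m) ?_
  · have h2 : n ∈ Submodule.span (OU 𝔛 h𝔛.1 W) (Set.range (g 𝔛 h𝔛 𝔉 W m)) := by
      rw [h1]; trivial
    obtain ⟨c, hc⟩ := (Submodule.mem_span_range_iff_exists_fun _).mp h2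
    exact ⟨c, hc.symm⟩
  · intro y
    haveI : ((sys 𝔛 h𝔛.1 𝔉).F 0).IsQuasicoherent := (h𝔐 0).1
    have h2 := SchemeLocGlob.span_affine ((sys 𝔛 h𝔛.1 𝔉).F 0)
      (PullPres.m' (𝔛.gInv h𝔛.1 0) (𝔛.OshProj h𝔛.1 0) 𝔉 W m)
      (PullPres.locSpan_pull (𝔛.gInv h𝔛.1 0) (𝔛.OshProj h𝔛.1 0) 𝔉 W m hgen)
      (FormalOpenTower.isAffineOpen_lvU 𝔛 h𝔛.1 W 0 hW) (le_refl _) y
    simp only [secProj_g]
    simp only [ClosedPushMod.resM_refl] at h2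
    exact h2

include hW h𝔉 in
/-- the syzygies of the images of the generators are generated by the images of the relations -/
theorem syz_g (hgen : LocSpan 𝔉 W m) (hsyz : LocSyz 𝔉 W m a) (c : I → OU 𝔛 h𝔛.1 W)
    (hc : ∑ i, c i • g 𝔛 h𝔛 𝔉 W m i = 0) :
    ∃ e : K → OU 𝔛 h𝔛.1 W, ∀ i, c i = ∑ κ, e κ * a κ i := by
  have h𝔐 := isCoh_sys 𝔛 h𝔛.1 𝔉 h𝔉
  haveI := RealModBC.isNoetherianRing_OU 𝔛 h𝔛 W hW
  apply FormalAlg.syz_of_levels (RingHom.ker (prU 𝔛 h𝔛.1 W 0))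
    (RealModBC.ker_prU_zero_le_jacobson 𝔛 h𝔛 W hW) a c
  intro k
  have h1 : ∑ i, prU 𝔛 h𝔛.1 W k (c i) •
      PullPres.m' (𝔛.gInv h𝔛.1 k) (𝔛.OshProj h𝔛.1 k) 𝔉 W m i = 0 := by
    have h2 := congrArg (secProj 𝔛 h𝔛.1 W (sys 𝔛 h𝔛.1 𝔉).F (sys 𝔛 h𝔛.1 𝔉).toPush k) hc
    rw [map_sum, map_zero] at h2
    simp only [secProj_smul, secProj_g] at h2
    exact h2
  obtain ⟨e', he'⟩ := SchemeLocGlob.syz_affine ((sys 𝔛 h𝔛.1 𝔉).F k)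
    (PullPres.m' (𝔛.gInv h𝔛.1 k) (𝔛.OshProj h𝔛.1 k) 𝔉 W m)
    (PullPres.a' (𝔛.gInv h𝔛.1 k) (𝔛.OshProj h𝔛.1 k) W a)
    (PullPres.locSyz_pull (𝔛.gInv h𝔛.1 k) (𝔛.OshProj h𝔛.1 k) 𝔉 W m a hgen hsyz)
    (FormalOpenTower.isAffineOpen_lvU 𝔛 h𝔛.1 W k hW) (le_refl _)
    (fun i => prU 𝔛 h𝔛.1 W k (c i)) (by
      simp only [ClosedPushMod.resM_refl]
      exact h1)
  choose e he using fun κ => LevelPushFF.prU_surjective 𝔛 h𝔛.1 W hW k (e' κ)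
  refine ⟨e, fun l => ?_⟩
  have h3 : c l - ∑ κ, e κ * a κ l ∈ RingHom.ker (prU 𝔛 h𝔛.1 W k) := by
    rw [RingHom.mem_ker, map_sub, map_sum, sub_eq_zero]
    refine (he' l).trans (Finset.sum_congr rfl (fun κ _ => ?_))
    rw [map_mul, he κ, ClosedPushMod.resR_refl]
    rfl
  rw [RealModBC.ker_prU_eq_pow_ker 𝔛 h𝔛 W hW k] at h3
  exact Ideal.pow_le_pow_right (Nat.le_succ k) h3

end local_

include h𝔉 in
/-- **EGA I 10.11.3**: a coherent `O_𝔛`-module on a locally Noetherian formal scheme is the limit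
of its inverse images to the levels -/
theorem isIso_eta : IsIso (eta 𝔛 h𝔛.1 𝔉) := by
  classical
  have h𝔐 := isCoh_sys 𝔛 h𝔛.1 𝔉 h𝔉
  apply LocIso.isIso_of_locPres_image
  intro x
  haveI := h𝔉
  obtain ⟨U, hxU, I, K, fI, fK, m, a, hm, ha⟩ :=
    LocPres.exists_locPres_of_isFinitePresentation (R := ModSite.ringSh (𝔛.Osh h𝔛.1)) 𝔉 x
  obtain ⟨W, hW, hxW, hWU⟩ := Opens.isBasis_iff_nbhd.mp (𝔛.X 0).isBasis_affineOpens hxU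
  have hmW := hm.mono hWU
  have haW := LocKer.LocSyz.mono hWU ha
  refine ⟨W, hxW, I, K, fI, fK, fun l => resM 𝔉 hWU (m l), fun κ l => resR hWU (a κ l), hmW,
    haW.1, ?_, ?_, ?_⟩
  · -- local generation
    intro D hD y x' hx'
    obtain ⟨D', hD'a, hx'D', hD'⟩ := Opens.isBasis_iff_nbhd.mp (𝔛.X 0).isBasis_affineOpens hx'
    refine ⟨D', hD', hx'D', ?_⟩
    obtain ⟨c', hc'⟩ := RealModCoh.gen_D 𝔛 h𝔛 (sys 𝔛 h𝔛.1 𝔉) h𝔐 W hW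
      (g 𝔛 h𝔛 𝔉 W fun l => resM 𝔉 hWU (m l))
      (gen_g 𝔛 h𝔛 𝔉 h𝔉 W hW _ hmW) hD'a (hD'.trans hD) (resM _ hD' y)
    rw [Submodule.mem_span_range_iff_exists_fun]
    exact ⟨c', hc'.symm⟩
  · intro κ
    rw [← LocKer.app_sum_smul, haW.1 κ, map_zero]
  · intro D hD c hc x' hx'
    obtain ⟨D', hD'a, hx'D', hD'⟩ := Opens.isBasis_iff_nbhd.mp (𝔛.X 0).isBasis_affineOpens hx'
    refine ⟨D', hD', hx'D', ?_⟩
    refine RealModCoh.syz_D 𝔛 h𝔛 (sys 𝔛 h𝔛.1 𝔉) h𝔐 W hW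
      (g 𝔛 h𝔛 𝔉 W fun l => resM 𝔉 hWU (m l)) (fun κ l => resR hWU (a κ l))
      (gen_g 𝔛 h𝔛 𝔉 h𝔉 W hW _ hmW) (syz_g 𝔛 h𝔛 𝔉 h𝔉 W hW _ _ hmW haW) hD'a (hD'.trans hD)
      (fun l => resR hD' (c l)) ?_
    have h1 := congrArg (resM _ hD') hc
    rw [resM_zero, LocKer.resM_sum_smul] at h1
    refine Eq.trans ?_ h1
    refine Finset.sum_congr rfl (fun l _ => ?_)
    rw [resM_resM]
    rfl

end Groth.Agent.Lib.helper11.FormalPull
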