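import Mathlib
import Groth.Agent.Lib.Helper11.FormalSpf3

/-!
# The completion tower of `Spec A` along `V(J)` versus `FSch.complMod` (helper11)
-/

set_option autoImplicit false
universe u
open CategoryTheory AlgebraicGeometry Opposite
open Scheme.Modules

namespace Groth.Agent.Lib.helper11.FormalSpf

namespace ATow

variable (A : Type u) [CommRing A] (J : Ideal A)

theorem trans_app_hom {C D : Type*} [Category C] [Category D] (F G H : C ⥤ D) (α : F ≅ G)
    (β : G ≅ H) (X : C) : (α.app X ≪≫ β.app X).hom = ((α ≪≫ β).app X).hom := rfl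

theorem e_eq (G : (Spec (CommRingCat.of A)).Modules) (n : ℕ) :
    (((ofCompletion A J).compl G).e n).hom =
      ((FSch.complMod (FSch.idealSpec A J) G).e n).hom := by
  change ((pullbackComp ((ofCompletion A J).𝔛.ι n) ((ofCompletion A J).p (n + 1))).app G ≪≫
    (pullbackCongr ((ofCompletion A J).hp n)).app G).hom =
    ((pullbackComp ((FSch.completionAlong _ (FSch.idealSpec A J)).ι n)
      (FSch.completionToX _ (FSch.idealSpec A J) (n + 1)) ≪≫
    pullbackCongr (Scheme.IdealSheafData.inclusion_subschemeι
      (FSch.pow_succ_le _ (FSch.idealSpec A J) n))).app G).hom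
  exact trans_app_hom _ _ _ (pullbackComp ((FSch.completionAlong _ (FSch.idealSpec A J)).ι n)
      (FSch.completionToX _ (FSch.idealSpec A J) (n + 1)))
    (pullbackCongr (Scheme.IdealSheafData.inclusion_subschemeι
      (FSch.pow_succ_le _ (FSch.idealSpec A J) n))) G

theorem comm_aux1 (G : (Spec (CommRingCat.of A)).Modules) (n : ℕ) :
    (pullback ((ofCompletion A J).𝔛.ι n)).map
        (𝟙 ((pullback (FSch.completionToX _ (FSch.idealSpec A J) (n + 1))).obj G)) ≫
      ((FSch.complMod (FSch.idealSpec A J) G).e n).hom =
    (((ofCompletion A J).compl G).e n).hom ≫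
      𝟙 ((pullback (FSch.completionToX _ (FSch.idealSpec A J) n)).obj G) := by
  have h := e_eq A J G n
  have h1 := CategoryTheory.Functor.map_id (pullback ((ofCompletion A J).𝔛.ι n))
    ((pullback (FSch.completionToX _ (FSch.idealSpec A J) (n + 1))).obj G)
  exact (congrArg (· ≫ ((FSch.complMod (FSch.idealSpec A J) G).e n).hom) h1).trans
    ((Category.id_comp _).trans (h.symm.trans (Category.comp_id _).symm))

theorem comm_aux2 (G : (Spec (CommRingCat.of A)).Modules) (n : ℕ) :
    (pullback ((ofCompletion A J).𝔛.ι n)).map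
        (𝟙 ((pullback (FSch.completionToX _ (FSch.idealSpec A J) (n + 1))).obj G)) ≫
      (((ofCompletion A J).compl G).e n).hom =
    ((FSch.complMod (FSch.idealSpec A J) G).e n).hom ≫
      𝟙 ((pullback (FSch.completionToX _ (FSch.idealSpec A J) n)).obj G) := by
  have h := e_eq A J G n
  have h1 := CategoryTheory.Functor.map_id (pullback ((ofCompletion A J).𝔛.ι n))
    ((pullback (FSch.completionToX _ (FSch.idealSpec A J) (n + 1))).obj G)
  exact (congrArg (· ≫ (((ofCompletion A J).compl G).e n).hom) h1).trans
    ((Category.id_comp _).trans (h.trans (Category.comp_id _).symm))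

/-- the identity maps, as a morphism `compl G ⟶ complMod G` -/
noncomputable def toComplMod (G : (Spec (CommRingCat.of A)).Modules) :
    (ofCompletion A J).compl G ⟶ FSch.complMod (FSch.idealSpec A J) G :=
  ⟨fun n => 𝟙 ((pullback (FSch.completionToX _ (FSch.idealSpec A J) n)).obj G),
    fun n => comm_aux1 A J G n⟩

/-- the identity maps, as a morphism `complMod G ⟶ compl G` -/
noncomputable def ofComplMod (G : (Spec (CommRingCat.of A)).Modules) :
    FSch.complMod (FSch.idealSpec A J) G ⟶ (ofCompletion A J).compl G :=
  ⟨fun n => 𝟙 ((pullback (FSch.completionToX _ (FSch.idealSpec A J) n)).obj G),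
    fun n => comm_aux2 A J G n⟩

/-- `compl` for the completion tower is `FSch.complMod` -/
noncomputable def isoCompl (G : (Spec (CommRingCat.of A)).Modules) :
    (ofCompletion A J).compl G ≅ FSch.complMod (FSch.idealSpec A J) G where
  hom := toComplMod A J G
  inv := ofComplMod A J G
  hom_inv_id := FSch.ModSys.Hom.ext (funext fun _ => Category.comp_id _)
  inv_hom_id := FSch.ModSys.Hom.ext (funext fun _ => Category.comp_id _)

theorem complMap_isoCompl {G G' : (Spec (CommRingCat.of A)).Modules} (φ : G ⟶ G') :
    (ofCompletion A J).complMap φ ≫ (isoCompl A J G').hom =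
      (isoCompl A J G).hom ≫ FSch.complModMap (FSch.idealSpec A J) φ := by
  apply FSch.ModSys.Hom.ext
  funext n
  change (pullback (FSch.completionToX _ (FSch.idealSpec A J) n)).map φ ≫ 𝟙 _ =
    𝟙 _ ≫ (pullback (FSch.completionToX _ (FSch.idealSpec A J) n)).map φ
  exact (Category.comp_id _).trans (Category.id_comp _).symm

end ATow

end Groth.Agent.Lib.helper11.FormalSpf
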