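import Mathlib
import Groth.Agent.Lib.Helper11.FreeStrat
import Groth.Agent.Lib.Helper3.FlatDescQ

/-!
# Stratification by free loci, general base (helper11)

`main`: `B` f.p. over `A`, `M` f.p. over `B` and flat over `A`: there is a list `l` of elements of `A`
generating the unit ideal with `M` free over each `A_{l[i]} / (l[0], …, l[i-1])`.
(EGA IV 8.9.5-style; reduction to a Noetherian model + `FreeStrat.good_of_isNoetherianRing`.)
-/

set_option autoImplicit false
universe u
open TensorProduct

namespace Groth.Agent.Lib.helper11.FreeStrat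

theorem main {A B : Type u} [CommRing A] [CommRing B] [Algebra A B]
    [Algebra.FinitePresentation A B] (M : Type u) [AddCommGroup M] [Module B M] [Module A M]
    [IsScalarTower A B M] [Module.FinitePresentation B M] [Module.Flat A M] :
    ∃ l : List A, Ideal.span {a | a ∈ l} = ⊤ ∧
      ∀ (i : ℕ) (hi : i < l.length),
        Module.Free (Localization.Away l[i] ⧸
            (Ideal.span {a | a ∈ l.take i}).map (algebraMap A (Localization.Away l[i])))
          ((Localization.Away l[i] ⧸
            (Ideal.span {a | a ∈ l.take i}).map (algebraMap A (Localization.Away l[i]))) ⊗[A] M) := by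
  obtain ⟨A₀, _, _, _, _, hft, -, -, B₀, _, _, _, _, hfp, hpo, -, M₀, _, _, _, _, hfin, -, ⟨e⟩⟩ :=
    Groth.Agent.Lib.helper3.FlatDesc.exists_fg_model_flat_module (A := A) (B := B) (M := M) ∅
  haveI : IsNoetherianRing A₀ := Algebra.FiniteType.isNoetherianRing ℤ A₀
  haveI : Algebra.FiniteType A₀ B₀ := inferInstance
  obtain ⟨l₀, hl₀, hfree⟩ := good_of_isNoetherianRing A₀ B₀ M₀ ⊥
  have eM : M ≃ₗ[A] A ⊗[A₀] M₀ :=
    (e.symm.restrictScalars A) ≪≫ₗ (Algebra.IsPushout.cancelBaseChange A₀ A B₀ B M₀)
  have hset : ∀ l' : List A₀, {a | a ∈ l'.map (algebraMap A₀ A)} =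
      (algebraMap A₀ A) '' {a | a ∈ l'} := by
    intro l'
    ext a
    simp
  refine ⟨l₀.map (algebraMap A₀ A), ?_, ?_⟩
  · rw [hset, ← Ideal.map_span]
    rw [bot_sup_eq] at hl₀
    rw [hl₀, Ideal.map_top]
  · intro i hi
    have hi₀ : i < l₀.length := by simpa using hi
    refine free_stratum_of_model eM (hfree i hi₀) _ (by simp) _ ?_
    rw [bot_sup_eq, ← List.map_take, hset, Ideal.map_span]

end Groth.Agent.Lib.helper11.FreeStrat
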