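import Mathlib

/-!
# `MvPolynomial σ R` is free over itself along `expand p`, with basis the monomials of exponents `< p` (helper11)

* `expBasisFun p e` : the monomial `X^e` for `e : σ → Fin p`.
* `expand_sum_eq_zero`: `∑ e, expand p (f e) * X^e = 0 → f = 0`.
* `exists_expand_sum_eq`: every polynomial is `∑ e, expand p (f e) * X^e`.
-/

set_option autoImplicit false
universe u v

open MvPolynomial

namespace Groth.Agent.Lib.helper11.FrobPoly

variable {σ : Type*} [Fintype σ] {R : Type*} [CommRing R] (p : ℕ)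

/-- exponent vector of `e : σ → Fin p`. -/
noncomputable def eF (e : σ → Fin p) : σ →₀ ℕ := Finsupp.equivFunOnFinite.symm (fun i => (e i : ℕ))

@[simp] theorem eF_apply (e : σ → Fin p) (i : σ) : eF p e i = (e i : ℕ) := rfl

/-- The monomial `X^e`. -/
noncomputable def expBasisFun (e : σ → Fin p) : MvPolynomial σ R := monomial (eF p e) 1

theorem eF_injective : Function.Injective (eF p : (σ → Fin p) → σ →₀ ℕ) := by
  intro e e' h
  funext i
  have := DFunLike.congr_fun h i
  simp only [eF_apply] at this
  exact Fin.ext this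

theorem coeff_expand_mul_expBasisFun (hp : p ≠ 0) (f : MvPolynomial σ R) (e e₀ : σ → Fin p)
    (q : σ →₀ ℕ) :
    coeff (p • q + eF p e₀) (expand p f * expBasisFun (R := R) p e) =
      if e = e₀ then coeff q f else 0 := by
  unfold expBasisFun
  rw [coeff_mul_monomial', mul_one]
  split_ifs with h1 h2 h2
  · subst h2
    rw [add_tsub_cancel_right, coeff_expand_smul p hp]
  · -- e ≠ e₀ but e ≤ p q + e₀: some coordinate not divisible
    obtain ⟨i, hi⟩ : ∃ i, e i ≠ e₀ i := by
      by_contra hcon
      push Not at hcon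
      exact h2 (funext hcon)
    apply coeff_expand_of_not_dvd (i := i)
    intro hdvd
    have h1i := h1 i
    simp only [Finsupp.coe_add, Finsupp.coe_smul, Pi.add_apply, Pi.smul_apply, eF_apply,
      smul_eq_mul, Finsupp.coe_tsub, Pi.sub_apply] at h1i hdvd
    have he : (e i : ℕ) < p := (e i).2
    have he₀ : (e₀ i : ℕ) < p := (e₀ i).2
    have hne : (e i : ℕ) ≠ (e₀ i : ℕ) := fun h => hi (Fin.ext h)
    obtain ⟨c, hc⟩ := hdvd
    -- p * q i + e₀ i - e i = p * c
    rcases Nat.lt_or_gt_of_ne hne with hlt | hgt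
    · -- e i < e₀ i : p q + (e₀ - e) = p c, 0 < e₀ - e < p
      have : (e₀ i : ℕ) - (e i : ℕ) = p * c - p * q i := by omega
      have h3 : p ∣ (e₀ i : ℕ) - (e i : ℕ) := by
        rw [this]; exact Nat.dvd_sub (dvd_mul_right _ _) (dvd_mul_right _ _)
      have h4 := Nat.le_of_dvd (by omega) h3
      omega
    · have : (e i : ℕ) - (e₀ i : ℕ) = p * q i - p * c := by omega
      have h3 : p ∣ (e i : ℕ) - (e₀ i : ℕ) := by
        rw [this]; exact Nat.dvd_sub (dvd_mul_right _ _) (dvd_mul_right _ _)
      have h4 := Nat.le_of_dvd (by omega) h3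
      omega
  · subst h2
    exfalso
    apply h1
    intro i
    simp
  · rfl

variable [DecidableEq σ]

theorem expand_sum_eq_zero (hp : p ≠ 0) (f : (σ → Fin p) → MvPolynomial σ R)
    (h : ∑ e, expand p (f e) * expBasisFun (R := R) p e = 0) : ∀ e, f e = 0 := by
  intro e₀
  ext q
  have := congrArg (coeff (p • q + eF p e₀)) h
  rw [coeff_sum] at this
  simp only [coeff_expand_mul_expBasisFun p hp, Finset.sum_ite_eq', Finset.mem_univ, if_true,
    coeff_zero] at this
  simpa using this

theorem exists_expand_sum_eq (hp : p ≠ 0) (g : MvPolynomial σ R) :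
    ∃ f : (σ → Fin p) → MvPolynomial σ R, g = ∑ e, expand p (f e) * expBasisFun (R := R) p e := by
  classical
  induction g using MvPolynomial.induction_on' with
  | monomial d a =>
    let q : σ →₀ ℕ := d.mapRange (· / p) (by simp)
    let e : σ → Fin p := fun i => ⟨d i % p, Nat.mod_lt _ (Nat.pos_of_ne_zero hp)⟩
    refine ⟨Pi.single e (monomial q a), ?_⟩
    rw [Finset.sum_eq_single e]
    · have hd : p • q + eF p e = d := by
        ext i
        simp only [Finsupp.coe_add, Finsupp.coe_smul, Pi.add_apply, Pi.smul_apply, smul_eq_mul,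
          eF_apply, q, e, Finsupp.mapRange_apply]
        exact Nat.div_add_mod _ _
      rw [Pi.single_eq_same, expand_monomial, expBasisFun, monomial_mul, mul_one, hd]
    · intro e' _ hne
      rw [Pi.single_eq_of_ne hne, map_zero, zero_mul]
    · intro h; exact absurd (Finset.mem_univ _) h
  | add g₁ g₂ h₁ h₂ =>
    obtain ⟨f₁, hf₁⟩ := h₁
    obtain ⟨f₂, hf₂⟩ := h₂
    refine ⟨f₁ + f₂, ?_⟩
    rw [hf₁, hf₂, ← Finset.sum_add_distrib]
    refine Finset.sum_congr rfl fun e _ => ?_
    rw [Pi.add_apply, map_add, add_mul]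

end Groth.Agent.Lib.helper11.FrobPoly
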