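import Groth.Prelude.Def_FrobAlg
import Groth.Agent.Lib.Helper11.FrobPoly
import Mathlib

set_option autoImplicit false
universe u v w

open TensorProduct FrobAlg

namespace Groth.Agent.Lib.helper11.FrobSmooth

section basic
variable (p : ℕ) [Fact p.Prime] (A : Type u) [CommRing A] [CharP A p]
  (B : Type v) [CommRing B] [Algebra A B] [CharP B p]

theorem relFrob_tmul (b : B) (t : Twist p A) :
    relFrob p A B (b ⊗ₜ[A] t) = b ^ p * algebraMap A B ((toTwist p A).symm t) := by
  simp only [FrobAlg.relFrob, RingHom.coe_comp, Function.comp_apply, AlgHom.toRingHom_eq_coe,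
    RingHom.coe_coe, Algebra.TensorProduct.lift_tmul]
  rfl

variable {B} in
theorem relFrob_map {C : Type w} [CommRing C] [Algebra A C] [CharP C p] (φ : B →ₐ[A] C)
    (y : BaseChange p A B) :
    relFrob p A C (Algebra.TensorProduct.map φ (AlgHom.id A (Twist p A)) y) =
      φ (relFrob p A B y) := by
  induction y using TensorProduct.induction_on with
  | zero => simp
  | tmul b t =>
    rw [Algebra.TensorProduct.map_tmul, relFrob_tmul, relFrob_tmul, map_mul, map_pow,
      AlgHom.commutes]
    rfl
  | add x y hx hy => rw [map_add, map_add, map_add, hx, hy, map_add]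

theorem charP_of_nontrivial (C : Type w) [CommRing C] [Algebra A C] [Nontrivial C] : CharP C p := by
  have hp0 : ((p : ℕ) : C) = 0 := by
    rw [← map_natCast (algebraMap A C), CharP.cast_eq_zero, map_zero]
  exact ringChar.of_eq (CharP.ringChar_of_prime_eq_zero (Fact.out : p.Prime) hp0)

end basic

section poly
variable (p : ℕ) [Fact p.Prime] (A : Type u) [CommRing A] [CharP A p]
  (σ : Type)

/-- The ring map `A[X] → A[X] ⊗[A] Twist`, `∑ a_d X^d ↦ ∑ X^d ⊗ a_d`. -/
noncomputable def psi : MvPolynomial σ A →+* BaseChange p A (MvPolynomial σ A) :=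
  MvPolynomial.eval₂Hom
    ((Algebra.TensorProduct.includeRight : Twist p A →ₐ[A] BaseChange p A (MvPolynomial σ A)).toRingHom.comp
      (toTwist p A : A →+* Twist p A))
    (fun i => (MvPolynomial.X i : MvPolynomial σ A) ⊗ₜ[A] (1 : Twist p A))

theorem relFrob_psi (f : MvPolynomial σ A) :
    relFrob p A (MvPolynomial σ A) (psi p A σ f) = MvPolynomial.expand p f := by
  have : (relFrob p A (MvPolynomial σ A)).comp (psi p A σ) =
      (MvPolynomial.expand p : MvPolynomial σ A →ₐ[A] MvPolynomial σ A).toRingHom := by
    apply MvPolynomial.ringHom_ext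
    · intro a
      simp only [psi, RingHom.coe_comp, Function.comp_apply, MvPolynomial.coe_eval₂Hom,
        MvPolynomial.eval₂_C, AlgHom.toRingHom_eq_coe, RingHom.coe_coe,
        Algebra.TensorProduct.includeRight_apply, relFrob_tmul, one_pow, one_mul,
        MvPolynomial.expand_C]
      rfl
    · intro i
      simp only [psi, RingHom.coe_comp, Function.comp_apply, MvPolynomial.coe_eval₂Hom,
        MvPolynomial.eval₂_X, relFrob_tmul, AlgHom.toRingHom_eq_coe, RingHom.coe_coe,
        MvPolynomial.expand_X]
      rw [show (toTwist p A).symm (1 : Twist p A) = 1 from map_one _, map_one, mul_one]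
  exact congrArg (fun h => h f) this

theorem psi_surjective : Function.Surjective (psi p A σ) := by
  intro y
  induction y using TensorProduct.induction_on with
  | zero => exact ⟨0, map_zero _⟩
  | add x y hx hy =>
    obtain ⟨a, rfl⟩ := hx
    obtain ⟨b, rfl⟩ := hy
    exact ⟨a + b, map_add _ _ _⟩
  | tmul f t =>
    have h1 : ∃ a, psi p A σ a = (1 : MvPolynomial σ A) ⊗ₜ[A] t := by
      refine ⟨MvPolynomial.C ((toTwist p A).symm t), ?_⟩
      simp [psi]
    have h2 : ∃ a, psi p A σ a = f ⊗ₜ[A] (1 : Twist p A) := by
      induction f using MvPolynomial.induction_on with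
      | C a =>
        refine ⟨MvPolynomial.C (a ^ p), ?_⟩
        simp only [psi, MvPolynomial.coe_eval₂Hom, MvPolynomial.eval₂_C, RingHom.coe_comp,
          Function.comp_apply, AlgHom.toRingHom_eq_coe, RingHom.coe_coe,
          Algebra.TensorProduct.includeRight_apply]
        rw [← algebraMap_twist, Algebra.algebraMap_eq_smul_one, TensorProduct.tmul_smul,
          TensorProduct.smul_tmul', Algebra.smul_def, mul_one, MvPolynomial.algebraMap_eq]
      | add f g hf hg =>
        obtain ⟨a, ha⟩ := hf
        obtain ⟨b, hb⟩ := hg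
        exact ⟨a + b, by rw [map_add, ha, hb, TensorProduct.add_tmul]⟩
      | mul_X f i hf =>
        obtain ⟨a, ha⟩ := hf
        refine ⟨a * MvPolynomial.X i, ?_⟩
        rw [map_mul, ha]
        simp [psi]
    obtain ⟨a, ha⟩ := h1
    obtain ⟨b, hb⟩ := h2
    refine ⟨b * a, ?_⟩
    rw [map_mul, ha, hb, Algebra.TensorProduct.tmul_mul_tmul, mul_one, one_mul]

end poly


section basis
variable (p : ℕ) [Fact p.Prime] (A : Type u) [CommRing A] [CharP A p]
  (σ : Type) [Fintype σ] [DecidableEq σ]

/-- `A[X]` is free over its Frobenius twist (via the relative Frobenius), with basis the monomials with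
exponents `< p`. -/
noncomputable def polyBasis :
    letI := (relFrob p A (MvPolynomial σ A)).toAlgebra
    Module.Basis (σ → Fin p) (BaseChange p A (MvPolynomial σ A)) (MvPolynomial σ A) := by
  letI := (relFrob p A (MvPolynomial σ A)).toAlgebra
  have hp : p ≠ 0 := (Fact.out : p.Prime).ne_zero
  refine Module.Basis.mk (v := FrobPoly.expBasisFun (R := A) p) ?_ ?_
  · rw [Fintype.linearIndependent_iff]
    intro y hy e
    choose f hf using fun e => psi_surjective p A σ (y e)
    have h0 : ∑ e, MvPolynomial.expand p (f e) * FrobPoly.expBasisFun (R := A) p e = 0 := by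
      rw [← hy]
      refine Finset.sum_congr rfl fun e _ => ?_
      rw [Algebra.smul_def, ← hf e, ← relFrob_psi]
      rfl
    rw [← hf e, FrobPoly.expand_sum_eq_zero p hp f h0 e, map_zero]
  · intro g _
    obtain ⟨f, rfl⟩ := FrobPoly.exists_expand_sum_eq p hp g
    refine Submodule.sum_mem _ fun e _ => ?_
    rw [← relFrob_psi]
    have h1 : relFrob p A (MvPolynomial σ A) (psi p A σ (f e)) * FrobPoly.expBasisFun (R := A) p e =
        (psi p A σ (f e)) • FrobPoly.expBasisFun (R := A) p e := (Algebra.smul_def _ _).symm
    rw [h1]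
    exact Submodule.smul_mem _ _ (Submodule.subset_span ⟨e, rfl⟩)

end basis


section etale
variable (p : ℕ) [Fact p.Prime] (A : Type u) [CommRing A] [CharP A p]
  (C : Type v) [CommRing C] [Algebra A C] [CharP C p]

theorem flat_relFrob_of_etale_mvPolynomial (n : ℕ) (g : MvPolynomial (Fin n) A →+* C)
    (hgC : g.comp MvPolynomial.C = algebraMap A C) (hg : g.Etale) : (relFrob p A C).Flat := by
  let algPC : Algebra (MvPolynomial (Fin n) A) C := g.toAlgebra
  have tow : IsScalarTower A (MvPolynomial (Fin n) A) C := IsScalarTower.of_algebraMap_eq' hgC.symm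
  have et : Algebra.Etale (MvPolynomial (Fin n) A) C := hg
  let φ : BaseChange p A (MvPolynomial (Fin n) A) →ₐ[A] BaseChange p A C :=
    Algebra.TensorProduct.map (IsScalarTower.toAlgHom A (MvPolynomial (Fin n) A) C)
      (AlgHom.id A (Twist p A))
  let algPACA : Algebra (BaseChange p A (MvPolynomial (Fin n) A)) (BaseChange p A C) :=
    φ.toRingHom.toAlgebra
  have tow2 : IsScalarTower (MvPolynomial (Fin n) A) (BaseChange p A (MvPolynomial (Fin n) A))
      (BaseChange p A C) := IsScalarTower.of_algebraMap_eq' (by
    ext x
    · simp only [RingHom.algebraMap_toAlgebra, φ, Algebra.TensorProduct.algebraMap_apply,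
        RingHom.coe_comp, Function.comp_apply, AlgHom.toRingHom_eq_coe, RingHom.coe_coe,
        Algebra.TensorProduct.map_tmul, IsScalarTower.coe_toAlgHom', AlgHom.coe_id, id_eq]
      rfl
    · simp [RingHom.algebraMap_toAlgebra, φ, Algebra.TensorProduct.algebraMap_apply])
  have po : Algebra.IsPushout (MvPolynomial (Fin n) A) C (BaseChange p A (MvPolynomial (Fin n) A))
      (BaseChange p A C) :=
    Algebra.IsPushout.tensorProduct_tensorProduct A (Twist p A) (MvPolynomial (Fin n) A) C (by
      ext t
      simp [RingHom.algebraMap_toAlgebra, φ])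
  have po' : Algebra.IsPushout (MvPolynomial (Fin n) A) (BaseChange p A (MvPolynomial (Fin n) A)) C
      (BaseChange p A C) := po.symm
  let e : (BaseChange p A (MvPolynomial (Fin n) A)) ⊗[MvPolynomial (Fin n) A] C
      ≃ₐ[BaseChange p A (MvPolynomial (Fin n) A)] BaseChange p A C :=
    Algebra.IsPushout.equiv (MvPolynomial (Fin n) A) (BaseChange p A (MvPolynomial (Fin n) A)) C
      (BaseChange p A C)
  have unr : Algebra.FormallyUnramified (BaseChange p A (MvPolynomial (Fin n) A)) (BaseChange p A C) :=
    Algebra.FormallyUnramified.of_equiv e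
  have ft : Algebra.FiniteType (BaseChange p A (MvPolynomial (Fin n) A)) (BaseChange p A C) :=
    Algebra.FiniteType.equiv inferInstance e
  let algPAP : Algebra (BaseChange p A (MvPolynomial (Fin n) A)) (MvPolynomial (Fin n) A) :=
    (relFrob p A (MvPolynomial (Fin n) A)).toAlgebra
  let algCAC : Algebra (BaseChange p A C) C := (relFrob p A C).toAlgebra
  let algPAC : Algebra (BaseChange p A (MvPolynomial (Fin n) A)) C :=
    ((algebraMap (MvPolynomial (Fin n) A) C).comp
      (algebraMap (BaseChange p A (MvPolynomial (Fin n) A)) (MvPolynomial (Fin n) A))).toAlgebra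
  have tow3 : IsScalarTower (BaseChange p A (MvPolynomial (Fin n) A)) (MvPolynomial (Fin n) A) C :=
    IsScalarTower.of_algebraMap_eq' rfl
  have tow4 : @IsScalarTower (BaseChange p A (MvPolynomial (Fin n) A)) (BaseChange p A C) C
      algPACA.toSMul algCAC.toSMul algPAC.toSMul :=
    @IsScalarTower.of_algebraMap_eq' (BaseChange p A (MvPolynomial (Fin n) A))
      (BaseChange p A C) C _ _ _ algPACA algCAC algPAC (by
      refine RingHom.ext fun y => ?_
      change algebraMap (MvPolynomial (Fin n) A) C (relFrob p A (MvPolynomial (Fin n) A) y) =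
        relFrob p A C (φ y)
      exact (relFrob_map p A (IsScalarTower.toAlgHom A (MvPolynomial (Fin n) A) C) y).symm)
  have fr : Module.Free (BaseChange p A (MvPolynomial (Fin n) A)) (MvPolynomial (Fin n) A) :=
    Module.Free.of_basis (polyBasis p A (Fin n))
  have fl1 : Module.Flat (BaseChange p A (MvPolynomial (Fin n) A)) C :=
    Module.Flat.trans (BaseChange p A (MvPolynomial (Fin n) A)) (MvPolynomial (Fin n) A) C
  have eft : Algebra.EssFiniteType (BaseChange p A (MvPolynomial (Fin n) A)) (BaseChange p A C) :=
    inferInstance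
  exact @Algebra.FormallyUnramified.flat_of_restrictScalars
    (BaseChange p A (MvPolynomial (Fin n) A)) (BaseChange p A C) _ _ algPACA C _ algPAC.toModule
    algCAC.toModule tow4 unr eft fl1

end etale


section smooth
variable (p : ℕ) [Fact p.Prime] (A : Type u) [CommRing A] [CharP A p]
  (B : Type v) [CommRing B] [Algebra A B] [CharP B p]

theorem flat_relFrob_of_isStandardSmooth [Algebra.IsStandardSmooth A B] : (relFrob p A B).Flat := by
  obtain ⟨n, g, hgC, hg⟩ := RingHom.IsStandardSmooth.exists_etale_mvPolynomial
    (f := algebraMap A B) (RingHom.isStandardSmooth_algebraMap.mpr inferInstance)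
  exact flat_relFrob_of_etale_mvPolynomial p A B n g hgC hg

omit [CharP B p] in
/-- base change of a flat algebra map to the Frobenius twists is flat -/
theorem flat_map_of_flat {C : Type w} [CommRing C] [Algebra A C] (φ : B →ₐ[A] C)
    (hφ : φ.toRingHom.Flat) :
    (Algebra.TensorProduct.map φ (AlgHom.id A (Twist p A))).toRingHom.Flat := by
  let algBC : Algebra B C := φ.toRingHom.toAlgebra
  have tow : IsScalarTower A B C := IsScalarTower.of_algebraMap_eq' φ.comp_algebraMap.symm
  have fl : Module.Flat B C := hφ
  let ψ : BaseChange p A B →ₐ[A] BaseChange p A C :=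
    Algebra.TensorProduct.map (IsScalarTower.toAlgHom A B C) (AlgHom.id A (Twist p A))
  have hψ : ψ = Algebra.TensorProduct.map φ (AlgHom.id A (Twist p A)) := by
    congr 1
  rw [← hψ]
  let algBACA : Algebra (BaseChange p A B) (BaseChange p A C) := ψ.toRingHom.toAlgebra
  have tow2 : IsScalarTower B (BaseChange p A B) (BaseChange p A C) :=
    IsScalarTower.of_algebraMap_eq' (by
      ext x
      simp only [RingHom.algebraMap_toAlgebra, ψ, Algebra.TensorProduct.algebraMap_apply,
        RingHom.coe_comp, Function.comp_apply, AlgHom.toRingHom_eq_coe, RingHom.coe_coe,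
        Algebra.TensorProduct.map_tmul, IsScalarTower.coe_toAlgHom', AlgHom.coe_id, id_eq]
      rfl)
  have po : Algebra.IsPushout B C (BaseChange p A B) (BaseChange p A C) :=
    Algebra.IsPushout.tensorProduct_tensorProduct A (Twist p A) B C (by
      ext t
      simp [RingHom.algebraMap_toAlgebra, ψ])
  have po' : Algebra.IsPushout B (BaseChange p A B) C (BaseChange p A C) := po.symm
  change Module.Flat (BaseChange p A B) (BaseChange p A C)
  exact Module.Flat.isBaseChange (R := B) (M := C) (S := BaseChange p A B) (BaseChange p A C) po'.out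

theorem flat_relFrob_of_smooth [Algebra.Smooth A B] : (relFrob p A B).Flat := by
  obtain ⟨s, hs, hstd⟩ := Algebra.Smooth.exists_span_eq_top_isStandardSmooth A B
  let algBAB : Algebra (BaseChange p A B) B := (relFrob p A B).toAlgebra
  change Module.Flat (BaseChange p A B) B
  refine Module.flat_of_isLocalized_span (R := BaseChange p A B) (S := B) (M := B) s hs
    (fun r => Localization.Away r.1) (fun r => Algebra.linearMap B (Localization.Away r.1)) ?_
  intro r
  by_cases hnt : Nontrivial (Localization.Away r.1)
  · have hch : CharP (Localization.Away r.1) p := charP_of_nontrivial p A _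
    have hss : Algebra.IsStandardSmooth A (Localization.Away r.1) := hstd r.1 r.2
    have hfl := flat_relFrob_of_isStandardSmooth p A (Localization.Away r.1)
    have hloc : (IsScalarTower.toAlgHom A B (Localization.Away r.1)).toRingHom.Flat := by
      change (algebraMap B (Localization.Away r.1)).Flat
      rw [RingHom.flat_algebraMap_iff]
      exact IsLocalization.flat _ (Submonoid.powers r.1)
    have h1 := (flat_map_of_flat p A B (IsScalarTower.toAlgHom A B (Localization.Away r.1)) hloc).comp hfl
    have h2 : (relFrob p A (Localization.Away r.1)).comp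
        (Algebra.TensorProduct.map (IsScalarTower.toAlgHom A B (Localization.Away r.1))
          (AlgHom.id A (Twist p A))).toRingHom =
        (algebraMap B (Localization.Away r.1)).comp (relFrob p A B) := by
      refine RingHom.ext fun y => ?_
      exact relFrob_map p A (IsScalarTower.toAlgHom A B (Localization.Away r.1)) y
    rw [h2] at h1
    have h3 : (algebraMap (BaseChange p A B) (Localization.Away r.1)).Flat := by
      convert h1 using 1
      exact IsScalarTower.algebraMap_eq (BaseChange p A B) B (Localization.Away r.1)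
    exact RingHom.flat_algebraMap_iff.mp h3
  · have : Subsingleton (Localization.Away r.1) := not_nontrivial_iff_subsingleton.mp hnt
    infer_instance

end smooth

end Groth.Agent.Lib.helper11.FrobSmooth
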