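import Groth.Prelude.Def_FrobAlg
import Groth.Agent.Lib.Helper11.FrobSmooth
import Groth.Agent.S3176
import Mathlib

set_option autoImplicit false
set_option linter.unusedSectionVars false
set_option linter.unusedSimpArgs false
universe u

open TensorProduct FrobAlg

namespace Groth.Agent.Lib.helper11.FrobRank

section defs
variable (p : ℕ) [Fact p.Prime] (A : Type u) [CommRing A] [CharP A p]
variable (B : Type u) [CommRing B] [Algebra A B] [CharP B p]

/-- `Target p A B` (a copy of `B`) as an algebra over the Frobenius twist through the relative Frobenius. -/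
@[reducible] noncomputable def algTarget : Algebra (BaseChange p A B) (Target p A B) :=
  (show BaseChange p A B →+* Target p A B from relFrob p A B).toAlgebra

end defs

section PO
variable (p : ℕ) [Fact p.Prime] (A : Type u) [CommRing A] [CharP A p]
variable (B : Type u) [CommRing B] [Algebra A B] [CharP B p]
variable (C : Type u) [CommRing C] [Algebra A C] [CharP C p] [Algebra B C] [IsScalarTower A B C]

/-- `φ ⊗ id` on Frobenius twists. -/
noncomputable def mapBC : BaseChange p A B →ₐ[A] BaseChange p A C :=
  Algebra.TensorProduct.map (IsScalarTower.toAlgHom A B C) (AlgHom.id A (Twist p A))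

attribute [local instance] algTarget

@[reducible] noncomputable def algBACA : Algebra (BaseChange p A B) (BaseChange p A C) :=
  (mapBC p A B C).toRingHom.toAlgebra

@[reducible] noncomputable def algTBTC : Algebra (Target p A B) (Target p A C) :=
  (show Target p A B →+* Target p A C from algebraMap B C).toAlgebra

attribute [local instance] algBACA algTBTC

@[reducible] noncomputable def algBATC : Algebra (BaseChange p A B) (Target p A C) :=
  ((algebraMap (Target p A B) (Target p A C)).comp
    (algebraMap (BaseChange p A B) (Target p A B))).toAlgebra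

attribute [local instance] algBATC

theorem towBATBTC : IsScalarTower (BaseChange p A B) (Target p A B) (Target p A C) :=
  IsScalarTower.of_algebraMap_eq' rfl

theorem towBACATC : IsScalarTower (BaseChange p A B) (BaseChange p A C) (Target p A C) :=
  IsScalarTower.of_algebraMap_eq' (by
    refine RingHom.ext fun y => ?_
    exact (FrobSmooth.relFrob_map p A (IsScalarTower.toAlgHom A B C) y).symm)

attribute [local instance] towBATBTC towBACATC

theorem towBBACA : IsScalarTower B (BaseChange p A B) (BaseChange p A C) :=
  IsScalarTower.of_algebraMap_eq' (by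
    ext x
    simp only [RingHom.algebraMap_toAlgebra, mapBC, Algebra.TensorProduct.algebraMap_apply,
      RingHom.coe_comp, Function.comp_apply, AlgHom.toRingHom_eq_coe, RingHom.coe_coe,
      Algebra.TensorProduct.map_tmul, IsScalarTower.coe_toAlgHom', AlgHom.coe_id, id_eq]
    rfl)

attribute [local instance] towBBACA

theorem isPushout_BCBACA :
    Algebra.IsPushout B (BaseChange p A B) C (BaseChange p A C) := by
  have po : Algebra.IsPushout B C (BaseChange p A B) (BaseChange p A C) :=
    Algebra.IsPushout.tensorProduct_tensorProduct A (Twist p A) B C (by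
      ext t
      simp [RingHom.algebraMap_toAlgebra, mapBC])
  exact po.symm

theorem etale_BACA [Algebra.Etale B C] : Algebra.Etale (BaseChange p A B) (BaseChange p A C) := by
  have := isPushout_BCBACA p A B C
  exact Algebra.Etale.of_equiv
    (Algebra.IsPushout.equiv B (BaseChange p A B) C (BaseChange p A C))


/-- the comparison map `Target B ⊗[B^(p)] C^(p) → Target C`. -/
noncomputable def Phi : (Target p A B) ⊗[BaseChange p A B] (BaseChange p A C) →ₐ[Target p A B] Target p A C :=
  Algebra.TensorProduct.lift (Algebra.ofId (Target p A B) (Target p A C))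
    (IsScalarTower.toAlgHom (BaseChange p A B) (BaseChange p A C) (Target p A C))
    (fun _ _ => Commute.all _ _)

theorem Phi_tmul (b : Target p A B) (y : BaseChange p A C) :
    Phi p A B C (b ⊗ₜ y) = algebraMap (Target p A B) (Target p A C) b *
      algebraMap (BaseChange p A C) (Target p A C) y := by
  simp [Phi, Algebra.ofId_apply]

/-- `c ↦ 1 ⊗ (c ⊗ 1)`. -/
noncomputable def iota : Target p A C →+* (Target p A B) ⊗[BaseChange p A B] (BaseChange p A C) :=
  (Algebra.TensorProduct.includeRight :
      BaseChange p A C →ₐ[BaseChange p A B] (Target p A B) ⊗[BaseChange p A B] (BaseChange p A C)).toRingHom.comp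
    ((Algebra.TensorProduct.includeLeft : C →ₐ[A] BaseChange p A C).toRingHom.comp
      ((toTarget p A C).symm : Target p A C →+* C))

theorem natCast_p_eq_zero (D : Type u) [CommRing D] [Algebra B D] : ((p : ℕ) : D) = 0 := by
  rw [← map_natCast (algebraMap B D), CharP.cast_eq_zero, map_zero]

theorem add_pow_p {D : Type u} [CommRing D] (h0 : ((p : ℕ) : D) = 0) (x y : D) :
    (x + y) ^ p = x ^ p + y ^ p := by
  obtain ⟨r, hr⟩ := exists_add_pow_prime_eq (Fact.out : p.Prime) x y
  rw [hr, h0, zero_mul, zero_mul, zero_mul, add_zero]

theorem pow_p_eq_iota (x : (Target p A B) ⊗[BaseChange p A B] (BaseChange p A C)) :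
    x ^ p = iota p A B C (Phi p A B C x) := by
  have h0 : ((p : ℕ) : (Target p A B) ⊗[BaseChange p A B] (BaseChange p A C)) = 0 := by
    have h1 : ((p : ℕ) : Target p A B) = 0 := by
      change ((p : ℕ) : B) = 0
      exact CharP.cast_eq_zero B p
    rw [← map_natCast (algebraMap (Target p A B) _), h1, map_zero]
  induction x using TensorProduct.induction_on with
  | zero => rw [zero_pow (Fact.out : p.Prime).ne_zero, map_zero, map_zero]
  | add x y hx hy => rw [add_pow_p p h0, hx, hy, map_add, map_add]
  | tmul b y =>
    rw [Algebra.TensorProduct.tmul_pow, Phi_tmul]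
    have hb : b ^ p = (((toTarget p A B).symm b) ⊗ₜ[A] (1 : Twist p A) : BaseChange p A B) •
        (1 : Target p A B) := by
      rw [Algebra.smul_def, mul_one]
      change b ^ p = relFrob p A B _
      rw [FrobSmooth.relFrob_tmul]
      simp
      rfl
    have hy : y ^ p = (relFrob p A C y) ⊗ₜ[A] (1 : Twist p A) := Groth.Agent.S3191.pow_p_eq p A C y
    rw [hb, TensorProduct.smul_tmul, hy, Algebra.smul_def]
    simp only [iota, RingHom.coe_comp, Function.comp_apply, AlgHom.toRingHom_eq_coe,
      RingHom.coe_coe, Algebra.TensorProduct.includeRight_apply,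
      Algebra.TensorProduct.includeLeft_apply]
    congr 1
    simp only [RingHom.algebraMap_toAlgebra, mapBC, AlgHom.toRingHom_eq_coe, RingHom.coe_coe,
      Algebra.TensorProduct.map_tmul, IsScalarTower.coe_toAlgHom', AlgHom.coe_id, id_eq,
      Algebra.TensorProduct.tmul_mul_tmul, mul_one]
    rfl


theorem Phi_iota (c : Target p A C) : Phi p A B C (iota p A B C c) = c ^ p := by
  simp only [iota, RingHom.coe_comp, Function.comp_apply, AlgHom.toRingHom_eq_coe,
    RingHom.coe_coe, Algebra.TensorProduct.includeRight_apply,
    Algebra.TensorProduct.includeLeft_apply, Phi_tmul, map_one, one_mul]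
  change relFrob p A C _ = c ^ p
  rw [FrobSmooth.relFrob_tmul]
  simp
  rfl

theorem Phi_bijective [Algebra.Etale B C] : Function.Bijective (Phi p A B C) := by
  let algDTC : Algebra ((Target p A B) ⊗[BaseChange p A B] (BaseChange p A C)) (Target p A C) :=
    (Phi p A B C).toRingHom.toAlgebra
  have etBACA := etale_BACA p A B C
  have etTBD : Algebra.Etale (Target p A B)
      ((Target p A B) ⊗[BaseChange p A B] (BaseChange p A C)) := inferInstance
  have etTBTC : Algebra.Etale (Target p A B) (Target p A C) :=
    (RingHom.etale_algebraMap.mpr (inferInstance : Algebra.Etale B C) : (algebraMap B C).Etale)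
  have hRB : ((algebraMap ((Target p A B) ⊗[BaseChange p A B] (BaseChange p A C)) (Target p A C)).comp
      (algebraMap (Target p A B) ((Target p A B) ⊗[BaseChange p A B] (BaseChange p A C)))).Etale := by
    have h1 : (algebraMap ((Target p A B) ⊗[BaseChange p A B] (BaseChange p A C)) (Target p A C)).comp
        (algebraMap (Target p A B) ((Target p A B) ⊗[BaseChange p A B] (BaseChange p A C))) =
        algebraMap (Target p A B) (Target p A C) := by
      refine RingHom.ext fun b => ?_
      change Phi p A B C (b ⊗ₜ 1) = _
      rw [Phi_tmul, map_one, mul_one]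
    rw [h1]
    exact RingHom.etale_algebraMap.mpr etTBTC
  have hp : p ≠ 0 := (Fact.out : p.Prime).ne_zero
  have hint : Algebra.IsIntegral ((Target p A B) ⊗[BaseChange p A B] (BaseChange p A C))
      (Target p A C) := by
    refine ⟨fun c => ?_⟩
    refine ⟨Polynomial.X ^ p - Polynomial.C (iota p A B C c),
      Polynomial.monic_X_pow_sub_C _ hp, ?_⟩
    rw [Polynomial.eval₂_sub, Polynomial.eval₂_X_pow, Polynomial.eval₂_C]
    change c ^ p - Phi p A B C (iota p A B C c) = 0
    rw [Phi_iota, sub_self]
  refine Groth.Agent.S3176.bijective_of_etale_radicial (R := Target p A B)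
    (C := (Target p A B) ⊗[BaseChange p A B] (BaseChange p A C)) (B := Target p A C) hRB ?_ ?_
  · intro x hx
    refine ⟨p, ?_⟩
    have hx' : Phi p A B C x = 0 := hx
    rw [pow_p_eq_iota, hx', map_zero]
  · intro c
    refine ⟨p, ?_⟩
    have hp0 : ((p : ℕ) : (Target p A C) ⊗[(Target p A B) ⊗[BaseChange p A B] (BaseChange p A C)]
        (Target p A C)) = 0 := by
      have h1 : ((p : ℕ) : Target p A C) = 0 := by
        change ((p : ℕ) : C) = 0
        exact CharP.cast_eq_zero C p
      rw [← map_natCast (algebraMap (Target p A C) _), h1, map_zero]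
    rw [Groth.Agent.S3176.sub_pow_p_of_p_eq_zero p hp0, Algebra.TensorProduct.tmul_pow,
      Algebra.TensorProduct.tmul_pow, one_pow]
    have hc : c ^ p = (iota p A B C c) • (1 : Target p A C) := by
      rw [Algebra.smul_def, mul_one]
      exact (Phi_iota p A B C c).symm
    rw [hc]
    exact sub_eq_zero.mpr (TensorProduct.smul_tmul (iota p A B C c) (1 : Target p A C) (1 : Target p A C)).symm

theorem isPushout_target [Algebra.Etale B C] :
    Algebra.IsPushout (BaseChange p A B) (BaseChange p A C) (Target p A B) (Target p A C) := by
  have h : Algebra.IsPushout (BaseChange p A B) (Target p A B) (BaseChange p A C) (Target p A C) := by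
    constructor
    refine IsBaseChange.of_equiv
      (LinearEquiv.ofBijective (Phi p A B C).toLinearMap (Phi_bijective p A B C)) (fun y => ?_)
    change Phi p A B C (1 ⊗ₜ y) = _
    rw [Phi_tmul, map_one, one_mul]
    rfl
  exact h.symm

end PO


section finproj
variable (p : ℕ) [Fact p.Prime] (A : Type u) [CommRing A] [CharP A p]
variable (B : Type u) [CommRing B] [Algebra A B] [CharP B p]

/-- ring map `A → B^(p)`, `a ↦ 1 ⊗ a`. -/
noncomputable def inclA : A →+* BaseChange p A B :=
  (algebraMap (Twist p A) (BaseChange p A B)).comp (toTwist p A : A →+* Twist p A)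

theorem relFrob_comp_inclA : (relFrob p A B).comp (inclA p A B) = algebraMap A B := by
  refine RingHom.ext fun a => ?_
  change relFrob p A B ((1 : B) ⊗ₜ[A] (toTwist p A a)) = _
  rw [FrobSmooth.relFrob_tmul, one_pow, one_mul, RingEquiv.symm_apply_apply]

theorem inclA_finiteType [Algebra.FiniteType A B] : (inclA p A B).FiniteType := by
  have h1 : Algebra.FiniteType (Twist p A) (BaseChange p A B) :=
    Algebra.FiniteType.equiv (inferInstance : Algebra.FiniteType (Twist p A) (Twist p A ⊗[A] B))
      (Algebra.TensorProduct.commRight A (Twist p A) B)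
  have h2 : (algebraMap (Twist p A) (BaseChange p A B)).FiniteType := by
    rw [RingHom.finiteType_algebraMap]; exact h1
  exact h2.comp (RingHom.FiniteType.of_surjective _ (toTwist p A).surjective)

theorem relFrob_finiteType [Algebra.FiniteType A B] : (relFrob p A B).FiniteType := by
  refine RingHom.FiniteType.of_comp_finiteType (f := inclA p A B) ?_
  rw [relFrob_comp_inclA, RingHom.finiteType_algebraMap]
  infer_instance

theorem relFrob_finitePresentation [Algebra.FinitePresentation A B] :
    (relFrob p A B).FinitePresentation := by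
  refine RingHom.FinitePresentation.of_comp_finiteType (inclA p A B) ?_ (inclA_finiteType p A B)
  rw [relFrob_comp_inclA, RingHom.finitePresentation_algebraMap]
  infer_instance

theorem finite_projective [Algebra.Smooth A B] :
    letI := (relFrob p A B).toAlgebra
    Module.Finite (BaseChange p A B) B ∧ Module.Projective (BaseChange p A B) B ∧
      Module.Flat (BaseChange p A B) B := by
  letI := (relFrob p A B).toAlgebra
  have hflat : Module.Flat (BaseChange p A B) B := FrobSmooth.flat_relFrob_of_smooth p A B
  have hint : Algebra.IsIntegral (BaseChange p A B) B := ⟨(Groth.Agent.S3191.result p A B).1⟩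
  have hft : Algebra.FiniteType (BaseChange p A B) B := relFrob_finiteType p A B
  have hfp : Algebra.FinitePresentation (BaseChange p A B) B := relFrob_finitePresentation p A B
  have hfin : Module.Finite (BaseChange p A B) B := Algebra.IsIntegral.finite
  have hmfp : Module.FinitePresentation (BaseChange p A B) B :=
    Module.FinitePresentation.of_finite_of_finitePresentation _ _
  exact ⟨hfin, Module.Flat.projective_of_finitePresentation, hflat⟩

end finproj


section ranks
variable (p : ℕ) [Fact p.Prime] (A : Type u) [CommRing A] [CharP A p]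
variable (B : Type u) [CommRing B] [Algebra A B] [CharP B p]
variable (C : Type u) [CommRing C] [Algebra A C] [CharP C p] [Algebra B C] [IsScalarTower A B C]

attribute [local instance] algTarget algBACA algTBTC algBATC towBATBTC towBACATC towBBACA

theorem rankAtStalk_target_eq [Algebra.Etale B C]
    [Module.Flat (BaseChange p A B) (Target p A B)] [Module.Finite (BaseChange p A B) (Target p A B)]
    (q' : PrimeSpectrum (BaseChange p A C)) :
    Module.rankAtStalk (R := BaseChange p A C) (Target p A C) q' =
      Module.rankAtStalk (R := BaseChange p A B) (Target p A B)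
        (PrimeSpectrum.comap (algebraMap (BaseChange p A B) (BaseChange p A C)) q') :=
  Module.rankAtStalk_isBaseChange (isPushout_target p A B C).out q'

omit [CharP A p] [CharP B p] [CharP C p] [Fact p.Prime] in
theorem rankAtStalk_kaehler_eq [Algebra.FormallyEtale B C] [Module.Flat B (Ω[B⁄A])]
    [Module.Finite B (Ω[B⁄A])] (Q' : PrimeSpectrum C) :
    Module.rankAtStalk (R := C) (Ω[C⁄A]) Q' =
      Module.rankAtStalk (R := B) (Ω[B⁄A]) (PrimeSpectrum.comap (algebraMap B C) Q') :=
  Module.rankAtStalk_isBaseChange (KaehlerDifferential.isBaseChange_of_formallyEtale A B C) Q'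

theorem rankAtStalk_poly (n : ℕ) (q : PrimeSpectrum (BaseChange p A (MvPolynomial (Fin n) A))) :
    Module.rankAtStalk (R := BaseChange p A (MvPolynomial (Fin n) A))
      (Target p A (MvPolynomial (Fin n) A)) q = p ^ n := by
  have : Nontrivial (BaseChange p A (MvPolynomial (Fin n) A)) := q.nontrivial
  let b : Module.Basis (Fin n → Fin p) (BaseChange p A (MvPolynomial (Fin n) A))
      (Target p A (MvPolynomial (Fin n) A)) := FrobSmooth.polyBasis p A (Fin n)
  have : Module.Free (BaseChange p A (MvPolynomial (Fin n) A)) (Target p A (MvPolynomial (Fin n) A)) :=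
    Module.Free.of_basis b
  rw [Module.rankAtStalk_eq_finrank_of_free, Pi.natCast_def, Module.finrank_eq_card_basis b]
  simp

omit [CharP A p] [Fact p.Prime] in
theorem rankAtStalk_kaehler_poly (n : ℕ) (q : PrimeSpectrum (MvPolynomial (Fin n) A)) :
    Module.rankAtStalk (R := MvPolynomial (Fin n) A) (Ω[MvPolynomial (Fin n) A⁄A]) q = n := by
  have : Nontrivial (MvPolynomial (Fin n) A) := q.nontrivial
  have : Module.Free (MvPolynomial (Fin n) A) (Ω[MvPolynomial (Fin n) A⁄A]) :=
    Module.Free.of_basis (KaehlerDifferential.mvPolynomialBasis A (Fin n))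
  rw [Module.rankAtStalk_eq_finrank_of_free, Pi.natCast_def,
    Module.finrank_eq_card_basis (KaehlerDifferential.mvPolynomialBasis A (Fin n))]
  simp

end ranks


section main
variable (p : ℕ) [Fact p.Prime] (A : Type u) [CommRing A] [CharP A p]
variable (B : Type u) [CommRing B] [Algebra A B] [CharP B p] [Algebra.Smooth A B]

attribute [local instance] algTarget algBACA algTBTC algBATC towBATBTC towBACATC towBBACA

theorem rankAtStalk_relFrob (r : ℕ)
    (hr : ∀ q : PrimeSpectrum B, Module.rankAtStalk (R := B) (Ω[B⁄A]) q = r)
    (q : PrimeSpectrum (BaseChange p A B)) :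
    Module.rankAtStalk (R := BaseChange p A B) (Target p A B) q = p ^ r := by
  obtain ⟨s, hs, hstd⟩ := Algebra.Smooth.exists_span_eq_top_isStandardSmooth A B
  have hex : ∃ x ∈ s, (x ⊗ₜ[A] (1 : Twist p A) : BaseChange p A B) ∉ q.asIdeal := by
    by_contra hcon
    push Not at hcon
    have h1 : Ideal.map (Algebra.TensorProduct.includeLeft : B →ₐ[A] BaseChange p A B)
        (Ideal.span s) ≤ q.asIdeal := by
      rw [Ideal.map_span, Ideal.span_le]
      rintro _ ⟨x, hx, rfl⟩
      exact hcon x hx
    rw [hs, Ideal.map_top] at h1
    exact q.2.ne_top (top_le_iff.mp h1)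
  obtain ⟨x, hxs, hxq⟩ := hex
  have hstdx : Algebra.IsStandardSmooth A (Localization.Away x) := hstd x hxs
  have hpow : ∀ k : ℕ, ((x ^ k) ⊗ₜ[A] (1 : Twist p A) : BaseChange p A B) ∉ q.asIdeal := by
    intro k hk
    have : ((x ⊗ₜ[A] (1 : Twist p A) : BaseChange p A B)) ^ k ∈ q.asIdeal := by
      rwa [Algebra.TensorProduct.tmul_pow, one_pow]
    exact hxq (q.2.mem_of_pow_mem k this)
  have hnt : Nontrivial (Localization.Away x) := by
    by_contra hnt
    have hsub : Subsingleton (Localization.Away x) := not_nontrivial_iff_subsingleton.mp hnt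
    have h0 : (0 : B) ∈ Submonoid.powers x :=
      (IsLocalization.subsingleton_iff (S := Localization.Away x) (M := Submonoid.powers x)).mp hsub
    obtain ⟨k, hk⟩ := h0
    have hk' : x ^ k = 0 := hk
    apply hpow k
    rw [hk', TensorProduct.zero_tmul]
    exact zero_mem _
  have hch : CharP (Localization.Away x) p := FrobSmooth.charP_of_nontrivial p A _
  -- localization structure
  have po := isPushout_BCBACA p A B (Localization.Away x)
  have hloc : IsLocalization (Algebra.algebraMapSubmonoid (BaseChange p A B) (Submonoid.powers x))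
      (BaseChange p A (Localization.Away x)) :=
    (Algebra.isLocalization_iff_isPushout (Submonoid.powers x) (Localization.Away x)).mpr po
  have hdisj : Disjoint ((Algebra.algebraMapSubmonoid (BaseChange p A B) (Submonoid.powers x) :
      Submonoid (BaseChange p A B)) : Set (BaseChange p A B)) (q.asIdeal : Set (BaseChange p A B)) := by
    rw [Set.disjoint_left]
    rintro _ ⟨_, ⟨k, rfl⟩, rfl⟩ hmem
    exact hpow k hmem
  have hq'prime : (Ideal.map (algebraMap (BaseChange p A B) (BaseChange p A (Localization.Away x)))
      q.asIdeal).IsPrime :=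
    IsLocalization.isPrime_of_isPrime_disjoint _ _ _ q.2 hdisj
  let q' : PrimeSpectrum (BaseChange p A (Localization.Away x)) := ⟨_, hq'prime⟩
  have hq'q : PrimeSpectrum.comap (algebraMap (BaseChange p A B)
      (BaseChange p A (Localization.Away x))) q' = q := by
    apply PrimeSpectrum.ext
    exact IsLocalization.under_map_of_isPrime_disjoint _ _ q.2 hdisj
  -- rank transfer B → C
  obtain ⟨hfin, hproj, hflat⟩ := finite_projective p A B
  have hfin' : Module.Finite (BaseChange p A B) (Target p A B) := hfin
  have hflat' : Module.Flat (BaseChange p A B) (Target p A B) := hflat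
  have e1 := rankAtStalk_target_eq p A B (Localization.Away x) q'
  rw [hq'q] at e1
  rw [← e1]
  -- standard smooth structure
  obtain ⟨n, g, hgC, hg⟩ := RingHom.IsStandardSmooth.exists_etale_mvPolynomial
    (f := algebraMap A (Localization.Away x)) (RingHom.isStandardSmooth_algebraMap.mpr hstdx)
  let algPC : Algebra (MvPolynomial (Fin n) A) (Localization.Away x) := g.toAlgebra
  have tow : IsScalarTower A (MvPolynomial (Fin n) A) (Localization.Away x) :=
    IsScalarTower.of_algebraMap_eq' hgC.symm
  have et : Algebra.Etale (MvPolynomial (Fin n) A) (Localization.Away x) := hg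
  let b : Module.Basis (Fin n → Fin p) (BaseChange p A (MvPolynomial (Fin n) A))
      (Target p A (MvPolynomial (Fin n) A)) := FrobSmooth.polyBasis p A (Fin n)
  have hfreeP : Module.Free (BaseChange p A (MvPolynomial (Fin n) A))
      (Target p A (MvPolynomial (Fin n) A)) := Module.Free.of_basis b
  have hfinP : Module.Finite (BaseChange p A (MvPolynomial (Fin n) A))
      (Target p A (MvPolynomial (Fin n) A)) := Module.Finite.of_basis b
  have e2 := rankAtStalk_target_eq p A (MvPolynomial (Fin n) A) (Localization.Away x) q'
  rw [e2, rankAtStalk_poly]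
  -- n = r
  congr 1
  obtain ⟨Q'⟩ : Nonempty (PrimeSpectrum (Localization.Away x)) := inferInstance
  have e3 := rankAtStalk_kaehler_eq A B (Localization.Away x) Q'
  have e4 := rankAtStalk_kaehler_eq A (MvPolynomial (Fin n) A) (Localization.Away x) Q'
  rw [hr] at e3
  rw [rankAtStalk_kaehler_poly] at e4
  rw [← e4, e3]

end main

end Groth.Agent.Lib.helper11.FrobRank
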