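import Mathlib

/-! Characters of the additive group in characteristic `p`: coefficient combinatorics (helper11). -/

set_option autoImplicit false

namespace Groth.Agent.Lib.helper11.GaChar

open Polynomial

variable {p : ℕ} [hp : Fact p.Prime] {A : Type*} [CommRing A] [CharP A p]

/-! ### binomial coefficients in characteristic `p` -/

lemma choose_pow_mul (A : Type*) [CommRing A] [CharP A p] (m a b : ℕ) :
    (((p ^ m * a).choose (p ^ m * b) : ℕ) : A) = ((a.choose b : ℕ) : A) :=
  CharP.natCast_eq_natCast' A p Choose.choose_pow_mul_pow_mul_modEq_choose_nat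

lemma choose_add_mul_pow (A : Type*) [CommRing A] [CharP A p] :
    ∀ (m d k' : ℕ), k' < p ^ m → (((k' + d * p ^ m).choose k' : ℕ) : A) = 1 := by
  intro m
  induction m with
  | zero =>
    intro d k' hk
    have : k' = 0 := by simpa using hk
    subst this
    simp
  | succ m ih =>
    intro d k' hk
    have hpos : 0 < p := hp.out.pos
    have h1 := Choose.choose_modEq_choose_mod_mul_choose_div_nat (p := p)
      (n := k' + d * p ^ (m + 1)) (k := k')
    have h2 : (k' + d * p ^ (m + 1)) % p = k' % p := by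
      rw [pow_succ, ← mul_assoc, Nat.add_mul_mod_self_right]
    have h3 : (k' + d * p ^ (m + 1)) / p = k' / p + d * p ^ m := by
      rw [pow_succ, ← mul_assoc, Nat.add_mul_div_right _ _ hpos]
    rw [h2, h3, Nat.choose_self, one_mul] at h1
    rw [CharP.natCast_eq_natCast' A p h1]
    apply ih
    rw [Nat.div_lt_iff_lt_mul hpos, ← pow_succ]
    exact hk

lemma isUnit_factorial (A : Type*) [CommRing A] [CharP A p] (d : ℕ) (hd : d < p) :
    IsUnit ((d.factorial : ℕ) : A) := by
  have hcop : Nat.Coprime d.factorial p := by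
    rw [Nat.coprime_comm, Nat.Prime.coprime_iff_not_dvd hp.out]
    intro h
    exact absurd ((Nat.Prime.dvd_factorial hp.out).1 h) (not_le.2 hd)
  exact (CharP.isUnit_natCast_iff hp.out).2 (by
    rw [Nat.Prime.dvd_iff_not_coprime hp.out, not_not, Nat.coprime_comm]; exact hcop)


/-- the truncated exponential factor -/
noncomputable def E (p : ℕ) {A : Type*} [CommRing A] (a : A) (n : ℕ) : A[X] :=
  ∑ j ∈ Finset.range p, Polynomial.C (Ring.inverse (j.factorial : A) * a ^ j) *
    Polynomial.X ^ (j * p ^ n)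

/-- block reindexing -/
lemma sum_range_mul_block {M : Type*} [AddCommMonoid M] (g : ℕ → M) (q : ℕ) :
    ∀ D : ℕ, ∑ k ∈ Finset.range (D * q), g k =
      ∑ d ∈ Finset.range D, ∑ k' ∈ Finset.range q, g (k' + d * q) := by
  intro D
  induction D with
  | zero => simp
  | succ D ih =>
    rw [Finset.sum_range_succ, ← ih, Nat.succ_mul, Finset.sum_range_add]
    congr 1
    apply Finset.sum_congr rfl
    intro x _
    rw [add_comm]

/-- The multiplicativity hypothesis on coefficients, up to a bound. -/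
def HChar (A : Type*) [CommRing A] (c : ℕ → A) (M : ℕ) : Prop :=
  ∀ i j, i < M → j < M → (((i + j).choose i : ℕ) : A) * c (i + j) = c i * c j

lemma HChar.mono {c : ℕ → A} {M M' : ℕ} (h : HChar A c M') (hM : M ≤ M') : HChar A c M :=
  fun i j hi hj => h i j (lt_of_lt_of_le hi hM) (lt_of_lt_of_le hj hM)

/-- Step 1: `d! * c (d q) = a ^ d`. -/
lemma step1 (c : ℕ → A) (m : ℕ) (h0 : c 0 = 1) (H : HChar A c (p ^ (m + 1))) :
    ∀ d, d < p → ((d.factorial : ℕ) : A) * c (d * p ^ m) = c (p ^ m) ^ d := by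
  have hp1 : 1 < p := hp.out.one_lt
  have hq : 0 < p ^ m := pos_of_ne_zero (pow_ne_zero _ hp.out.ne_zero)
  intro d
  induction d with
  | zero => intro _; simp [h0]
  | succ d ih =>
    intro hd
    have hd' : d < p := by omega
    have h1 : d * p ^ m < p ^ (m + 1) := by
      rw [pow_succ, mul_comm (p ^ m) p]
      exact Nat.mul_lt_mul_of_pos_right hd' hq
    have h2 : p ^ m < p ^ (m + 1) := Nat.pow_lt_pow_right hp1 (Nat.lt_succ_self m)
    have h3 := H (d * p ^ m) (p ^ m) h1 h2
    have h4 : d * p ^ m + p ^ m = (d + 1) * p ^ m := by ring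
    have h5 : ((((d + 1) * p ^ m).choose (d * p ^ m) : ℕ) : A) = ((d + 1 : ℕ) : A) := by
      rw [mul_comm (d + 1) (p ^ m), mul_comm d (p ^ m), choose_pow_mul A m (d + 1) d,
        Nat.choose_succ_self_right]
    rw [h4, h5] at h3
    rw [Nat.factorial_succ, pow_succ, ← ih hd', mul_assoc, ← h3]
    push_cast
    ring

/-- `a ^ p = 0`. -/
lemma pow_p_eq_zero (c : ℕ → A) (m : ℕ) (h0 : c 0 = 1) (H : HChar A c (p ^ (m + 1))) :
    c (p ^ m) ^ p = 0 := by
  have hp1 : 1 < p := hp.out.one_lt
  have hq : 0 < p ^ m := pos_of_ne_zero (pow_ne_zero _ hp.out.ne_zero)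
  have hpp : p - 1 < p := by omega
  have h1 : (p - 1) * p ^ m < p ^ (m + 1) := by
    rw [pow_succ, mul_comm (p ^ m) p]
    exact Nat.mul_lt_mul_of_pos_right hpp hq
  have h2 : p ^ m < p ^ (m + 1) := Nat.pow_lt_pow_right hp1 (Nat.lt_succ_self m)
  have h3 := H ((p - 1) * p ^ m) (p ^ m) h1 h2
  have h4 : (p - 1) * p ^ m + p ^ m = p * p ^ m := by
    have : p - 1 + 1 = p := by omega
    calc (p - 1) * p ^ m + p ^ m = (p - 1 + 1) * p ^ m := by ring
      _ = p * p ^ m := by rw [this]
  have h5 : ((((p * p ^ m).choose ((p - 1) * p ^ m) : ℕ)) : A) = 0 := by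
    rw [mul_comm p (p ^ m), mul_comm (p - 1) (p ^ m), choose_pow_mul A m p (p - 1)]
    have : p.choose (p - 1) = p := by
      have := Nat.choose_symm (n := p) (k := 1) (by omega)
      rw [this, Nat.choose_one_right]
    rw [this]
    exact CharP.cast_eq_zero A p
  rw [h4, h5, zero_mul] at h3
  have h6 := step1 c m h0 H (p - 1) hpp
  have : p = (p - 1) + 1 := by omega
  calc c (p ^ m) ^ p = c (p ^ m) ^ (p - 1) * c (p ^ m) := by rw [← pow_succ, ← this]
    _ = ((((p - 1).factorial : ℕ)) : A) * (c ((p - 1) * p ^ m) * c (p ^ m)) := by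
        rw [← h6]; ring
    _ = 0 := by rw [← h3, mul_zero]

/-- Step 2: `c (k' + d q) = c k' * c (d q)`. -/
lemma step2 (c : ℕ → A) (m : ℕ) (H : HChar A c (p ^ (m + 1))) (d k' : ℕ) (hd : d < p)
    (hk : k' < p ^ m) : c (k' + d * p ^ m) = c k' * c (d * p ^ m) := by
  have hp1 : 1 < p := hp.out.one_lt
  have hq : 0 < p ^ m := pos_of_ne_zero (pow_ne_zero _ hp.out.ne_zero)
  have h1 : d * p ^ m < p ^ (m + 1) := by
    rw [pow_succ, mul_comm (p ^ m) p]
    exact Nat.mul_lt_mul_of_pos_right hd hq
  have h2 : p ^ m < p ^ (m + 1) := Nat.pow_lt_pow_right hp1 (Nat.lt_succ_self m)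
  have h3 := H k' (d * p ^ m) (lt_trans hk h2) h1
  rw [choose_add_mul_pow A m d k' hk, one_mul] at h3
  exact h3

/-- The core structure lemma. -/
theorem core (c : ℕ → A) (h0 : c 0 = 1) :
    ∀ m : ℕ, HChar A c (p ^ m) →
      (∀ n, n < m → c (p ^ n) ^ p = 0) ∧
      ∑ k ∈ Finset.range (p ^ m), Polynomial.monomial k (c k) =
        ∏ n ∈ Finset.range m, E p (c (p ^ n)) n := by
  intro m
  induction m with
  | zero =>
    intro _
    refine ⟨fun n hn => absurd hn (Nat.not_lt_zero n), ?_⟩
    simp [h0]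
  | succ m ih =>
    intro H
    have hp1 : 1 < p := hp.out.one_lt
    have hmono : p ^ m ≤ p ^ (m + 1) := Nat.pow_le_pow_right hp.out.pos (Nat.le_succ m)
    obtain ⟨ih1, ih2⟩ := ih (H.mono hmono)
    refine ⟨?_, ?_⟩
    · intro n hn
      rcases Nat.lt_succ_iff_lt_or_eq.1 hn with h | h
      · exact ih1 n h
      · subst h
        exact pow_p_eq_zero c n h0 H
    · rw [Finset.prod_range_succ, ← ih2, pow_succ, mul_comm (p ^ m) p, sum_range_mul_block]
      unfold E
      rw [Finset.mul_sum]
      apply Finset.sum_congr rfl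
      intro d hd
      rw [Finset.mem_range] at hd
      rw [Finset.sum_mul]
      apply Finset.sum_congr rfl
      intro k' hk'
      rw [Finset.mem_range] at hk'
      rw [step2 c m H d k' hd hk']
      have hu := isUnit_factorial A d hd
      have hcd : c (d * p ^ m) = Ring.inverse ((d.factorial : ℕ) : A) * c (p ^ m) ^ d := by
        rw [← step1 c m h0 H d hd, ← mul_assoc, Ring.inverse_mul_cancel _ hu, one_mul]
      rw [← hcd, Polynomial.C_mul_X_pow_eq_monomial, Polynomial.monomial_mul_monomial]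


/-- `1/j! * C(j,i) = 1/i! * 1/(j-i)!` for `j < p`. -/
lemma inv_fact_choose (A : Type*) [CommRing A] [CharP A p] (m k : ℕ) (hm : m < p) (hk : k ≤ m) :
    Ring.inverse ((m.factorial : ℕ) : A) * ((m.choose k : ℕ) : A) =
      Ring.inverse ((k.factorial : ℕ) : A) * Ring.inverse (((m - k).factorial : ℕ) : A) := by
  have hum := isUnit_factorial A m hm
  have huk := isUnit_factorial A k (lt_of_le_of_lt hk hm)
  have hul := isUnit_factorial A (m - k) (lt_of_le_of_lt (Nat.sub_le m k) hm)
  have h := Nat.choose_mul_factorial_mul_factorial hk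
  have h' : ((m.choose k : ℕ) : A) * ((k.factorial : ℕ) : A) * (((m - k).factorial : ℕ) : A) =
      ((m.factorial : ℕ) : A) := by exact_mod_cast congrArg (Nat.cast (R := A)) h
  calc Ring.inverse ((m.factorial : ℕ) : A) * ((m.choose k : ℕ) : A)
      = Ring.inverse ((m.factorial : ℕ) : A) * ((m.choose k : ℕ) : A) *
          (((k.factorial : ℕ) : A) * Ring.inverse ((k.factorial : ℕ) : A)) *
          ((((m - k).factorial : ℕ) : A) * Ring.inverse (((m - k).factorial : ℕ) : A)) := by
        rw [Ring.mul_inverse_cancel _ huk, Ring.mul_inverse_cancel _ hul, mul_one, mul_one]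
    _ = Ring.inverse ((m.factorial : ℕ) : A) *
          (((m.choose k : ℕ) : A) * ((k.factorial : ℕ) : A) * (((m - k).factorial : ℕ) : A)) *
          (Ring.inverse ((k.factorial : ℕ) : A) * Ring.inverse (((m - k).factorial : ℕ) : A)) := by
        ring
    _ = _ := by rw [h', Ring.inverse_mul_cancel _ hum, one_mul]

/-- General multiplicativity of the truncated exponential in a commutative `A`-algebra. -/
lemma texp_mul {B : Type*} [CommRing B] [Algebra A B] (α x y : B) (hα : α ^ p = 0) :
    ∑ j ∈ Finset.range p, algebraMap A B (Ring.inverse ((j.factorial : ℕ) : A)) * α ^ j * (x + y) ^ j =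
      (∑ j ∈ Finset.range p, algebraMap A B (Ring.inverse ((j.factorial : ℕ) : A)) * α ^ j * x ^ j) *
      (∑ j ∈ Finset.range p, algebraMap A B (Ring.inverse ((j.factorial : ℕ) : A)) * α ^ j * y ^ j) := by
  set w : ℕ → B := fun j => algebraMap A B (Ring.inverse ((j.factorial : ℕ) : A)) with hw
  have lhs : ∀ m ∈ Finset.range p, w m * α ^ m * (x + y) ^ m =
      ∑ k ∈ Finset.range (m + 1), (w k * α ^ k * x ^ k) * (w (m - k) * α ^ (m - k) * y ^ (m - k)) := by
    intro m hm
    rw [Finset.mem_range] at hm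
    rw [add_pow, Finset.mul_sum]
    apply Finset.sum_congr rfl
    intro k hk
    rw [Finset.mem_range, Nat.lt_succ_iff] at hk
    have h1 : w m * ((m.choose k : ℕ) : B) = w k * w (m - k) := by
      simp only [hw]
      rw [← map_natCast (algebraMap A B), ← map_mul, inv_fact_choose A m k hm hk, map_mul]
    have h2 : α ^ m = α ^ k * α ^ (m - k) := by rw [← pow_add, Nat.add_sub_cancel' hk]
    calc w m * α ^ m * (x ^ k * y ^ (m - k) * ((m.choose k : ℕ) : B))
        = (w m * ((m.choose k : ℕ) : B)) * α ^ m * (x ^ k * y ^ (m - k)) := by ring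
      _ = _ := by rw [h1, h2]; ring
  rw [Finset.sum_congr rfl lhs,
    Finset.sum_range_diag_flip p (fun i l => (w i * α ^ i * x ^ i) * (w l * α ^ l * y ^ l)),
    Finset.sum_mul]
  apply Finset.sum_congr rfl
  intro i hi
  rw [Finset.mem_range] at hi
  rw [Finset.mul_sum]
  apply Finset.sum_subset
  · intro l hl
    rw [Finset.mem_range] at hl ⊢
    omega
  · intro l hl hl'
    rw [Finset.mem_range] at hl hl'
    have h3 : p ≤ i + l := by omega
    have h4 : α ^ i * α ^ l = 0 := by
      rw [← pow_add]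
      obtain ⟨t, ht⟩ := Nat.exists_eq_add_of_le h3
      rw [ht, pow_add, hα, zero_mul]
    calc w i * α ^ i * x ^ i * (w l * α ^ l * y ^ l)
        = (α ^ i * α ^ l) * (w i * x ^ i * (w l * y ^ l)) := by ring
      _ = 0 := by rw [h4, zero_mul]


/-- evaluation of the truncated exponential factor at `u` -/
lemma aeval_E {B : Type*} [CommRing B] [Algebra A B] (a : A) (n : ℕ) (u : B) :
    Polynomial.aeval u (E p a n) =
      ∑ j ∈ Finset.range p, algebraMap A B (Ring.inverse ((j.factorial : ℕ) : A)) *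
        (algebraMap A B a) ^ j * (u ^ p ^ n) ^ j := by
  unfold E
  rw [map_sum]
  apply Finset.sum_congr rfl
  intro j _
  rw [map_mul, Polynomial.aeval_C, map_pow, Polynomial.aeval_X, map_mul, map_pow, pow_mul']

/-- each truncated exponential factor is a character -/
lemma E_char (a : A) (ha : a ^ p = 0) (n : ℕ) :
    Polynomial.aeval (MvPolynomial.X 0 + MvPolynomial.X 1 : MvPolynomial (Fin 2) A) (E p a n) =
      Polynomial.aeval (MvPolynomial.X 0 : MvPolynomial (Fin 2) A) (E p a n) *
        Polynomial.aeval (MvPolynomial.X 1 : MvPolynomial (Fin 2) A) (E p a n) := by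
  rw [aeval_E, aeval_E, aeval_E, add_pow_char_pow]
  exact texp_mul _ _ _ (by rw [← map_pow, ha, map_zero])

lemma E_eval_zero (a : A) (n : ℕ) : (E p a n).eval 0 = 1 := by
  have hpos : 0 < p := hp.out.pos
  unfold E
  rw [Polynomial.eval_finsetSum, Finset.sum_eq_single 0]
  · simp
  · intro j _ hj
    have : j * p ^ n ≠ 0 := Nat.mul_ne_zero hj (pow_ne_zero _ hp.out.ne_zero)
    simp [this]
  · intro h
    exact absurd (Finset.mem_range.2 hpos) h

/-- finite products of truncated exponential factors are characters -/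
lemma prod_E_char (a : ℕ → A) (ha : ∀ n, a n ^ p = 0) (N : ℕ) :
    (∏ n ∈ Finset.range N, E p (a n) n).eval 0 = 1 ∧
    Polynomial.aeval (MvPolynomial.X 0 + MvPolynomial.X 1 : MvPolynomial (Fin 2) A)
        (∏ n ∈ Finset.range N, E p (a n) n) =
      Polynomial.aeval (MvPolynomial.X 0 : MvPolynomial (Fin 2) A) (∏ n ∈ Finset.range N, E p (a n) n) *
        Polynomial.aeval (MvPolynomial.X 1 : MvPolynomial (Fin 2) A)
          (∏ n ∈ Finset.range N, E p (a n) n) := by
  refine ⟨?_, ?_⟩
  · rw [Polynomial.eval_prod]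
    exact Finset.prod_eq_one (fun n _ => E_eval_zero (a n) n)
  · rw [map_prod, map_prod, map_prod, ← Finset.prod_mul_distrib]
    exact Finset.prod_congr rfl (fun n _ => E_char (a n) (ha n) n)

end Groth.Agent.Lib.helper11.GaChar
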