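import Groth.Agent.Lib.Helper11.GaChar
import Groth.Agent.S13355

set_option autoImplicit false

namespace Groth.Agent.Lib.helper11.GaChar2

open Polynomial

variable {A : Type*} [CommRing A]

lemma coe_aeval (f : A[X]) (u : MvPolynomial (Fin 2) A) :
    ((Polynomial.aeval u f : MvPolynomial (Fin 2) A) : MvPowerSeries (Fin 2) A) =
      Polynomial.aeval (u : MvPowerSeries (Fin 2) A) f := by
  have := Polynomial.aeval_algHom_apply (MvPolynomial.coeToMvPowerSeries.algHom (R := A) (σ := Fin 2) A)
    u f
  simp only [MvPolynomial.coeToMvPowerSeries.algHom_apply, Algebra.algebraMap_self,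
    MvPowerSeries.map_id, RingHom.id_apply] at this
  rw [← this]

/-- coefficient of `f(X₀+X₁)` -/
lemma poly_coeff_add (f : A[X]) (i j : ℕ) :
    MvPolynomial.coeff (Finsupp.single (0 : Fin 2) i + Finsupp.single 1 j)
      (Polynomial.aeval (MvPolynomial.X 0 + MvPolynomial.X 1 : MvPolynomial (Fin 2) A) f) =
      f.coeff (i + j) * (((i + j).choose i : ℕ) : A) := by
  rw [← MvPolynomial.coeff_coe, ← Polynomial.coeff_coe, ← Groth.Agent.S13355.coeff_subst_add,
    PowerSeries.subst_coe ((PowerSeries.HasSubst.X 0).add (PowerSeries.HasSubst.X 1))]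
  congr 1
  have := Polynomial.aeval_algHom_apply (MvPolynomial.coeToMvPowerSeries.algHom (R := A) (σ := Fin 2) A)
    (MvPolynomial.X 0 + MvPolynomial.X 1 : MvPolynomial (Fin 2) A) f
  simp only [MvPolynomial.coeToMvPowerSeries.algHom_apply, Algebra.algebraMap_self,
    MvPowerSeries.map_id, RingHom.id_apply] at this
  rw [← this]
  simp

/-- coefficient of `f(X₀) f(X₁)` -/
lemma poly_coeff_mul (f : A[X]) (i j : ℕ) :
    MvPolynomial.coeff (Finsupp.single (0 : Fin 2) i + Finsupp.single 1 j)
      (Polynomial.aeval (MvPolynomial.X 0 : MvPolynomial (Fin 2) A) f *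
        Polynomial.aeval (MvPolynomial.X 1 : MvPolynomial (Fin 2) A) f) =
      f.coeff i * f.coeff j := by
  rw [← MvPolynomial.coeff_coe, ← Polynomial.coeff_coe, ← Polynomial.coeff_coe,
    ← Groth.Agent.S13355.coeff_subst_mul,
    PowerSeries.subst_coe (PowerSeries.HasSubst.X 0), PowerSeries.subst_coe (PowerSeries.HasSubst.X 1),
    MvPolynomial.coe_mul, coe_aeval, coe_aeval]
  simp

/-- elements of `(X₀^N, X₁^N)` have no low coefficients -/
lemma coeff_of_mem_span (N : ℕ) (P : MvPolynomial (Fin 2) A)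
    (hP : P ∈ Ideal.span {(MvPolynomial.X 0 ^ N : MvPolynomial (Fin 2) A), MvPolynomial.X 1 ^ N})
    (i j : ℕ) (hi : i < N) (hj : j < N) :
    MvPolynomial.coeff (Finsupp.single (0 : Fin 2) i + Finsupp.single 1 j) P = 0 := by
  classical
  obtain ⟨u, v, rfl⟩ := Ideal.mem_span_pair.1 hP
  rw [MvPolynomial.coeff_add, MvPolynomial.X_pow_eq_monomial, MvPolynomial.X_pow_eq_monomial,
    MvPolynomial.coeff_mul_monomial', MvPolynomial.coeff_mul_monomial', if_neg, if_neg, add_zero]
  · intro h
    have := h 1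
    simp at this
    omega
  · intro h
    have := h 0
    simp at this
    omega

end Groth.Agent.Lib.helper11.GaChar2
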