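import Mathlib
import Groth.Agent.Lib.Helper11.GenFree8

set_option autoImplicit false
universe u u' v w w'
open TensorProduct

namespace Groth.Agent.Lib.helper11.GenExact

open Groth.Agent.Lib.helper11.GenFree

section Lemmas

variable {R : Type u} [CommRing R]

/-- L1 -/
theorem exists_smul_eq_zero_of_tmul_eq_zero {X : Type v} [AddCommGroup X] [Module R X] (x : X)
    (h : (1 : FractionRing R) ⊗ₜ[R] x = 0) : ∃ r : R, r ∈ nonZeroDivisors R ∧ r • x = 0 := by
  have h3 : TensorProduct.mk R (FractionRing R) X 1 x = 0 := h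
  rw [IsLocalizedModule.eq_zero_iff (nonZeroDivisors R)] at h3
  obtain ⟨⟨r, hr⟩, hk⟩ := h3
  exact ⟨r, hr, hk⟩

variable {κ : Type w} [CommRing κ] [Algebra R κ]

/-- L2 -/
theorem tmul_eq_smul_tmul {f : R} (hf : IsUnit (algebraMap R κ f)) {X : Type v} [AddCommGroup X]
    [Module R X] (c : κ) (x : X) (k : ℕ) :
    ∃ c' : κ, c ⊗ₜ[R] x = c' ⊗ₜ[R] (f ^ k • x) := by
  obtain ⟨u, hu⟩ := hf.pow k
  refine ⟨c * ↑u⁻¹, ?_⟩
  rw [← TensorProduct.smul_tmul, Algebra.smul_def, map_pow, ← hu, mul_comm c, ← mul_assoc,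
    Units.mul_inv, one_mul]

theorem tmul_eq_zero_of_pow_smul_eq_zero {f : R} (hf : IsUnit (algebraMap R κ f)) {X : Type v}
    [AddCommGroup X] [Module R X] (c : κ) (x : X) (k : ℕ) (h : f ^ k • x = 0) :
    c ⊗ₜ[R] x = 0 := by
  obtain ⟨c', hc'⟩ := tmul_eq_smul_tmul (κ := κ) hf c x k
  rw [hc', h, tmul_zero]

theorem tmul_mem_range_of_pow_smul_mem {f : R} (hf : IsUnit (algebraMap R κ f)) {X : Type v}
    {Y : Type w'} [AddCommGroup X] [Module R X] [AddCommGroup Y] [Module R Y] (g : Y →ₗ[R] X)
    (c : κ) (x : X) (k : ℕ) (h : f ^ k • x ∈ LinearMap.range g) :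
    c ⊗ₜ[R] x ∈ LinearMap.range (g.lTensor κ) := by
  obtain ⟨c', hc'⟩ := tmul_eq_smul_tmul (κ := κ) hf c x k
  obtain ⟨y, hy⟩ := h
  rw [hc', ← hy]
  exact ⟨c' ⊗ₜ y, rfl⟩

/-- L3: `κ ⊗ X → κ ⊗ (R_f ⊗ X)` is injective when `f` is invertible in `κ`. -/
theorem lTensor_mk_injective {f : R} (hf : IsUnit (algebraMap R κ f)) (X : Type v)
    [AddCommGroup X] [Module R X] :
    Function.Injective ((TensorProduct.mk R (Localization.Away f) X 1).lTensor κ) := by
  let φ : Localization.Away f →ₐ[R] κ :=
    { IsLocalization.Away.lift (S := Localization.Away f) f (g := algebraMap R κ) hf with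
      commutes' := fun x => IsLocalization.Away.lift_eq f hf x }
  let m : κ ⊗[R] Localization.Away f →ₗ[R] κ :=
    TensorProduct.lift ((LinearMap.mul R κ).compl₂ φ.toLinearMap)
  let ret : κ ⊗[R] (Localization.Away f ⊗[R] X) →ₗ[R] κ ⊗[R] X :=
    (m.rTensor X) ∘ₗ (TensorProduct.assoc R κ (Localization.Away f) X).symm.toLinearMap
  have hret : ∀ z, ret ((TensorProduct.mk R (Localization.Away f) X 1).lTensor κ z) = z := by
    intro z
    induction z using TensorProduct.induction_on with
    | zero => simp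
    | tmul c x => simp [ret, m]
    | add a b ha hb => rw [map_add, map_add, ha, hb]
  exact Function.LeftInverse.injective hret

end Lemmas

section Main

variable {R : Type u} [CommRing R] {κ : Type w} [CommRing κ] [Algebra R κ]

/-- L4: if the cokernel of an injection becomes free after inverting `f` and `f` is invertible in
`κ`, then `κ ⊗ -` preserves the injection. -/
theorem lTensor_injective_of_PF {f : R} (hf : IsUnit (algebraMap R κ f))
    {I : Type v} {H : Type w'} {Q : Type u'} [AddCommGroup I] [AddCommGroup H] [AddCommGroup Q]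
    [Module R I] [Module R H] [Module R Q] (ι : I →ₗ[R] H) (q : H →ₗ[R] Q)
    (hι : Function.Injective ι) (hq : Function.Surjective q) (hex : Function.Exact ι q)
    (hPF : PF R f Q) : Function.Injective (ι.lTensor κ) := by
  unfold PF at hPF
  have hflat : Module.Flat R (Localization.Away f) :=
    IsLocalization.flat _ (Submonoid.powers f)
  have hflatQ' : Module.Flat (Localization.Away f) (Localization.Away f ⊗[R] Q) := inferInstance
  have hflatQ : Module.Flat R (Localization.Away f ⊗[R] Q) :=
    Module.Flat.trans R (Localization.Away f) _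
  have h1 : Function.Exact (ι.lTensor (Localization.Away f)) (q.lTensor (Localization.Away f)) :=
    Module.Flat.lTensor_exact (Localization.Away f) hex
  have h2 : Function.Injective (ι.lTensor (Localization.Away f)) :=
    Module.Flat.lTensor_preserves_injective_linearMap (M := Localization.Away f) ι hι
  have h3 : Function.Surjective (q.lTensor (Localization.Away f)) :=
    LinearMap.lTensor_surjective (Localization.Away f) hq
  have h4 : Function.Injective ((ι.lTensor (Localization.Away f)).lTensor κ) :=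
    LinearMap.lTensor_injective_of_exact_of_flat (q.lTensor (Localization.Away f)) h3
      (ι.lTensor (Localization.Away f)) h2 h1 κ
  have hsq : ∀ z, ((ι.lTensor (Localization.Away f)).lTensor κ)
      ((TensorProduct.mk R (Localization.Away f) I 1).lTensor κ z) =
      (TensorProduct.mk R (Localization.Away f) H 1).lTensor κ (ι.lTensor κ z) := by
    intro z
    induction z using TensorProduct.induction_on with
    | zero => simp
    | tmul c x => simp
    | add a b ha hb => simp only [map_add, ha, hb]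
  intro z z' hzz
  apply lTensor_mk_injective (κ := κ) hf I
  apply h4
  rw [hsq, hsq, hzz]

variable [IsDomain R]

/-- **Generic exactness spreads out** (EGA IV 9.4.2, affine form): `R` a domain, `B` a finite type
`R`-algebra, `F → G → H` finite `B`-modules whose generic fibre sequence is exact: there is
`f ≠ 0` such that for every `R`-algebra `κ` in which `f` is invertible, the sequence
`κ ⊗ F → κ ⊗ G → κ ⊗ H` is exact. -/
theorem exists_forall_exact_of_generic {B : Type u'} [CommRing B] [Algebra R B]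
    [Algebra.FiniteType R B]
    {F : Type v} {G : Type v} {H : Type v}
    [AddCommGroup F] [Module B F] [Module R F] [IsScalarTower R B F]
    [AddCommGroup G] [Module B G] [Module R G] [IsScalarTower R B G] [Module.Finite B G]
    [AddCommGroup H] [Module B H] [Module R H] [IsScalarTower R B H] [Module.Finite B H]
    (u : F →ₗ[B] G) (v : G →ₗ[B] H)
    (hgen : Function.Exact ((u.restrictScalars R).baseChange (FractionRing R))
      ((v.restrictScalars R).baseChange (FractionRing R))) :
    ∃ f : R, f ≠ 0 ∧ ∀ (κ : Type w) [CommRing κ] [Algebra R κ], IsUnit (algebraMap R κ f) →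
      Function.Exact ((u.restrictScalars R).lTensor κ) ((v.restrictScalars R).lTensor κ) := by
  classical
  -- generic freeness of H, coker v, coker u
  obtain ⟨f₁, hf₁, hPF₁⟩ := GF_of_finiteType_domain (R := R) B H
  obtain ⟨f₂, hf₂, hPF₂⟩ := GF_of_finiteType_domain (R := R) B (H ⧸ LinearMap.range v)
  obtain ⟨f₃, hf₃, hPF₃⟩ := GF_of_finiteType_domain (R := R) B (G ⧸ LinearMap.range u)
  have hf : f₁ * f₂ * f₃ ≠ 0 := mul_ne_zero (mul_ne_zero hf₁ hf₂) hf₃
  have hPFH : PF R (f₁ * f₂ * f₃) H := hPF₁.of_dvd ⟨f₂ * f₃, by ring⟩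
  have hPFQ : PF R (f₁ * f₂ * f₃) (H ⧸ LinearMap.range v) := hPF₂.of_dvd ⟨f₁ * f₃, by ring⟩
  have hPFC : PF R (f₁ * f₂ * f₃) (G ⧸ LinearMap.range u) := hPF₃.of_dvd ⟨f₁ * f₂, by ring⟩
  refine ⟨f₁ * f₂ * f₃, hf, ?_⟩
  intro κ _ _ hunit
  -- (1) v (u x) is f-power torsion
  have hvu : ∀ x : F, ∃ k : ℕ, (f₁ * f₂ * f₃) ^ k • v (u x) = 0 := by
    intro x
    have h0 := hgen.apply_apply_eq_zero ((1 : FractionRing R) ⊗ₜ[R] x)
    have h1 : (1 : FractionRing R) ⊗ₜ[R] v (u x) = 0 := h0
    obtain ⟨r, hr, hrx⟩ := exists_smul_eq_zero_of_tmul_eq_zero (v (u x)) h1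
    exact exists_pow_smul_eq_zero_of_PF hf hPFH (nonZeroDivisors.ne_zero hr) hrx
  -- (2) elements of ker v are f-power torsion modulo range u
  have hker : ∀ z : G, v z = 0 → ∃ k : ℕ, (f₁ * f₂ * f₃) ^ k • z ∈ LinearMap.range u := by
    intro z hz
    have h1 : ((v.restrictScalars R).baseChange (FractionRing R))
        ((1 : FractionRing R) ⊗ₜ[R] z) = 0 := by
      change (1 : FractionRing R) ⊗ₜ[R] v z = 0
      rw [hz, tmul_zero]
    obtain ⟨y, hy⟩ := (hgen _).mp h1
    obtain ⟨⟨x, s⟩, hxs⟩ := IsLocalizedModule.surj (nonZeroDivisors R)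
      (TensorProduct.mk R (FractionRing R) F 1) y
    have hxs' : (s : R) • y = (1 : FractionRing R) ⊗ₜ[R] x := hxs
    have h2 : (1 : FractionRing R) ⊗ₜ[R] ((s : R) • z - u x) = 0 := by
      have e1 : (1 : FractionRing R) ⊗ₜ[R] ((s : R) • z) =
          (s : R) • ((1 : FractionRing R) ⊗ₜ[R] z) := by
        rw [TensorProduct.tmul_smul]
      have e2 : (s : R) • ((1 : FractionRing R) ⊗ₜ[R] z) = (1 : FractionRing R) ⊗ₜ[R] u x := by
        rw [← hy, ← LinearMap.map_smul_of_tower, hxs']
        rfl
      rw [tmul_sub, e1, e2, sub_self]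
    obtain ⟨r, hr, hrx⟩ := exists_smul_eq_zero_of_tmul_eq_zero _ h2
    have h3 : (r * (s : R)) • (Submodule.Quotient.mk z : G ⧸ LinearMap.range u) = 0 := by
      rw [← Submodule.Quotient.mk_smul, Submodule.Quotient.mk_eq_zero]
      refine ⟨r • x, ?_⟩
      rw [smul_sub, sub_eq_zero, smul_smul] at hrx
      rw [hrx]
      exact LinearMap.map_smul_of_tower u r x
    have hrs : r * (s : R) ≠ 0 :=
      mul_ne_zero (nonZeroDivisors.ne_zero hr) (nonZeroDivisors.ne_zero s.2)
    obtain ⟨k, hk⟩ := exists_pow_smul_eq_zero_of_PF hf hPFC hrs h3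
    refine ⟨k, ?_⟩
    rw [← Submodule.Quotient.mk_smul, Submodule.Quotient.mk_eq_zero] at hk
    exact hk
  -- the image of v and its cokernel
  let I : Submodule R H := (LinearMap.range v).restrictScalars R
  let v' : G →ₗ[R] I := (v.restrictScalars R).codRestrict I (fun x => ⟨x, rfl⟩)
  have hv'surj : Function.Surjective v' := by
    rintro ⟨_, ⟨x, rfl⟩⟩
    exact ⟨x, rfl⟩
  have hvfac : v.restrictScalars R = I.subtype ∘ₗ v' := rfl
  have hPFQ' : PF R (f₁ * f₂ * f₃) (H ⧸ I) :=
    hPFQ.of_equiv (Submodule.Quotient.restrictScalarsEquiv R (LinearMap.range v)).symm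
  have hιinj : Function.Injective (I.subtype.lTensor κ) :=
    lTensor_injective_of_PF hunit I.subtype I.mkQ I.injective_subtype I.mkQ_surjective
      (LinearMap.exact_subtype_mkQ I) hPFQ'
  intro z
  constructor
  · intro hz
    have h1 : (v'.lTensor κ) z = 0 := by
      apply hιinj
      rw [map_zero, ← LinearMap.comp_apply, ← LinearMap.lTensor_comp, ← hvfac]
      exact hz
    have hex2 : Function.Exact (LinearMap.ker v').subtype v' := LinearMap.exact_subtype_ker_map v'
    have hex2' := lTensor_exact κ hex2 hv'surj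
    obtain ⟨w, rfl⟩ := (hex2' z).mp h1
    clear h1 hz
    induction w using TensorProduct.induction_on with
    | zero =>
      rw [map_zero]
      exact ⟨0, map_zero _⟩
    | tmul c z₀ =>
      have hz₀ : v z₀.1 = 0 := by
        have := z₀.2
        rw [LinearMap.mem_ker] at this
        exact congrArg Subtype.val this
      obtain ⟨k, hk⟩ := hker z₀.1 hz₀
      have hk' : (f₁ * f₂ * f₃) ^ k • z₀.1 ∈ LinearMap.range (u.restrictScalars R) := hk
      exact tmul_mem_range_of_pow_smul_mem hunit (u.restrictScalars R) c z₀.1 k hk'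
    | add a b ha hb =>
      rw [map_add]
      obtain ⟨ya, hya⟩ := ha
      obtain ⟨yb, hyb⟩ := hb
      exact ⟨ya + yb, by rw [map_add, hya, hyb]⟩
  · rintro ⟨y, rfl⟩
    induction y using TensorProduct.induction_on with
    | zero => simp
    | tmul c x =>
      obtain ⟨k, hk⟩ := hvu x
      exact tmul_eq_zero_of_pow_smul_eq_zero hunit c (v (u x)) k hk
    | add a b ha hb => rw [map_add, map_add, ha, hb, add_zero]

end Main

end Groth.Agent.Lib.helper11.GenExact
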