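import Mathlib
import Groth.Agent.Lib.Helper11.GenFree4

set_option autoImplicit false
universe u u' v w
open TensorProduct DirectSum

namespace Groth.Agent.Lib.helper11.GenFree

section QuotFiltration

variable {R : Type u} [CommRing R] {P : Type v} [AddCommGroup P] [Module R P]

/-- quotient version of `free_of_compl`: `P ⧸ F 0` is free. -/
theorem free_quot_of_compl (F : ℕ → Submodule R P) (hF : Monotone F)
    (hex : ∀ x : P, ∃ n, x ∈ F n)
    (C : ℕ → Submodule R P) (hC : ∀ n, C n ≤ F (n + 1)) (hdisj : ∀ n, Disjoint (F n) (C n))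
    (hsup : ∀ n, F (n + 1) ≤ F n ⊔ C n)
    (hfree : ∀ n, Module.Free R (C n)) : Module.Free R (P ⧸ F 0) := by
  classical
  have hind := iSupIndep_summand F hF C hC hdisj
  have htop := iSup_summand_eq_top F hex C hsup
  have hcompl : IsCompl (F 0) (⨆ n, C n) := by
    constructor
    · have h0 := hind 0
      refine h0.mono_right ?_
      refine iSup_le fun n => ?_
      exact le_iSup₂_of_le (f := fun j (_ : j ≠ 0) => summand (F 0) C j) (n + 1)
        (Nat.succ_ne_zero n) le_rfl
    · rw [codisjoint_iff, eq_top_iff, ← htop]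
      refine iSup_le fun n => ?_
      cases n with
      | zero => exact le_sup_left
      | succ n => exact le_sup_of_le_right (le_iSup C n)
  have e1 : (P ⧸ F 0) ≃ₗ[R] ↥(⨆ n, C n) := Submodule.quotientEquivOfIsCompl _ _ hcompl
  have hindC : iSupIndep C := hind.comp (f := Nat.succ) Nat.succ_injective
  have hinj := hindC.dfinsupp_lsum_injective
  have hrange : LinearMap.range (DFinsupp.lsum ℕ fun i => (C i).subtype) = ⨆ n, C n :=
    (Submodule.iSup_eq_range_dfinsupp_lsum C).symm
  let e2 : (Π₀ n, C n) ≃ₗ[R] ↥(⨆ n, C n) :=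
    (LinearEquiv.ofInjective _ hinj).trans (LinearEquiv.ofEq _ _ hrange)
  exact Module.Free.of_equiv (e2.trans e1.symm)

/-- complements from surjections onto free modules -/
theorem exists_compl_of_filtration (F : ℕ → Submodule R P)
    (Q : ℕ → Type w) [∀ n, AddCommGroup (Q n)] [∀ n, Module R (Q n)]
    (hQ : ∀ n, Module.Free R (Q n))
    (π : ∀ n, F (n + 1) →ₗ[R] Q n) (hπ : ∀ n, Function.Surjective (π n))
    (hker : ∀ n (x : F (n + 1)), π n x = 0 ↔ (x : P) ∈ F n) :
    ∃ C : ℕ → Submodule R P, (∀ n, C n ≤ F (n + 1)) ∧ (∀ n, Disjoint (F n) (C n)) ∧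
      (∀ n, F (n + 1) ≤ F n ⊔ C n) ∧ ∀ n, Module.Free R (C n) := by
  classical
  have hsec : ∀ n, ∃ s : Q n →ₗ[R] F (n + 1), (π n) ∘ₗ s = LinearMap.id := fun n =>
    Module.projective_lifting_property (π n) LinearMap.id (hπ n)
  choose s hs using hsec
  have hs' : ∀ n q, π n (s n q) = q := fun n q => LinearMap.congr_fun (hs n) q
  let g : ∀ n, Q n →ₗ[R] P := fun n => (F (n + 1)).subtype ∘ₗ s n
  have hginj : ∀ n, Function.Injective (g n) := by
    intro n q q' h
    have h1 : s n q = s n q' := Subtype.ext h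
    rw [← hs' n q, ← hs' n q', h1]
  refine ⟨fun n => LinearMap.range (g n), ?_, ?_, ?_, ?_⟩
  · rintro n _ ⟨q, rfl⟩
    exact (s n q).2
  · intro n
    rw [Submodule.disjoint_def]
    rintro x hx ⟨q, rfl⟩
    have h1 : π n (s n q) = 0 := (hker n (s n q)).mpr hx
    rw [hs' n q] at h1
    rw [h1, map_zero]
  · intro n y hy
    let y' : F (n + 1) := ⟨y, hy⟩
    have h1 : π n (y' - s n (π n y')) = 0 := by rw [map_sub, hs', sub_self]
    have h2 : ((y' - s n (π n y') : F (n + 1)) : P) ∈ F n := (hker n _).mp h1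
    have h3 : y = ((y' - s n (π n y') : F (n + 1)) : P) + g n (π n y') := by
      simp [g, y']
    rw [h3]
    exact Submodule.add_mem_sup h2 ⟨_, rfl⟩
  · intro n
    exact Module.Free.of_equiv (LinearEquiv.ofInjective (g n) (hginj n))

/-- quotient version of Lemma A -/
theorem free_quot_of_filtration (F : ℕ → Submodule R P) (hF : Monotone F)
    (hex : ∀ x : P, ∃ n, x ∈ F n)
    (Q : ℕ → Type w) [∀ n, AddCommGroup (Q n)] [∀ n, Module R (Q n)]
    (hQ : ∀ n, Module.Free R (Q n))
    (π : ∀ n, F (n + 1) →ₗ[R] Q n) (hπ : ∀ n, Function.Surjective (π n))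
    (hker : ∀ n (x : F (n + 1)), π n x = 0 ↔ (x : P) ∈ F n) : Module.Free R (P ⧸ F 0) := by
  obtain ⟨C, hC, hdisj, hsup, hfree⟩ := exists_compl_of_filtration F Q hQ π hπ hker
  exact free_quot_of_compl F hF hex C hC hdisj hsup hfree

end QuotFiltration

section BaseChangeQuot

variable {A : Type u} [CommRing A] (S : Type u') [CommRing S] [Algebra A S] [Module.Flat A S]
  {M : Type v} [AddCommGroup M] [Module A M]

/-- quotient version of Lemma A' -/
theorem free_baseChange_quot_of_filtration (F : ℕ → Submodule A M) (hF : Monotone F)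
    (hex : ∀ x : M, ∃ n, x ∈ F n)
    (Q : ℕ → Type w) [∀ n, AddCommGroup (Q n)] [∀ n, Module A (Q n)]
    (hQ : ∀ n, Module.Free S (S ⊗[A] Q n))
    (π : ∀ n, F (n + 1) →ₗ[A] Q n) (hπ : ∀ n, Function.Surjective (π n))
    (hker : ∀ n (x : F (n + 1)), π n x = 0 ↔ (x : M) ∈ F n) :
    Module.Free S (S ⊗[A] (M ⧸ F 0)) := by
  classical
  let ι : ∀ n, S ⊗[A] F n →ₗ[S] S ⊗[A] M := fun n => (F n).subtype.baseChange S
  have hιinj : ∀ n, Function.Injective (ι n) := fun n =>
    Module.Flat.lTensor_preserves_injective_linearMap (M := S) (F n).subtype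
      (F n).injective_subtype
  let G : ℕ → Submodule S (S ⊗[A] M) := fun n => LinearMap.range (ι n)
  let e : ∀ n, (S ⊗[A] F n) ≃ₗ[S] G n := fun n => LinearEquiv.ofInjective (ι n) (hιinj n)
  have hcomp : ∀ n m (h : n ≤ m),
      ι n = ι m ∘ₗ (Submodule.inclusion (hF h)).baseChange S := by
    intro n m h
    rw [← LinearMap.baseChange_comp]
    rfl
  have hG : Monotone G := by
    intro n m h
    change LinearMap.range (ι n) ≤ LinearMap.range (ι m)
    rw [hcomp n m h]
    exact LinearMap.range_comp_le_range _ _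
  have hGex : ∀ z : S ⊗[A] M, ∃ n, z ∈ G n := by
    intro z
    induction z using TensorProduct.induction_on with
    | zero => exact ⟨0, (G 0).zero_mem⟩
    | tmul s m =>
      obtain ⟨n, hn⟩ := hex m
      exact ⟨n, ⟨s ⊗ₜ ⟨m, hn⟩, rfl⟩⟩
    | add x y hx hy =>
      obtain ⟨n, hn⟩ := hx
      obtain ⟨m, hm⟩ := hy
      exact ⟨max n m, (G _).add_mem (hG (le_max_left n m) hn) (hG (le_max_right n m) hm)⟩
  let π' : ∀ n, G (n + 1) →ₗ[S] S ⊗[A] Q n := fun n =>
    (π n).baseChange S ∘ₗ (e (n + 1)).symm.toLinearMap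
  have hex0 : Function.Exact ((F 0).subtype.baseChange S) ((F 0).mkQ.baseChange S) :=
    lTensor_exact S (LinearMap.exact_subtype_mkQ (F 0)) (Submodule.mkQ_surjective _)
  have hsurj0 : Function.Surjective ((F 0).mkQ.baseChange S) :=
    LinearMap.lTensor_surjective S (Submodule.mkQ_surjective _)
  have e0 : ((S ⊗[A] M) ⧸ G 0) ≃ₗ[S] S ⊗[A] (M ⧸ F 0) :=
    hex0.linearEquivOfSurjective hsurj0
  suffices hfin : Module.Free S ((S ⊗[A] M) ⧸ G 0) from Module.Free.of_equiv e0
  refine free_quot_of_filtration G hG hGex (fun n => S ⊗[A] Q n) hQ π' ?_ ?_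
  · intro n
    have h1 : Function.Surjective ((π n).baseChange S) :=
      LinearMap.lTensor_surjective S (hπ n)
    exact h1.comp (e (n + 1)).symm.surjective
  · intro n x
    have hexact : Function.Exact (Submodule.inclusion (hF (Nat.le_succ n))) (π n) := by
      intro y
      rw [hker n y]
      constructor
      · intro hy
        exact ⟨⟨y.1, hy⟩, rfl⟩
      · rintro ⟨w, rfl⟩
        exact w.2
    have hexact' := Module.Flat.lTensor_exact S hexact
    have hx : ι (n + 1) ((e (n + 1)).symm x) = x := by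
      have := (e (n + 1)).apply_symm_apply x
      exact congrArg Subtype.val this
    change (π n).lTensor S ((e (n + 1)).symm x) = 0 ↔ (x : S ⊗[A] M) ∈ G n
    rw [hexact' ((e (n + 1)).symm x)]
    constructor
    · rintro ⟨w, hw⟩
      refine ⟨w, ?_⟩
      rw [← hx, ← hw, hcomp n (n + 1) (Nat.le_succ n)]
      rfl
    · rintro ⟨w, hw⟩
      refine ⟨w, ?_⟩
      apply hιinj (n + 1)
      rw [hx, ← hw, hcomp n (n + 1) (Nat.le_succ n)]
      rfl


end BaseChangeQuot

section Ext

theorem free_of_exact {S : Type u} [CommRing S] {M : Type v} {N : Type w} {P : Type u'}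
    [AddCommGroup M] [AddCommGroup N] [AddCommGroup P] [Module S M] [Module S N] [Module S P]
    {f : M →ₗ[S] N} {g : N →ₗ[S] P} (h : Function.Exact f g) (hf : Function.Injective f)
    (hg : Function.Surjective g) (hM : Module.Free S M) (hP : Module.Free S P) :
    Module.Free S N := by
  obtain ⟨l, hl⟩ := Module.projective_lifting_property g LinearMap.id hg
  have e := (h.splitSurjectiveEquiv hf ⟨l, hl⟩).1
  exact Module.Free.of_equiv e.symm

variable {A : Type u} [CommRing A]

theorem PF.of_exact {a : A} {M : Type v} {N : Type w} {P : Type u'}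
    [AddCommGroup M] [AddCommGroup N] [AddCommGroup P] [Module A M] [Module A N] [Module A P]
    {f : M →ₗ[A] N} {g : N →ₗ[A] P} (h : Function.Exact f g) (hf : Function.Injective f)
    (hg : Function.Surjective g) (hM : PF A a M) (hP : PF A a P) : PF A a N := by
  unfold PF at *
  have hflat : Module.Flat A (Localization.Away a) :=
    IsLocalization.flat _ (Submonoid.powers a)
  have h1 : Function.Exact (f.baseChange (Localization.Away a))
      (g.baseChange (Localization.Away a)) :=
    Module.Flat.lTensor_exact (Localization.Away a) h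
  have h2 : Function.Injective (f.baseChange (Localization.Away a)) :=
    Module.Flat.lTensor_preserves_injective_linearMap (M := Localization.Away a) f hf
  have h3 : Function.Surjective (g.baseChange (Localization.Away a)) :=
    LinearMap.lTensor_surjective (Localization.Away a) hg
  exact free_of_exact h1 h2 h3 hM hP

theorem GF.of_exact [IsDomain A] {M : Type v} {N : Type w} {P : Type u'}
    [AddCommGroup M] [AddCommGroup N] [AddCommGroup P] [Module A M] [Module A N] [Module A P]
    {f : M →ₗ[A] N} {g : N →ₗ[A] P} (h : Function.Exact f g) (hf : Function.Injective f)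
    (hg : Function.Surjective g) (hM : GF A M) (hP : GF A P) : GF A N := by
  obtain ⟨a, ha, hMa⟩ := hM
  obtain ⟨b, hb, hPb⟩ := hP
  exact ⟨a * b, mul_ne_zero ha hb,
    PF.of_exact h hf hg (hMa.of_dvd (dvd_mul_right a b)) (hPb.of_dvd (dvd_mul_left b a))⟩

end Ext

section StepQuot

variable {A : Type u} [CommRing A] [IsDomain A]
  {B : Type u'} [CommRing B] [Algebra A B] [IsNoetherianRing B]
  {M : Type v} [AddCommGroup M] [Module A M] [Module B M] [IsScalarTower A B M]

/-- quotient version of the step lemma: `M ⧸ M₀` is generically free. -/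
theorem GF_of_step_quot
    (hB : ∀ (N : Type v) [AddCommGroup N] [Module A N] [Module B N] [IsScalarTower A B N]
      [Module.Finite B N], GF A N)
    (T : M →ₗ[B] M) (M₀ : Submodule B M) (hfg : M₀.FG)
    (hex : ∀ x : M, ∃ n, x ∈ filt T M₀ n) : GF A (M ⧸ M₀) := by
  classical
  have hfin : Module.Finite B M₀ := Module.Finite.iff_fg.mpr hfg
  have hnoeth : IsNoetherian B M₀ := isNoetherian_of_isNoetherianRing_of_finite B M₀
  let K : ℕ →o Submodule B M₀ := ⟨fun n => LinearMap.ker (φ T M₀ n), ker_φ_mono T M₀⟩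
  obtain ⟨i₀, hi₀⟩ := monotone_stabilizes_iff_noetherian.mpr hnoeth K
  obtain ⟨a₂, ha₂, hP₂⟩ := exists_common (A := A) (fun j : Fin (i₀ + 1) => M₀ ⧸ K j)
    (fun j => hB _)
  refine ⟨a₂, ha₂, ?_⟩
  have hPK : ∀ n, PF A a₂ (M₀ ⧸ K n) := by
    intro n
    by_cases hn : n ≤ i₀
    · exact hP₂ ⟨n, by omega⟩
    · have : K n = K i₀ := (hi₀ n (by omega)).symm
      rw [this]
      exact hP₂ ⟨i₀, by omega⟩
  have hPgr : ∀ n, PF A a₂ (gr T M₀ n) := by
    intro n
    let e : (M₀ ⧸ K n) ≃ₗ[B] gr T M₀ n :=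
      LinearMap.quotKerEquivOfSurjective (φ T M₀ n) (φ_surjective T M₀ n)
    exact (hPK n).of_equiv (e.restrictScalars A)
  have hflat : Module.Flat A (Localization.Away a₂) :=
    IsLocalization.flat _ (Submonoid.powers a₂)
  let π : ∀ n, ((filt T M₀ (n + 1)).restrictScalars A) →ₗ[A] gr T M₀ n := fun n =>
    { toFun := fun x => Submodule.Quotient.mk (⟨x.1, x.2⟩ : filt T M₀ (n + 1))
      map_add' := fun x y => rfl
      map_smul' := fun c x => rfl }
  have key : Module.Free (Localization.Away a₂)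
      (Localization.Away a₂ ⊗[A] (M ⧸ (filt T M₀ 0).restrictScalars A)) := by
    refine free_baseChange_quot_of_filtration (Localization.Away a₂)
      (fun n => (filt T M₀ n).restrictScalars A) ?_ hex (fun n => gr T M₀ n) hPgr π ?_ ?_
    · intro n m h x hx
      exact filt_mono T M₀ h hx
    · intro n q
      obtain ⟨y, rfl⟩ := Submodule.Quotient.mk_surjective _ q
      exact ⟨⟨y.1, y.2⟩, rfl⟩
    · intro n x
      change Submodule.Quotient.mk _ = 0 ↔ _
      rw [Submodule.Quotient.mk_eq_zero]
      rfl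
  exact PF.of_equiv (Submodule.Quotient.restrictScalarsEquiv A M₀) key

end StepQuot

end Groth.Agent.Lib.helper11.GenFree
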