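import Mathlib
import Groth.Agent.Lib.Helper11.GenFree5

set_option autoImplicit false
universe u u' v w w'
open TensorProduct Polynomial

namespace Groth.Agent.Lib.helper11.GenFree

section Coker

variable (A₀ : Type u) [CommRing A₀] (A₁ : Type u') [CommRing A₁] [Algebra A₀ A₁]

/-- the property of an `A₁`-algebra `B`: quotients of finite `B`-modules by finitely generated
`A₁`-submodules are generically free over `A₀`. -/
def QProp (B : Type w) [CommRing B] [Algebra A₁ B] : Prop :=
  ∀ (N : Type v) [AddCommGroup N] [Module A₀ N] [Module A₁ N] [Module B N]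
    [IsScalarTower A₀ A₁ N] [IsScalarTower A₁ B N] [Module.Finite B N] (U : Submodule A₁ N),
    U.FG → GF A₀ (N ⧸ U)

variable {A₀ A₁}

theorem QProp.of_surjective {B : Type w} [CommRing B] [Algebra A₁ B]
    {B' : Type w'} [CommRing B'] [Algebra A₁ B'] (f : B' →ₐ[A₁] B) (hf : Function.Surjective f)
    (h : QProp.{u, u', v, w'} A₀ A₁ B') : QProp.{u, u', v, w} A₀ A₁ B := by
  intro N _ _ _ _ _ _ _ U hU
  let _ : Module B' N := Module.compHom N (f : B' →+* B)
  have hsmul : ∀ (r' : B') (m : N), r' • m = f r' • m := fun r' m => rfl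
  have : IsScalarTower A₁ B' N := ⟨fun a r' m => by
    rw [hsmul, hsmul, map_smul, smul_assoc]⟩
  have : Module.Finite B' N := finite_of_surjective_compat (f : B' →+* B) hf hsmul
  exact h N U hU

variable [IsDomain A₀] [IsNoetherianRing A₀] [Algebra.FiniteType A₀ A₁]

theorem QProp.zero : QProp.{u, u', v, u'} A₀ A₁ (MvPolynomial (Fin 0) A₁) := by
  intro N _ _ _ _ _ _ _ U hU
  have : Module.Finite A₁ (MvPolynomial (Fin 0) A₁) :=
    Module.Finite.equiv (MvPolynomial.isEmptyAlgEquiv A₁ (Fin 0)).symm.toLinearEquiv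
  have : Module.Finite A₁ N := Module.Finite.trans (MvPolynomial (Fin 0) A₁) N
  exact GF_of_finiteType (A := A₀) A₁ (N ⧸ U)

omit [Algebra.FiniteType A₀ A₁] in
theorem QProp.polynomial {B' : Type w} [CommRing B'] [Algebra A₁ B'] [Algebra A₀ B']
    [IsScalarTower A₀ A₁ B'] [Algebra.FiniteType A₀ B']
    (h : QProp.{u, u', v, w} A₀ A₁ B') : QProp.{u, u', v, w} A₀ A₁ B'[X] := by
  intro N _ _ _ _ _ _ _ U hU
  classical
  have hnoeth : IsNoetherianRing B' := Algebra.FiniteType.isNoetherianRing A₀ B'
  let _ : Module B' N := Module.compHom N (Polynomial.C : B' →+* B'[X])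
  have hCsmul : ∀ (b : B') (m : N), b • m = (Polynomial.C b : B'[X]) • m := fun b m => rfl
  have : IsScalarTower B' B'[X] N := ⟨fun b p m => by
    rw [hCsmul, Polynomial.smul_eq_C_mul, mul_smul]⟩
  have t1 : IsScalarTower A₁ B' N := ⟨fun a b m => by
    rw [hCsmul, hCsmul, ← Polynomial.smul_C, smul_assoc]⟩
  have t0 : IsScalarTower A₀ B' N := ⟨fun a b m => by
    have h1 : a • b = (a • (1 : A₁)) • b := by rw [smul_assoc, one_smul]
    rw [h1, smul_assoc, smul_assoc, one_smul]⟩
  let T : N →ₗ[B'] N :=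
    { toFun := fun x => (Polynomial.X : B'[X]) • x
      map_add' := fun x y => smul_add _ x y
      map_smul' := fun b x => by
        simp only [RingHom.id_apply]
        rw [hCsmul, hCsmul, smul_smul, smul_smul, Polynomial.X_mul_C] }
  have hTpow : ∀ (k : ℕ) (x : N), (T ^ k) x = (Polynomial.X ^ k : B'[X]) • x := by
    intro k x
    induction k with
    | zero => simp
    | succ k ih =>
      rw [pow_succ_apply', ih, pow_succ', mul_smul]
      rfl
  obtain ⟨s, hs⟩ := Module.Finite.fg_top (R := B'[X]) (M := N)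
  obtain ⟨t, ht⟩ := hU
  let M₀ : Submodule B' N := Submodule.span B' ((s : Set N) ∪ (t : Set N))
  have hfg : M₀.FG := ⟨s ∪ t, by rw [Finset.coe_union]⟩
  have hex : ∀ x : N, ∃ n, x ∈ filt T M₀ n := by
    let N' : Submodule B'[X] N :=
      { carrier := {x | ∃ n, x ∈ filt T M₀ n}
        zero_mem' := ⟨0, Submodule.zero_mem _⟩
        add_mem' := by
          rintro x y ⟨n, hn⟩ ⟨m, hm⟩
          exact ⟨max n m, Submodule.add_mem _ (filt_mono T M₀ (le_max_left n m) hn)
            (filt_mono T M₀ (le_max_right n m) hm)⟩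
        smul_mem' := by
          rintro p x ⟨n, hn⟩
          induction p using Polynomial.induction_on' with
          | add p q hp hq =>
            obtain ⟨n₁, h₁⟩ := hp
            obtain ⟨n₂, h₂⟩ := hq
            refine ⟨max n₁ n₂, ?_⟩
            rw [add_smul]
            exact Submodule.add_mem _ (filt_mono T M₀ (le_max_left _ _) h₁)
              (filt_mono T M₀ (le_max_right _ _) h₂)
          | monomial k b =>
            refine ⟨n + k, ?_⟩
            rw [← Polynomial.C_mul_X_pow_eq_monomial, mul_smul, ← hTpow, ← hCsmul]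
            exact Submodule.smul_mem _ b (pow_mem_filt_add T M₀ hn k) }
    have hsN : (s : Set N) ⊆ N' := fun x hx => ⟨0, Submodule.subset_span (Or.inl hx)⟩
    have hN : N' = ⊤ := by
      rw [eq_top_iff, ← hs]
      exact Submodule.span_le.mpr hsN
    intro x
    have : x ∈ N' := by rw [hN]; trivial
    exact this
  have hB : ∀ (N' : Type v) [AddCommGroup N'] [Module A₀ N'] [Module B' N']
      [IsScalarTower A₀ B' N'] [Module.Finite B' N'], GF A₀ N' :=
    fun N' => GF_of_finiteType (A := A₀) B' N'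
  have hstep : GF A₀ (N ⧸ M₀) := GF_of_step_quot hB T M₀ hfg hex
  have hUM₀ : U ≤ M₀.restrictScalars A₁ := by
    rw [← ht]
    refine Submodule.span_le.mpr fun x hx => ?_
    exact Submodule.subset_span (Or.inr hx)
  let ι : ↥M₀ →ₗ[A₁] N := M₀.subtype.restrictScalars A₁
  have hι : Function.Injective ι := M₀.injective_subtype
  let U' : Submodule A₁ ↥M₀ := U.comap ι
  have hU'fg : U'.FG := by
    refine Submodule.fg_of_fg_map_injective ι hι ?_
    have : U'.map ι = U := by
      rw [Submodule.map_comap_eq, inf_eq_right]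
      intro x hx
      exact ⟨⟨x, hUM₀ hx⟩, rfl⟩
    rw [this]
    exact ⟨t, ht⟩
  have hfin : Module.Finite B' M₀ := Module.Finite.iff_fg.mpr hfg
  have hsub : GF A₀ (↥M₀ ⧸ U') := h ↥M₀ U' hU'fg
  let f : (↥M₀ ⧸ U') →ₗ[A₁] (N ⧸ U) := Submodule.mapQ U' U ι le_rfl
  let g : (N ⧸ U) →ₗ[A₁] (N ⧸ M₀) := U.liftQ (M₀.mkQ.restrictScalars A₁) (by
    intro x hx
    rw [LinearMap.mem_ker]
    exact (Submodule.Quotient.mk_eq_zero M₀).mpr (hUM₀ hx))
  refine GF.of_exact (f := f.restrictScalars A₀) (g := g.restrictScalars A₀) ?_ ?_ ?_ hsub hstep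
  · intro y
    obtain ⟨n, rfl⟩ := Submodule.Quotient.mk_surjective _ y
    constructor
    · intro hy
      have hn : n ∈ M₀ := (Submodule.Quotient.mk_eq_zero M₀).mp hy
      exact ⟨Submodule.Quotient.mk ⟨n, hn⟩, rfl⟩
    · rintro ⟨z, hz⟩
      obtain ⟨m, rfl⟩ := Submodule.Quotient.mk_surjective _ z
      rw [← hz]
      exact (Submodule.Quotient.mk_eq_zero M₀).mpr m.2
  · intro z z' hzz
    obtain ⟨m, rfl⟩ := Submodule.Quotient.mk_surjective _ z
    obtain ⟨m', rfl⟩ := Submodule.Quotient.mk_surjective _ z'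
    have h1 : Submodule.Quotient.mk (p := U) (m : N) = Submodule.Quotient.mk (p := U) (m' : N) := hzz
    rw [Submodule.Quotient.eq] at h1 ⊢
    exact h1
  · intro q
    obtain ⟨n, rfl⟩ := Submodule.Quotient.mk_surjective _ q
    exact ⟨Submodule.Quotient.mk n, rfl⟩

theorem QProp.mvPolynomial (n : ℕ) :
    QProp.{u, u', v, u'} A₀ A₁ (MvPolynomial (Fin n) A₁) := by
  induction n with
  | zero => exact QProp.zero
  | succ n ih =>
    have : Algebra.FiniteType A₀ (MvPolynomial (Fin n) A₁) :=
      Algebra.FiniteType.trans (S := A₁) inferInstance inferInstance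
    have h1 := QProp.polynomial (B' := MvPolynomial (Fin n) A₁) ih
    exact QProp.of_surjective ((MvPolynomial.finSuccEquiv A₁ n).symm : _ →ₐ[A₁] _)
      (MvPolynomial.finSuccEquiv A₁ n).symm.surjective h1

/-- quotients of finite modules over a finite type `A₁`-algebra by finitely generated
`A₁`-submodules are generically free over the Noetherian domain `A₀`. -/
theorem QProp.of_finiteType (B : Type w) [CommRing B] [Algebra A₁ B] [Algebra.FiniteType A₁ B] :
    QProp.{u, u', v, w} A₀ A₁ B := by
  obtain ⟨n, f, hf⟩ := Algebra.FiniteType.iff_quotient_mvPolynomial''.mp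
    (inferInstance : Algebra.FiniteType A₁ B)
  exact QProp.of_surjective f hf (QProp.mvPolynomial n)

/-- **Generic freeness of cokernels** (Stacks 051T-type): `R` Noetherian domain, `R → A → B` of
finite type, `M` finite over `A`, `N` finite over `B`, `u : M → N` `A`-linear: `coker u` is
generically free over `R`. -/
theorem GF_coker {A : Type u'} [CommRing A] [Algebra A₀ A] [Algebra.FiniteType A₀ A]
    {B : Type w} [CommRing B] [Algebra A B] [Algebra.FiniteType A B]
    {M : Type w'} {N : Type v} [AddCommGroup M] [Module A M] [Module.Finite A M]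
    [AddCommGroup N] [Module B N] [Module A N] [Module A₀ N] [IsScalarTower A B N]
    [IsScalarTower A₀ A N] [Module.Finite B N] (f : M →ₗ[A] N) :
    GF A₀ (N ⧸ (LinearMap.range f).restrictScalars A₀) := by
  have hfg : (LinearMap.range f).FG := by
    rw [LinearMap.range_eq_map]
    exact Submodule.FG.map f Module.Finite.fg_top
  have h := QProp.of_finiteType (A₀ := A₀) (A₁ := A) B N (LinearMap.range f) hfg
  exact h.of_equiv (Submodule.Quotient.restrictScalarsEquiv A₀ (LinearMap.range f)).symm

end Coker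

end Groth.Agent.Lib.helper11.GenFree
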