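import Mathlib
import Groth.Agent.Lib.Helper11.GenFree8

set_option autoImplicit false
universe u u' v w w'
open TensorProduct

namespace Groth.Agent.Lib.helper11.GenFree

section Full

variable {R : Type u} [CommRing R] [IsDomain R]

/-- **Generic freeness, full form** (Stacks 051T). -/
theorem generic_freeness_full (S : Type u') [CommRing S] [Algebra R S] [Algebra.FiniteType R S]
    (M : Type v) [AddCommGroup M] [Module S M] [Module R M] [IsScalarTower R S M]
    [Module.Finite S M] :
    ∃ f : R, f ≠ 0 ∧ Module.Free (Localization.Away f) (Localization.Away f ⊗[R] M) ∧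
      Module.Free (Localization.Away f) (Localization.Away f ⊗[R] S) ∧
      Algebra.FinitePresentation (Localization.Away f) (Localization.Away f ⊗[R] S) ∧
      Module.FinitePresentation (Localization.Away (algebraMap R S f))
        (LocalizedModule (Submonoid.powers (algebraMap R S f)) M) := by
  classical
  obtain ⟨n, ρ, hρ⟩ := Algebra.FiniteType.iff_quotient_mvPolynomial''.mp
    (inferInstance : Algebra.FiniteType R S)
  let _ : Algebra (MvPolynomial (Fin n) R) S := ρ.toRingHom.toAlgebra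
  have hρalg : ∀ p : MvPolynomial (Fin n) R, algebraMap (MvPolynomial (Fin n) R) S p = ρ p :=
    fun p => rfl
  have tRPS : IsScalarTower R (MvPolynomial (Fin n) R) S :=
    IsScalarTower.of_algebraMap_eq (fun r => (ρ.commutes r).symm)
  let _ : Module (MvPolynomial (Fin n) R) M := Module.compHom M (ρ : MvPolynomial (Fin n) R →+* S)
  have hsmul : ∀ (p : MvPolynomial (Fin n) R) (m : M), p • m = ρ p • m := fun _ _ => rfl
  have tPSM : IsScalarTower (MvPolynomial (Fin n) R) S M := ⟨fun p s m => by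
    rw [hsmul, Algebra.smul_def, mul_smul]
    rfl⟩
  have tRPM : IsScalarTower R (MvPolynomial (Fin n) R) M := ⟨fun r p m => by
    rw [hsmul, hsmul, map_smul, smul_assoc]⟩
  have hfinPM : Module.Finite (MvPolynomial (Fin n) R) M :=
    finite_of_surjective_compat (ρ : MvPolynomial (Fin n) R →+* S) hρ hsmul
  -- module approximation
  obtain ⟨b, N', π, hfg, hπ, hker⟩ := exists_fp_approx (R := R) n M
  have hfpM' : Module.FinitePresentation (MvPolynomial (Fin n) R)
      ((Fin b → MvPolynomial (Fin n) R) ⧸ N') :=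
    Module.finitePresentation_of_surjective N'.mkQ N'.mkQ_surjective
      (by rw [Submodule.ker_mkQ]; exact hfg)
  -- algebra approximation
  obtain ⟨I', hI'le, hI'fg, hI'⟩ := exists_fg_le_torsion_quot_ideal n (RingHom.ker ρ.toRingHom)
  let ρ' : (MvPolynomial (Fin n) R ⧸ I') →ₐ[R] S :=
    Ideal.Quotient.liftₐ I' ρ (fun x hx => hI'le hx)
  have hρ'mk : ∀ p, ρ' (Ideal.Quotient.mk I' p) = ρ p := fun p => rfl
  have hρ' : Function.Surjective ρ' := by
    intro s
    obtain ⟨p, rfl⟩ := hρ s
    exact ⟨Ideal.Quotient.mk I' p, rfl⟩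
  have hkerρ' : ∀ x : MvPolynomial (Fin n) R ⧸ I', ρ' x = 0 → ∃ r : R, r ≠ 0 ∧ r • x = 0 := by
    intro x hx
    obtain ⟨p, rfl⟩ := Ideal.Quotient.mk_surjective x
    have hp : p ∈ RingHom.ker ρ.toRingHom := hx
    obtain ⟨r, hr, hrp⟩ := hI' p hp
    refine ⟨r, hr, ?_⟩
    have : r • (Ideal.Quotient.mk I' p) = Ideal.Quotient.mk I' (r • p) := rfl
    rw [this]
    exact Ideal.Quotient.eq_zero_iff_mem.mpr hrp
  have hfpS' : Algebra.FinitePresentation R (MvPolynomial (Fin n) R ⧸ I') :=
    Algebra.FinitePresentation.quotient hI'fg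
  -- generic freeness of the approximations
  obtain ⟨f₁, hf₁, hPF₁⟩ := GF_of_finitePresentation_mvPolynomial (R := R) n
    ((Fin b → MvPolynomial (Fin n) R) ⧸ N')
  obtain ⟨f₂, hf₂, hPF₂⟩ := GF_of_finitePresentation_algebra (R := R)
    (MvPolynomial (Fin n) R ⧸ I') (MvPolynomial (Fin n) R ⧸ I')
  have hf : f₁ * f₂ ≠ 0 := mul_ne_zero hf₁ hf₂
  have hPFM' := hPF₁.of_dvd (dvd_mul_right f₁ f₂)
  have hPFS' := hPF₂.of_dvd (dvd_mul_left f₂ f₁)
  have hkM : ∀ x, (π.restrictScalars R) x = 0 → ∃ k : ℕ, (f₁ * f₂) ^ k • x = 0 := by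
    intro x hx
    obtain ⟨r, hr, hrx⟩ := hker x hx
    exact exists_pow_smul_eq_zero_of_PF hf hPFM' hr hrx
  have hkS : ∀ x, ρ'.toLinearMap x = 0 → ∃ k : ℕ, (f₁ * f₂) ^ k • x = 0 := by
    intro x hx
    obtain ⟨r, hr, hrx⟩ := hkerρ' x hx
    exact exists_pow_smul_eq_zero_of_PF hf hPFS' hr hrx
  have hbijM := baseChange_away_bijective (f₁ * f₂) (π.restrictScalars R) hπ hkM
  have hbijS := baseChange_away_bijective (f₁ * f₂) ρ'.toLinearMap hρ' hkS
  unfold PF at hPFM' hPFS'
  refine ⟨f₁ * f₂, hf, Module.Free.of_equiv (LinearEquiv.ofBijective _ hbijM),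
    Module.Free.of_equiv (LinearEquiv.ofBijective _ hbijS), ?_, ?_⟩
  · let ψ : Localization.Away (f₁ * f₂) ⊗[R] (MvPolynomial (Fin n) R ⧸ I')
        →ₐ[Localization.Away (f₁ * f₂)] Localization.Away (f₁ * f₂) ⊗[R] S :=
      Algebra.TensorProduct.map (AlgHom.id _ _) ρ'
    have hψ : Function.Bijective ψ := by
      have h1 : (ψ : _ → _) = (ρ'.toLinearMap.baseChange (Localization.Away (f₁ * f₂))) := by
        funext z
        induction z using TensorProduct.induction_on with
        | zero => simp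
        | tmul s x => simp [ψ]
        | add x y hx hy => rw [map_add, map_add, hx, hy]
      rw [h1]
      exact hbijS
    have hfpb : Algebra.FinitePresentation (Localization.Away (f₁ * f₂))
        (Localization.Away (f₁ * f₂) ⊗[R] (MvPolynomial (Fin n) R ⧸ I')) := inferInstance
    let eψ : (Localization.Away (f₁ * f₂) ⊗[R] (MvPolynomial (Fin n) R ⧸ I'))
        ≃ₐ[Localization.Away (f₁ * f₂)] Localization.Away (f₁ * f₂) ⊗[R] S :=
      AlgEquiv.ofBijective ψ hψ
    exact Algebra.FinitePresentation.equiv (R := Localization.Away (f₁ * f₂))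
      (A := Localization.Away (f₁ * f₂) ⊗[R] (MvPolynomial (Fin n) R ⧸ I'))
      (B := Localization.Away (f₁ * f₂) ⊗[R] S) eψ
  · let π'' : S ⊗[MvPolynomial (Fin n) R] ((Fin b → MvPolynomial (Fin n) R) ⧸ N') →ₗ[S] M :=
      LinearMap.liftBaseChange S π
    have hπ''t : ∀ (s : S) (x : (Fin b → MvPolynomial (Fin n) R) ⧸ N'),
        π'' (s ⊗ₜ x) = s • π x := fun s x => by simp [π'']
    have hform : ∀ z : S ⊗[MvPolynomial (Fin n) R] ((Fin b → MvPolynomial (Fin n) R) ⧸ N'),
        ∃ x, z = 1 ⊗ₜ x := by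
      intro z
      induction z using TensorProduct.induction_on with
      | zero => exact ⟨0, by simp⟩
      | tmul s x =>
        obtain ⟨p, rfl⟩ := hρ s
        refine ⟨p • x, ?_⟩
        rw [← TensorProduct.smul_tmul, Algebra.smul_def, mul_one]
        rfl
      | add x y hx hy =>
        obtain ⟨m, rfl⟩ := hx
        obtain ⟨m', rfl⟩ := hy
        exact ⟨m + m', by rw [tmul_add]⟩
    have hπ''surj : Function.Surjective π'' := by
      intro m
      obtain ⟨x, rfl⟩ := hπ m
      exact ⟨1 ⊗ₜ x, by rw [hπ''t, one_smul]⟩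
    have hπ''ker : ∀ z, π'' z = 0 → ∃ k : ℕ, (algebraMap R S (f₁ * f₂)) ^ k • z = 0 := by
      intro z hz
      obtain ⟨x, rfl⟩ := hform z
      rw [hπ''t, one_smul] at hz
      obtain ⟨k, hk⟩ := hkM x hz
      refine ⟨k, ?_⟩
      have h1 : (algebraMap R S (f₁ * f₂)) ^ k =
          (algebraMap R (MvPolynomial (Fin n) R) ((f₁ * f₂) ^ k)) • (1 : S) := by
        rw [Algebra.smul_def, mul_one, ← IsScalarTower.algebraMap_apply, map_pow]
      rw [h1, TensorProduct.smul_tmul', smul_assoc, one_smul, TensorProduct.smul_tmul,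
        algebraMap_smul, hk, tmul_zero]
    have hbij'' := baseChange_away_bijective (algebraMap R S (f₁ * f₂)) π'' hπ''surj hπ''ker
    let e1 := LinearEquiv.ofBijective _ hbij''
    let e2 := (IsLocalizedModule.isBaseChange (Submonoid.powers (algebraMap R S (f₁ * f₂)))
      (Localization.Away (algebraMap R S (f₁ * f₂)))
      (LocalizedModule.mkLinearMap (Submonoid.powers (algebraMap R S (f₁ * f₂))) M)).equiv
    exact Module.FinitePresentation.of_equiv (e1.trans e2)

end Full

end Groth.Agent.Lib.helper11.GenFree
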