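import Mathlib
import Groth.Agent.Lib.Helper17.SmoothSepPoints
import Groth.Agent.Lib.Helper17.RegSmoothSch2
import Groth.Agent.Lib.Helper18.RatP1b
import Groth.Agent.Lib.Helper18.RegPoint
import Groth.Agent.S6541

/-! Smooth integral proper curves of genus zero over a separably closed field are `P¹`
(no geometric integrality hypothesis needed). -/

set_option autoImplicit false
set_option backward.isDefEq.respectTransparency false
universe u
open CategoryTheory CategoryTheory.Limits AlgebraicGeometry

namespace Groth.Agent.Lib.helper11.GenusZeroP1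

/-- over a separably closed field, a nonempty smooth scheme has a rational point, at which the
local ring is regular -/
theorem exists_regular_ratPoint_of_smooth (k : Type u) [Field k] [IsSepClosed k]
    {X : Scheme.{u}} (f : X ⟶ Spec (CommRingCat.of k)) [Smooth f] [Nonempty X] :
    ∃ s : Spec (CommRingCat.of k) ⟶ X, s ≫ f = 𝟙 (Spec (CommRingCat.of k)) ∧
      ∀ p, IsRegularLocalRing (X.presheaf.stalk (s p)) := by
  haveI : LocallyOfFinitePresentation f := inferInstance
  obtain ⟨x⟩ := ‹Nonempty X›
  obtain ⟨L, _, _, g, hfin, hsep, hg, -⟩ :=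
    Groth.Agent.Lib.helper17.RegSmooth.exists_sep_point_of_smooth f
      Set.univ isOpen_univ ⟨x, trivial⟩
  have hbij : Function.Bijective (algebraMap k L) := IsSepClosed.algebraMap_bijective k L
  let e : k ≃+* L := RingEquiv.ofBijective (algebraMap k L) hbij
  have hs : (Spec.map (CommRingCat.ofHom e.symm.toRingHom) ≫ g) ≫ f =
      𝟙 (Spec (CommRingCat.of k)) := by
    rw [Category.assoc, hg, ← Spec.map_comp, ← Spec.map_id]
    congr 1
    ext c
    exact e.symm_apply_apply c
  refine ⟨Spec.map (CommRingCat.ofHom e.symm.toRingHom) ≫ g, hs, fun p => ?_⟩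
  rw [← Groth.Agent.Lib.helper17.RegSmooth.mem_smoothLocus_section_iff f _ hs p]
  rw [(Scheme.Hom.smoothLocus_eq_top_iff (f := f)).mpr inferInstance]
  trivial

/-- A smooth integral proper curve of genus zero over a separably closed field is `P¹`. -/
theorem exists_iso_P1 (k : Type u) [Field k] [IsSepClosed k] (X : Scheme.{u})
    [X.Over (Spec (CommRingCat.of k))]
    [IsProper (X ↘ (Spec (CommRingCat.of k)))] [Smooth (X ↘ (Spec (CommRingCat.of k)))]
    [IsIntegral X]
    (hdim : topologicalKrullDim X = 1) (hg : Curv2.genus k X = 0) :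
    ∃ e : X ≅ CohB1.ProjSpace 1 k,
      e.hom ≫ CohB1.ProjSpace.toSpec 1 k = X ↘ (Spec (CommRingCat.of k)) := by
  haveI := Groth.Agent.Lib.Lead.CurveEuler.isNoetherian k X
  haveI : Nonempty X := inferInstance
  obtain ⟨s, hs, hreg⟩ := exists_regular_ratPoint_of_smooth k (X ↘ (Spec (CommRingCat.of k)))
  have hpid : ∀ p, IsPrincipalIdealRing (X.presheaf.stalk (s p)) := by
    intro p
    haveI := hreg p
    obtain ⟨t, ht⟩ := Groth.Agent.Lib.Helper18.RegPoint.exists_generator_of_isRegularLocalRing
      (X.presheaf.stalk (s p))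
      ((Groth.Agent.Lib.Helper18.RegPoint.ringKrullDim_stalk_le (s p)).trans hdim.le)
    have hprin : (IsLocalRing.maximalIdeal (X.presheaf.stalk (s p))).IsPrincipal := ⟨⟨t, ht⟩⟩
    haveI : IsDomain (X.presheaf.stalk (s p)) := inferInstance
    exact ((tfae_of_isNoetherianRing_of_isLocalRing_of_isDomain (X.presheaf.stalk (s p))).out 4 0).mp
      hprin
  obtain ⟨h0, N, hN, hdeg⟩ :=
    Groth.Agent.Lib.Helper18.RatP1.exists_invertible_deg_one_of_ratPoint k X hdim s hs hpid
  have hO := Groth.Agent.Lib.Lead.CurveInv.isCoh_of_isInvertible X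
    (Groth.Agent.Lib.helper11.InvMod.isInvertible_structureModule X)
  haveI : Module.Finite k (Coh.HH X (Coh.structureModule X) 1) :=
    Groth.Agent.Lib.Lead.ProperEuler.finite_HH k X _ hO 1
  have hg' : Module.finrank k (Coh.HH X (Coh.structureModule X) 1) = 0 := hg
  have h1 : Subsingleton (Coh.HH X (Coh.structureModule X) 1) :=
    (Module.finrank_zero_iff (R := k)).mp hg'
  exact Groth.Agent.S6541.result k X hdim h1 N hN hdeg

end Groth.Agent.Lib.helper11.GenusZeroP1
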