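import Mathlib
import Groth.Agent.Lib.Helper11.GenFree8
import Groth.Agent.Lib.Helper16.RelCartier

/-!
# Generic flatness of the graded pieces of an adic filtration (helper11)

`A` a domain, `B` a Noetherian finite type `A`-algebra, `J` an ideal of `B`, `M` a finite `B`-module.
Then there is `f ≠ 0` in `A` such that for every multiple `g` of `f`, all `A_g ⊗ M / JⁿM` are flat.
This file: the Rees module, the associated graded module as a module over the Rees algebra and
the retractions onto its graded pieces.
-/

set_option autoImplicit false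
universe u
open TensorProduct Polynomial

namespace Groth.Agent.Lib.helper11.GrFlat

open Groth.Agent.Lib.helper11.GenFree

section Abs

variable {A : Type u} [CommRing A] {B : Type u} [CommRing B] [Algebra A B]
  (J : Ideal B) (M : Type u) [AddCommGroup M] [Module B M] [Module A M] [IsScalarTower A B M]

/-- the filtration `n ↦ J^(n+1) M`. -/
noncomputable def shiftFiltration : J.Filtration M where
  N i := J ^ (i + 1) • (⊤ : Submodule B M)
  mono i := by
    rw [pow_succ' J (i + 1), mul_smul]; exact Submodule.smul_le_right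
  smul_le i := by
    rw [pow_succ' J (i + 1), mul_smul]

/-- the `A`-submodule `Jⁿ M` of `M`. -/
noncomputable def NN (k : ℕ) : Submodule A M :=
  (J ^ k • (⊤ : Submodule B M)).restrictScalars A

theorem mem_NN {k : ℕ} {x : M} : x ∈ NN (A := A) J M k ↔ x ∈ J ^ k • (⊤ : Submodule B M) :=
  Iff.rfl

theorem NN_succ_le (k : ℕ) : NN (A := A) J M (k + 1) ≤ NN J M k := by
  intro x hx
  exact (J.stableFiltration (⊤ : Submodule B M)).mono k hx

theorem NN_zero : NN (A := A) J M 0 = ⊤ := by
  ext x
  simp [mem_NN]

/-- the Rees module `⊕ Jⁿ M`. -/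
noncomputable abbrev reesMod : Submodule (reesAlgebra J) (PolynomialModule B M) :=
  (J.stableFiltration (⊤ : Submodule B M)).submodule

/-- the submodule `⊕ J^(n+1) M` of the Rees module. -/
noncomputable abbrev reesSub : Submodule (reesAlgebra J) (PolynomialModule B M) :=
  (shiftFiltration J M).submodule

theorem mem_reesMod {p : PolynomialModule B M} :
    p ∈ reesMod J M ↔ ∀ i, p.coeff i ∈ J ^ i • (⊤ : Submodule B M) := Iff.rfl

theorem mem_reesSub {p : PolynomialModule B M} :
    p ∈ reesSub J M ↔ ∀ i, p.coeff i ∈ J ^ (i + 1) • (⊤ : Submodule B M) := Iff.rfl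

/-- the associated graded module, as a submodule over the Rees algebra of `M[X] / ⊕ J^(n+1) M`. -/
noncomputable abbrev GrSub : Submodule (reesAlgebra J) (PolynomialModule B M ⧸ reesSub J M) :=
  (reesMod J M).map (reesSub J M).mkQ

/-- `A`-linear coefficient map. -/
noncomputable def coeffL (n : ℕ) : PolynomialModule B M →ₗ[A] M :=
  (Finsupp.lapply n) ∘ₗ (PolynomialModule.coeffLinearEquiv B A).toLinearMap

/-- `A`-linear monomial map. -/
noncomputable def singleL (n : ℕ) : M →ₗ[A] PolynomialModule B M :=
  (PolynomialModule.coeffLinearEquiv B A).symm.toLinearMap ∘ₗ (Finsupp.lsingle n)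

@[simp] theorem coeffL_apply (n : ℕ) (p : PolynomialModule B M) :
    coeffL (A := A) M n p = p.coeff n := rfl

@[simp] theorem singleL_apply (n : ℕ) (m : M) :
    singleL (A := A) (B := B) M n m = PolynomialModule.single B n m := rfl

theorem coeffL_singleL (n : ℕ) (m : M) :
    coeffL (A := A) (B := B) M n (singleL (A := A) (B := B) M n m) = m := by
  simp

/-- `[m] ↦ [m Xⁿ]`. -/
noncomputable def iotaQ (n : ℕ) :
    (M ⧸ NN (A := A) J M (n + 1)) →ₗ[A] (PolynomialModule B M ⧸ reesSub J M) :=
  Submodule.liftQ (NN J M (n + 1)) (((reesSub J M).mkQ.restrictScalars A) ∘ₗ singleL M n) (by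
    intro m hm
    rw [LinearMap.mem_ker, LinearMap.comp_apply, LinearMap.restrictScalars_apply,
      Submodule.mkQ_apply, Submodule.Quotient.mk_eq_zero, mem_reesSub]
    intro i
    rw [singleL_apply, PolynomialModule.coeff_single, Finsupp.single_apply]
    split_ifs with h
    · subst h; exact hm
    · exact Submodule.zero_mem _)

/-- `[p] ↦ [pₙ]`. -/
noncomputable def rhoQ (n : ℕ) :
    (PolynomialModule B M ⧸ reesSub J M) →ₗ[A] (M ⧸ NN (A := A) J M (n + 1)) :=
  (Submodule.liftQ ((reesSub J M).restrictScalars A) ((NN J M (n + 1)).mkQ ∘ₗ coeffL M n) (by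
    intro p hp
    rw [LinearMap.mem_ker, LinearMap.comp_apply, Submodule.mkQ_apply,
      Submodule.Quotient.mk_eq_zero, coeffL_apply]
    exact hp n)) ∘ₗ
    (Submodule.Quotient.restrictScalarsEquiv A (reesSub J M)).symm.toLinearMap

@[simp] theorem iotaQ_mk (n : ℕ) (m : M) :
    iotaQ (A := A) J M n (Submodule.Quotient.mk m) =
      Submodule.Quotient.mk (PolynomialModule.single B n m) := rfl

@[simp] theorem rhoQ_mk (n : ℕ) (p : PolynomialModule B M) :
    rhoQ (A := A) J M n (Submodule.Quotient.mk p) = Submodule.Quotient.mk (p.coeff n) := rfl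

theorem rhoQ_iotaQ (n : ℕ) (x : M ⧸ NN (A := A) J M (n + 1)) :
    rhoQ J M n (iotaQ J M n x) = x := by
  induction x using Submodule.Quotient.induction_on with
  | H m => simp

/-- the graded piece `JⁿM / J^(n+1)M` as a submodule of `M / J^(n+1)M`. -/
noncomputable def Kn (n : ℕ) : Submodule A (M ⧸ NN (A := A) J M (n + 1)) :=
  (NN J M n).map (NN J M (n + 1)).mkQ

theorem iotaQ_mem (n : ℕ) (x : M ⧸ NN (A := A) J M (n + 1)) (hx : x ∈ Kn J M n) :
    iotaQ J M n x ∈ GrSub J M := by
  obtain ⟨m, hm, rfl⟩ := hx
  refine ⟨PolynomialModule.single B n m, ?_, rfl⟩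
  rw [SetLike.mem_coe, mem_reesMod]
  intro i
  rw [PolynomialModule.coeff_single, Finsupp.single_apply]
  split_ifs with h
  · subst h; exact hm
  · exact Submodule.zero_mem _

theorem rhoQ_mem (n : ℕ) (y : PolynomialModule B M ⧸ reesSub J M) (hy : y ∈ GrSub J M) :
    rhoQ (A := A) J M n y ∈ Kn J M n := by
  obtain ⟨p, hp, rfl⟩ := hy
  exact ⟨p.coeff n, hp n, rfl⟩

/-- inclusion of the `n`-th graded piece into the graded module. -/
noncomputable def iotaK (n : ℕ) : Kn (A := A) J M n →ₗ[A] GrSub J M where
  toFun x := ⟨iotaQ J M n x.1, iotaQ_mem J M n x.1 x.2⟩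
  map_add' x y := Subtype.ext (map_add (iotaQ J M n) x.1 y.1)
  map_smul' a x := Subtype.ext (map_smul (iotaQ J M n) a x.1)

/-- projection of the graded module onto its `n`-th graded piece. -/
noncomputable def rhoK (n : ℕ) : GrSub J M →ₗ[A] Kn (A := A) J M n where
  toFun y := ⟨rhoQ J M n y.1, rhoQ_mem J M n y.1 y.2⟩
  map_add' x y := Subtype.ext (map_add (rhoQ J M n) x.1 y.1)
  map_smul' a x := Subtype.ext (map_smul (rhoQ J M n) a x.1)

theorem rhoK_comp_iotaK (n : ℕ) : (rhoK (A := A) J M n) ∘ₗ (iotaK J M n) = LinearMap.id := by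
  ext x
  exact rhoQ_iotaQ J M n x.1

end Abs

section Finite

variable {A : Type u} [CommRing A] {B : Type u} [CommRing B] [Algebra A B]
  (J : Ideal B) (M : Type u) [AddCommGroup M] [Module B M] [Module A M] [IsScalarTower A B M]

theorem reesMod_fg [IsNoetherianRing B] [Module.Finite B M] : (reesMod J M).FG := by
  haveI : IsNoetherian B M := isNoetherian_of_isNoetherianRing_of_finite B M
  exact (Ideal.Filtration.submodule_fg_iff_stable (J.stableFiltration (⊤ : Submodule B M))
    (fun i => IsNoetherian.noetherian _)).mpr (J.stableFiltration_stable ⊤)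

instance finite_GrSub [IsNoetherianRing B] [Module.Finite B M] :
    Module.Finite (reesAlgebra J) (GrSub J M) :=
  Module.Finite.iff_fg.mpr ((reesMod_fg J M).map _)

theorem finiteType_rees [IsNoetherianRing B] [Algebra.FiniteType A B] :
    Algebra.FiniteType A (reesAlgebra J) :=
  Algebra.FiniteType.trans (inferInstance : Algebra.FiniteType A B)
    (inferInstance : Algebra.FiniteType B (reesAlgebra J))

/-- generic freeness of the associated graded module. -/
theorem GF_GrSub [IsDomain A] [IsNoetherianRing B] [Algebra.FiniteType A B] [Module.Finite B M] :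
    GF A (GrSub J M) := by
  haveI := finiteType_rees (A := A) J
  exact GF_of_finiteType_domain (R := A) (reesAlgebra J) (GrSub J M)

/-- a retract of a module whose base change is free has flat base change. -/
theorem flat_Kn_of_PF (g : A) (h : PF A g (GrSub J M)) (n : ℕ) :
    Module.Flat (Localization.Away g) (Localization.Away g ⊗[A] Kn (A := A) J M n) := by
  unfold PF at h
  haveI : Module.Flat (Localization.Away g) (Localization.Away g ⊗[A] GrSub J M) := inferInstance
  refine Module.Flat.of_retract ((iotaK J M n).baseChange (Localization.Away g))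
    ((rhoK J M n).baseChange (Localization.Away g)) ?_
  rw [← LinearMap.baseChange_comp, rhoK_comp_iotaK, LinearMap.baseChange_id]

/-- the transition map `M / J^(n+1) M → M / Jⁿ M`. -/
noncomputable def piQ (n : ℕ) : (M ⧸ NN (A := A) J M (n + 1)) →ₗ[A] (M ⧸ NN (A := A) J M n) :=
  Submodule.factor (NN_succ_le J M n)

theorem piQ_surjective (n : ℕ) : Function.Surjective (piQ (A := A) J M n) :=
  Submodule.factor_surjective (NN_succ_le J M n)

theorem exact_Kn_piQ (n : ℕ) : Function.Exact (Kn (A := A) J M n).subtype (piQ J M n) := by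
  rw [LinearMap.exact_iff, Submodule.range_subtype]
  ext x
  induction x using Submodule.Quotient.induction_on with
  | H m =>
    rw [LinearMap.mem_ker]
    change Submodule.factor (NN_succ_le J M n) ((NN J M (n + 1)).mkQ m) = 0 ↔ _
    rw [Submodule.factor_mk, Submodule.mkQ_apply, Submodule.Quotient.mk_eq_zero]
    constructor
    · intro hm
      exact ⟨m, hm, rfl⟩
    · rintro ⟨m', hm', he⟩
      have h1 : m' - m ∈ NN (A := A) J M (n + 1) := by
        rw [← Submodule.Quotient.mk_eq_zero, Submodule.Quotient.mk_sub]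
        rw [Submodule.mkQ_apply] at he
        rw [he, sub_self]
      have h2 : m = m' - (m' - m) := by abel
      rw [h2]
      exact Submodule.sub_mem _ hm' (NN_succ_le J M n h1)

/-- if `A_g ⊗ gr(M)` is free then all `A_g ⊗ M / JⁿM` are flat. -/
theorem flat_quot_of_PF (g : A) (h : PF A g (GrSub J M)) (n : ℕ) :
    Module.Flat (Localization.Away g) (Localization.Away g ⊗[A] (M ⧸ NN (A := A) J M n)) := by
  induction n with
  | zero =>
    haveI : Subsingleton (M ⧸ NN (A := A) J M 0) := by
      rw [NN_zero]; infer_instance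
    infer_instance
  | succ n ih =>
    haveI := ih
    haveI := flat_Kn_of_PF J M g h n
    refine Groth.Agent.Lib.helper16.RelCartier.flat_of_exact
      ((Kn (A := A) J M n).subtype.baseChange (Localization.Away g))
      ((piQ J M n).baseChange (Localization.Away g)) ?_ ?_ ?_
    · rw [LinearMap.baseChange_eq_ltensor]
      exact Module.Flat.lTensor_preserves_injective_linearMap _ (Submodule.subtype_injective _)
    · rw [LinearMap.baseChange_eq_ltensor]
      exact LinearMap.lTensor_surjective _ (piQ_surjective J M n)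
    · rw [LinearMap.baseChange_eq_ltensor, LinearMap.baseChange_eq_ltensor]
      exact Module.Flat.lTensor_exact _ (exact_Kn_piQ J M n)

/-- **Generic flatness of all `M / JⁿM`**. -/
theorem exists_flat_quot [IsDomain A] [IsNoetherianRing B] [Algebra.FiniteType A B]
    [Module.Finite B M] :
    ∃ f : A, f ≠ 0 ∧ ∀ g : A, f ∣ g → ∀ n : ℕ,
      Module.Flat (Localization.Away g)
        (Localization.Away g ⊗[A] (M ⧸ NN (A := A) J M n)) := by
  obtain ⟨f, hf, hPF⟩ := GF_GrSub (A := A) J M
  exact ⟨f, hf, fun g hg n => flat_quot_of_PF J M g (hPF.of_dvd hg) n⟩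

end Finite

end Groth.Agent.Lib.helper11.GrFlat
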