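import Mathlib
import Groth.Agent.Lib.Helper11.GrFlat1

/-!
# Generic flatness of graded pieces, part 2 (helper11)

* `flat_graded_of_flat_quot`: flatness of all `C ⊗ M₀/J₀ᵏM₀` gives flatness of the graded pieces of the
  `J₀`-adic filtration of `C ⊗ M₀` (in the encoding of statement S12134).
* `liftBaseChange_bijective_of_ker_le`, `compEquiv`: comparison of `M₀/J₀ᵏM₀ ⊗ A₀/P` with the
  corresponding quotient of `M₀/PM₀`.
* `exists_flat_quot_away`: generic flatness around the generic point of `V(P)`.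
-/

set_option autoImplicit false
universe u
open TensorProduct Polynomial

namespace Groth.Agent.Lib.helper11.GrFlat

section General

variable {C : Type u} [CommRing C] {T : Type u} [AddCommGroup T] [Module C T]

theorem exact_map_mkQ_factor {P' P : Submodule C T} (h : P' ≤ P) :
    Function.Exact (P.map P'.mkQ).subtype (Submodule.factor h) := by
  rw [LinearMap.exact_iff, Submodule.range_subtype]
  ext x
  induction x using Submodule.Quotient.induction_on with
  | H m =>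
    rw [LinearMap.mem_ker]
    change Submodule.factor h (P'.mkQ m) = 0 ↔ _
    rw [Submodule.factor_mk, Submodule.mkQ_apply, Submodule.Quotient.mk_eq_zero]
    constructor
    · intro hm
      exact ⟨m, hm, rfl⟩
    · rintro ⟨m', hm', he⟩
      have h1 : m' - m ∈ P' := by
        rw [← Submodule.Quotient.mk_eq_zero, Submodule.Quotient.mk_sub]
        rw [Submodule.mkQ_apply] at he
        rw [he, sub_self]
      have h2 : m = m' - (m' - m) := by abel
      rw [h2]
      exact Submodule.sub_mem _ hm' (h h1)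

end General

section R1

variable {A₀ : Type u} [CommRing A₀] {B₀ : Type u} [CommRing B₀] [Algebra A₀ B₀] (J₀ : Ideal B₀)
  (M₀ : Type u) [AddCommGroup M₀] [Module B₀ M₀] [Module A₀ M₀] [IsScalarTower A₀ B₀ M₀]
  (C : Type u) [CommRing C] [Algebra A₀ C]

/-- the image of `C ⊗ J₀ᵏM₀` in `C ⊗ M₀`. -/
noncomputable abbrev RR (k : ℕ) : Submodule C (C ⊗[A₀] M₀) :=
  LinearMap.range (LinearMap.baseChange C
    ((J₀ ^ k • (⊤ : Submodule B₀ M₀)).restrictScalars A₀).subtype)

theorem RR_succ_le (k : ℕ) : RR (A₀ := A₀) J₀ M₀ C (k + 1) ≤ RR (A₀ := A₀) J₀ M₀ C k := by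
  rintro x ⟨y, rfl⟩
  have hle : (J₀ ^ (k + 1) • (⊤ : Submodule B₀ M₀)).restrictScalars A₀ ≤
      (J₀ ^ k • (⊤ : Submodule B₀ M₀)).restrictScalars A₀ := NN_succ_le J₀ M₀ k
  refine ⟨LinearMap.baseChange C (Submodule.inclusion hle) y, ?_⟩
  rw [← LinearMap.comp_apply, ← LinearMap.baseChange_comp, Submodule.subtype_comp_inclusion]

theorem ker_baseChange_mkQ (k : ℕ) :
    LinearMap.ker (LinearMap.baseChange C (NN (A := A₀) J₀ M₀ k).mkQ) = RR (A₀ := A₀) J₀ M₀ C k := by
  have hex : Function.Exact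
      (LinearMap.lTensor C (NN (A := A₀) J₀ M₀ k).subtype)
      (LinearMap.lTensor C (NN (A := A₀) J₀ M₀ k).mkQ) :=
    lTensor_exact C (LinearMap.exact_subtype_mkQ _) (Submodule.mkQ_surjective _)
  ext x
  rw [LinearMap.mem_ker]
  exact hex x

/-- `(C ⊗ M₀) / im(C ⊗ J₀ᵏM₀) ≃ C ⊗ (M₀ / J₀ᵏM₀)`. -/
noncomputable def quotRREquiv (k : ℕ) :
    ((C ⊗[A₀] M₀) ⧸ RR (A₀ := A₀) J₀ M₀ C k) ≃ₗ[C] C ⊗[A₀] (M₀ ⧸ NN (A := A₀) J₀ M₀ k) :=
  (Submodule.quotEquivOfEq _ _ (ker_baseChange_mkQ (A₀ := A₀) J₀ M₀ C k).symm).trans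
    (LinearMap.quotKerEquivOfSurjective (LinearMap.baseChange C (NN (A := A₀) J₀ M₀ k).mkQ) (by
      rw [LinearMap.baseChange_eq_ltensor]
      exact LinearMap.lTensor_surjective _ (Submodule.mkQ_surjective _)))

/-- **R1**: flatness of all `C ⊗ M₀/J₀ᵏM₀` implies flatness of the graded pieces. -/
theorem flat_graded_of_flat_quot
    (h : ∀ k, Module.Flat C (C ⊗[A₀] (M₀ ⧸ NN (A := A₀) J₀ M₀ k))) (n : ℕ) :
    Module.Flat C ↥(Submodule.map
      (LinearMap.range (LinearMap.baseChange C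
        ((J₀ ^ (n + 1) • (⊤ : Submodule B₀ M₀)).restrictScalars A₀).subtype)).mkQ
      (LinearMap.range (LinearMap.baseChange C
        ((J₀ ^ n • (⊤ : Submodule B₀ M₀)).restrictScalars A₀).subtype))) := by
  haveI := h
  haveI h1 : Module.Flat C ((C ⊗[A₀] M₀) ⧸ RR (A₀ := A₀) J₀ M₀ C (n + 1)) :=
    Module.Flat.of_linearEquiv (quotRREquiv (A₀ := A₀) J₀ M₀ C (n + 1))
  haveI h2 : Module.Flat C ((C ⊗[A₀] M₀) ⧸ RR (A₀ := A₀) J₀ M₀ C n) :=
    Module.Flat.of_linearEquiv (quotRREquiv (A₀ := A₀) J₀ M₀ C n)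
  exact Groth.Agent.Lib.helper16.RelCartier.flat_ker_of_exact
    ((RR (A₀ := A₀) J₀ M₀ C n).map (RR (A₀ := A₀) J₀ M₀ C (n + 1)).mkQ).subtype
    (Submodule.factor (RR_succ_le (A₀ := A₀) J₀ M₀ C n))
    (Submodule.subtype_injective _) (Submodule.factor_surjective _)
    (exact_map_mkQ_factor (RR_succ_le (A₀ := A₀) J₀ M₀ C n))

end R1

section Compare

/-- abstract comparison: a surjection `θ : Q → X` onto an `A₀/P`-module whose kernel is contained in
`P Q` identifies `X` with `A₀/P ⊗ Q`. -/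
theorem liftBaseChange_bijective_of_ker_le {A₀ : Type u} [CommRing A₀] (P : Ideal A₀)
    {Q X : Type u} [AddCommGroup Q] [Module A₀ Q] [AddCommGroup X] [Module A₀ X]
    [Module (A₀ ⧸ P) X] [IsScalarTower A₀ (A₀ ⧸ P) X] (θ : Q →ₗ[A₀] X)
    (hs : Function.Surjective θ) (hk : LinearMap.ker θ ≤ P • (⊤ : Submodule A₀ Q)) :
    Function.Bijective (θ.liftBaseChange (A₀ ⧸ P)) := by
  have hform : ∀ t : (A₀ ⧸ P) ⊗[A₀] Q, ∃ q : Q, t = (1 : A₀ ⧸ P) ⊗ₜ[A₀] q := by
    intro t
    induction t using TensorProduct.induction_on with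
    | zero => exact ⟨0, (TensorProduct.tmul_zero _ _).symm⟩
    | tmul a q =>
      obtain ⟨a₀, rfl⟩ := Ideal.Quotient.mk_surjective a
      refine ⟨a₀ • q, ?_⟩
      rw [TensorProduct.tmul_smul, TensorProduct.smul_tmul']
      congr 1
      rw [Algebra.smul_def, mul_one]; rfl
    | add x y hx hy =>
      obtain ⟨q₁, rfl⟩ := hx
      obtain ⟨q₂, rfl⟩ := hy
      exact ⟨q₁ + q₂, (TensorProduct.tmul_add _ _ _).symm⟩
  constructor
  · rw [injective_iff_map_eq_zero]
    intro t ht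
    obtain ⟨q, rfl⟩ := hform t
    rw [LinearMap.liftBaseChange_one_tmul] at ht
    have hq : q ∈ P • (⊤ : Submodule A₀ Q) := hk ht
    refine Submodule.smul_induction_on hq ?_ ?_
    · intro a ha q' _
      rw [TensorProduct.tmul_smul, TensorProduct.smul_tmul']
      have : a • (1 : A₀ ⧸ P) = 0 := by
        rw [Algebra.smul_def, mul_one]
        exact Ideal.Quotient.eq_zero_iff_mem.mpr ha
      rw [this, TensorProduct.zero_tmul]
    · intro x y hx hy
      rw [TensorProduct.tmul_add, hx, hy, add_zero]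
  · intro x
    obtain ⟨q, rfl⟩ := hs x
    exact ⟨1 ⊗ₜ q, LinearMap.liftBaseChange_one_tmul _ _ _⟩

end Compare

end Groth.Agent.Lib.helper11.GrFlat
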