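import Mathlib
import Groth.Agent.Lib.Helper11.GrFlat2

/-!
# Generic flatness of graded pieces, part 3 (helper11): base change to `A₀ / P`.
-/

set_option autoImplicit false
universe u
open TensorProduct Polynomial

namespace Groth.Agent.Lib.helper11.GrFlat

section KL

variable {A₀ : Type u} [CommRing A₀] {B₀ : Type u} [CommRing B₀] [Algebra A₀ B₀] (J₀ : Ideal B₀)
  (M₀ : Type u) [AddCommGroup M₀] [Module B₀ M₀] [Module A₀ M₀] [IsScalarTower A₀ B₀ M₀]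
  (P : Ideal A₀)

/-- the extension of `P` to `B₀`. -/
abbrev Pe : Ideal B₀ := P.map (algebraMap A₀ B₀)
/-- `A₀ / P`. -/
abbrev Abar : Type u := A₀ ⧸ P
/-- `B₀ / P B₀`. -/
abbrev Bbar : Type u := B₀ ⧸ Pe (B₀ := B₀) P
/-- `M₀ / P M₀`. -/
abbrev Mbar : Type u := M₀ ⧸ (Pe (B₀ := B₀) P • (⊤ : Submodule B₀ M₀))

noncomputable instance instModuleAbarMbar : Module (Abar P) (Mbar (B₀ := B₀) M₀ P) :=
  Module.compHom _ (algebraMap (Abar P) (Bbar (B₀ := B₀) P))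

instance : IsScalarTower (Abar P) (Bbar (B₀ := B₀) P) (Mbar (B₀ := B₀) M₀ P) :=
  IsScalarTower.of_algebraMap_smul (fun _ _ => rfl)

instance : IsScalarTower A₀ (Abar P) (Mbar (B₀ := B₀) M₀ P) := by
  constructor
  intro a b x
  change algebraMap (Abar P) (Bbar (B₀ := B₀) P) (a • b) • x =
    a • (algebraMap (Abar P) (Bbar (B₀ := B₀) P) b • x)
  rw [← smul_assoc]
  congr 1
  exact map_smul (IsScalarTower.toAlgHom A₀ (Abar P) (Bbar (B₀ := B₀) P)) a b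

theorem finiteType_bar [Algebra.FiniteType A₀ B₀] :
    Algebra.FiniteType (Abar P) (Bbar (B₀ := B₀) P) :=
  Algebra.FiniteType.of_restrictScalars_finiteType A₀ (Abar P) (Bbar (B₀ := B₀) P)

/-- the image of `J₀` in `B₀ / P B₀`. -/
abbrev Jbar : Ideal (Bbar (B₀ := B₀) P) := J₀.map (Ideal.Quotient.mk (Pe (B₀ := B₀) P))

theorem mk_mem_NN_bar (k : ℕ) (m : M₀) (hm : m ∈ J₀ ^ k • (⊤ : Submodule B₀ M₀)) :
    (Submodule.Quotient.mk m : Mbar (B₀ := B₀) M₀ P) ∈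
      NN (A := Abar P) (Jbar J₀ P) (Mbar (B₀ := B₀) M₀ P) k := by
  rw [mem_NN]
  refine Submodule.smul_induction_on hm ?_ ?_
  · intro b hb m' _
    have : (Submodule.Quotient.mk (b • m') : Mbar (B₀ := B₀) M₀ P) =
        Ideal.Quotient.mk (Pe (B₀ := B₀) P) b • (Submodule.Quotient.mk m' : Mbar (B₀ := B₀) M₀ P) :=
      rfl
    rw [this]
    refine Submodule.smul_mem_smul ?_ Submodule.mem_top
    rw [← Ideal.map_pow]
    exact Ideal.mem_map_of_mem _ hb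
  · intro x y hx hy
    rw [Submodule.Quotient.mk_add]
    exact Submodule.add_mem _ hx hy

theorem exists_mk_of_mem_NN_bar (k : ℕ) (x : Mbar (B₀ := B₀) M₀ P)
    (hx : x ∈ NN (A := Abar P) (Jbar J₀ P) (Mbar (B₀ := B₀) M₀ P) k) :
    ∃ j : M₀, j ∈ J₀ ^ k • (⊤ : Submodule B₀ M₀) ∧ x = Submodule.Quotient.mk j := by
  rw [mem_NN] at hx
  refine Submodule.smul_induction_on hx ?_ ?_
  · intro b hb x' _
    rw [← Ideal.map_pow] at hb
    obtain ⟨b₀, hb₀, rfl⟩ :=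
      (Ideal.mem_map_iff_of_surjective _ Ideal.Quotient.mk_surjective).mp hb
    obtain ⟨m', rfl⟩ := Submodule.Quotient.mk_surjective _ x'
    exact ⟨b₀ • m', Submodule.smul_mem_smul hb₀ Submodule.mem_top, rfl⟩
  · rintro x y ⟨j₁, h₁, rfl⟩ ⟨j₂, h₂, rfl⟩
    exact ⟨j₁ + j₂, Submodule.add_mem _ h₁ h₂, (Submodule.Quotient.mk_add _).symm⟩

/-- the comparison map `M₀ / J₀ᵏ M₀ → (M₀/PM₀) / Jᵏ (M₀/PM₀)`. -/
noncomputable def thetaQ (k : ℕ) :
    (M₀ ⧸ NN (A := A₀) J₀ M₀ k) →ₗ[A₀]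
      (Mbar (B₀ := B₀) M₀ P ⧸ NN (A := Abar P) (Jbar J₀ P) (Mbar (B₀ := B₀) M₀ P) k) :=
  Submodule.liftQ (NN (A := A₀) J₀ M₀ k)
    (((NN (A := Abar P) (Jbar J₀ P) (Mbar (B₀ := B₀) M₀ P) k).mkQ.restrictScalars A₀) ∘ₗ
      ((Pe (B₀ := B₀) P • (⊤ : Submodule B₀ M₀)).mkQ.restrictScalars A₀)) (by
    intro m hm
    rw [LinearMap.mem_ker, LinearMap.comp_apply, LinearMap.restrictScalars_apply,
      LinearMap.restrictScalars_apply, Submodule.mkQ_apply, Submodule.mkQ_apply,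
      Submodule.Quotient.mk_eq_zero]
    exact mk_mem_NN_bar J₀ M₀ P k m hm)

theorem thetaQ_mk (k : ℕ) (m : M₀) :
    thetaQ J₀ M₀ P k (Submodule.Quotient.mk m) =
      Submodule.Quotient.mk (Submodule.Quotient.mk m : Mbar (B₀ := B₀) M₀ P) := rfl

theorem thetaQ_surjective (k : ℕ) : Function.Surjective (thetaQ J₀ M₀ P k) := by
  intro x
  obtain ⟨y, rfl⟩ := Submodule.Quotient.mk_surjective _ x
  obtain ⟨m, rfl⟩ := Submodule.Quotient.mk_surjective _ y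
  exact ⟨Submodule.Quotient.mk m, rfl⟩

theorem ker_thetaQ_le (k : ℕ) :
    LinearMap.ker (thetaQ J₀ M₀ P k) ≤ P • (⊤ : Submodule A₀ (M₀ ⧸ NN (A := A₀) J₀ M₀ k)) := by
  intro q hq
  obtain ⟨m, rfl⟩ := Submodule.Quotient.mk_surjective _ q
  rw [LinearMap.mem_ker, thetaQ_mk, Submodule.Quotient.mk_eq_zero] at hq
  obtain ⟨j, hj, hmj⟩ := exists_mk_of_mem_NN_bar J₀ M₀ P k _ hq
  have h1 : m - j ∈ (Pe (B₀ := B₀) P • (⊤ : Submodule B₀ M₀)) := by
    rw [← Submodule.Quotient.mk_eq_zero, Submodule.Quotient.mk_sub, hmj, sub_self]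
  have h2 : m - j ∈ P • (⊤ : Submodule A₀ M₀) := by
    have := Ideal.smul_restrictScalars (S := B₀) P (⊤ : Submodule B₀ M₀)
    rw [Submodule.restrictScalars_top] at this
    rw [← this]
    exact h1
  have h3 : (Submodule.Quotient.mk m : M₀ ⧸ NN (A := A₀) J₀ M₀ k) =
      Submodule.Quotient.mk (m - j) := by
    rw [Submodule.Quotient.mk_sub, sub_eq_self.mpr]
    exact (Submodule.Quotient.mk_eq_zero _).mpr hj
  rw [h3]
  refine Submodule.smul_induction_on h2 ?_ ?_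
  · intro a ha m' _
    rw [Submodule.Quotient.mk_smul]
    exact Submodule.smul_mem_smul ha Submodule.mem_top
  · intro x y hx hy
    rw [Submodule.Quotient.mk_add]
    exact Submodule.add_mem _ hx hy

/-- `A₀/P ⊗ (M₀ / J₀ᵏM₀) ≃ (M₀/PM₀) / Jᵏ(M₀/PM₀)`. -/
noncomputable def compEquiv (k : ℕ) :
    ((Abar P) ⊗[A₀] (M₀ ⧸ NN (A := A₀) J₀ M₀ k)) ≃ₗ[Abar P]
      (Mbar (B₀ := B₀) M₀ P ⧸ NN (A := Abar P) (Jbar J₀ P) (Mbar (B₀ := B₀) M₀ P) k) :=
  LinearEquiv.ofBijective ((thetaQ J₀ M₀ P k).liftBaseChange (Abar P))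
    (liftBaseChange_bijective_of_ker_le P _ (thetaQ_surjective J₀ M₀ P k)
      (ker_thetaQ_le J₀ M₀ P k))

/-- **Generic flatness near the generic point of `V(P)`**, quotient form. -/
theorem exists_flat_quot_away [Algebra.FiniteType A₀ B₀] [IsNoetherianRing A₀]
    [Module.Finite B₀ M₀] [P.IsPrime] :
    ∃ f₀ : A₀, f₀ ∉ P ∧ ∀ g₀ : A₀, f₀ ∣ g₀ → ∀ k : ℕ,
      Module.Flat (Localization.Away (Ideal.Quotient.mk P g₀))
        (Localization.Away (Ideal.Quotient.mk P g₀) ⊗[A₀] (M₀ ⧸ NN (A := A₀) J₀ M₀ k)) := by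
  haveI : IsNoetherianRing B₀ := Algebra.FiniteType.isNoetherianRing A₀ B₀
  haveI := finiteType_bar (B₀ := B₀) P
  obtain ⟨f, hf, H⟩ := exists_flat_quot (A := Abar P) (B := Bbar (B₀ := B₀) P) (Jbar J₀ P)
    (Mbar (B₀ := B₀) M₀ P)
  obtain ⟨f₀, rfl⟩ := Ideal.Quotient.mk_surjective f
  refine ⟨f₀, fun h => hf (Ideal.Quotient.eq_zero_iff_mem.mpr h), fun g₀ hg k => ?_⟩
  have hdvd : Ideal.Quotient.mk P f₀ ∣ Ideal.Quotient.mk P g₀ := map_dvd _ hg
  haveI := H _ hdvd k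
  exact Module.Flat.of_linearEquiv
    ((TensorProduct.AlgebraTensorModule.cancelBaseChange A₀ (Abar P)
        (Localization.Away (Ideal.Quotient.mk P g₀)) (Localization.Away (Ideal.Quotient.mk P g₀))
        (M₀ ⧸ NN (A := A₀) J₀ M₀ k)).symm.trans
      (LinearEquiv.baseChange (Abar P) (Localization.Away (Ideal.Quotient.mk P g₀)) _ _
        (compEquiv J₀ M₀ P k)))

/-- **Generic flatness near the generic point of `V(P)`**, in the encoding of S12134. -/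
theorem exists_flat_graded_away [Algebra.FiniteType A₀ B₀] [IsNoetherianRing A₀]
    [Module.Finite B₀ M₀] [P.IsPrime] :
    ∃ f₀ : A₀, f₀ ∉ P ∧ ∀ g₀ : A₀, f₀ ∣ g₀ → ∀ n : ℕ,
      Module.Flat (Localization.Away (Ideal.Quotient.mk P g₀))
        ↥(Submodule.map
          (LinearMap.range (LinearMap.baseChange (Localization.Away (Ideal.Quotient.mk P g₀))
            ((J₀ ^ (n + 1) • (⊤ : Submodule B₀ M₀)).restrictScalars A₀).subtype)).mkQ
          (LinearMap.range (LinearMap.baseChange (Localization.Away (Ideal.Quotient.mk P g₀))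
            ((J₀ ^ n • (⊤ : Submodule B₀ M₀)).restrictScalars A₀).subtype))) := by
  obtain ⟨f₀, hf, H⟩ := exists_flat_quot_away J₀ M₀ P
  exact ⟨f₀, hf, fun g₀ hg n => flat_graded_of_flat_quot J₀ M₀ _ (H g₀ hg) n⟩

end KL

end Groth.Agent.Lib.helper11.GrFlat
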