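import Mathlib
import Groth.Agent.Lib.Helper11.GrFlat3

/-!
# Ordered affine stratifications of `Spec` of a Noetherian ring (helper11)

If a property `Φ P g` (of a prime `P` and an element `g`) holds generically around every prime, then
`Spec R` has a finite ordered stratification by pieces `V(P) ∩ D(g)` with `Φ P g`.
-/

set_option autoImplicit false
universe u
open TensorProduct Polynomial PrimeSpectrum

namespace Groth.Agent.Lib.helper11.GrFlat

section Strat

variable {R : Type u} [CommRing R]

/-- the locally closed piece `V(I) ∩ D(g)`. -/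
def stratum (I : Ideal R) (g : R) : Set (PrimeSpectrum R) :=
  zeroLocus (I : Set R) ∩ (basicOpen g : Set (PrimeSpectrum R))

theorem mem_stratum {I : Ideal R} {g : R} {x : PrimeSpectrum R} :
    x ∈ stratum I g ↔ I ≤ x.asIdeal ∧ g ∉ x.asIdeal := by
  unfold stratum
  rw [Set.mem_inter_iff, mem_zeroLocus, SetLike.mem_coe, mem_basicOpen]
  rfl

/-- `Z` has a finite ordered stratification by pieces `V(I i) ∩ D(g i)` satisfying `Φ`. -/
def HasStrat (Φ : Ideal R → R → Prop) (Z : Set (PrimeSpectrum R)) : Prop :=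
  ∃ (m : ℕ) (I : Fin m → Ideal R) (g : Fin m → R),
    (∀ i, Φ (I i) (g i)) ∧
    (∀ i j, i ≠ j → Disjoint (stratum (I i) (g i)) (stratum (I j) (g j))) ∧
    (⋃ i, stratum (I i) (g i)) = Z ∧
    (∀ i, ∃ U : Set (PrimeSpectrum R), IsOpen U ∧
      U ∩ (⋃ j, ⋃ (_ : i ≤ j), stratum (I j) (g j)) = stratum (I i) (g i))

theorem hasStrat_empty (Φ : Ideal R → R → Prop) : HasStrat Φ (∅ : Set (PrimeSpectrum R)) := by
  refine ⟨0, Fin.elim0, Fin.elim0, fun i => i.elim0, fun i => i.elim0, ?_, fun i => i.elim0⟩
  ext x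
  simp only [Set.mem_iUnion, Set.mem_empty_iff_false, iff_false, not_exists]
  exact fun i => i.elim0

theorem HasStrat.cons {Φ : Ideal R → R → Prop} {Z : Set (PrimeSpectrum R)} (P : Ideal R) (g : R)
    (hΦ : Φ P g) (hS : stratum P g = Z ∩ (basicOpen g : Set (PrimeSpectrum R)))
    (h : HasStrat Φ (Z ∩ zeroLocus {g})) : HasStrat Φ Z := by
  obtain ⟨m, I, γ, h1, h2, h3, h4⟩ := h
  have hsub : ∀ j, stratum (I j) (γ j) ⊆ zeroLocus {g} := by
    intro j x hx
    have : x ∈ ⋃ i, stratum (I i) (γ i) := Set.mem_iUnion.mpr ⟨j, hx⟩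
    rw [h3] at this
    exact this.2
  have hdisj0 : ∀ j, Disjoint (stratum P g) (stratum (I j) (γ j)) := by
    intro j
    rw [Set.disjoint_left]
    intro x hx hx'
    have h5 := hsub j hx'
    rw [mem_zeroLocus, Set.singleton_subset_iff] at h5
    exact (mem_stratum.mp hx).2 h5
  have hcover : (⋃ i : Fin (m + 1), stratum ((Fin.cons P I : Fin (m + 1) → Ideal R) i)
      ((Fin.cons g γ : Fin (m + 1) → R) i)) = Z := by
    ext x
    rw [Set.mem_iUnion, Fin.exists_fin_succ]
    simp only [Fin.cons_zero, Fin.cons_succ]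
    rw [← Set.mem_iUnion, h3, hS]
    constructor
    · rintro (hx | hx)
      · exact hx.1
      · exact hx.1
    · intro hx
      by_cases hg : g ∈ x.asIdeal
      · right
        refine ⟨hx, ?_⟩
        rw [mem_zeroLocus, Set.singleton_subset_iff]
        exact hg
      · left
        exact ⟨hx, (mem_basicOpen g x).mpr hg⟩
  refine ⟨m + 1, Fin.cons P I, Fin.cons g γ, ?_, ?_, hcover, ?_⟩
  · intro i
    refine Fin.cases ?_ (fun i => ?_) i
    · simpa using hΦ
    · simpa using h1 i
  · intro i j
    refine Fin.cases ?_ (fun i => ?_) i <;> refine Fin.cases ?_ (fun j => ?_) j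
    · intro h; exact absurd rfl h
    · intro _
      simp only [Fin.cons_zero, Fin.cons_succ]
      exact hdisj0 j
    · intro _
      simp only [Fin.cons_zero, Fin.cons_succ]
      exact (hdisj0 i).symm
    · intro hij
      simp only [Fin.cons_succ]
      exact h2 i j (fun h => hij (congrArg Fin.succ h))
  · intro i
    refine Fin.cases ?_ (fun i => ?_) i
    · refine ⟨(basicOpen g : Set (PrimeSpectrum R)), (basicOpen g).2, ?_⟩
      have : (⋃ j : Fin (m + 1), ⋃ (_ : (0 : Fin (m + 1)) ≤ j),
          stratum ((Fin.cons P I : Fin (m + 1) → Ideal R) j)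
            ((Fin.cons g γ : Fin (m + 1) → R) j)) = Z := by
        rw [← hcover]
        ext x
        simp only [Set.mem_iUnion, Fin.zero_le, exists_true_left, exists_prop, true_and]
      rw [this, Fin.cons_zero, Fin.cons_zero, hS, Set.inter_comm]
    · obtain ⟨U, hU, hUe⟩ := h4 i
      refine ⟨U, hU, ?_⟩
      have : (⋃ j : Fin (m + 1), ⋃ (_ : i.succ ≤ j),
          stratum ((Fin.cons P I : Fin (m + 1) → Ideal R) j)
            ((Fin.cons g γ : Fin (m + 1) → R) j)) =
          ⋃ j, ⋃ (_ : i ≤ j), stratum (I j) (γ j) := by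
        ext x
        simp only [Set.mem_iUnion, exists_prop]
        rw [Fin.exists_fin_succ]
        simp only [Fin.cons_succ, Fin.succ_le_succ_iff]
        constructor
        · rintro (⟨h0, -⟩ | h)
          · exact absurd h0 (Fin.not_le.mpr (Fin.succ_pos i))
          · exact h
        · intro h; exact Or.inr h
      rw [this, Fin.cons_succ, Fin.cons_succ]
      exact hUe

theorem exists_mem_other_minimalPrimes [IsNoetherianRing R] (I P : Ideal R)
    (hP : P ∈ I.minimalPrimes) :
    ∃ g₁ : R, g₁ ∉ P ∧ ∀ P' ∈ I.minimalPrimes, P' ≠ P → g₁ ∈ P' := by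
  classical
  have hfin := Ideal.finite_minimalPrimes_of_isNoetherianRing R I
  let s : Finset (Ideal R) := hfin.toFinset.erase P
  have hK : ¬ (s.inf id ≤ P) := by
    intro hle
    obtain ⟨P', hP's, hP'le⟩ := (Ideal.IsPrime.inf_le' hP.1.1).mp hle
    rw [Finset.mem_erase, Set.Finite.mem_toFinset] at hP's
    have hle' : P ≤ P' := hP.2 hP's.2.1 hP'le
    exact hP's.1 (le_antisymm hP'le hle')
  obtain ⟨g₁, hg₁K, hg₁P⟩ := SetLike.not_le_iff_exists.mp hK
  refine ⟨g₁, hg₁P, fun P' hP' hne => ?_⟩
  have hmem : P' ∈ s := by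
    rw [Finset.mem_erase, Set.Finite.mem_toFinset]
    exact ⟨hne, hP'⟩
  exact (Finset.inf_le hmem : s.inf id ≤ id P') hg₁K

/-- **Noetherian induction**: a generically valid property gives an ordered stratification. -/
theorem hasStrat_zeroLocus [IsNoetherianRing R] (Φ : Ideal R → R → Prop)
    (hΦ : ∀ P : Ideal R, P.IsPrime → ∃ f : R, f ∉ P ∧ ∀ g : R, f ∣ g → Φ P g) (I : Ideal R) :
    HasStrat Φ (zeroLocus (I : Set R)) := by
  refine (wellFounded_gt (α := Ideal R)).induction
    (C := fun I : Ideal R => HasStrat Φ (zeroLocus (I : Set R))) I ?_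
  intro I IH
  by_cases hI : I = ⊤
  · have : zeroLocus (I : Set R) = ∅ := zeroLocus_empty_iff_eq_top.mpr hI
    rw [this]
    exact hasStrat_empty Φ
  · obtain ⟨⟨P, hP⟩⟩ := Ideal.nonempty_minimalPrimes hI
    haveI hPprime : P.IsPrime := hP.1.1
    have hIP : I ≤ P := hP.1.2
    obtain ⟨g₁, hg₁P, hg₁⟩ := exists_mem_other_minimalPrimes I P hP
    obtain ⟨f, hfP, hf⟩ := hΦ P hPprime
    have hgP : g₁ * f ∉ P := fun h => (hPprime.mem_or_mem h).elim hg₁P hfP
    have hS : stratum P (g₁ * f) =
        zeroLocus (I : Set R) ∩ (basicOpen (g₁ * f) : Set (PrimeSpectrum R)) := by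
      ext x
      rw [mem_stratum, Set.mem_inter_iff, mem_zeroLocus, SetLike.mem_coe, mem_basicOpen,
        SetLike.coe_subset_coe]
      constructor
      · rintro ⟨h1, h2⟩
        exact ⟨hIP.trans h1, h2⟩
      · rintro ⟨h1, h2⟩
        refine ⟨?_, h2⟩
        haveI := x.2
        obtain ⟨P', hP', hP'x⟩ := Ideal.exists_minimalPrimes_le h1
        by_cases hne : P' = P
        · rw [← hne]; exact hP'x
        · exact absurd (hP'x (Ideal.mul_mem_right f P' (hg₁ P' hP' hne))) h2
    have hZ' : zeroLocus (I : Set R) ∩ zeroLocus {g₁ * f} =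
        zeroLocus ((I ⊔ Ideal.span {g₁ * f} : Ideal R) : Set R) := by
      rw [zeroLocus_sup, zeroLocus_span]
    have hlt : I < I ⊔ Ideal.span {g₁ * f} := by
      refine lt_of_le_of_ne le_sup_left ?_
      intro heq
      have : g₁ * f ∈ I := by
        rw [heq]
        exact Ideal.mem_sup_right (Ideal.subset_span rfl)
      exact hgP (hIP this)
    refine HasStrat.cons P (g₁ * f) (hf _ (Dvd.intro_left g₁ rfl)) hS ?_
    rw [hZ']
    exact IH _ hlt

theorem hasStrat_univ [IsNoetherianRing R] (Φ : Ideal R → R → Prop)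
    (hΦ : ∀ P : Ideal R, P.IsPrime → ∃ f : R, f ∉ P ∧ ∀ g : R, f ∣ g → Φ P g) :
    HasStrat Φ (Set.univ : Set (PrimeSpectrum R)) := by
  have := hasStrat_zeroLocus Φ hΦ ⊥
  rwa [Submodule.bot_coe, zeroLocus_singleton_zero] at this

end Strat

section Spec

open AlgebraicGeometry CategoryTheory

variable {R : Type u} [CommRing R]

theorem isImmersion_specMap_away_quot (I : Ideal R) (g : R) :
    IsImmersion (Spec.map (CommRingCat.ofHom
      (algebraMap R (Localization.Away (Ideal.Quotient.mk I g))))) := by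
  have h : algebraMap R (Localization.Away (Ideal.Quotient.mk I g)) =
      (algebraMap (R ⧸ I) (Localization.Away (Ideal.Quotient.mk I g))).comp (Ideal.Quotient.mk I) :=
    IsScalarTower.algebraMap_eq R (R ⧸ I) _
  rw [h, CommRingCat.ofHom_comp, Spec.map_comp]
  haveI : IsClosedImmersion (Spec.map (CommRingCat.ofHom (Ideal.Quotient.mk I))) :=
    IsClosedImmersion.spec_of_surjective _ Ideal.Quotient.mk_surjective
  infer_instance

theorem range_specMap_away_quot (I : Ideal R) (g : R) :
    Set.range (Spec.map (CommRingCat.ofHom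
      (algebraMap R (Localization.Away (Ideal.Quotient.mk I g))))) = stratum I g := by
  have h : algebraMap R (Localization.Away (Ideal.Quotient.mk I g)) =
      (algebraMap (R ⧸ I) (Localization.Away (Ideal.Quotient.mk I g))).comp (Ideal.Quotient.mk I) :=
    IsScalarTower.algebraMap_eq R (R ⧸ I) _
  have h1 : Set.range (PrimeSpectrum.comap
      (algebraMap R (Localization.Away (Ideal.Quotient.mk I g)))) = stratum I g := by
    unfold stratum
    rw [h, comap_comp, Set.range_comp,
      PrimeSpectrum.localization_away_comap_range (Localization.Away (Ideal.Quotient.mk I g))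
        (Ideal.Quotient.mk I g), ← comap_basicOpen]
    rw [TopologicalSpace.Opens.coe_comap, ContinuousMap.coe_mk, Set.image_preimage_eq_inter_range,
      range_comap_of_surjective _ _ Ideal.Quotient.mk_surjective, Ideal.mk_ker, Set.inter_comm]
  exact h1

end Spec

end Groth.Agent.Lib.helper11.GrFlat
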