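import Mathlib
import Groth.Prelude.Def_ega3
import Groth.Agent.Lib.Helper11.GCLocAlg

/-!
# helper11: flatness of `H_0` from flatness of `H_{-1}` when the lower `T_q` vanish fibrewise

Chain complex `P` of finite flat modules over a Noetherian ring, bounded below, `T_1 = 0`,
`T_q(κ(x)) = 0` for all `q ≤ -2` and all `x`, `H_{-1}(P)` flat.  Then `H_0(P)` is flat.
(Cohomologically: a flat family whose fibres have cohomological dimension `≤ 1`:
`H^1` projective ⇒ `H^0` projective.)
-/

set_option autoImplicit false
universe u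
open CategoryTheory CategoryTheory.Limits TensorProduct

namespace Groth.Agent.Lib.helper11.H0Proj

open Groth.Agent.Lib.helper2.TpLib Groth.Agent.Lib.helper11.GCLoc

noncomputable section

variable {A : Type u} [CommRing A] [IsNoetherianRing A] (P : ChainComplex (ModuleCat.{u} A) ℤ)
  (hP : ∀ i, Module.Finite A (P.X i) ∧ Module.Flat A (P.X i))

include hP in
theorem flat_H0_of_flat_H1 (i₀ : ℤ) (hb : ∀ i < i₀, IsZero (P.X i))
    (hpos : ∀ M : ModuleCat.{u} A, IsZero ((CohIII.TFun P 1).obj M))
    (h2 : ∀ q : ℤ, q ≤ -2 → ∀ x : PrimeSpectrum A, CohIII.dRank P q x = 0)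
    (h1 : Module.Flat A (P.homology (-1))) : Module.Flat A (P.homology 0) := by
  have hfl : ∀ i, Module.Flat A (P.X i) := fun i => (hP i).2
  have hflat : ∀ q ≤ (-1 : ℤ), Module.Flat A ((CohIII.TFun P q).obj (ModuleCat.of A A)) := by
    intro q hq
    rcases eq_or_lt_of_le hq with rfl | hlt
    · exact Module.Flat.of_linearEquiv (TAEquiv P (-1))
    · have hq2 : q ≤ -2 := by omega
      have hsupp : Module.support A (P.homology q) = ∅ := by
        ext x
        simp only [Set.mem_empty_iff_false, iff_false]
        exact not_mem_support_homology_of_dRank_eq_zero P hP x q (h2 q hq2 x)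
      have hsub : Subsingleton (P.homology q) := Module.support_eq_empty_iff.mp hsupp
      have : Subsingleton ((CohIII.TFun P q).obj (ModuleCat.of A A)) :=
        (TAEquiv P q).toEquiv.subsingleton
      infer_instance
  have hex1 := (upTo_main P hfl i₀ hb (-1)).mpr hflat
  have h0e : (CohIII.TFun P 0).PreservesEpimorphisms :=
    (preservesMono_iff_preservesEpi P hfl 0 (-1) (by norm_num)).mp (hex1 (-1) le_rfl).1
  have h0m : (CohIII.TFun P 0).PreservesMonomorphisms :=
    (preservesMono_iff_preservesEpi P hfl 1 0 (by norm_num)).mpr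
      ⟨fun {M N} g hg => ⟨fun a b _ => (hpos N).eq_of_src _ _⟩⟩
  have hex0 : ∀ q ≤ (0 : ℤ), (CohIII.TFun P q).PreservesMonomorphisms ∧
      (CohIII.TFun P q).PreservesEpimorphisms := by
    intro q hq
    rcases eq_or_lt_of_le hq with rfl | hlt
    · exact ⟨h0m, h0e⟩
    · exact hex1 q (by omega)
  have := (upTo_main P hfl i₀ hb 0).mp hex0 0 le_rfl
  exact Module.Flat.of_linearEquiv (TAEquiv P 0).symm

end

end Groth.Agent.Lib.helper11.H0Proj
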