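import Groth.Prelude.Def_W4c2invhilbsl2HJ
import Mathlib.Tactic

/-! Hirzebruch–Jung bookkeeping for the cluster `W4c2invhilbsl2` (helper11). -/

set_option autoImplicit false

namespace Groth.Agent.Lib.helper11.HJ

open W4c2invhilbsl2

/-- `tᵢ = t Pᵢ - b Qᵢ`. -/
def T (p q m : ℕ) (c : List ℤ) (i : ℕ) : ℤ :=
  (tT p q m : ℤ) * hjP c i - (bB p q m : ℤ) * hjQ c i

lemma hjP_succ_succ (c : List ℤ) (i : ℕ) :
    hjP c (i + 2) = c.getD i 0 * hjP c (i + 1) - hjP c i := by
  rw [hjP]

lemma hjQ_succ_succ (c : List ℤ) (i : ℕ) :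
    hjQ c (i + 2) = c.getD i 0 * hjQ c (i + 1) - hjQ c i := by
  rw [hjQ]

lemma T_zero (p q m : ℕ) (c : List ℤ) : T p q m c 0 = bB p q m := by
  simp [T, hjP, hjQ]

lemma T_one (p q m : ℕ) (c : List ℤ) : T p q m c 1 = tT p q m := by
  simp [T, hjP, hjQ]

lemma T_succ_succ (p q m : ℕ) (c : List ℤ) (i : ℕ) :
    T p q m c (i + 2) = c.getD i 0 * T p q m c (i + 1) - T p q m c i := by
  simp only [T, hjP_succ_succ, hjQ_succ_succ]
  ring

lemma det (c : List ℤ) (i : ℕ) : hjP c i * hjQ c (i + 1) - hjP c (i + 1) * hjQ c i = 1 := by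
  induction i with
  | zero => simp [hjP, hjQ]
  | succ i ih =>
    rw [hjP_succ_succ, hjQ_succ_succ]
    linear_combination ih

section arith
variable {p q m : ℕ} (hp : 0 < p) (hpq : p < q) (hcop : Nat.Coprime p q) (hm : 0 < m)
  (hnt : ¬ (q - p ∣ m))

include hpq in
lemma d_pos : 0 < q - p := Nat.sub_pos_of_lt hpq

include hm in
lemma g_pos : 0 < gcdK p q m := Nat.gcd_pos_of_pos_left _ hm

lemma g_dvd_d : gcdK p q m ∣ q - p := Nat.gcd_dvd_right _ _

lemma g_mul_b : gcdK p q m * bB p q m = q - p := Nat.mul_div_cancel' g_dvd_d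

include hpq in
lemma mod_lt : m * p % (q - p) < q - p := Nat.mod_lt _ (d_pos hpq)

lemma g_dvd_mod : gcdK p q m ∣ m * p % (q - p) := by
  rw [Nat.dvd_mod_iff g_dvd_d]
  exact Dvd.dvd.mul_right (Nat.gcd_dvd_left _ _) _

lemma g_mul_t : gcdK p q m * tT p q m = q - p - m * p % (q - p) :=
  Nat.mul_div_cancel' (Nat.dvd_sub g_dvd_d g_dvd_mod)

include hpq hcop in
lemma cop_p_d : Nat.Coprime p (q - p) := by
  have : Nat.Coprime p (q - p) := by
    rw [Nat.coprime_sub_self_right hpq.le]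
    exact hcop
  exact this

include hpq hcop hnt in
lemma mod_pos : 0 < m * p % (q - p) := by
  rw [Nat.pos_iff_ne_zero]
  intro h
  apply hnt
  have h1 : q - p ∣ m * p := Nat.dvd_of_mod_eq_zero h
  exact (cop_p_d hpq hcop).symm.dvd_of_dvd_mul_right h1

include hpq hcop hnt in
lemma t_lt_b : tT p q m < bB p q m := by
  have h1 := g_mul_t (p := p) (q := q) (m := m)
  have h2 := g_mul_b (p := p) (q := q) (m := m)
  have h3 := mod_pos hpq hcop hnt
  have h4 : gcdK p q m * tT p q m < gcdK p q m * bB p q m := by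
    rw [h1, h2]
    have := d_pos hpq
    omega
  exact Nat.lt_of_mul_lt_mul_left h4

include hpq in
lemma t_pos : 0 < tT p q m := by
  have h1 := g_mul_t (p := p) (q := q) (m := m)
  have h3 := mod_lt (m := m) hpq
  rcases Nat.eq_zero_or_pos (tT p q m) with h | h
  · rw [h, mul_zero] at h1
    omega
  · exact h

include hpq hcop in
lemma cop_b_t : Nat.Coprime (bB p q m) (tT p q m) := by
  -- gcd(mp mod d, d) = gcd(mp, d) = g
  have hg : Nat.gcd (m * p % (q - p)) (q - p) = gcdK p q m := by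
    rw [← Nat.gcd_rec, Nat.gcd_comm]
    unfold gcdK
    exact Nat.Coprime.gcd_mul_right_cancel m (cop_p_d hpq hcop)
  have h1 := g_mul_t (p := p) (q := q) (m := m)
  have h2 := g_mul_b (p := p) (q := q) (m := m)
  -- any common divisor k of b and t: g k ∣ d and g k ∣ d - β so g k ∣ β, so g k ∣ gcd = g
  apply Nat.Coprime.symm
  rw [Nat.coprime_iff_gcd_eq_one] 
  set k := Nat.gcd (tT p q m) (bB p q m) with hk
  have hk1 : k ∣ tT p q m := Nat.gcd_dvd_left _ _
  have hk2 : k ∣ bB p q m := Nat.gcd_dvd_right _ _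
  have h3 : gcdK p q m * k ∣ q - p := by rw [← h2]; exact Nat.mul_dvd_mul_left _ hk2
  have h4 : gcdK p q m * k ∣ q - p - m * p % (q - p) := by
    rw [← h1]; exact Nat.mul_dvd_mul_left _ hk1
  have h5 : gcdK p q m * k ∣ m * p % (q - p) := by
    have hle : m * p % (q - p) ≤ q - p := (mod_lt hpq).le
    have := (Nat.dvd_sub_iff_right hle h3).1 h4
    exact this
  have h6 : gcdK p q m * k ∣ gcdK p q m := by
    have h6' : gcdK p q m * k ∣ Nat.gcd (m * p % (q - p)) (q - p) := Nat.dvd_gcd h5 h3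
    rwa [hg] at h6'
  have hgpos : 0 < gcdK p q m := by
    rcases Nat.eq_zero_or_pos (gcdK p q m) with h | h
    · rw [h, zero_mul] at h2
      have := d_pos hpq
      omega
    · exact h
  have h7 : gcdK p q m * k ∣ gcdK p q m * 1 := by rwa [mul_one]
  exact Nat.dvd_one.1 (Nat.dvd_of_mul_dvd_mul_left hgpos h7)

end arith


section main
variable {p q m : ℕ} (hp : 0 < p) (hpq : p < q) (hcop : Nat.Coprime p q) (hm : 0 < m)
  (hnt : ¬ (q - p ∣ m)) {c : List ℤ} (hc : IsHJDigits p q m c)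

include hpq in
lemma nN_eq (c : List ℤ) (i : ℕ) : nN p q m c i = (gcdK p q m : ℤ) * T p q m c i := by
  have hd : ((q - p : ℕ) : ℤ) = (q : ℤ) - p := Nat.cast_sub hpq.le
  have h1 : ((gcdK p q m : ℕ) : ℤ) * (tT p q m : ℤ) = (q : ℤ) - p - ((m * p % (q - p) : ℕ) : ℤ) := by
    have := g_mul_t (p := p) (q := q) (m := m)
    have h' : ((gcdK p q m * tT p q m : ℕ) : ℤ) = ((q - p - m * p % (q - p) : ℕ) : ℤ) := by
      rw [this]
    rw [Nat.cast_sub (mod_lt hpq).le, hd] at h'
    rw [← h']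
    push_cast
    ring
  have h2 : ((gcdK p q m : ℕ) : ℤ) * (bB p q m : ℤ) = (q : ℤ) - p := by
    have := g_mul_b (p := p) (q := q) (m := m)
    rw [← hd, ← this]
    push_cast
    ring
  have h3 : ((q : ℤ) - p) * (alpha p q m : ℤ) + ((m * p % (q - p) : ℕ) : ℤ) = (m : ℤ) * p := by
    have := Nat.div_add_mod (m * p) (q - p)
    rw [← hd]
    unfold alpha
    exact_mod_cast this
  simp only [nN, eE, lL, T]
  push_cast
  linear_combination (-(hjP c i)) * h1 + (hjQ c i) * h2 + (hjP c i) * h3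

lemma hjVal_gt_one : ∀ l : List ℤ, (∀ x ∈ l, (2 : ℤ) ≤ x) → l ≠ [] → 1 < HJFrac.hjVal l
  | [], _, h => absurd rfl h
  | [b], hb, _ => by
    have h2 : (2 : ℤ) ≤ b := hb b (by simp)
    have : (2 : ℚ) ≤ b := by exact_mod_cast h2
    simp only [HJFrac.hjVal, inv_zero, sub_zero]
    linarith
  | b :: b' :: l, hb, _ => by
    have h2 : (2 : ℤ) ≤ b := hb b (by simp)
    have : (2 : ℚ) ≤ b := by exact_mod_cast h2
    have ih := hjVal_gt_one (b' :: l) (fun x hx => hb x (List.mem_cons_of_mem _ hx)) (by simp)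
    rw [HJFrac.hjVal]
    have h3 : (HJFrac.hjVal (b' :: l))⁻¹ < 1 := inv_lt_one_of_one_lt₀ ih
    linarith

include hpq hcop hnt hc in
/-- the key lemma: tails of the continued fraction are ratios of consecutive `tᵢ`. -/
lemma key (i : ℕ) (hi : i ≤ c.length) :
    0 < T p q m c i ∧ HJFrac.hjVal (c.drop i) = (T p q m c i : ℚ) / (T p q m c (i + 1) : ℚ) := by
  induction i with
  | zero =>
    refine ⟨?_, ?_⟩
    · rw [T_zero]
      have := (t_pos (m := m) hpq).trans (t_lt_b hpq hcop hnt)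
      exact_mod_cast this
    · rw [List.drop_zero, T_zero, T_one, hc.2]
      push_cast
      rfl
  | succ i ih =>
    obtain ⟨hpos, hval⟩ := ih (Nat.le_of_succ_le hi)
    have hlt : i < c.length := hi
    have hdrop : c.drop i = c.getD i 0 :: c.drop (i + 1) := by
      rw [List.drop_eq_getElem_cons hlt, List.getD_eq_getElem _ _ hlt]
    have hne : c.drop i ≠ [] := by rw [hdrop]; simp
    have hgt := hjVal_gt_one (c.drop i) (fun x hx => hc.1 x (List.mem_of_mem_drop hx)) hne
    rw [hval] at hgt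
    have hposQ : (0 : ℚ) < (T p q m c i : ℚ) := by exact_mod_cast hpos
    have hpos1 : (0 : ℚ) < (T p q m c (i + 1) : ℚ) := by
      by_contra hcon
      push Not at hcon
      have : (T p q m c i : ℚ) / (T p q m c (i + 1) : ℚ) ≤ 0 :=
        div_nonpos_of_nonneg_of_nonpos hposQ.le hcon
      linarith
    refine ⟨by exact_mod_cast hpos1, ?_⟩
    rw [hdrop, HJFrac.hjVal] at hval
    have h4 : (HJFrac.hjVal (c.drop (i + 1)))⁻¹ =
        (T p q m c (i + 2) : ℚ) / (T p q m c (i + 1) : ℚ) := by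
      rw [T_succ_succ]
      push_cast
      have h5 : (HJFrac.hjVal (c.drop (i + 1)))⁻¹ =
          (c.getD i 0 : ℚ) - (T p q m c i : ℚ) / (T p q m c (i + 1) : ℚ) := by linarith
      rw [h5]
      field_simp
    rw [← inv_inv (HJFrac.hjVal (c.drop (i + 1))), h4, inv_div]

include hpq hcop hnt hc in
lemma T_pos (i : ℕ) (hi : i ≤ c.length) : 0 < T p q m c i :=
  (key hpq hcop hnt hc i hi).1

include hpq hcop hnt hc in
lemma T_lt (i : ℕ) (hi : i < c.length) : T p q m c (i + 1) < T p q m c i := by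
  obtain ⟨hpos, hval⟩ := key hpq hcop hnt hc i hi.le
  have hpos1 := T_pos hpq hcop hnt hc (i + 1) hi
  have hne : c.drop i ≠ [] := by
    intro h
    have := congrArg List.length h
    simp at this
    omega
  have hgt := hjVal_gt_one (c.drop i) (fun x hx => hc.1 x (List.mem_of_mem_drop hx)) hne
  rw [hval] at hgt
  have hpos1Q : (0 : ℚ) < (T p q m c (i + 1) : ℚ) := by exact_mod_cast hpos1
  rw [one_lt_div hpos1Q] at hgt
  exact_mod_cast hgt

include hpq hcop hnt hc in
lemma T_last : T p q m c (c.length + 1) = 0 := by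
  obtain ⟨hpos, hval⟩ := key hpq hcop hnt hc c.length le_rfl
  rw [List.drop_length, HJFrac.hjVal] at hval
  have hposQ : (T p q m c c.length : ℚ) ≠ 0 := by exact_mod_cast hpos.ne'
  rcases div_eq_zero_iff.1 hval.symm with h | h
  · exact absurd h hposQ
  · exact_mod_cast h


include hpq hcop hnt hc in
lemma last_eq : hjP c (c.length + 1) = bB p q m ∧ hjQ c (c.length + 1) = tT p q m ∧
    T p q m c c.length = 1 := by
  have h0 := T_last hpq hcop hnt hc
  have hr := T_pos hpq hcop hnt hc c.length le_rfl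
  have hdet := det c c.length
  unfold T at h0 hr
  -- t * P = b * Q
  have h1 : (tT p q m : ℤ) * hjP c (c.length + 1) = (bB p q m : ℤ) * hjQ c (c.length + 1) := by
    linarith
  have hcop' : IsCoprime (bB p q m : ℤ) (tT p q m : ℤ) :=
    Nat.isCoprime_iff_coprime.2 (cop_b_t hpq hcop)
  have h2 : (bB p q m : ℤ) ∣ hjP c (c.length + 1) :=
    hcop'.dvd_of_dvd_mul_left ⟨hjQ c (c.length + 1), h1⟩
  obtain ⟨u, hu⟩ := h2
  have hbpos : (0 : ℤ) < bB p q m := by
    have := (t_pos (m := m) hpq).trans (t_lt_b hpq hcop hnt)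
    exact_mod_cast this
  have h3 : hjQ c (c.length + 1) = (tT p q m : ℤ) * u := by
    rw [hu] at h1
    have : (bB p q m : ℤ) * ((tT p q m : ℤ) * u) = (bB p q m : ℤ) * hjQ c (c.length + 1) := by
      linarith
    exact (mul_left_cancel₀ hbpos.ne' this).symm
  -- 1 = u * T r
  have h4 : u * ((tT p q m : ℤ) * hjP c c.length - (bB p q m : ℤ) * hjQ c c.length) = 1 := by
    rw [hu, h3] at hdet
    linarith
  have hu1 : u = 1 := by
    have hupos : 0 < u := by
      by_contra hcon
      push Not at hcon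
      nlinarith
    have := Int.eq_one_of_mul_eq_one_right hupos.le h4
    exact this
  rw [hu1, one_mul] at h4
  rw [hu1, mul_one] at hu h3
  exact ⟨hu, h3, h4⟩

include hc in
lemma getD_ge (i : ℕ) (hi : i < c.length) : (2 : ℤ) ≤ c.getD i 0 := by
  rw [List.getD_eq_getElem _ _ hi]
  exact hc.1 _ (List.getElem_mem hi)

include hc in
lemma hjP_lt (i : ℕ) (hi : i ≤ c.length) : hjP c i < hjP c (i + 1) ∧ 0 ≤ hjP c i := by
  induction i with
  | zero => simp [hjP]
  | succ i ih =>
    obtain ⟨h1, h2⟩ := ih (Nat.le_of_succ_le hi)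
    have hc2 := getD_ge hc i hi
    rw [hjP_succ_succ]
    constructor
    · nlinarith
    · linarith

include hc in
lemma hjP_pos (i : ℕ) (h0 : 0 < i) (hi : i ≤ c.length + 1) : 0 < hjP c i := by
  obtain ⟨j, rfl⟩ := Nat.exists_eq_succ_of_ne_zero h0.ne'
  have := hjP_lt hc j (by omega)
  linarith


include hpq hcop hnt hc in
/-- no lattice point `(x, t x - b y)` strictly inside the box `(0, P_{j+1}) × [0, t_j)`. -/
lemma rho_ge (j : ℕ) (hj1 : 1 ≤ j) (hjr : j + 1 ≤ c.length) (x y : ℤ) (hx0 : 0 < x)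
    (hx : x < hjP c (j + 1)) (hρ : 0 ≤ (tT p q m : ℤ) * x - (bB p q m : ℤ) * y) :
    T p q m c j ≤ (tT p q m : ℤ) * x - (bB p q m : ℤ) * y := by
  have hdet := det c j
  have hPj : 0 < hjP c j := hjP_pos hc j hj1 (by omega)
  have hPlt : hjP c j < hjP c (j + 1) := (hjP_lt hc j (by omega)).1
  have hT1 : 0 < T p q m c (j + 1) := T_pos hpq hcop hnt hc (j + 1) hjr
  have hTlt : T p q m c (j + 1) < T p q m c j := T_lt hpq hcop hnt hc j hjr
  set u : ℤ := x * hjQ c (j + 1) - y * hjP c (j + 1) with hu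
  set v : ℤ := - x * hjQ c j + y * hjP c j with hv
  have hxe : x = u * hjP c j + v * hjP c (j + 1) := by
    rw [hu, hv]; linear_combination (-x) * hdet
  have hρe : (tT p q m : ℤ) * x - (bB p q m : ℤ) * y =
      u * T p q m c j + v * T p q m c (j + 1) := by
    rw [hu, hv]; unfold T; linear_combination (-((tT p q m : ℤ) * x - (bB p q m : ℤ) * y)) * hdet
  rw [hρe] at hρ ⊢
  by_contra hcon
  push Not at hcon
  rcases lt_trichotomy v 0 with hv0 | hv0 | hv0
  · -- v ≤ -1 : u ≥ -v + 1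
    have hu1 : -v + 1 ≤ u := by
      by_contra h
      push Not at h
      have h1 : u ≤ -v := by omega
      have : u * hjP c j ≤ -v * hjP c j := mul_le_mul_of_nonneg_right h1 hPj.le
      have h2 : -v * hjP c j ≤ -v * hjP c (j + 1) :=
        mul_le_mul_of_nonneg_left hPlt.le (by omega)
      nlinarith
    have h3 : (-v + 1) * T p q m c j ≤ u * T p q m c j :=
      mul_le_mul_of_nonneg_right hu1 (by linarith)
    have h4 : -v * T p q m c (j + 1) ≤ -v * T p q m c j :=
      mul_le_mul_of_nonneg_left hTlt.le (by omega)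
    nlinarith
  · rw [hv0] at hxe hcon
    simp only [zero_mul, add_zero] at hxe hcon
    have hu1 : 1 ≤ u := by
      by_contra h
      push Not at h
      have h1 : u ≤ 0 := by omega
      have : u * hjP c j ≤ 0 := mul_nonpos_of_nonpos_of_nonneg h1 hPj.le
      omega
    have : 1 * T p q m c j ≤ u * T p q m c j := mul_le_mul_of_nonneg_right hu1 (by linarith)
    linarith
  · -- v ≥ 1
    rcases le_or_gt 0 u with hu0 | hu0
    · have h1 : 0 ≤ u * hjP c j := mul_nonneg hu0 hPj.le
      have h2 : 1 * hjP c (j + 1) ≤ v * hjP c (j + 1) :=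
        mul_le_mul_of_nonneg_right (by omega) (by linarith)
      linarith
    · have hu1 : v ≤ -u := by
        by_contra h
        push Not at h
        have h1 : -u ≤ v - 1 := by omega
        have h2 : -u * hjP c j ≤ (v - 1) * hjP c j := mul_le_mul_of_nonneg_right h1 hPj.le
        have h3 : (v - 1) * hjP c j ≤ (v - 1) * hjP c (j + 1) :=
          mul_le_mul_of_nonneg_left hPlt.le (by omega)
        nlinarith
      have h3 : u * T p q m c j ≤ -v * T p q m c j :=
        mul_le_mul_of_nonneg_right (by omega) (by linarith)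
      have h4 : v * T p q m c (j + 1) < v * T p q m c j :=
        mul_lt_mul_of_pos_left hTlt hv0
      nlinarith

include hpq hcop hnt hc in
lemma T_anti (i j : ℕ) (hij : i ≤ j) (hj : j ≤ c.length + 1) : T p q m c j ≤ T p q m c i := by
  induction j with
  | zero =>
    have : i = 0 := by omega
    subst this; exact le_rfl
  | succ j ih =>
    rcases Nat.eq_or_lt_of_le hij with h | h
    · subst h; exact le_rfl
    · have h1 := ih (by omega) (by omega)
      have h2 : T p q m c (j + 1) < T p q m c j := by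
        rcases Nat.lt_or_ge j c.length with h' | h'
        · exact T_lt hpq hcop hnt hc j h'
        · have : j = c.length := by omega
          subst this
          rw [T_last hpq hcop hnt hc]
          exact T_pos hpq hcop hnt hc _ le_rfl
      linarith

include hpq hcop hnt hc in
/-- bounds for `ρ = t x mod b`, `0 < x < P_i`, `1 < i ≤ r`. -/
lemma rho_bounds (i : ℕ) (hi : 1 < i) (hir : i ≤ c.length) (x : ℤ) (hx0 : 0 < x)
    (hx : x < hjP c i) :
    T p q m c (i - 1) ≤ ((tT p q m : ℤ) * x) % (bB p q m : ℤ) ∧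
    ((tT p q m : ℤ) * x) % (bB p q m : ℤ) ≤
      (bB p q m : ℤ) + T p q m c i - T p q m c (i - 1) := by
  obtain ⟨j, rfl⟩ : ∃ j, i = j + 1 := ⟨i - 1, by omega⟩
  simp only [Nat.add_sub_cancel]
  have hbpos : (0 : ℤ) < bB p q m := by
    have := (t_pos (m := m) hpq).trans (t_lt_b hpq hcop hnt)
    exact_mod_cast this
  set y := ((tT p q m : ℤ) * x) / (bB p q m : ℤ) with hy
  have hρe : ((tT p q m : ℤ) * x) % (bB p q m : ℤ) = (tT p q m : ℤ) * x - (bB p q m : ℤ) * y := by
    have := Int.emod_add_mul_ediv ((tT p q m : ℤ) * x) (bB p q m : ℤ)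
    rw [hy]; linarith
  have hρ0 : 0 ≤ ((tT p q m : ℤ) * x) % (bB p q m : ℤ) := Int.emod_nonneg _ hbpos.ne'
  have hρb : ((tT p q m : ℤ) * x) % (bB p q m : ℤ) < bB p q m := Int.emod_lt_of_pos _ hbpos
  rw [hρe] at hρ0 hρb ⊢
  have h1 := rho_ge hpq hcop hnt hc j (by omega) hir x y hx0 hx hρ0
  refine ⟨h1, ?_⟩
  have hT1 : 0 < T p q m c (j + 1) := T_pos hpq hcop hnt hc (j + 1) hir
  have h2 := rho_ge hpq hcop hnt hc j (by omega) hir (hjP c (j + 1) - x)
    (hjQ c (j + 1) - y - 1) (by linarith) (by linarith) (by unfold T at hT1; nlinarith)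
  unfold T at h2 hT1 ⊢
  linarith


lemma eE_sub_lL (c : List ℤ) (i : ℕ) : eE p q m c i - lL p q m c i = (m : ℤ) * hjP c i := by
  simp only [eE, lL]; push_cast; ring

lemma D_mul_lL (c : List ℤ) (i : ℕ) :
    ((q : ℤ) - p) * lL p q m c i = nN p q m c i + (p : ℤ) * m * hjP c i := by
  have h := eE_sub_lL (p := p) (q := q) (m := m) c i
  have : eE p q m c i = lL p q m c i + (m : ℤ) * hjP c i := by linarith
  simp only [nN]
  rw [this]; ring

include hpq hcop hnt hc in
lemma hjQ_lt_hjP (i : ℕ) (hi1 : 1 ≤ i) (hir : i ≤ c.length) : hjQ c i < hjP c i := by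
  have h1 := T_pos hpq hcop hnt hc i hir
  have h2 := hjP_pos hc i hi1 (by omega)
  have h3 : (tT p q m : ℤ) < bB p q m := by exact_mod_cast t_lt_b hpq hcop hnt
  have hbpos : (0 : ℤ) < bB p q m := by
    have := (t_pos (m := m) hpq).trans (t_lt_b hpq hcop hnt)
    exact_mod_cast this
  unfold T at h1
  by_contra hcon
  push Not at hcon
  have h4 : (bB p q m : ℤ) * hjP c i ≤ (bB p q m : ℤ) * hjQ c i :=
    mul_le_mul_of_nonneg_left hcon hbpos.le
  have h5 : (tT p q m : ℤ) * hjP c i < (bB p q m : ℤ) * hjP c i :=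
    mul_lt_mul_of_pos_right h3 h2
  linarith

include hpq hcop hnt hc in
lemma lL_pos (i : ℕ) (hi1 : 1 ≤ i) (hir : i ≤ c.length) : 0 < lL p q m c i := by
  have h1 := hjQ_lt_hjP hpq hcop hnt hc i hi1 hir
  have h2 := hjP_pos hc i hi1 (by omega)
  simp only [lL]
  push_cast
  have : (0 : ℤ) ≤ (alpha p q m : ℤ) * hjP c i := mul_nonneg (by positivity) h2.le
  linarith

include hpq hcop hnt hc in
lemma eE_pos (i : ℕ) (hi1 : 1 ≤ i) (hir : i ≤ c.length) : 0 < eE p q m c i := by
  have h1 := lL_pos hpq hcop hnt hc i hi1 hir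
  have h2 := hjP_pos hc i hi1 (by omega)
  have h3 := eE_sub_lL (p := p) (q := q) (m := m) c i
  have : (0 : ℤ) ≤ (m : ℤ) * hjP c i := mul_nonneg (by positivity) h2.le
  linarith

include hpq hcop hm hnt hc in
lemma nN_nonneg (i : ℕ) (hir : i ≤ c.length + 1) : 0 ≤ nN p q m c i := by
  rw [nN_eq hpq]
  have hg : (0 : ℤ) < gcdK p q m := by exact_mod_cast g_pos (p := p) (q := q) hm
  rcases Nat.lt_or_ge i (c.length + 1) with h | h
  · exact mul_nonneg hg.le (T_pos hpq hcop hnt hc i (by omega)).le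
  · have : i = c.length + 1 := by omega
    subst this
    rw [T_last hpq hcop hnt hc, mul_zero]

include hpq hcop hm hnt hc in
lemma nN_lt (i : ℕ) (hi1 : 1 ≤ i) (hir : i ≤ c.length + 1) : nN p q m c i < (q : ℤ) - p := by
  rw [nN_eq hpq]
  have hg : (0 : ℤ) < gcdK p q m := by exact_mod_cast g_pos (p := p) (q := q) hm
  have h1 := T_anti hpq hcop hnt hc 1 i hi1 hir
  rw [T_one] at h1
  have h3 : (tT p q m : ℤ) < bB p q m := by exact_mod_cast t_lt_b hpq hcop hnt
  have h2 : ((gcdK p q m : ℕ) : ℤ) * (bB p q m : ℤ) = (q : ℤ) - p := by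
    have := g_mul_b (p := p) (q := q) (m := m)
    rw [← Nat.cast_sub hpq.le, ← this]
    push_cast
    ring
  rw [← h2]
  exact mul_lt_mul_of_pos_left (by linarith) hg

end main

end Groth.Agent.Lib.helper11.HJ
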