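import Mathlib
import Groth.Agent.Lib.Helper11.HensCouple3
import Groth.Agent.Lib.Helper12.HenselPair

set_option autoImplicit false
universe u
open CategoryTheory CategoryTheory.Limits AlgebraicGeometry Opposite TopologicalSpace

namespace Groth.Agent.Lib.helper11.HensCouple

section Final

variable {A : Type u} [CommRing A]

/-- preimage of `V(I)` under `Spec φ` -/
theorem specMap_mem_zeroLocus_iff {B : Type u} [CommRing B] (φ : A →+* B) (I : Ideal A)
    (p : Spec (CommRingCat.of B)) :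
    (Spec.map (CommRingCat.ofHom φ)) p ∈ PrimeSpectrum.zeroLocus (I : Set A) ↔
      p ∈ PrimeSpectrum.zeroLocus (I.map φ : Set B) := by
  let p' : PrimeSpectrum B := p
  show PrimeSpectrum.comap φ p' ∈ PrimeSpectrum.zeroLocus (I : Set A) ↔
    p' ∈ PrimeSpectrum.zeroLocus (I.map φ : Set B)
  rw [PrimeSpectrum.mem_zeroLocus, PrimeSpectrum.mem_zeroLocus, SetLike.coe_subset_coe,
    SetLike.coe_subset_coe, Ideal.map_le_iff_le_comap]
  rfl

variable (I : Ideal A) {X : Scheme.{u}} (f : X ⟶ Spec (CommRingCat.of A))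

/-- the closed subscheme `X₀ = X ×_A A/I` -/
noncomputable abbrev i₀ : pullback f (Spec.map (CommRingCat.ofHom (Ideal.Quotient.mk I))) ⟶ X :=
  pullback.fst f (Spec.map (CommRingCat.ofHom (Ideal.Quotient.mk I)))

theorem range_i₀ : Set.range (i₀ I f) = f ⁻¹' PrimeSpectrum.zeroLocus (I : Set A) := by
  rw [Scheme.Pullback.range_fst]
  congr 1
  show Set.range (PrimeSpectrum.comap (Ideal.Quotient.mk I)) = _
  rw [range_comap_of_surjective _ (Ideal.Quotient.mk I) Ideal.Quotient.mk_surjective, Ideal.mk_ker]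

theorem range_fst_i₀ {Y : Scheme.{u}} (g : Y ⟶ X) :
    Set.range (pullback.fst g (i₀ I f)) = (g ≫ f) ⁻¹' PrimeSpectrum.zeroLocus (I : Set A) := by
  rw [Scheme.Pullback.range_fst, range_i₀]
  rfl

instance : IsClosedImmersion (Spec.map (CommRingCat.ofHom (Ideal.Quotient.mk I))) :=
  IsClosedImmersion.spec_of_surjective _ Ideal.Quotient.mk_surjective

variable [IsNoetherianRing A] [IsProper f]

/-- **S17961.** -/
theorem henselianCouple_of_henselianRing (hI : HenselianRing A I) (Y : Scheme.{u}) (g : Y ⟶ X)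
    (hg : IsFinite g) (V : Set ↥(pullback g (i₀ I f))) (hV : IsClopen V) :
    ∃! U : Set ↥Y, IsClopen U ∧ (pullback.fst g (i₀ I f)).base ⁻¹' U = V := by
  haveI := hg
  haveI : IsProper (g ≫ f) := inferInstance
  exact existsUnique_clopen I hI (g ≫ f) (pullback.fst g (i₀ I f))
    (pullback.fst g (i₀ I f)).isClosedEmbedding (range_fst_i₀ I f g) V hV

/-- the structure map `A → Γ(X, O_X)` -/
noncomputable abbrev φΓ : A →+* Γ(X, ⊤) :=
  ((Scheme.ΓSpecIso (CommRingCat.of A)).inv ≫ f.appTop).hom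

omit [IsNoetherianRing A] [IsProper f] in
theorem toSpecΓ_comp : X.toSpecΓ ≫ Spec.map (CommRingCat.ofHom (φΓ f)) = f := by
  have e : CommRingCat.ofHom (φΓ f) = (Scheme.ΓSpecIso (CommRingCat.of A)).inv ≫ f.appTop := rfl
  rw [e, Spec.map_comp, ← Scheme.toSpecΓ_naturality_assoc, toSpecΓ_SpecMap_ΓSpecIso_inv,
    Category.comp_id]

omit [IsNoetherianRing A] [IsProper f] in
theorem map_φΓ_le_ker : I.map (φΓ f) ≤ RingHom.ker (i₀ I f).appTop.hom := by
  rw [Ideal.map_le_iff_le_comap]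
  intro a ha
  rw [Ideal.mem_comap, RingHom.mem_ker]
  have hcond : i₀ I f ≫ f = pullback.snd f (Spec.map (CommRingCat.ofHom (Ideal.Quotient.mk I))) ≫
      Spec.map (CommRingCat.ofHom (Ideal.Quotient.mk I)) := pullback.condition
  have h1 : (Scheme.ΓSpecIso (CommRingCat.of A)).inv ≫ f.appTop ≫ (i₀ I f).appTop =
      CommRingCat.ofHom (Ideal.Quotient.mk I) ≫ (Scheme.ΓSpecIso (CommRingCat.of (A ⧸ I))).inv ≫
        (pullback.snd f (Spec.map (CommRingCat.ofHom (Ideal.Quotient.mk I)))).appTop := by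
    rw [← Scheme.Hom.comp_appTop, hcond, Scheme.Hom.comp_appTop, Scheme.ΓSpecIso_inv_naturality_assoc]
  have h2 := congr($(h1).hom a)
  simp only [CommRingCat.hom_comp, RingHom.coe_comp, Function.comp_apply, CommRingCat.hom_ofHom] at h2
  show (i₀ I f).appTop.hom (f.appTop.hom ((Scheme.ΓSpecIso (CommRingCat.of A)).inv.hom a)) = 0
  rw [h2, Ideal.Quotient.eq_zero_iff_mem.mpr ha, map_zero, map_zero]

/-- **S17960.** -/
theorem henselianCouple_of_henselianRing_sections
    (hJ : HenselianRing (Γ(X, ⊤) : Type u) (RingHom.ker (i₀ I f).appTop.hom))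
    (Y : Scheme.{u}) (g : Y ⟶ X)
    (hg : IsFinite g) (V : Set ↥(pullback g (i₀ I f))) (hV : IsClopen V) :
    ∃! U : Set ↥Y, IsClopen U ∧ (pullback.fst g (i₀ I f)).base ⁻¹' U = V := by
  haveI := hg
  -- `B = Γ(X, O_X)` is Noetherian
  haveI : IsNoetherianRing Γ(Spec (CommRingCat.of A), ⊤) :=
    isNoetherianRing_of_ringEquiv A
      (Scheme.ΓSpecIso (CommRingCat.of A)).symm.commRingCatIsoToRingEquiv
  have hfin : f.appTop.hom.Finite := Groth.Agent.Lib.helper8.ZConn.finite_appTop_of_isProper f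
  haveI : IsNoetherianRing Γ(X, ⊤) := by
    letI := f.appTop.hom.toAlgebra
    haveI : Module.Finite Γ(Spec (CommRingCat.of A), ⊤) Γ(X, ⊤) := hfin
    exact isNoetherian_of_isNoetherianRing_of_finite Γ(Spec (CommRingCat.of A), ⊤) Γ(X, ⊤) |>
      fun h => (isNoetherianRing_iff.mpr (isNoetherian_of_tower Γ(Spec (CommRingCat.of A), ⊤) h))
  have hI' : HenselianRing (Γ(X, ⊤) : Type u) (I.map (φΓ f)) :=
    Groth.Agent.Lib.helper12.henselianRing_of_le hJ (map_φΓ_le_ker I f)
  haveI : IsProper (X.toSpecΓ ≫ Spec.map (CommRingCat.ofHom (φΓ f))) := by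
    rw [toSpecΓ_comp]; infer_instance
  haveI : IsProper X.toSpecΓ := IsProper.of_comp X.toSpecΓ (Spec.map (CommRingCat.ofHom (φΓ f)))
  haveI : IsProper (g ≫ X.toSpecΓ) := inferInstance
  refine existsUnique_clopen (I.map (φΓ f)) hI' (g ≫ X.toSpecΓ) (pullback.fst g (i₀ I f))
    (pullback.fst g (i₀ I f)).isClosedEmbedding ?_ V hV
  rw [range_fst_i₀]
  ext y
  simp only [Set.mem_preimage]
  have hy : (g ≫ f) y = (Spec.map (CommRingCat.ofHom (φΓ f))) ((g ≫ X.toSpecΓ) y) := by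
    rw [← Scheme.Hom.comp_apply, Category.assoc, toSpecΓ_comp]
  rw [hy]
  exact specMap_mem_zeroLocus_iff (φΓ f) I _

end Final

end Groth.Agent.Lib.helper11.HensCouple
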