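import Mathlib
import Groth.Agent.Lib.Helper26.HenselPairIdem

/-!
# Henselian couples and global sections (helper11)

`X` qcqs, `i : X₀ ⟶ X` a closed immersion such that `(X, X₀)` is a henselian couple (clopens lift
uniquely along finite morphisms).  Then `(Γ(X, O_X), ker(Γ(X, O_X) → Γ(X₀, O_{X₀})))` is a henselian pair
(`henselianRing`, = S17959).  Ingredients: Mathlib's flat base change for global sections
(`isIso_pushoutSection_of_isQuasiSeparated_of_flat_right`), clopens ↔ idempotent global functions,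
helper26's `gabber_root_of_idempotent`.
-/

set_option autoImplicit false
universe u
open CategoryTheory CategoryTheory.Limits AlgebraicGeometry Opposite TopologicalSpace TensorProduct

namespace Groth.Agent.Lib.helper11.HensGamma

section Idem

variable {X : Scheme.{u}}

/-- gluing `1` on `A` and `0` on `B` for disjoint opens (copy of helper2 `Pi0.exists_idem`). -/
theorem exists_idem (A B : X.Opens) (hAB : A ⊓ B = ⊥) :
    ∃ e : Γ(X, A ⊔ B), X.presheaf.map (homOfLE (le_sup_left : A ≤ A ⊔ B)).op e = 1 ∧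
      X.presheaf.map (homOfLE (le_sup_right : B ≤ A ⊔ B)).op e = 0 := by
  haveI : Subsingleton (X.sheaf.obj.obj (op (A ⊓ B))) := by
    rw [hAB]; exact (inferInstance : Subsingleton Γ(X, ⊥))
  refine ⟨(X.sheaf.objSupIsoProdEqLocus A B).inv ⟨(1, 0), Subsingleton.elim _ _⟩, ?_, ?_⟩
  · exact TopCat.Sheaf.objSupIsoProdEqLocus_inv_fst X.sheaf A B _
  · exact TopCat.Sheaf.objSupIsoProdEqLocus_inv_snd X.sheaf A B _

/-- the complement of the non-vanishing locus of an idempotent. -/
theorem compl_basicOpen_of_idempotent (ε : Γ(X, ⊤)) (hε : IsIdempotentElem ε) :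
    (X.basicOpen ε : Set X)ᶜ = (X.basicOpen (1 - ε) : Set X) := by
  have hε' : ε * ε = ε := hε
  ext x
  simp only [Set.mem_compl_iff, SetLike.mem_coe]
  constructor
  · intro hx
    rw [Scheme.mem_basicOpen_top] at hx ⊢
    have h1 : X.presheaf.germ ⊤ x trivial (1 - ε) = 1 - X.presheaf.germ ⊤ x trivial ε := by
      rw [map_sub, map_one]
    rw [h1]
    exact IsLocalRing.isUnit_one_sub_self_of_mem_nonunits _ hx
  · intro hx hx'
    have h2 : x ∈ X.basicOpen (ε * (1 - ε)) := by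
      rw [Scheme.basicOpen_mul]
      exact ⟨hx', hx⟩
    have h3 : ε * (1 - ε) = 0 := by rw [mul_sub, mul_one, hε', sub_self]
    rw [h3, Scheme.basicOpen_zero] at h2
    exact h2

theorem isClopen_basicOpen_of_idempotent (ε : Γ(X, ⊤)) (hε : IsIdempotentElem ε) :
    IsClopen (X.basicOpen ε : Set X) := by
  refine ⟨?_, (X.basicOpen ε).2⟩
  rw [← isOpen_compl_iff, compl_basicOpen_of_idempotent ε hε]
  exact (X.basicOpen (1 - ε)).2

/-- every clopen subset is the non-vanishing locus of an idempotent global function. -/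
theorem exists_idempotent_of_isClopen (U : Set X) (hU : IsClopen U) :
    ∃ e : Γ(X, ⊤), IsIdempotentElem e ∧ (X.basicOpen e : Set X) = U := by
  let A : X.Opens := ⟨U, hU.2⟩
  let B : X.Opens := ⟨Uᶜ, hU.1.isOpen_compl⟩
  have hAB : A ⊓ B = ⊥ := by
    ext x
    simp only [Opens.coe_inf, Opens.coe_bot, Set.mem_inter_iff, Set.mem_empty_iff_false, iff_false]
    rintro ⟨h1, h2⟩
    exact h2 h1
  have hsup : A ⊔ B = ⊤ := by
    ext x
    simp only [Opens.coe_sup, Opens.coe_top, Set.mem_union, Set.mem_univ, iff_true]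
    exact Classical.em _
  obtain ⟨e₀, h1, h0⟩ := exists_idem A B hAB
  let e : Γ(X, ⊤) := X.presheaf.map (homOfLE hsup.ge).op e₀
  have hA : X.presheaf.map (homOfLE (le_top : A ≤ ⊤)).op e = 1 := by
    rw [← h1]
    show (X.presheaf.map (homOfLE hsup.ge).op ≫ X.presheaf.map (homOfLE (le_top : A ≤ ⊤)).op) e₀ = _
    rw [← X.presheaf.map_comp]
    rfl
  have hB : X.presheaf.map (homOfLE (le_top : B ≤ ⊤)).op e = 0 := by
    rw [← h0]
    show (X.presheaf.map (homOfLE hsup.ge).op ≫ X.presheaf.map (homOfLE (le_top : B ≤ ⊤)).op) e₀ = _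
    rw [← X.presheaf.map_comp]
    rfl
  -- `e * e = e` by locality
  have hee : e * e = e := by
    apply X.sheaf.eq_of_locally_eq₂ (homOfLE (le_top : A ≤ ⊤)) (homOfLE (le_top : B ≤ ⊤)) hsup.ge
    · show X.presheaf.map (homOfLE (le_top : A ≤ ⊤)).op (e * e) = X.presheaf.map (homOfLE (le_top : A ≤ ⊤)).op e
      rw [map_mul, hA, mul_one]
    · show X.presheaf.map (homOfLE (le_top : B ≤ ⊤)).op (e * e) = X.presheaf.map (homOfLE (le_top : B ≤ ⊤)).op e
      rw [map_mul, hB, mul_zero]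
  refine ⟨e, hee, ?_⟩
  ext x
  simp only [SetLike.mem_coe]
  constructor
  · intro hx
    by_contra hxU
    have hxB : x ∈ B := hxU
    have : x ∈ X.basicOpen (X.presheaf.map (homOfLE (le_top : B ≤ ⊤)).op e) := by
      rw [Scheme.basicOpen_res]
      exact ⟨hxB, hx⟩
    rw [hB, Scheme.basicOpen_zero] at this
    exact this
  · intro hxU
    have hxA : x ∈ A := hxU
    have : x ∈ X.basicOpen (X.presheaf.map (homOfLE (le_top : A ≤ ⊤)).op e) := by
      rw [hA, Scheme.basicOpen_of_isUnit _ isUnit_one]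
      exact hxA
    rw [Scheme.basicOpen_res] at this
    exact this.2

/-- idempotent global functions on a quasi-compact scheme with the same non-vanishing locus agree. -/
theorem idempotent_eq_of_basicOpen_eq [CompactSpace X] (e e' : Γ(X, ⊤)) (he : IsIdempotentElem e)
    (he' : IsIdempotentElem e') (h : X.basicOpen e = X.basicOpen e') : e = e' := by
  have key : ∀ a b : Γ(X, ⊤), IsIdempotentElem a → IsIdempotentElem b →
      X.basicOpen a = X.basicOpen b → a * (1 - b) = 0 := by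
    intro a b ha hb hab
    have hidem : IsIdempotentElem (a * (1 - b)) := ha.mul hb.one_sub
    have hbot : X.basicOpen (a * (1 - b)) = ⊥ := by
      rw [Scheme.basicOpen_mul, hab, ← Scheme.basicOpen_mul]
      have : b * (1 - b) = 0 := by rw [mul_sub, mul_one, hb.eq, sub_self]
      rw [this, Scheme.basicOpen_zero]
    have hnil : IsNilpotent (a * (1 - b)) := (Scheme.isNilpotent_iff_basicOpen_eq_bot _).mpr hbot
    obtain ⟨n, hn⟩ := hnil
    cases n with
    | zero =>
      rw [pow_zero] at hn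
      have : Subsingleton Γ(X, ⊤) := subsingleton_of_zero_eq_one hn.symm
      exact Subsingleton.elim _ _
    | succ n => rw [← hidem.pow_succ_eq n, hn]
  have h1 := key e e' he he' h
  have h2 := key e' e he' he h.symm
  have h3 : e = e * e' := by linear_combination h1
  have h4 : e' = e' * e := by linear_combination h2
  calc e = e * e' := h3
    _ = e' * e := mul_comm _ _
    _ = e' := h4.symm

end Idem

section Alg

/-- for a flat `R`-algebra `C`, the kernel of `C → R₀ ⊗ C` is `ker(R → R₀) C`. -/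
theorem mem_map_ker_of_one_tmul_eq_zero (R R₀ C : Type u) [CommRing R] [CommRing R₀] [CommRing C]
    [Algebra R R₀] [Algebra R C] [Module.Flat R C] (x : C) (hx : (1 : R₀) ⊗ₜ[R] x = 0) :
    x ∈ (RingHom.ker (algebraMap R R₀)).map (algebraMap R C) := by
  set J : Ideal R := RingHom.ker (algebraMap R R₀) with hJ
  let ι : (R ⧸ J) →ₗ[R] R₀ := Submodule.liftQ J (Algebra.linearMap R R₀) (by
    intro r hr
    rw [LinearMap.mem_ker, Algebra.linearMap_apply]
    exact hr)
  have hι : Function.Injective ι := by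
    rw [← LinearMap.ker_eq_bot, Submodule.ker_liftQ_eq_bot']
    ext r
    rw [LinearMap.mem_ker, Algebra.linearMap_apply]
    rfl
  have hinj := Module.Flat.rTensor_preserves_injective_linearMap (M := C) ι hι
  have h1 : ι.rTensor C ((1 : R ⧸ J) ⊗ₜ[R] x) = 0 := by
    rw [LinearMap.rTensor_tmul]
    have : ι (1 : R ⧸ J) = 1 := by
      show ι (Submodule.Quotient.mk 1) = 1
      rw [Submodule.liftQ_apply, Algebra.linearMap_apply, map_one]
    rw [this, hx]
  have h2 : ((1 : R ⧸ J) ⊗ₜ[R] x) = 0 := hinj (by rw [h1, map_zero])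
  have h3 := TensorProduct.quotTensorEquivQuotSMul_mk_one_tmul (M := C) J x
  rw [h2, map_zero] at h3
  have h4 : x ∈ (J • ⊤ : Submodule R C) := (Submodule.Quotient.mk_eq_zero _).mp h3.symm
  rw [Ideal.smul_top_eq_map] at h4
  exact h4

theorem mem_map_ker_of_pushout_inr_eq_zero {R R₀ C : CommRingCat.{u}} (a : R ⟶ R₀) (c : R ⟶ C)
    (hc : c.hom.Flat) (x : C) (hx : (pushout.inr a c).hom x = 0) :
    x ∈ (RingHom.ker a.hom).map c.hom := by
  algebraize [a.hom, c.hom]
  have hP := CommRingCat.isPushout_tensorProduct R R₀ C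
  have h1 : hP.isoPushout.hom.hom ((1 : R₀) ⊗ₜ[R] x) = (pushout.inr a c).hom x :=
    congr($(hP.inr_isoPushout_hom).hom x)
  have h2 : ((1 : R₀) ⊗ₜ[R] x) = 0 := by
    have hinj : Function.Injective hP.isoPushout.hom.hom :=
      (ConcreteCategory.bijective_of_isIso hP.isoPushout.hom).1
    apply hinj
    rw [h1, hx, map_zero]
  exact mem_map_ker_of_one_tmul_eq_zero R R₀ C x h2

end Alg

section FBC

variable {Z W T S : Scheme.{u}} {a : Z ⟶ S} {φ : T ⟶ S} {pZ : W ⟶ Z}
  {pT : W ⟶ T} (H : IsPullback pZ pT a φ)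

include H

/-- flat base change of global sections, injectivity part: for `Z` quasi-compact and `T → S` a flat
morphism of affine schemes, the kernel of `Γ(T) → Γ(Z ×_S T)` is generated by the kernel of
`Γ(S) → Γ(Z)`. -/
theorem mem_map_ker_of_appTop_eq_zero [CompactSpace Z] [IsAffine S] [IsAffine T] [Flat φ]
    (y : Γ(T, ⊤)) (hy : pT.appTop.hom y = 0) :
    y ∈ (RingHom.ker a.appTop.hom).map φ.appTop.hom := by
  have hUST : (⊤ : T.Opens) ≤ φ ⁻¹ᵁ ⊤ := le_of_eq rfl
  have hUSX : (⊤ : Z.Opens) ≤ a ⁻¹ᵁ ⊤ := le_of_eq rfl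
  have hUY : (⊤ : W.Opens) = pZ ⁻¹ᵁ ⊤ ⊓ pT ⁻¹ᵁ ⊤ := by simp
  have hm : Mono (pushoutSection H hUST hUSX hUY) :=
    mono_pushoutSection_of_isCompact_of_flat_right H hUST hUSX hUY (isAffineOpen_top _)
      (isAffineOpen_top _) (CompactSpace.isCompact_univ)
  have hinj : Function.Injective (pushoutSection H hUST hUSX hUY).hom :=
    (ConcreteCategory.mono_iff_injective_of_preservesPullback _).mp hm
  have hA : a.appLE ⊤ ⊤ hUSX = a.appTop := a.appLE_eq_app
  have hF : φ.appLE ⊤ ⊤ hUST = φ.appTop := φ.appLE_eq_app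
  have hT : pT.appLE ⊤ ⊤ (le_of_eq rfl) = pT.appTop := pT.appLE_eq_app
  have hcomp : pushout.inr (a.appLE ⊤ ⊤ hUSX) (φ.appLE ⊤ ⊤ hUST) ≫
      pushoutSection H hUST hUSX hUY = pT.appLE ⊤ ⊤ (le_of_eq rfl) := pushout.inr_desc _ _ _
  have hflat : (φ.appLE ⊤ ⊤ hUST).hom.Flat := φ.flat_appLE (isAffineOpen_top _) (isAffineOpen_top _) _
  have h0 : (pushout.inr (a.appLE ⊤ ⊤ hUSX) (φ.appLE ⊤ ⊤ hUST)).hom y = 0 := by
    apply hinj
    rw [map_zero]
    have := congr($(hcomp).hom y)
    rw [CommRingCat.hom_comp, RingHom.comp_apply] at this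
    rw [this, hT, hy]
  have := mem_map_ker_of_pushout_inr_eq_zero _ _ hflat y h0
  rwa [hA, hF] at this

/-- flat base change of global sections: if `Γ(S) → Γ(Z)` is an isomorphism, `Z` qcqs, `T → S` flat
morphism of affine schemes, then `Γ(T) → Γ(Z ×_S T)` is an isomorphism. -/
theorem isIso_appTop_of_isIso [CompactSpace Z] [QuasiSeparatedSpace Z] [IsAffine S] [IsAffine T]
    [Flat φ] [ha : IsIso a.appTop] : IsIso pT.appTop := by
  have hUST : (⊤ : T.Opens) ≤ φ ⁻¹ᵁ ⊤ := le_of_eq rfl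
  have hUSX : (⊤ : Z.Opens) ≤ a ⁻¹ᵁ ⊤ := le_of_eq rfl
  have hUY : (⊤ : W.Opens) = pZ ⁻¹ᵁ ⊤ ⊓ pT ⁻¹ᵁ ⊤ := by simp
  have hm : IsIso (pushoutSection H hUST hUSX hUY) :=
    isIso_pushoutSection_of_isQuasiSeparated_of_flat_right H hUST hUSX hUY (isAffineOpen_top _)
      (isAffineOpen_top _) (CompactSpace.isCompact_univ) isQuasiSeparated_univ
  have hA : a.appLE ⊤ ⊤ hUSX = a.appTop := a.appLE_eq_app
  have hT : pT.appLE ⊤ ⊤ (le_of_eq rfl) = pT.appTop := pT.appLE_eq_app
  have hcomp : pushout.inr (a.appLE ⊤ ⊤ hUSX) (φ.appLE ⊤ ⊤ hUST) ≫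
      pushoutSection H hUST hUSX hUY = pT.appLE ⊤ ⊤ (le_of_eq rfl) := pushout.inr_desc _ _ _
  haveI : IsIso (a.appLE ⊤ ⊤ hUSX) := hA ▸ ha
  rw [← hT, ← hcomp]
  infer_instance

end FBC

section Main

open Polynomial Groth.Agent.Lib.helper26.HenselPair

variable {X X₀ : Scheme.{u}} (i : X₀ ⟶ X)
  (hX : ∀ (Y : Scheme.{u}) (g : Y ⟶ X), IsFinite g →
      ∀ V : Set ↥(pullback g i), IsClopen V →
        ∃! U : Set ↥Y, IsClopen U ∧ (pullback.fst g i).base ⁻¹' U = V)

include hX

/-- a global function which restricts to `1` on `X₀` is a unit. -/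
theorem isUnit_of_appTop_eq_one (s : Γ(X, ⊤)) (hs : i.appTop.hom s = 1) : IsUnit s := by
  let q : Γ(X, ⊤) ⟶ CommRingCat.of (Γ(X, ⊤) ⧸ Ideal.span {s}) :=
    CommRingCat.ofHom (Ideal.Quotient.mk (Ideal.span {s}))
  haveI : IsClosedImmersion (Spec.map q) :=
    IsClosedImmersion.spec_of_surjective q Ideal.Quotient.mk_surjective
  let g := pullback.fst X.toSpecΓ (Spec.map q)
  have hrange : Set.range g = (X.basicOpen s : Set X)ᶜ := by
    rw [Scheme.Pullback.range_fst]
    have h1 : Set.range (Spec.map q) = PrimeSpectrum.zeroLocus {s} := by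
      show Set.range (PrimeSpectrum.comap (Ideal.Quotient.mk (Ideal.span {s}))) = _
      rw [range_comap_of_surjective _ _ Ideal.Quotient.mk_surjective, Ideal.mk_ker,
        PrimeSpectrum.zeroLocus_span]
    rw [h1]
    ext x
    simp only [Set.mem_preimage, Set.mem_compl_iff, SetLike.mem_coe]
    rw [← Scheme.toSpecΓ_preimage_basicOpen]
    let px : PrimeSpectrum Γ(X, ⊤) := X.toSpecΓ x
    show px ∈ PrimeSpectrum.zeroLocus {s} ↔ ¬ px ∈ PrimeSpectrum.basicOpen s
    rw [PrimeSpectrum.mem_zeroLocus, Set.singleton_subset_iff, PrimeSpectrum.mem_basicOpen, not_not]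
    rfl
  -- `pullback g i` is empty
  have hempty : IsEmpty ↥(pullback g i) := by
    constructor
    intro z
    have hz : g ((pullback.fst g i) z) = i ((pullback.snd g i) z) := by
      rw [← Scheme.Hom.comp_apply, ← Scheme.Hom.comp_apply, pullback.condition]
    have h1 : g ((pullback.fst g i) z) ∈ (X.basicOpen s : Set X)ᶜ := by
      rw [← hrange]; exact ⟨_, rfl⟩
    apply h1
    rw [hz]
    have h2 : i ⁻¹ᵁ X.basicOpen s = ⊤ := by
      rw [Scheme.preimage_basicOpen]
      have : i.app ⊤ s = 1 := hs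
      rw [this]
      exact Scheme.basicOpen_of_isUnit _ isUnit_one
    have h3 : (pullback.snd g i) z ∈ i ⁻¹ᵁ X.basicOpen s := by rw [h2]; trivial
    exact h3
  obtain ⟨U, -, hU⟩ := hX _ g inferInstance ∅ isClopen_empty
  have e1 := hU ∅ ⟨isClopen_empty, Set.eq_empty_of_isEmpty _⟩
  have e2 := hU Set.univ ⟨isClopen_univ, Set.eq_empty_of_isEmpty _⟩
  have hYempty : IsEmpty ↥(pullback X.toSpecΓ (Spec.map q)) := by
    rw [← Set.univ_eq_empty_iff, e2, e1]
  have hr : Set.range g = ∅ := Set.range_eq_empty _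
  rw [hrange, Set.compl_empty_iff] at hr
  apply X.toRingedSpace.isUnit_of_isUnit_germ
  intro x hxU
  have hx : x ∈ X.basicOpen s := by
    show x ∈ (X.basicOpen s : Set X)
    rw [hr]; trivial
  exact (X.mem_basicOpen s x hxU).mp hx

/-- core: for a monic `f` over `B = Γ(X, O_X)` and `t` the root in `C = B[T]/f`, if `τ = t|_{Y₀}`
satisfies `τⁿ(τ-1) = 0`, there is an idempotent `e ∈ C` congruent to `tⁿ` modulo `JC`. -/
theorem exists_idempotent_adjoinRoot [IsClosedImmersion i] [CompactSpace X] [QuasiSeparatedSpace X]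
    (f : (Γ(X, ⊤))[X]) (hf : f.Monic) (n : ℕ)
    (hfn : (AdjoinRoot.root f) ^ n * (AdjoinRoot.root f - 1) ∈
      (RingHom.ker i.appTop.hom).map (algebraMap Γ(X, ⊤) (AdjoinRoot f))) :
    ∃ e : AdjoinRoot f, IsIdempotentElem e ∧
      e - (AdjoinRoot.root f) ^ n ∈ (RingHom.ker i.appTop.hom).map (algebraMap Γ(X, ⊤) (AdjoinRoot f)) := by
  set J : Ideal Γ(X, ⊤) := RingHom.ker i.appTop.hom with hJ
  let C : CommRingCat.{u} := CommRingCat.of (AdjoinRoot f)
  let c : Γ(X, ⊤) ⟶ C := CommRingCat.ofHom (algebraMap Γ(X, ⊤) (AdjoinRoot f))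
  let φ : Spec C ⟶ Spec Γ(X, ⊤) := Spec.map c
  haveI : Module.Free Γ(X, ⊤) (AdjoinRoot f) := hf.free_adjoinRoot
  haveI : Module.Finite Γ(X, ⊤) (AdjoinRoot f) := hf.finite_adjoinRoot
  have hcflat : c.hom.Flat := by
    show (algebraMap Γ(X, ⊤) (AdjoinRoot f)).Flat
    rw [RingHom.flat_algebraMap_iff]
    infer_instance
  have hcfin : c.hom.Finite := by
    show (algebraMap Γ(X, ⊤) (AdjoinRoot f)).Finite
    rw [RingHom.finite_algebraMap]
    infer_instance
  haveI : Flat φ := (Flat.SpecMap_iff).mpr hcflat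
  haveI : IsFinite φ := (IsFinite.SpecMap_iff c).mpr hcfin
  let g := pullback.fst X.toSpecΓ φ
  let pT := pullback.snd X.toSpecΓ φ
  have H : IsPullback g pT X.toSpecΓ φ := IsPullback.of_hasPullback _ _
  haveI : IsIso X.toSpecΓ.appTop := by rw [Scheme.toSpecΓ_appTop]; infer_instance
  haveI hisoT : IsIso pT.appTop := isIso_appTop_of_isIso H
  -- the `X₀`-side
  let Y₀ := pullback g i
  have H₀ : IsPullback (pullback.snd g i) (pullback.fst g i ≫ pT) (i ≫ X.toSpecΓ) φ :=
    (IsPullback.of_hasPullback g i).flip.paste_vert H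
  haveI : CompactSpace X₀ := QuasiCompact.compactSpace_of_compactSpace i
  haveI : CompactSpace ↥(pullback X.toSpecΓ φ) := QuasiCompact.compactSpace_of_compactSpace g
  haveI : CompactSpace ↥Y₀ := QuasiCompact.compactSpace_of_compactSpace (pullback.fst g i)
  -- ring maps out of `C`
  let γ : AdjoinRoot f →+* Γ(Spec C, ⊤) := (Scheme.ΓSpecIso C).inv.hom
  let θ : AdjoinRoot f →+* Γ(pullback X.toSpecΓ φ, ⊤) := pT.appTop.hom.comp γ
  let ρ : AdjoinRoot f →+* Γ(Y₀, ⊤) := (pullback.fst g i).appTop.hom.comp θ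
  have hγbij : Function.Bijective γ := ConcreteCategory.bijective_of_isIso (Scheme.ΓSpecIso C).inv
  have hθbij : Function.Bijective θ :=
    (ConcreteCategory.bijective_of_isIso pT.appTop).comp hγbij
  -- `ρ` kills `J`
  have hρJ : ∀ b ∈ J, ρ (algebraMap Γ(X, ⊤) (AdjoinRoot f) b) = 0 := by
    intro b hb
    have h1 : γ (algebraMap Γ(X, ⊤) (AdjoinRoot f) b) =
        φ.appTop.hom ((Scheme.ΓSpecIso Γ(X, ⊤)).inv.hom b) := by
      exact congr($(Scheme.ΓSpecIso_inv_naturality c).hom b)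
    have h2 : (pullback.fst g i ≫ pT ≫ φ).appTop = (pullback.snd g i ≫ i ≫ X.toSpecΓ).appTop := by
      rw [← Category.assoc, H₀.w, Category.assoc]
    have h3 := congr($(h2).hom ((Scheme.ΓSpecIso Γ(X, ⊤)).inv.hom b))
    simp only [Scheme.Hom.comp_appTop, CommRingCat.hom_comp, RingHom.coe_comp,
      Function.comp_apply] at h3
    show (pullback.fst g i).appTop.hom (pT.appTop.hom (γ _)) = 0
    rw [h1, h3]
    have h4 : X.toSpecΓ.appTop.hom ((Scheme.ΓSpecIso Γ(X, ⊤)).inv.hom b) = b := by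
      rw [Scheme.toSpecΓ_appTop]
      exact congr($((Scheme.ΓSpecIso Γ(X, ⊤)).inv_hom_id).hom b)
    rw [h4]
    have h5 : i.appTop.hom b = 0 := hb
    rw [h5, map_zero]
  have hρK : J.map (algebraMap Γ(X, ⊤) (AdjoinRoot f)) ≤ RingHom.ker ρ := by
    rw [Ideal.map_le_iff_le_comap]
    intro b hb
    exact hρJ b hb
  -- kernel of `ρ`
  have hkerρ : ∀ x : AdjoinRoot f, ρ x = 0 → x ∈ J.map (algebraMap Γ(X, ⊤) (AdjoinRoot f)) := by
    intro x hx
    have h1 : (pullback.fst g i ≫ pT).appTop.hom (γ x) = 0 := by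
      rw [Scheme.Hom.comp_appTop]
      exact hx
    have h2 := mem_map_ker_of_appTop_eq_zero H₀ (γ x) h1
    have h3 : (RingHom.ker (i ≫ X.toSpecΓ).appTop.hom).map φ.appTop.hom ≤
        (J.map (algebraMap Γ(X, ⊤) (AdjoinRoot f))).comap (Scheme.ΓSpecIso C).hom.hom := by
      rw [Ideal.map_le_iff_le_comap]
      intro r hr
      rw [Ideal.mem_comap, Ideal.mem_comap]
      have h4 : (Scheme.ΓSpecIso C).hom.hom (φ.appTop.hom r) =
          algebraMap Γ(X, ⊤) (AdjoinRoot f) ((Scheme.ΓSpecIso Γ(X, ⊤)).hom.hom r) := by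
        exact congr($(Scheme.ΓSpecIso_naturality c).hom r)
      rw [h4]
      apply Ideal.mem_map_of_mem
      rw [hJ, RingHom.mem_ker]
      have h5 : (i ≫ X.toSpecΓ).appTop.hom r = 0 := hr
      rw [Scheme.Hom.comp_appTop, Scheme.toSpecΓ_appTop] at h5
      exact h5
    have h6 := h3 h2
    rw [Ideal.mem_comap] at h6
    have h7 : (Scheme.ΓSpecIso C).hom.hom (γ x) = x :=
      congr($((Scheme.ΓSpecIso C).inv_hom_id).hom x)
    rwa [h7] at h6
  -- the clopen subset `V` of `Y₀`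
  set t : AdjoinRoot f := AdjoinRoot.root f with ht
  set τ : Γ(Y₀, ⊤) := ρ t with hτ
  have hτ0 : τ ^ n * (τ - 1) = 0 := by
    have := hρK hfn
    rw [RingHom.mem_ker, map_mul, map_pow, map_sub, map_one] at this
    exact this
  have hτidem : IsIdempotentElem (τ ^ n) := by
    have h1 : τ ^ (n + 1) = τ ^ n := by
      rw [pow_succ]; linear_combination hτ0
    have h2 : ∀ k : ℕ, τ ^ (n + k) = τ ^ n := by
      intro k
      induction k with
      | zero => rfl
      | succ k ih =>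
        rw [← add_assoc, pow_succ, ih, ← pow_succ, h1]
    show τ ^ n * τ ^ n = τ ^ n
    rw [← pow_add, h2 n]
  have hVclopen : IsClopen (Y₀.basicOpen (τ ^ n) : Set Y₀) := isClopen_basicOpen_of_idempotent _ hτidem
  obtain ⟨U, ⟨hUclopen, hUV⟩, -⟩ := hX _ g inferInstance _ hVclopen
  obtain ⟨ε, hεidem, hεU⟩ := exists_idempotent_of_isClopen U hUclopen
  obtain ⟨e, he⟩ := hθbij.2 ε
  have heidem : IsIdempotentElem e := by
    apply hθbij.1
    rw [map_mul, he]
    exact hεidem
  refine ⟨e, heidem, hkerρ _ ?_⟩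
  rw [map_sub, map_pow, sub_eq_zero]
  have hρe : ρ e = (pullback.fst g i).appTop.hom ε := by
    show (pullback.fst g i).appTop.hom (θ e) = _
    rw [he]
  have hρeidem : IsIdempotentElem (ρ e) := heidem.map ρ
  apply idempotent_eq_of_basicOpen_eq _ _ hρeidem hτidem
  rw [hρe]
  have h1 : Y₀.basicOpen ((pullback.fst g i).appTop.hom ε) =
      (pullback.fst g i) ⁻¹ᵁ (Scheme.basicOpen _ ε) := (Scheme.preimage_basicOpen _ _).symm
  rw [h1]
  ext y
  show (pullback.fst g i).base y ∈ (Scheme.basicOpen _ ε : Set _) ↔ y ∈ (Y₀.basicOpen (τ ^ n) : Set Y₀)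
  rw [hεU, ← hUV]
  rfl


/-- **S17959.** -/
theorem henselianRing [IsClosedImmersion i] [CompactSpace X] [QuasiSeparatedSpace X] :
    HenselianRing (Γ(X, ⊤) : Type u) (RingHom.ker i.appTop.hom) := by
  set J : Ideal Γ(X, ⊤) := RingHom.ker i.appTop.hom with hJ
  have hjac : J ≤ Ideal.jacobson ⊥ := by
    intro b hb
    rw [Ideal.mem_jacobson_bot]
    intro y
    apply isUnit_of_appTop_eq_one i hX
    have hb' : i.appTop.hom b = 0 := hb
    rw [map_add, map_mul, hb', zero_mul, zero_add, map_one]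
  apply henselianRing_of_gabber hjac
  intro n hn p hpdeg hpI
  cases subsingleton_or_nontrivial Γ(X, ⊤) with
  | inl hs => exact ⟨1, by simp, Subsingleton.elim _ _⟩
  | inr hA =>
  set f : (Γ(X, ⊤))[X] := Polynomial.X ^ n * (Polynomial.X - 1) + p with hf
  have hRmonic : (Polynomial.X ^ n * (Polynomial.X - 1) : (Γ(X, ⊤))[X]).Monic := by
    rw [show (Polynomial.X - 1 : (Γ(X, ⊤))[X]) = Polynomial.X - C 1 by simp]
    exact (monic_X_pow _).mul (monic_X_sub_C (1 : Γ(X, ⊤)))
  have hRdeg : (Polynomial.X ^ n * (Polynomial.X - 1) : (Γ(X, ⊤))[X]).natDegree = n + 1 := by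
    rw [show (Polynomial.X - 1 : (Γ(X, ⊤))[X]) = Polynomial.X - C 1 by simp,
      Monic.natDegree_mul (monic_X_pow _) (monic_X_sub_C (1 : Γ(X, ⊤))), natDegree_X_pow,
      natDegree_X_sub_C]
  have hplt : p.degree < (Polynomial.X ^ n * (Polynomial.X - 1) : (Γ(X, ⊤))[X]).degree := by
    rw [degree_eq_natDegree hRmonic.ne_zero, hRdeg]
    exact (degree_le_natDegree).trans_lt (by exact_mod_cast Nat.lt_succ_of_le hpdeg)
  have hfmonic : f.Monic := hRmonic.add_of_left hplt
  have hfe : ∀ {B' : Type u} [CommRing B'] [Algebra Γ(X, ⊤) B'] (t' : B'),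
      aeval t' f = t' ^ n * (t' - 1) + aeval t' p := by
    intro B' _ _ t'
    rw [hf, map_add, map_mul, map_pow, map_sub, aeval_X, map_one]
  set t : AdjoinRoot f := AdjoinRoot.root f with ht
  have hft : aeval t f = 0 := AdjoinRoot.aeval_eq f ▸ AdjoinRoot.mk_self
  have hπK : aeval t p ∈ J.map (algebraMap Γ(X, ⊤) (AdjoinRoot f)) := aeval_mem_map p hpI t
  have htn : t ^ n * (t - 1) = -aeval t p := by
    have := hft
    rw [hfe t] at this
    linear_combination this
  have hfn : t ^ n * (t - 1) ∈ J.map (algebraMap Γ(X, ⊤) (AdjoinRoot f)) := by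
    rw [htn]; exact neg_mem hπK
  obtain ⟨e, he, heb⟩ := exists_idempotent_adjoinRoot i hX f hfmonic n hfn
  exact gabber_root_of_idempotent hjac n p hpdeg hpI f hf e he heb

end Main

end Groth.Agent.Lib.helper11.HensGamma
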