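import Mathlib
import Groth.Agent.Lib.Helper11.HensCouple4
import Groth.Agent.Lib.Helper11.HensGamma
import Groth.Agent.Lib.Helper2.Henselian

/-!
# Henselian pairs versus henselian couples, affine case (helper11)

`henselianRing_iff_clopens_lift` (= S17971): `(A, I)` is a henselian pair iff clopens lift uniquely along
finite morphisms to `Spec A` from the base change to `Spec (A/I)`.
-/

set_option autoImplicit false
universe u
open CategoryTheory CategoryTheory.Limits AlgebraicGeometry Opposite TopologicalSpace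

namespace Groth.Agent.Lib.helper11.HensCouple

section Core

variable {A : Type u} [CommRing A]

/-- generalisation of `existsUnique_clopen`: the Stein-type factorisation is given as data. -/
theorem existsUnique_clopen_of_factor (I : Ideal A) (hI : HenselianRing A I) {Y : Scheme.{u}}
    (h : Y ⟶ Spec (CommRingCat.of A)) (hhcl : IsClosedMap h)
    (C : Type u) [CommRing C] [Algebra A C] [Algebra.IsIntegral A C]
    (ψ : Y ⟶ Spec (CommRingCat.of C))
    (hψh : ψ ≫ Spec.map (CommRingCat.ofHom (algebraMap A C)) = h)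
    (hcl : IsClosedMap ψ) (hsurj : Function.Surjective ψ)
    (hfib : ∀ c, _root_.IsPreconnected (ψ ⁻¹' {c}))
    {Y₀ : Type*} [TopologicalSpace Y₀]
    (j : Y₀ → Y) (hj : Topology.IsClosedEmbedding j)
    (hrange : Set.range j = h ⁻¹' (PrimeSpectrum.zeroLocus (I : Set A)))
    (V : Set Y₀) (hV : IsClopen V) : ∃! U : Set Y, IsClopen U ∧ j ⁻¹' U = V := by
  set W : Set (PrimeSpectrum C) := PrimeSpectrum.zeroLocus (I.map (algebraMap A C) : Set C) with hW
  -- `range j = ψ⁻¹ W`
  have hrange' : Set.range j = ψ ⁻¹' W := by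
    rw [hrange]
    ext y
    simp only [Set.mem_preimage]
    have hy : h y = (Spec.map (CommRingCat.ofHom (algebraMap A C))) (ψ y) := by
      rw [← Scheme.Hom.comp_apply, hψh]
    rw [hy]
    let p : PrimeSpectrum C := ψ y
    show PrimeSpectrum.comap (algebraMap A C) p ∈ PrimeSpectrum.zeroLocus (I : Set A) ↔
      p ∈ PrimeSpectrum.zeroLocus (I.map (algebraMap A C) : Set C)
    rw [PrimeSpectrum.mem_zeroLocus, PrimeSpectrum.mem_zeroLocus, SetLike.coe_subset_coe,
      SetLike.coe_subset_coe, Ideal.map_le_iff_le_comap]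
    rfl
  let V₁ : Set Y := j '' V
  let V₂ : Set Y := j '' Vᶜ
  have h₁ : IsClosed V₁ := hj.isClosedMap _ hV.1
  have h₂ : IsClosed V₂ := hj.isClosedMap _ hV.2.isClosed_compl
  have hdisj : Disjoint V₁ V₂ := by
    rw [Set.disjoint_image_iff hj.injective]
    exact disjoint_compl_right
  have hunion : V₁ ∪ V₂ = ψ ⁻¹' W := by
    rw [← hrange', ← Set.image_union, Set.union_compl_self, Set.image_univ]
  have hT₁ : IsClosed (ψ '' V₁) := hcl _ h₁
  have hT₂ : IsClosed (ψ '' V₂) := hcl _ h₂
  have hTdisj : Disjoint (ψ '' V₁) (ψ '' V₂) :=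
    disjoint_image_of_preconnected_fibres ψ hfib W V₁ V₂ h₁ h₂ hdisj hunion
  have hTunion : ψ '' V₁ ∪ ψ '' V₂ = W := by
    rw [← Set.image_union, hunion, Set.image_preimage_eq _ hsurj]
  obtain ⟨e, he, he₁, he₂⟩ :=
    exists_idempotent_of_closed_cover hI C (ψ '' V₁) (ψ '' V₂) hT₁ hT₂ hTdisj hTunion
  have hclopenD : IsClopen ((PrimeSpectrum.basicOpen e : Set (PrimeSpectrum C))) :=
    PrimeSpectrum.isClopen_iff.mpr ⟨e, he, rfl⟩
  refine ⟨ψ ⁻¹' (PrimeSpectrum.basicOpen e : Set (PrimeSpectrum C)),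
    ⟨hclopenD.preimage ψ.continuous, ?_⟩, ?_⟩
  · ext y₀
    simp only [Set.mem_preimage]
    constructor
    · intro hy
      by_contra hyV
      have : ψ (j y₀) ∈ ψ '' V₂ := ⟨j y₀, ⟨y₀, hyV, rfl⟩, rfl⟩
      exact hy (he₂ _ this)
    · intro hyV
      have : ψ (j y₀) ∈ ψ '' V₁ := ⟨j y₀, ⟨y₀, hyV, rfl⟩, rfl⟩
      exact he₁ _ this
  · rintro U' ⟨hU', hU'V⟩
    set U := ψ ⁻¹' (PrimeSpectrum.basicOpen e : Set (PrimeSpectrum C)) with hU
    have hUcl : IsClopen U := hclopenD.preimage ψ.continuous
    have hUV : j ⁻¹' U = V := by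
      ext y₀
      simp only [Set.mem_preimage]
      constructor
      · intro hy
        by_contra hyV
        have : ψ (j y₀) ∈ ψ '' V₂ := ⟨j y₀, ⟨y₀, hyV, rfl⟩, rfl⟩
        exact hy (he₂ _ this)
      · intro hyV
        have : ψ (j y₀) ∈ ψ '' V₁ := ⟨j y₀, ⟨y₀, hyV, rfl⟩, rfl⟩
        exact he₁ _ this
    -- the symmetric difference is closed and misses `range j`
    let D : Set Y := (U' \ U) ∪ (U \ U')
    have hDcl : IsClosed D :=
      (hU'.1.inter hUcl.2.isClosed_compl).union (hUcl.1.inter hU'.2.isClosed_compl)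
    have hDj : ∀ y ∈ D, y ∉ Set.range j := by
      rintro y hy ⟨y₀, rfl⟩
      have e1 : j y₀ ∈ U' ↔ y₀ ∈ V := by rw [← hU'V]; rfl
      have e2 : j y₀ ∈ U ↔ y₀ ∈ V := by rw [← hUV]; rfl
      rcases hy with ⟨a, b⟩ | ⟨a, b⟩
      · exact b (e2.mpr (e1.mp a))
      · exact b (e1.mpr (e2.mp a))
    have hDempty : D = ∅ := by
      by_contra hne
      have hne' : D.Nonempty := Set.nonempty_iff_ne_empty.mpr hne
      obtain ⟨p, ⟨y, hyD, rfl⟩, hpI⟩ := exists_mem_zeroLocus_of_isClosed I hI.jac (h '' D)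
        (hhcl _ hDcl) (hne'.image _)
      apply hDj y hyD
      rw [hrange]
      exact hpI
    ext y
    constructor
    · intro hy
      by_contra hyU
      have : y ∈ D := Or.inl ⟨hy, hyU⟩
      rw [hDempty] at this
      exact this
    · intro hy
      by_contra hyU
      have : y ∈ D := Or.inr ⟨hy, hyU⟩
      rw [hDempty] at this
      exact this

variable (I : Ideal A)

/-- `(A, I)` henselian ⇒ `(Spec A, Spec A/I)` is a henselian couple. -/
theorem clopens_lift_of_henselianRing (hI : HenselianRing A I) (Y : Scheme.{u})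
    (g : Y ⟶ Spec (CommRingCat.of A)) (hg : IsFinite g)
    (V : Set ↥(pullback g (Spec.map (CommRingCat.ofHom (Ideal.Quotient.mk I))))) (hV : IsClopen V) :
    ∃! U : Set ↥Y, IsClopen U ∧
      (pullback.fst g (Spec.map (CommRingCat.ofHom (Ideal.Quotient.mk I)))).base ⁻¹' U = V := by
  haveI := hg
  haveI : IsAffine Y := isAffine_of_isAffineHom g
  letI alg : Algebra A Γ(Y, ⊤) := (φΓ g).toAlgebra
  have hfin : (φΓ g).Finite := by
    have h1 : g.appTop.hom.Finite :=
      ((HasAffineProperty.iff_of_isAffine (P := @IsFinite)).mp hg).2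
    have h2 : (Scheme.ΓSpecIso (CommRingCat.of A)).inv.hom.Finite :=
      RingHom.Finite.of_surjective _
        (ConcreteCategory.bijective_of_isIso (Scheme.ΓSpecIso (CommRingCat.of A)).inv).2
    exact h1.comp h2
  haveI : Module.Finite A Γ(Y, ⊤) := hfin
  haveI : Algebra.IsIntegral A Γ(Y, ⊤) := Algebra.IsIntegral.of_finite A Γ(Y, ⊤)
  have hψh : Y.isoSpec.hom ≫ Spec.map (CommRingCat.ofHom (algebraMap A Γ(Y, ⊤))) = g := by
    rw [Scheme.isoSpec_hom]
    exact toSpecΓ_comp g
  have hbij : Function.Bijective Y.isoSpec.hom.base :=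
    ConcreteCategory.bijective_of_isIso Y.isoSpec.hom.base
  refine existsUnique_clopen_of_factor I hI g (g.isClosedMap) Γ(Y, ⊤) Y.isoSpec.hom hψh
    (Y.isoSpec.hom.homeomorph.isClosedMap) hbij.2 ?_ _
    (pullback.fst g (Spec.map (CommRingCat.ofHom (Ideal.Quotient.mk I)))).isClosedEmbedding
    (range_i₀ I g) V hV
  intro c
  apply Set.Subsingleton.isPreconnected
  intro x hx y hy
  exact hbij.1 (hx.trans hy.symm)

end Core

end Groth.Agent.Lib.helper11.HensCouple

namespace Groth.Agent.Lib.helper11.HensCouple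

section Transport

/-- transport of henselian pairs along ring isomorphisms. -/
theorem henselianRing_of_ringEquiv {A B : Type*} [CommRing A] [CommRing B] (e : A ≃+* B)
    (I : Ideal A) (J : Ideal B) (hIJ : ∀ a, a ∈ I ↔ e a ∈ J) (h : HenselianRing A I) :
    HenselianRing B J := by
  rw [Groth.Agent.Lib.helper2.henselianRing_iff] at h ⊢
  obtain ⟨hjac, hlift⟩ := h
  refine ⟨?_, ?_⟩
  · intro b hb
    rw [Ideal.mem_jacobson_bot]
    intro y
    have ha : e.symm b ∈ I := by rw [hIJ, e.apply_symm_apply]; exact hb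
    have h2 := ((Ideal.mem_jacobson_bot.mp (hjac ha)) (e.symm y)).map e
    simpa using h2
  · intro f hf b₀ hb₀ hu
    let f' : Polynomial A := f.map (e.symm : B →+* A)
    have hf' : f'.Monic := hf.map _
    have h1 : f'.eval (e.symm b₀) = e.symm (f.eval b₀) :=
      Polynomial.eval_map_apply (e.symm : B →+* A) b₀
    have h2 : f'.derivative.eval (e.symm b₀) = e.symm (f.derivative.eval b₀) := by
      show (Polynomial.derivative (f.map (e.symm : B →+* A))).eval _ = _
      rw [Polynomial.derivative_map]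
      exact Polynomial.eval_map_apply (e.symm : B →+* A) b₀
    obtain ⟨a, ha, haI⟩ := hlift f' hf' (e.symm b₀)
      (by rw [h1, hIJ, e.apply_symm_apply]; exact hb₀) (by rw [h2]; exact hu.map e.symm)
    refine ⟨e a, ?_, ?_⟩
    · have h3 : f = f'.map (e : A →+* B) := by
        show f = (f.map (e.symm : B →+* A)).map (e : A →+* B)
        rw [Polynomial.map_map]
        have : (e : A →+* B).comp (e.symm : B →+* A) = RingHom.id B := by
          ext x; simp
        rw [this, Polynomial.map_id]
      show f.eval (e a) = 0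
      rw [h3]
      have h4 : (f'.map (e : A →+* B)).eval (e a) = e (f'.eval a) :=
        Polynomial.eval_map_apply (e : A →+* B) a
      rw [h4]
      have : f'.eval a = 0 := ha
      rw [this, map_zero]
    · have : e a - b₀ = e (a - e.symm b₀) := by simp
      rw [this, ← hIJ]
      exact haI

end Transport

section Iff

variable (A : Type u) [CommRing A] (I : Ideal A)

/-- **S17971.** -/
theorem henselianRing_iff_clopens_lift :
    HenselianRing A I ↔
    ∀ (Y : Scheme.{u}) (g : Y ⟶ Spec (CommRingCat.of A)), IsFinite g →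
      ∀ V : Set ↥(pullback g (Spec.map (CommRingCat.ofHom (Ideal.Quotient.mk I)))), IsClopen V →
        ∃! U : Set ↥Y, IsClopen U ∧
          (pullback.fst g (Spec.map (CommRingCat.ofHom (Ideal.Quotient.mk I)))).base ⁻¹' U = V := by
  constructor
  · intro hI Y g hg V hV
    exact clopens_lift_of_henselianRing I hI Y g hg V hV
  · intro hX
    let q : CommRingCat.of A ⟶ CommRingCat.of (A ⧸ I) := CommRingCat.ofHom (Ideal.Quotient.mk I)
    have h1 := Groth.Agent.Lib.helper11.HensGamma.henselianRing (Spec.map q) hX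
    let e : Γ(Spec (CommRingCat.of A), ⊤) ≃+* A :=
      (Scheme.ΓSpecIso (CommRingCat.of A)).commRingCatIsoToRingEquiv
    refine henselianRing_of_ringEquiv e _ I ?_ h1
    intro x
    rw [RingHom.mem_ker]
    have hnat : (Scheme.ΓSpecIso (CommRingCat.of (A ⧸ I))).hom.hom ((Spec.map q).appTop.hom x) =
        Ideal.Quotient.mk I ((Scheme.ΓSpecIso (CommRingCat.of A)).hom.hom x) :=
      congr($(Scheme.ΓSpecIso_naturality q).hom x)
    have hinj : Function.Injective (Scheme.ΓSpecIso (CommRingCat.of (A ⧸ I))).hom.hom :=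
      (ConcreteCategory.bijective_of_isIso (Scheme.ΓSpecIso (CommRingCat.of (A ⧸ I))).hom).1
    constructor
    · intro hx
      rw [hx, map_zero] at hnat
      exact Ideal.Quotient.eq_zero_iff_mem.mp hnat.symm
    · intro hx
      apply hinj
      rw [hnat, map_zero]
      exact Ideal.Quotient.eq_zero_iff_mem.mpr hx

end Iff

end Groth.Agent.Lib.helper11.HensCouple
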