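import Mathlib
import Groth.Agent.Lib.Helper11.HensCouple5

/-!
# A proper henselian couple over a Noetherian ring is proper over a henselian pair (helper11)

`exists_proper_over_henselian_pair` (= S17965): `A` Noetherian, `f : X ⟶ Spec A` proper, `(X, X ×_A A/I)` a
henselian couple.  Then with `A' = Γ(X, O_X)` and `I' = I A'` the pair `(A', I')` is henselian, `A'` is
Noetherian, `X ⟶ Spec A'` is proper and `X ×_A A/I = X ×_{A'} A'/I'`.
-/

set_option autoImplicit false
universe u
open CategoryTheory CategoryTheory.Limits AlgebraicGeometry Opposite TopologicalSpace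

namespace Groth.Agent.Lib.helper11.HensCouple

section Pushout

/-- `B/IB` is the pushout of `B ← A → A/I`. -/
theorem isPushout_quotient {A B : Type u} [CommRing A] [CommRing B] (φ : A →+* B) (I : Ideal A) :
    IsPushout (CommRingCat.ofHom φ) (CommRingCat.ofHom (Ideal.Quotient.mk I))
      (CommRingCat.ofHom (Ideal.Quotient.mk (I.map φ)))
      (CommRingCat.ofHom (Ideal.quotientMap (I.map φ) φ Ideal.le_comap_map)) := by
  have w : CommSq (CommRingCat.ofHom φ) (CommRingCat.ofHom (Ideal.Quotient.mk I))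
      (CommRingCat.ofHom (Ideal.Quotient.mk (I.map φ)))
      (CommRingCat.ofHom (Ideal.quotientMap (I.map φ) φ Ideal.le_comap_map)) := by
    constructor
    ext a
    simp
  refine IsPushout.of_isColimit' w ?_
  have hker : ∀ s : PushoutCocone (CommRingCat.ofHom φ) (CommRingCat.ofHom (Ideal.Quotient.mk I)),
      ∀ b ∈ I.map φ, s.inl.hom b = 0 := by
    intro s
    have : I.map φ ≤ RingHom.ker s.inl.hom := by
      rw [Ideal.map_le_iff_le_comap]
      intro a ha
      rw [Ideal.mem_comap, RingHom.mem_ker]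
      have h1 := congr($(s.condition).hom a)
      simp only [CommRingCat.hom_comp, CommRingCat.hom_ofHom, RingHom.coe_comp,
        Function.comp_apply] at h1
      rw [h1, Ideal.Quotient.eq_zero_iff_mem.mpr ha, map_zero]
    exact fun b hb => this hb
  refine PushoutCocone.IsColimit.mk _
    (fun s => CommRingCat.ofHom (Ideal.Quotient.lift (I.map φ) s.inl.hom (hker s))) ?_ ?_ ?_
  · intro s
    ext b
    simp
  · intro s
    ext a
    have h1 := congr($(s.condition).hom a)
    simp only [CommRingCat.hom_comp, CommRingCat.hom_ofHom, RingHom.coe_comp,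
      Function.comp_apply] at h1
    simp only [CommRingCat.hom_comp, CommRingCat.hom_ofHom, RingHom.coe_comp, Function.comp_apply,
      Ideal.quotientMap_mk, Ideal.Quotient.lift_mk]
    exact h1
  · intro s m hm _
    ext b
    have h1 := congr($(hm).hom b)
    simp only [CommRingCat.hom_comp, CommRingCat.hom_ofHom, RingHom.coe_comp,
      Function.comp_apply] at h1
    simp only [CommRingCat.hom_ofHom, Ideal.Quotient.lift_mk]
    exact h1

end Pushout

section Main

variable (A : Type u) [CommRing A] [IsNoetherianRing A] (I : Ideal A) {X : Scheme.{u}}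
  (f : X ⟶ Spec (CommRingCat.of A)) [IsProper f]

/-- **S17965.** -/
theorem exists_proper_over_henselian_pair
    (hX : ∀ (Y : Scheme.{u}) (g : Y ⟶ X), IsFinite g →
      ∀ V : Set ↥(pullback g (i₀ I f)), IsClopen V →
        ∃! U : Set ↥Y, IsClopen U ∧ (pullback.fst g (i₀ I f)).base ⁻¹' U = V) :
    ∃ (A' : Type u) (_ : CommRing A') (I' : Ideal A') (_ : HenselianRing A' I')
      (_ : IsNoetherianRing A') (f' : X ⟶ Spec (CommRingCat.of A')) (_ : IsProper f')
      (t : pullback f (Spec.map (CommRingCat.ofHom (Ideal.Quotient.mk I))) ⟶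
        Spec (CommRingCat.of (A' ⧸ I'))),
      IsPullback (i₀ I f) t f' (Spec.map (CommRingCat.ofHom (Ideal.Quotient.mk I'))) := by
  -- `B = Γ(X, O_X)` is Noetherian
  haveI : IsNoetherianRing Γ(Spec (CommRingCat.of A), ⊤) :=
    isNoetherianRing_of_ringEquiv A
      (Scheme.ΓSpecIso (CommRingCat.of A)).symm.commRingCatIsoToRingEquiv
  have hfin : f.appTop.hom.Finite := Groth.Agent.Lib.helper8.ZConn.finite_appTop_of_isProper f
  haveI hBN : IsNoetherianRing Γ(X, ⊤) := by
    letI := f.appTop.hom.toAlgebra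
    haveI : Module.Finite Γ(Spec (CommRingCat.of A), ⊤) Γ(X, ⊤) := hfin
    exact isNoetherian_of_isNoetherianRing_of_finite Γ(Spec (CommRingCat.of A), ⊤) Γ(X, ⊤) |>
      fun h => (isNoetherianRing_iff.mpr (isNoetherian_of_tower Γ(Spec (CommRingCat.of A), ⊤) h))
  haveI : CompactSpace ↥X := QuasiCompact.compactSpace_of_compactSpace f
  haveI : QuasiSeparatedSpace ↥X := quasiSeparatedSpace_of_quasiSeparated f
  have hJ : HenselianRing (Γ(X, ⊤) : Type u) (RingHom.ker (i₀ I f).appTop.hom) :=
    Groth.Agent.Lib.helper11.HensGamma.henselianRing (i₀ I f) hX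
  have hI' : HenselianRing (Γ(X, ⊤) : Type u) (I.map (φΓ f)) :=
    Groth.Agent.Lib.helper12.henselianRing_of_le hJ (map_φΓ_le_ker I f)
  haveI : IsProper (X.toSpecΓ ≫ Spec.map (CommRingCat.ofHom (φΓ f))) := by
    rw [toSpecΓ_comp]; infer_instance
  haveI hprop : IsProper X.toSpecΓ :=
    IsProper.of_comp X.toSpecΓ (Spec.map (CommRingCat.ofHom (φΓ f)))
  -- bottom square
  have hbot := isPullback_SpecMap_of_isPushout _ _ _ _ (isPushout_quotient (φΓ f) I)
  let t : pullback f (Spec.map (CommRingCat.ofHom (Ideal.Quotient.mk I))) ⟶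
      Spec (CommRingCat.of (Γ(X, ⊤) ⧸ I.map (φΓ f))) :=
    hbot.lift (i₀ I f ≫ X.toSpecΓ) (pullback.snd f _) (by
      rw [Category.assoc, toSpecΓ_comp]
      exact pullback.condition)
  have ht1 : t ≫ Spec.map (CommRingCat.ofHom (Ideal.Quotient.mk (I.map (φΓ f)))) =
      i₀ I f ≫ X.toSpecΓ := hbot.lift_fst _ _ _
  have ht2 : t ≫ Spec.map (CommRingCat.ofHom
      (Ideal.quotientMap (I.map (φΓ f)) (φΓ f) Ideal.le_comap_map)) = pullback.snd f _ :=
    hbot.lift_snd _ _ _
  refine ⟨Γ(X, ⊤), inferInstance, I.map (φΓ f), hI', hBN, X.toSpecΓ, hprop, t, ?_⟩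
  refine IsPullback.of_bot ?_ ht1.symm hbot
  rw [ht2, toSpecΓ_comp]
  exact IsPullback.of_hasPullback _ _

end Main

end Groth.Agent.Lib.helper11.HensCouple
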