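import Mathlib
import Groth.Agent.Lib.Helper11.HensCouple4
import Groth.Agent.S5067

set_option autoImplicit false
universe u
open CategoryTheory CategoryTheory.Limits AlgebraicGeometry Opposite TopologicalSpace

namespace Groth.Agent.Lib.helper11.HensSplit

/-- Zariski's main theorem, affine target form: a quasi-compact separated locally quasi-finite
morphism of finite type to `Spec A` is an open immersion into `Spec B` with `B` integral over `A`. -/
theorem exists_openImmersion_integral (A : Type u) [CommRing A] {U : Scheme.{u}}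
    (g : U ⟶ Spec (CommRingCat.of A)) [QuasiCompact g] [IsSeparated g] [LocallyQuasiFinite g]
    [LocallyOfFiniteType g] :
    ∃ (B : Type u) (_ : CommRing B) (_ : Algebra A B) (_ : Algebra.IsIntegral A B)
      (j : U ⟶ Spec (CommRingCat.of B)), IsOpenImmersion j ∧
        j ≫ Spec.map (CommRingCat.ofHom (algebraMap A B)) = g := by
  let N := g.normalization
  let ν := g.fromNormalization
  haveI : IsAffine N := isAffine_of_isAffineHom ν
  let φ : CommRingCat.of A ⟶ Γ(N, ⊤) := (Scheme.ΓSpecIso (CommRingCat.of A)).inv ≫ ν.appTop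
  have hν : ν = N.isoSpec.hom ≫ Spec.map φ := by
    rw [Spec.map_comp, ← Category.assoc, Scheme.isoSpec_hom_naturality, Category.assoc]
    have : (Spec (CommRingCat.of A)).isoSpec.hom ≫ Spec.map (Scheme.ΓSpecIso (CommRingCat.of A)).inv = 𝟙 _ := by
      rw [Scheme.isoSpec_Spec_hom, ← Spec.map_comp, Iso.inv_hom_id, Spec.map_id]
    rw [this, Category.comp_id]
  letI : Algebra A Γ(N, ⊤) := φ.hom.toAlgebra
  have hint : Algebra.IsIntegral A Γ(N, ⊤) := by
    have h1 : IsIntegralHom (Spec.map φ) := by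
      have : Spec.map φ = N.isoSpec.inv ≫ ν := by rw [hν, Iso.inv_hom_id_assoc]
      rw [this]
      infer_instance
    have h2 := IsIntegralHom.SpecMap_iff.mp h1
    exact ⟨h2⟩
  refine ⟨Γ(N, ⊤), inferInstance, inferInstance, hint, g.toNormalization ≫ N.isoSpec.hom,
    inferInstance, ?_⟩
  have : CommRingCat.ofHom (algebraMap A Γ(N, ⊤)) = φ := rfl
  rw [this, Category.assoc, ← hν]
  exact g.toNormalization_fromNormalization

open PrimeSpectrum in
/-- integral extension: `IB` lies in the Jacobson radical when `I` does -/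
theorem map_le_jacobson_of_isIntegral {A B : Type u} [CommRing A] [CommRing B] [Algebra A B]
    [Algebra.IsIntegral A B] (I : Ideal A) (hI : I ≤ Ideal.jacobson ⊥) :
    I.map (algebraMap A B) ≤ Ideal.jacobson ⊥ := by
  rw [Ideal.map_le_iff_le_comap]
  intro a ha
  rw [Ideal.mem_comap, Ideal.jacobson, Ideal.mem_sInf]
  rintro m ⟨-, hm⟩
  haveI := hm
  have hmax : (m.comap (algebraMap A B)).IsMaximal :=
    Ideal.isMaximal_comap_of_isIntegral_of_isMaximal (R := A) m
  have h1 : a ∈ m.comap (algebraMap A B) := by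
    have h2 : Ideal.jacobson (⊥ : Ideal A) ≤ m.comap (algebraMap A B) := by
      apply sInf_le
      exact ⟨bot_le, hmax⟩
    exact h2 (hI ha)
  exact h1

theorem main (A : Type u) [CommRing A] (I : Ideal A) [hI : HenselianRing A I]
    {U : Scheme.{u}} (g : U ⟶ Spec (CommRingCat.of A)) [QuasiCompact g] [IsSeparated g] [Etale g]
    (hfin : IsFinite (pullback.snd g (Spec.map (CommRingCat.ofHom (Ideal.Quotient.mk I))))) :
    ∃ W : U.Opens, IsClosed (W : Set U) ∧ IsFinite (W.ι ≫ g) ∧
      ∀ u : U, u ∉ W → ¬ I ≤ (g.base u : PrimeSpectrum A).asIdeal := by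
  haveI : LocallyQuasiFinite g := Groth.Agent.S5067.locallyQuasiFinite_of_unramified g
  obtain ⟨B, _, _, _, j, hj, hjg⟩ := exists_openImmersion_integral A g
  haveI := hj
  haveI := hfin
  -- the map from the part over `V(I)` to `Spec B` is finite
  let h : pullback g (Spec.map (CommRingCat.ofHom (Ideal.Quotient.mk I))) ⟶ Spec (CommRingCat.of B) :=
    pullback.fst _ _ ≫ j
  have hh : h ≫ Spec.map (CommRingCat.ofHom (algebraMap A B)) =
      pullback.snd g (Spec.map (CommRingCat.ofHom (Ideal.Quotient.mk I))) ≫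
        Spec.map (CommRingCat.ofHom (Ideal.Quotient.mk I)) := by
    rw [Category.assoc, hjg, pullback.condition]
  haveI : IsFinite (h ≫ Spec.map (CommRingCat.ofHom (algebraMap A B))) := by
    rw [hh]; infer_instance
  haveI : IsFinite h := IsFinite.of_comp h (Spec.map (CommRingCat.ofHom (algebraMap A B)))
  -- points
  let jp : U → PrimeSpectrum B := fun u => j.base u
  let gp : U → PrimeSpectrum A := fun u => g.base u
  let fp : ↥(pullback g (Spec.map (CommRingCat.ofHom (Ideal.Quotient.mk I)))) → U :=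
    fun x => (pullback.fst g _).base x
  have hcomap : ∀ u : U, PrimeSpectrum.comap (algebraMap A B) (jp u) = gp u := by
    intro u
    have := congrArg (fun f => f.base u) hjg
    exact this
  have hgI : ∀ u : U, I ≤ (gp u).asIdeal ↔
      jp u ∈ PrimeSpectrum.zeroLocus (I.map (algebraMap A B) : Set B) := by
    intro u
    have e : (gp u).asIdeal = (jp u).asIdeal.comap (algebraMap A B) :=
      (congrArg PrimeSpectrum.asIdeal (hcomap u)).symm
    rw [e, PrimeSpectrum.mem_zeroLocus, SetLike.coe_subset_coe, Ideal.map_le_iff_le_comap]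
  have hrange_fp : Set.range fp = {u | I ≤ (gp u).asIdeal} := by
    have h1 : Set.range fp = g.base ⁻¹' Set.range (Spec.map (CommRingCat.ofHom (Ideal.Quotient.mk I))).base :=
      Scheme.Pullback.range_fst g _
    rw [h1]
    have h2 : Set.range (Spec.map (CommRingCat.ofHom (Ideal.Quotient.mk I))).base =
        PrimeSpectrum.zeroLocus (I : Set A) := by
      change Set.range (PrimeSpectrum.comap (Ideal.Quotient.mk I)) = _
      rw [range_comap_of_surjective _ (Ideal.Quotient.mk I)
        Ideal.Quotient.mk_surjective, Ideal.mk_ker]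
    rw [h2]
    ext u
    change gp u ∈ PrimeSpectrum.zeroLocus (I : Set A) ↔ I ≤ (gp u).asIdeal
    rw [PrimeSpectrum.mem_zeroLocus, SetLike.coe_subset_coe]
  -- the two closed sets
  let T₁ : Set (PrimeSpectrum B) := Set.range (fun x => jp (fp x))
  let T₂ : Set (PrimeSpectrum B) := PrimeSpectrum.zeroLocus (I.map (algebraMap A B) : Set B) ∩
    (Set.range jp)ᶜ
  have hT₁eq : T₁ = Set.range jp ∩ PrimeSpectrum.zeroLocus (I.map (algebraMap A B) : Set B) := by
    ext p
    constructor
    · rintro ⟨x, rfl⟩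
      refine ⟨⟨fp x, rfl⟩, (hgI _).mp ?_⟩
      have : fp x ∈ Set.range fp := ⟨x, rfl⟩
      rw [hrange_fp] at this
      exact this
    · rintro ⟨⟨u, rfl⟩, hu⟩
      have hu' : u ∈ Set.range fp := by
        rw [hrange_fp]
        exact (hgI u).mpr hu
      obtain ⟨x, rfl⟩ := hu'
      exact ⟨x, rfl⟩
  have hT₁ : IsClosed T₁ := h.isClosedMap.isClosed_range
  have hjo : IsOpen (Set.range jp) := j.isOpenEmbedding.isOpen_range
  have hT₂ : IsClosed T₂ := (PrimeSpectrum.isClosed_zeroLocus _).inter hjo.isClosed_compl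
  have hdisj : Disjoint T₁ T₂ := by
    rw [Set.disjoint_left]
    rintro p hp ⟨-, hp2⟩
    rw [hT₁eq] at hp
    exact hp2 hp.1
  have hunion : T₁ ∪ T₂ = PrimeSpectrum.zeroLocus (I.map (algebraMap A B) : Set B) := by
    rw [hT₁eq]
    ext p
    simp only [Set.mem_union, Set.mem_inter_iff, Set.mem_compl_iff, T₂]
    tauto
  obtain ⟨e, he, he₁, he₂⟩ := Groth.Agent.Lib.helper11.HensCouple.exists_idempotent_of_closed_cover
    hI B T₁ T₂ hT₁ hT₂ hdisj hunion
  have hmem : ∀ p : PrimeSpectrum B, e ∉ p.asIdeal ↔ p ∈ PrimeSpectrum.zeroLocus {1 - e} := by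
    intro p
    rw [PrimeSpectrum.mem_zeroLocus, Set.singleton_subset_iff, SetLike.mem_coe]
    constructor
    · intro hp
      have : e * (1 - e) ∈ p.asIdeal := by
        rw [mul_sub, mul_one, he.eq, sub_self]; exact Ideal.zero_mem _
      exact (p.2.mem_or_mem this).resolve_left hp
    · intro hp hp'
      have : (1 : B) ∈ p.asIdeal := by
        have := p.asIdeal.add_mem hp hp'
        rwa [sub_add_cancel] at this
      exact p.2.ne_top ((Ideal.eq_top_iff_one _).mpr this)
  -- `D(e) ⊆ j(U)`
  have hDe : ∀ p : PrimeSpectrum B, e ∉ p.asIdeal → p ∈ Set.range jp := by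
    by_contra hcon
    push Not at hcon
    obtain ⟨p₀, hp₀, hp₀'⟩ := hcon
    let K : Set (PrimeSpectrum B) := PrimeSpectrum.zeroLocus {1 - e} ∩ (Set.range jp)ᶜ
    have hK : IsClosed K := (PrimeSpectrum.isClosed_zeroLocus _).inter hjo.isClosed_compl
    have hne : K.Nonempty := ⟨p₀, (hmem p₀).mp hp₀, hp₀'⟩
    obtain ⟨p, hpK, hpI⟩ := Groth.Agent.Lib.helper11.HensCouple.exists_mem_zeroLocus_of_isClosed
      (I.map (algebraMap A B)) (map_le_jacobson_of_isIntegral I hI.jac) K hK hne
    have hpT₂ : p ∈ T₂ := ⟨hpI, hpK.2⟩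
    exact (hmem p).mpr hpK.1 (he₂ p hpT₂)
  -- the clopen
  let W : U.Opens := j ⁻¹ᵁ (PrimeSpectrum.basicOpen e)
  have hW : ∀ u : U, u ∈ W ↔ e ∉ (jp u).asIdeal := fun u => Iff.rfl
  have hWset : (W : Set U) = jp ⁻¹' PrimeSpectrum.zeroLocus {1 - e} := by
    ext u
    exact (hW u).trans (hmem (jp u))
  refine ⟨W, ?_, ?_, ?_⟩
  · rw [hWset]
    exact (PrimeSpectrum.isClosed_zeroLocus _).preimage j.continuous
  · have hk : IsClosedImmersion (W.ι ≫ j) := by
      apply IsClosedImmersion.of_isPreimmersion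
      have hr : Set.range (W.ι ≫ j).base = PrimeSpectrum.zeroLocus {1 - e} := by
        ext p
        constructor
        · rintro ⟨w, rfl⟩
          have hw : (W.ι.base w) ∈ W := w.2
          exact (hmem _).mp ((hW _).mp hw)
        · intro hp
          obtain ⟨u, rfl⟩ := hDe p ((hmem p).mpr hp)
          have hu : u ∈ W := (hW u).mpr ((hmem _).mpr hp)
          exact ⟨⟨u, hu⟩, rfl⟩
      rw [hr]
      exact PrimeSpectrum.isClosed_zeroLocus _
    haveI : IsIntegralHom (Spec.map (CommRingCat.ofHom (algebraMap A B))) :=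
      IsIntegralHom.SpecMap_iff.mpr (algebraMap_isIntegral_iff.mpr inferInstance)
    have e1 : W.ι ≫ g = (W.ι ≫ j) ≫ Spec.map (CommRingCat.ofHom (algebraMap A B)) := by
      rw [Category.assoc, hjg]
    rw [IsFinite.iff_isIntegralHom_and_locallyOfFiniteType]
    refine ⟨?_, inferInstance⟩
    rw [e1]
    infer_instance
  · intro u hu hIu
    have h1 : jp u ∈ T₁ := by
      rw [hT₁eq]
      exact ⟨⟨u, rfl⟩, (hgI u).mp hIu⟩
    exact hu ((hW u).mpr (he₁ _ h1))

end Groth.Agent.Lib.helper11.HensSplit
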