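import Mathlib
import Groth.Agent.Lib.Helper11.HensSplit

/-!
# Finite part of a quasi-finite separated scheme over a henselian pair / local ring (helper11)
`main'`: generalisation of `HensSplit.main` (quasi-finite instead of étale; closedness of the part over `V(I)` as
hypothesis).  `existsUnique_finite_part` (= S17447).
-/

set_option autoImplicit false
universe u
open CategoryTheory CategoryTheory.Limits AlgebraicGeometry Opposite TopologicalSpace

namespace Groth.Agent.Lib.helper11.HensSplit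

theorem main' (A : Type u) [CommRing A] (I : Ideal A) (hI : HenselianRing A I)
    {U : Scheme.{u}} (g : U ⟶ Spec (CommRingCat.of A)) [QuasiCompact g] [IsSeparated g]
    [LocallyQuasiFinite g] [LocallyOfFiniteType g]
    (hcl : ∀ (B : Type u) [CommRing B] [Algebra A B] [Algebra.IsIntegral A B]
      (j : U ⟶ Spec (CommRingCat.of B)), IsOpenImmersion j →
      j ≫ Spec.map (CommRingCat.ofHom (algebraMap A B)) = g →
      IsClosed ((fun u => (j.base u : PrimeSpectrum B)) ''
        {u | I ≤ (g.base u : PrimeSpectrum A).asIdeal})) :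
    ∃ W : U.Opens, IsClosed (W : Set U) ∧ IsFinite (W.ι ≫ g) ∧
      ∀ u : U, u ∉ W → ¬ I ≤ (g.base u : PrimeSpectrum A).asIdeal := by
  obtain ⟨B, _, _, _, j, hj, hjg⟩ := exists_openImmersion_integral A g
  haveI := hj
  -- points
  let jp : U → PrimeSpectrum B := fun u => j.base u
  let gp : U → PrimeSpectrum A := fun u => g.base u
  have hcomap : ∀ u : U, PrimeSpectrum.comap (algebraMap A B) (jp u) = gp u := by
    intro u
    have := congrArg (fun f => f.base u) hjg
    exact this
  have hgI : ∀ u : U, I ≤ (gp u).asIdeal ↔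
      jp u ∈ PrimeSpectrum.zeroLocus (I.map (algebraMap A B) : Set B) := by
    intro u
    have e : (gp u).asIdeal = (jp u).asIdeal.comap (algebraMap A B) :=
      (congrArg PrimeSpectrum.asIdeal (hcomap u)).symm
    rw [e, PrimeSpectrum.mem_zeroLocus, SetLike.coe_subset_coe, Ideal.map_le_iff_le_comap]
  -- the two closed sets
  let T₁ : Set (PrimeSpectrum B) := jp '' {u | I ≤ (gp u).asIdeal}
  let T₂ : Set (PrimeSpectrum B) := PrimeSpectrum.zeroLocus (I.map (algebraMap A B) : Set B) ∩
    (Set.range jp)ᶜ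
  have hT₁eq : T₁ = Set.range jp ∩ PrimeSpectrum.zeroLocus (I.map (algebraMap A B) : Set B) := by
    ext p
    constructor
    · rintro ⟨u, hu, rfl⟩
      exact ⟨⟨u, rfl⟩, (hgI u).mp hu⟩
    · rintro ⟨⟨u, rfl⟩, hu⟩
      exact ⟨u, (hgI u).mpr hu, rfl⟩
  have hT₁ : IsClosed T₁ := hcl B j hj hjg
  have hjo : IsOpen (Set.range jp) := j.isOpenEmbedding.isOpen_range
  have hT₂ : IsClosed T₂ := (PrimeSpectrum.isClosed_zeroLocus _).inter hjo.isClosed_compl
  have hdisj : Disjoint T₁ T₂ := by
    rw [Set.disjoint_left]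
    rintro p hp ⟨-, hp2⟩
    rw [hT₁eq] at hp
    exact hp2 hp.1
  have hunion : T₁ ∪ T₂ = PrimeSpectrum.zeroLocus (I.map (algebraMap A B) : Set B) := by
    rw [hT₁eq]
    ext p
    simp only [Set.mem_union, Set.mem_inter_iff, Set.mem_compl_iff, T₂]
    tauto
  obtain ⟨e, he, he₁, he₂⟩ := Groth.Agent.Lib.helper11.HensCouple.exists_idempotent_of_closed_cover
    hI B T₁ T₂ hT₁ hT₂ hdisj hunion
  have hmem : ∀ p : PrimeSpectrum B, e ∉ p.asIdeal ↔ p ∈ PrimeSpectrum.zeroLocus {1 - e} := by
    intro p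
    rw [PrimeSpectrum.mem_zeroLocus, Set.singleton_subset_iff, SetLike.mem_coe]
    constructor
    · intro hp
      have : e * (1 - e) ∈ p.asIdeal := by
        rw [mul_sub, mul_one, he.eq, sub_self]; exact Ideal.zero_mem _
      exact (p.2.mem_or_mem this).resolve_left hp
    · intro hp hp'
      have : (1 : B) ∈ p.asIdeal := by
        have := p.asIdeal.add_mem hp hp'
        rwa [sub_add_cancel] at this
      exact p.2.ne_top ((Ideal.eq_top_iff_one _).mpr this)
  -- `D(e) ⊆ j(U)`
  have hDe : ∀ p : PrimeSpectrum B, e ∉ p.asIdeal → p ∈ Set.range jp := by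
    by_contra hcon
    push Not at hcon
    obtain ⟨p₀, hp₀, hp₀'⟩ := hcon
    let K : Set (PrimeSpectrum B) := PrimeSpectrum.zeroLocus {1 - e} ∩ (Set.range jp)ᶜ
    have hK : IsClosed K := (PrimeSpectrum.isClosed_zeroLocus _).inter hjo.isClosed_compl
    have hne : K.Nonempty := ⟨p₀, (hmem p₀).mp hp₀, hp₀'⟩
    obtain ⟨p, hpK, hpI⟩ := Groth.Agent.Lib.helper11.HensCouple.exists_mem_zeroLocus_of_isClosed
      (I.map (algebraMap A B)) (map_le_jacobson_of_isIntegral I hI.jac) K hK hne
    have hpT₂ : p ∈ T₂ := ⟨hpI, hpK.2⟩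
    exact (hmem p).mpr hpK.1 (he₂ p hpT₂)
  -- the clopen
  let W : U.Opens := j ⁻¹ᵁ (PrimeSpectrum.basicOpen e)
  have hW : ∀ u : U, u ∈ W ↔ e ∉ (jp u).asIdeal := fun u => Iff.rfl
  have hWset : (W : Set U) = jp ⁻¹' PrimeSpectrum.zeroLocus {1 - e} := by
    ext u
    exact (hW u).trans (hmem (jp u))
  refine ⟨W, ?_, ?_, ?_⟩
  · rw [hWset]
    exact (PrimeSpectrum.isClosed_zeroLocus _).preimage j.continuous
  · have hk : IsClosedImmersion (W.ι ≫ j) := by
      apply IsClosedImmersion.of_isPreimmersion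
      have hr : Set.range (W.ι ≫ j).base = PrimeSpectrum.zeroLocus {1 - e} := by
        ext p
        constructor
        · rintro ⟨w, rfl⟩
          have hw : (W.ι.base w) ∈ W := w.2
          exact (hmem _).mp ((hW _).mp hw)
        · intro hp
          obtain ⟨u, rfl⟩ := hDe p ((hmem p).mpr hp)
          have hu : u ∈ W := (hW u).mpr ((hmem _).mpr hp)
          exact ⟨⟨u, hu⟩, rfl⟩
      rw [hr]
      exact PrimeSpectrum.isClosed_zeroLocus _
    haveI : IsIntegralHom (Spec.map (CommRingCat.ofHom (algebraMap A B))) :=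
      IsIntegralHom.SpecMap_iff.mpr (algebraMap_isIntegral_iff.mpr inferInstance)
    have e1 : W.ι ≫ g = (W.ι ≫ j) ≫ Spec.map (CommRingCat.ofHom (algebraMap A B)) := by
      rw [Category.assoc, hjg]
    rw [IsFinite.iff_isIntegralHom_and_locallyOfFiniteType]
    refine ⟨?_, inferInstance⟩
    rw [e1]
    infer_instance
  · intro u hu hIu
    have h1 : jp u ∈ T₁ := by
      rw [hT₁eq]
      exact ⟨⟨u, rfl⟩, (hgI u).mp hIu⟩
    exact hu ((hW u).mpr (he₁ _ h1))


/-- **S17447.** -/
theorem existsUnique_finite_part (R : Type u) [CommRing R] [HenselianLocalRing R]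
    {X : Scheme.{u}} (f : X ⟶ Spec (CommRingCat.of R))
    [LocallyQuasiFinite f] [LocallyOfFiniteType f] [QuasiCompact f] [IsSeparated f] :
    ∃! W : X.Opens, IsClosed (W : Set X) ∧ IsFinite (W.ι ≫ f) ∧
      ∀ x : X, f.base x = IsLocalRing.closedPoint R → x ∈ W := by
  set m := IsLocalRing.maximalIdeal R with hm_def
  let fp : X → PrimeSpectrum R := fun x => f.base x
  have hm : ∀ x : X, m ≤ (fp x).asIdeal ↔ fp x = IsLocalRing.closedPoint R := by
    intro x
    constructor
    · intro h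
      apply PrimeSpectrum.ext
      exact ((IsLocalRing.maximalIdeal.isMaximal R).eq_of_le (fp x).2.ne_top h).symm
    · intro h
      rw [h]
      exact le_rfl
  have hfinite : {u : X | m ≤ (fp u).asIdeal}.Finite := by
    have : {u : X | m ≤ (fp u).asIdeal} = f.base ⁻¹' {IsLocalRing.closedPoint R} := by
      ext u
      exact hm u
    rw [this]
    exact f.finite_preimage_singleton _
  obtain ⟨W, hWcl, hWfin, hW⟩ := main' R m inferInstance f (by
    intro B _ _ _ j hj hjg
    rw [Set.image_eq_iUnion]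
    apply Set.Finite.isClosed_biUnion hfinite
    intro u hu
    let jp : X → PrimeSpectrum B := fun u => j.base u
    have hcomap : PrimeSpectrum.comap (algebraMap R B) (jp u) = fp u := by
      have := congrArg (fun f => f.base u) hjg
      exact this
    have hmax : ((jp u).asIdeal.comap (algebraMap R B)).IsMaximal := by
      have e1 : (jp u).asIdeal.comap (algebraMap R B) = (fp u).asIdeal :=
        congrArg PrimeSpectrum.asIdeal hcomap
      rw [e1, (hm u).mp hu]
      exact IsLocalRing.maximalIdeal.isMaximal R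
    have hmax' : (jp u).asIdeal.IsMaximal :=
      Ideal.isMaximal_of_isIntegral_of_isMaximal_comap (jp u).asIdeal hmax
    exact (PrimeSpectrum.isClosed_singleton_iff_isMaximal (jp u)).mpr hmax')
  have hWmem : ∀ x : X, f.base x = IsLocalRing.closedPoint R → x ∈ W := by
    intro x hx
    by_contra hxW
    exact hW x hxW ((hm x).mpr hx)
  refine ⟨W, ⟨hWcl, hWfin, hWmem⟩, ?_⟩
  -- uniqueness
  have key : ∀ W₁ W₂ : X.Opens, IsClosed (W₁ : Set X) → IsFinite (W₁.ι ≫ f) →
      IsClosed (W₂ : Set X) → (∀ x : X, f.base x = IsLocalRing.closedPoint R → x ∈ W₂) →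
      (W₁ : Set X) ⊆ W₂ := by
    intro W₁ W₂ h₁cl h₁fin _ h₂mem
    by_contra hnot
    rw [Set.not_subset] at hnot
    obtain ⟨x₀, hx₀1, hx₀2⟩ := hnot
    -- `D = W₁ \ W₂` is closed in `X`
    let D : Set X := (W₁ : Set X) ∩ (W₂ : Set X)ᶜ
    have hDcl : IsClosed D := h₁cl.inter W₂.2.isClosed_compl
    let D' : Set W₁ := W₁.ι.base ⁻¹' D
    have hD'cl : IsClosed D' := hDcl.preimage W₁.ι.continuous
    haveI := h₁fin
    have himg : IsClosed ((W₁.ι ≫ f).base '' D') := (W₁.ι ≫ f).isClosedMap _ hD'cl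
    have hne : ((W₁.ι ≫ f).base '' D').Nonempty := ⟨_, ⟨⟨x₀, hx₀1⟩, ⟨hx₀1, hx₀2⟩, rfl⟩⟩
    have hcp : IsLocalRing.closedPoint R ∈ ((W₁.ι ≫ f).base '' D') := by
      by_contra hcon
      let O : TopologicalSpace.Opens (PrimeSpectrum R) := ⟨((W₁.ι ≫ f).base '' D')ᶜ, himg.isOpen_compl⟩
      have hO : IsLocalRing.closedPoint R ∈ O := hcon
      have hOtop : O = ⊤ := (IsLocalRing.closedPoint_mem_iff O).mp hO
      obtain ⟨p, hp⟩ := hne
      have : p ∈ O := by rw [hOtop]; trivial
      exact this hp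
    obtain ⟨w, hwD, hw⟩ := hcp
    have h1 : f.base (W₁.ι.base w) = IsLocalRing.closedPoint R := by
      rw [← hw, Scheme.Hom.comp_apply]
    exact hwD.2 (h₂mem _ h1)
  rintro W' ⟨hW'cl, hW'fin, hW'mem⟩
  apply TopologicalSpace.Opens.ext
  exact Set.Subset.antisymm (key W' W hW'cl hW'fin hWcl hWmem) (key W W' hWcl hWfin hW'cl hW'mem)

end Groth.Agent.Lib.helper11.HensSplit
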