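import Mathlib
import Groth.Agent.Lib.Helper26.PairHensFlat
import Groth.Agent.Lib.Helper3.FlatDescG

/-!
# Flat henselian finitely presented algebras come from flat finitely presented algebras (helper11)

* `flat_of_faithfullyFlat_of_flat` : descent of flatness along a faithfully flat map
  `A → R → R'`.
* `flat_localization_of_flat_of_liesOver` : if `R → B` is flat, `B` is `A`-flat and `Q` lies over
  `q`, then `R_q` is `A`-flat.
* `exists_prime_comap_eq` : primes of `R` containing `J` lift to the henselization of `(R, J)`.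
* `main` : S17615.
-/

universe u

namespace Groth.Agent.Lib.helper11.HfpFlat

open TensorProduct Groth.Agent.Lib.helper26.PairHens

section Descent

variable (A R R' : Type*) [CommRing A] [CommRing R] [CommRing R']
  [Algebra A R] [Algebra R R'] [Algebra A R'] [IsScalarTower A R R']

/-- the comparison map `R ⊗[A] M → R' ⊗[A] M`. -/
noncomputable def cmp (M : Type*) [AddCommGroup M] [Module A M] : R ⊗[A] M →ₗ[A] R' ⊗[A] M :=
  (IsScalarTower.toAlgHom A R R').toLinearMap.rTensor M

theorem cmp_eq (M : Type*) [AddCommGroup M] [Module A M] (x : R ⊗[A] M) :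
    cmp A R R' M x =
      AlgebraTensorModule.cancelBaseChange A R R' R' M ((1 : R') ⊗ₜ[R] x) := by
  induction x with
  | zero => simp
  | tmul r m =>
    simp [cmp, Algebra.smul_def]
  | add x y hx hy => rw [map_add, hx, hy, TensorProduct.tmul_add, map_add]

theorem cmp_injective [Module.FaithfullyFlat R R'] (M : Type*) [AddCommGroup M] [Module A M] :
    Function.Injective (cmp A R R' M) := by
  intro x y hxy
  rw [cmp_eq, cmp_eq] at hxy
  have h1 := (AlgebraTensorModule.cancelBaseChange A R R' R' M).injective hxy
  exact Module.FaithfullyFlat.tensorProduct_mk_injective (A := R) (B := R') (R ⊗[A] M) h1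

/-- Descent of flatness: if `R'` is faithfully flat over `R` and flat over `A`, then `R` is flat
over `A`. -/
theorem flat_of_faithfullyFlat_of_flat [Module.FaithfullyFlat R R'] [Module.Flat A R'] :
    Module.Flat A R := by
  rw [Module.Flat.iff_lTensor_injective']
  intro N
  rw [injective_iff_map_eq_zero]
  intro x hx
  apply cmp_injective A R R' N
  rw [map_zero]
  apply Module.Flat.lTensor_preserves_injective_linearMap (M := R') N.subtype
    N.injective_subtype
  rw [map_zero]
  have hcomm : (N.subtype.lTensor R') (cmp A R R' N x) = cmp A R R' A (N.subtype.lTensor R x) := by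
    simp only [cmp]
    rw [← LinearMap.comp_apply, ← LinearMap.comp_apply, LinearMap.lTensor_comp_rTensor,
      LinearMap.rTensor_comp_lTensor]
  rw [hcomm, hx, map_zero]

end Descent

section Local

variable {A R B : Type*} [CommRing A] [CommRing R] [CommRing B]
  [Algebra A R] [Algebra R B] [Algebra A B] [IsScalarTower A R B]

/-- If `R → B` is flat, `B` is flat over `A` and the prime `Q` of `B` lies over `q`, then `R_q`
is flat over `A`. -/
theorem flat_localization_of_flat_of_liesOver [Module.Flat R B] [Module.Flat A B]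
    (q : Ideal R) [q.IsPrime] (Q : Ideal B) [Q.IsPrime] [Q.LiesOver q] :
    Module.Flat A (Localization.AtPrime q) := by
  letI := Localization.AtPrime.algebraOfLiesOver q Q
  haveI : IsLocalHom (algebraMap (Localization.AtPrime q) (Localization.AtPrime Q)) :=
    Localization.isLocalHom_localRingHom _ _ _ Ideal.LiesOver.over
  haveI : Module.FaithfullyFlat (Localization.AtPrime q) (Localization.AtPrime Q) :=
    Module.FaithfullyFlat.of_flat_of_isLocalHom
  exact flat_of_faithfullyFlat_of_flat A (Localization.AtPrime q) (Localization.AtPrime Q)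

end Local

section Lift

variable {R B : Type u} [CommRing R] [CommRing B] [Algebra R B] {J : Ideal R}

/-- Primes of `R` containing `J` are contractions of primes of the henselization of `(R, J)`. -/
theorem exists_prime_comap_eq (hB : Hens2.IsPairHenselization R J B) (q : Ideal R) [q.IsPrime]
    (hJq : J ≤ q) : ∃ Q : Ideal B, Q.IsPrime ∧ Q.comap (algebraMap R B) = q := by
  have hbij := bijective_quotientMap_pow hB 1
  have hJ1 : J ^ 1 ≤ q := by rwa [pow_one]
  let e := RingEquiv.ofBijective _ hbij
  let ψ : B →+* R ⧸ q :=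
    (Ideal.Quotient.factor hJ1).comp (e.symm.toRingHom.comp (Ideal.Quotient.mk _))
  refine ⟨RingHom.ker ψ, RingHom.ker_isPrime ψ, ?_⟩
  ext r
  rw [Ideal.mem_comap, RingHom.mem_ker]
  have h1 : e.symm (Ideal.Quotient.mk _ (algebraMap R B r)) = Ideal.Quotient.mk _ r := by
    rw [RingEquiv.symm_apply_eq]
    exact (Ideal.quotientMap_mk (f := algebraMap R B) (H := Ideal.le_comap_map)).symm
  have h2 : ψ (algebraMap R B r) = Ideal.Quotient.mk q r := by
    change Ideal.Quotient.factor hJ1 (e.symm (Ideal.Quotient.mk _ (algebraMap R B r))) = _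
    rw [h1, Ideal.Quotient.factor_mk]
  rw [h2, Ideal.Quotient.eq_zero_iff_mem]

end Lift

section Main

/-- **S17615.** If the henselization `B` of `(R₀, IR₀)` (`R₀` finitely presented over `A`) is flat
over `A`, then `B` is the henselization of `(S, IS)` for a finitely presented flat `A`-algebra `S`
(a principal localization of `R₀`). -/
theorem main (A : Type u) [CommRing A] (I : Ideal A)
    (R₀ : Type u) [CommRing R₀] [Algebra A R₀] [Algebra.FinitePresentation A R₀]
    (B : Type u) [CommRing B] [Algebra R₀ B] [Algebra A B] [IsScalarTower A R₀ B]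
    (hB : Hens2.IsPairHenselization R₀ (I.map (algebraMap A R₀)) B) [Module.Flat A B] :
    ∃ (S : Type u) (_ : CommRing S) (_ : Algebra A S) (_ : Algebra S B) (_ : IsScalarTower A S B),
      Algebra.FinitePresentation A S ∧ Module.Flat A S ∧
      Hens2.IsPairHenselization S (I.map (algebraMap A S)) B := by
  classical
  set J : Ideal R₀ := I.map (algebraMap A R₀) with hJ
  haveI : Module.Flat R₀ B := flat_of_isPairHenselization hB
  -- the flat locus
  set U : Set (PrimeSpectrum R₀) :=
    {q | Module.Flat A (LocalizedModule q.asIdeal.primeCompl R₀)} with hUdef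
  have hUo : IsOpen U :=
    Groth.Agent.Lib.helper3.FlatDesc.isOpen_flatLocus_of_finitePresentation
      (R := A) (S := R₀) (M := R₀)
  have hVU : PrimeSpectrum.zeroLocus (J : Set R₀) ⊆ U := by
    intro q hq
    obtain ⟨Q, hQp, hQq⟩ := exists_prime_comap_eq hB q.asIdeal
      ((PrimeSpectrum.mem_zeroLocus _ _).mp hq)
    haveI : Q.LiesOver q.asIdeal := ⟨hQq.symm⟩
    exact flat_localization_of_flat_of_liesOver (A := A) q.asIdeal Q
  -- the function `g`
  obtain ⟨K, hK⟩ := (PrimeSpectrum.isClosed_iff_zeroLocus_ideal _).mp hUo.isClosed_compl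
  have hJK : J ⊔ K = ⊤ := by
    rw [← PrimeSpectrum.zeroLocus_empty_iff_eq_top, PrimeSpectrum.zeroLocus_sup, ← hK]
    exact Set.disjoint_compl_right_iff_subset.mpr hVU |>.inter_eq
  obtain ⟨j, hj, g, hg, hjg⟩ := Submodule.mem_sup.mp (hJK ▸ Submodule.mem_top : (1 : R₀) ∈ J ⊔ K)
  have hgU : ∀ q : PrimeSpectrum R₀, g ∉ q.asIdeal → q ∈ U := by
    intro q hgq
    by_contra hqU
    have : q ∈ PrimeSpectrum.zeroLocus (K : Set R₀) := hK ▸ hqU
    exact hgq ((PrimeSpectrum.mem_zeroLocus _ _).mp this hg)
  -- `g` is a unit of `B`
  have hgB : IsUnit (algebraMap R₀ B g) := by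
    have h1 : algebraMap R₀ B j ∈ Ideal.jacobson (⊥ : Ideal B) :=
      hB.1.jac (Ideal.mem_map_of_mem _ hj)
    have h2 := Ideal.mem_jacobson_bot.mp h1 (-1)
    have h3 : algebraMap R₀ B g = algebraMap R₀ B j * -1 + 1 := by
      have : algebraMap R₀ B j + algebraMap R₀ B g = 1 := by rw [← map_add, hjg, map_one]
      linear_combination this
    rwa [h3]
  -- the algebra `S`
  let S := Localization.Away g
  letI algSB : Algebra S B := (IsLocalization.Away.lift (S := S) g hgB).toAlgebra
  haveI tR₀SB : IsScalarTower R₀ S B := .of_algebraMap_eq fun r =>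
    (IsLocalization.Away.lift_eq (S := S) g hgB r).symm
  haveI tASB : IsScalarTower A S B := .of_algebraMap_eq fun a => by
    rw [IsScalarTower.algebraMap_apply A R₀ B, IsScalarTower.algebraMap_apply R₀ S B,
      ← IsScalarTower.algebraMap_apply A R₀ S]
  refine ⟨S, inferInstance, inferInstance, algSB, tASB, ?_, ?_, ?_, ?_⟩
  · haveI : Algebra.FinitePresentation R₀ S := IsLocalization.Away.finitePresentation g
    exact Algebra.FinitePresentation.trans A R₀ S
  · -- flatness of `S` over `A`
    apply Module.flat_of_isLocalized_maximal S S (fun P => Localization.AtPrime P)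
      (fun P => Algebra.linearMap S _)
    intro P _
    set q : Ideal R₀ := P.comap (algebraMap R₀ S) with hq
    have hgq : g ∉ q := by
      intro hgq
      have : algebraMap R₀ S g ∈ P := hgq
      exact (Ideal.IsPrime.ne_top inferInstance)
        (P.eq_top_of_isUnit_mem this (IsLocalization.Away.algebraMap_isUnit g))
    have hqU : (⟨q, inferInstance⟩ : PrimeSpectrum R₀) ∈ U := hgU ⟨q, inferInstance⟩ hgq
    have hflat : Module.Flat A (Localization.AtPrime q) := hqU
    let e : Localization.AtPrime q ≃ₐ[R₀] Localization.AtPrime P :=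
      IsLocalization.localizationLocalizationAtPrimeIsoLocalization (Submonoid.powers g) P
    exact Module.Flat.of_linearEquiv (e.toLinearEquiv.restrictScalars A).symm
  · -- `(B, IB)` is henselian
    have : (I.map (algebraMap A S)).map (algebraMap S B) = J.map (algebraMap R₀ B) := by
      rw [hJ, Ideal.map_map, Ideal.map_map, ← IsScalarTower.algebraMap_eq,
        ← IsScalarTower.algebraMap_eq]
    rw [this]
    exact hB.1
  · -- universal property
    intro C _ J' f hC hfJ
    have hle : J.map (f.comp (algebraMap R₀ S)) ≤ J' := by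
      rw [hJ, Ideal.map_map, RingHom.comp_assoc, ← IsScalarTower.algebraMap_eq A R₀ S,
        ← Ideal.map_map]
      exact hfJ
    obtain ⟨φ, hφ, hφu⟩ := hB.2 C J' (f.comp (algebraMap R₀ S)) hC hle
    refine ⟨φ, ?_, ?_⟩
    · apply IsLocalization.ringHom_ext (Submonoid.powers g)
      rw [RingHom.comp_assoc, ← IsScalarTower.algebraMap_eq R₀ S B]
      exact hφ
    · intro φ' hφ'
      apply hφu
      rw [IsScalarTower.algebraMap_eq R₀ S B, ← RingHom.comp_assoc, hφ']

end Main

end Groth.Agent.Lib.helper11.HfpFlat
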