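import Mathlib
import Groth.Prelude.Def_FSch5
import Groth.Agent.Lib.Helper11.OverGen
import Groth.Agent.Lib.Helper11.FormalOpenRing
import Groth.Agent.Lib.Helper11.InvMod
import Groth.Agent.Lib.Helper7.KerSections

set_option autoImplicit false
universe u
open CategoryTheory CategoryTheory.Limits AlgebraicGeometry TopologicalSpace Opposite
open Groth.Agent.Lib.helper11.AdicRingLim Groth.Agent.Lib.helper11.RealLimSec
open Groth.Agent.Lib.helper11.FormalOpenTower Groth.Agent.Lib.helper11.FormalOpenRing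

namespace Groth.Agent.Lib.helper11.IdealDefFT

variable (𝔛 : FSch.Sys.{u}) (h : 𝔛.IsFormal) (n : ℕ)

/-- the canonical morphism `O_𝔛 → (u_n)_* u_n^* O_𝔛` -/
noncomputable abbrev η : FSch.unitF 𝔛 h ⟶
    (FSch.levelMor 𝔛 h n).push.obj ((FSch.levelMor 𝔛 h n).pull.obj (FSch.unitF 𝔛 h)) :=
  (FSch.levelMor 𝔛 h n).adj.unit.app (FSch.unitF 𝔛 h)

instance final_fn : (FSch.levelMor 𝔛 h n).fn.Final :=
  inferInstanceAs (Opens.map (𝔛.gInv h n)).Final

/-- `u_n^* O_𝔛 → O_{X_n}` -/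
noncomputable abbrev ε : (FSch.levelMor 𝔛 h n).pull.obj (FSch.unitF 𝔛 h) ⟶
    SheafOfModules.unit (ModSite.ringSh (𝔛.X n).sheaf) :=
  SheafOfModules.pullbackObjUnitToUnit (FSch.levelMor 𝔛 h n).sharpR

instance isIso_ε : IsIso (ε 𝔛 h n) :=
  SheafOfModules.instIsIsoPullbackObjUnitToUnitOfFinal _

theorem η_comp : η 𝔛 h n ≫ (FSch.levelMor 𝔛 h n).push.map (ε 𝔛 h n) =
    SheafOfModules.unitToPushforwardObjUnit (FSch.levelMor 𝔛 h n).sharpR := by
  have h1 := SheafOfModules.pullbackPushforwardAdjunction_homEquiv_pullbackObjUnitToUnit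
    (FSch.levelMor 𝔛 h n).sharpR
  rw [Adjunction.homEquiv_unit] at h1
  exact h1

theorem unitTo_app (U : (𝔛.X 0).Opens) (a : OU 𝔛 h U) :
    ((SheafOfModules.unitToPushforwardObjUnit (FSch.levelMor 𝔛 h n).sharpR).val.app (op U)).hom a =
      prU 𝔛 h U n a := rfl

theorem η_app_eq_zero_iff (U : (𝔛.X 0).Opens) (a : OU 𝔛 h U) :
    ((η 𝔛 h n).val.app (op U)).hom a = 0 ↔ prU 𝔛 h U n a = 0 := by
  have h1 := η_comp 𝔛 h n
  have h2 := congrArg (fun ψ => (ψ.val.app (op U)).hom a) h1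
  have h3 : (((FSch.levelMor 𝔛 h n).push.map (ε 𝔛 h n)).val.app (op U)).hom
      (((η 𝔛 h n).val.app (op U)).hom a) = prU 𝔛 h U n a := h2
  rw [← h3]
  haveI : IsIso (((FSch.levelMor 𝔛 h n).push.map (ε 𝔛 h n)).val.app (op U)) := by
    change IsIso ((SheafOfModules.evaluation _ (op U)).map ((FSch.levelMor 𝔛 h n).push.map (ε 𝔛 h n)))
    infer_instance
  have hinj : Function.Injective (((FSch.levelMor 𝔛 h n).push.map (ε 𝔛 h n)).val.app (op U)).hom :=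
    (ConcreteCategory.bijective_of_isIso
      (((FSch.levelMor 𝔛 h n).push.map (ε 𝔛 h n)).val.app (op U))).1
  constructor
  · intro h0
    rw [h0]
    exact map_zero _
  · intro h0
    apply hinj
    rw [h0]
    exact (map_zero _).symm

/-- the `n`-th ideal of definition, as an `O_𝔛`-module -/
noncomputable abbrev Kn : FSch.ModF 𝔛 h := kernel (η 𝔛 h n)

/-- the inclusion of the ideal of definition -/
noncomputable abbrev jn : Kn 𝔛 h n ⟶ FSch.unitF 𝔛 h := kernel.ι (η 𝔛 h n)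

theorem jn_leftExact (U : (𝔛.X 0).Opens) :
    Function.Injective ((jn 𝔛 h n).val.app (op U)).hom ∧
      ∀ b : (FSch.unitF 𝔛 h).val.obj (op U), ((η 𝔛 h n).val.app (op U)).hom b = 0 →
        ∃ a : (Kn 𝔛 h n).val.obj (op U), ((jn 𝔛 h n).val.app (op U)).hom a = b :=
  Groth.Agent.Lib.helper7.KerSections.sections_leftExact_general
    (ShortComplex.mk (jn 𝔛 h n) (η 𝔛 h n) (kernel.condition _))
    (ShortComplex.exact_of_f_is_kernel _ (kernelIsKernel _)) (op U)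

theorem jn_injective (U : (𝔛.X 0).Opens) :
    Function.Injective ((jn 𝔛 h n).val.app (op U)).hom := (jn_leftExact 𝔛 h n U).1

theorem exists_jn (U : (𝔛.X 0).Opens) (a : OU 𝔛 h U) (ha : prU 𝔛 h U n a = 0) :
    ∃ m : (Kn 𝔛 h n).val.obj (op U), ((jn 𝔛 h n).val.app (op U)).hom m = a :=
  (jn_leftExact 𝔛 h n U).2 a ((η_app_eq_zero_iff 𝔛 h n U a).mpr ha)

theorem prU_jn (U : (𝔛.X 0).Opens) (m : (Kn 𝔛 h n).val.obj (op U)) :
    prU 𝔛 h U n (((jn 𝔛 h n).val.app (op U)).hom m) = 0 := by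
  rw [← η_app_eq_zero_iff]
  have h1 := kernel.condition (η 𝔛 h n)
  have h2 := congrArg (fun ψ => (ψ.val.app (op U)).hom m) h1
  exact h2

/-- **The ideals of definition of a locally Noetherian formal scheme are of finite type.** -/
theorem isFiniteType_Kn (h𝔛 : 𝔛.IsLocNoethFormal) (n : ℕ) :
    SheafOfModules.IsFiniteType (R := ModSite.ringSh (𝔛.Osh h𝔛.1)) (Kn 𝔛 h𝔛.1 n) := by
  classical
  have hfg : ∀ W : (𝔛.X 0).affineOpens, ∃ s : Finset (OU 𝔛 h𝔛.1 W.1),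
      Ideal.span (s : Set (OU 𝔛 h𝔛.1 W.1)) = RingHom.ker (prU 𝔛 h𝔛.1 W.1 n) :=
    fun W => ker_prU_fg 𝔛 h𝔛 W.2 n
  choose s hs using hfg
  have hm : ∀ (W : (𝔛.X 0).affineOpens) (l : ↥(s W)),
      ∃ m : (Kn 𝔛 h𝔛.1 n).val.obj (op W.1),
        ((jn 𝔛 h𝔛.1 n).val.app (op W.1)).hom m = (l : OU 𝔛 h𝔛.1 W.1) := fun W l =>
    exists_jn 𝔛 h𝔛.1 n W.1 l (by
      have : (l : OU 𝔛 h𝔛.1 W.1) ∈ RingHom.ker (prU 𝔛 h𝔛.1 W.1 n) := by
        rw [← hs W]; exact Ideal.subset_span l.2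
      exact this)
  choose m hm using hm
  refine OverGen.isFiniteType_of_sub (jn 𝔛 h𝔛.1 n) (jn_injective 𝔛 h𝔛.1 n)
    (fun W : (𝔛.X 0).affineOpens => W.1) (iSup_affineOpens_eq_top _)
    ((𝔛.X 0).affineOpens) (𝔛.X 0).isBasis_affineOpens (fun W => ↥(s W)) m ?_
  intro W D hD hDW y
  obtain ⟨a, ha⟩ : ∃ a : OU 𝔛 h𝔛.1 D, a = ((jn 𝔛 h𝔛.1 n).val.app (op D)).hom y := ⟨_, rfl⟩
  have h1 : a ∈ RingHom.ker (prU 𝔛 h𝔛.1 D n) := by
    rw [ha]
    exact prU_jn 𝔛 h𝔛.1 n D y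
  rw [ker_prU_eq_map 𝔛 hDW h𝔛 W.2 hD n, ← hs W, Ideal.map_span, Set.image_eq_range,
    Ideal.mem_span_range_iff_exists_fun] at h1
  obtain ⟨c, hc⟩ := h1
  refine ⟨c, ha.symm.trans (hc.symm.trans ?_)⟩
  refine Finset.sum_congr rfl (fun l _ => ?_)
  rw [hm W l]
  rfl

end Groth.Agent.Lib.helper11.IdealDefFT
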