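import Groth.Agent.Lib.Helper11.SerreGG
import Groth.Agent.Lib.Helper7.IdealMod
import Groth.Agent.Lib.Helper16.QCohEpi
import Groth.Agent.Lib.Helper16.Satur2
import Groth.Prelude.Def_BlowUp2

/-!
# The `IdealSheafData` of a quasi-coherent submodule of `O_X` (helper11)

* `idealOfHom H i : X.IdealSheafData` for `i : H ⟶ O_X`, `H` quasi-coherent: on an affine open `W`
  the ideal of functions in the image of `i`.
* `idealModIso H i : H ≅ ClSub.idealMod (idealOfHom H i)` for `i` mono, `idealModIso_hom_ι`.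
* `isFiniteTypeIdeal_idealOfHom`.
-/

set_option autoImplicit false
universe u
open CategoryTheory CategoryTheory.Limits AlgebraicGeometry TopologicalSpace Opposite
open Scheme.Modules
open Groth.Agent.Lib.helper7 Groth.Agent.Lib.helper16.QCohEpi Groth.Agent.Lib.helper16.Satur
open Groth.Agent.Lib.helper16.CohFinite

namespace Groth.Agent.Lib.helper11.IdealOfMono

variable {X : Scheme.{u}} (H : X.Modules) (i : H ⟶ Coh.structureModule X)

/-- the ideal of functions over `W` in the image of `i` -/
noncomputable def imgIdeal (W : X.Opens) : Ideal Γ(X, W) :=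
  LinearMap.range (secLin i W)

theorem mem_imgIdeal_iff (W : X.Opens) (s : Γ(X, W)) :
    s ∈ imgIdeal H i W ↔ ∃ a : Γ(H, W), (i.app W).hom a = s := Iff.rfl

open Groth.Agent.Lib.helper11.SerreGG Groth.Agent.Lib.helper12.TwistExtend in
theorem map_imgIdeal_basicOpen [H.IsQuasicoherent] {W : X.Opens} (hW : IsAffineOpen W)
    (f : Γ(X, W)) :
    (imgIdeal H i W).map (X.presheaf.map (homOfLE (X.basicOpen_le f)).op).hom =
      imgIdeal H i (X.basicOpen f) := by
  apply le_antisymm
  · rw [Ideal.map_le_iff_le_comap]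
    rintro _ ⟨a, rfl⟩
    exact ⟨H.presheaf.map (homOfLE (X.basicOpen_le f)).op a, app_map i (X.basicOpen_le f) a⟩
  · rintro _ ⟨t, rfl⟩
    obtain ⟨n, τ, hτ⟩ := exists_pow_smul_eq_res hW H f t
    have hmem : (X.presheaf.map (homOfLE (X.basicOpen_le f)).op).hom
        (show Γ(X, W) from (i.app W).hom τ) ∈
        (imgIdeal H i W).map (X.presheaf.map (homOfLE (X.basicOpen_le f)).op).hom :=
      Ideal.mem_map_of_mem _ ⟨τ, rfl⟩
    have h1 : (X.presheaf.map (homOfLE (X.basicOpen_le f)).op).hom
        (show Γ(X, W) from (i.app W).hom τ) =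
        ((X.presheaf.map (homOfLE (X.basicOpen_le f)).op).hom f) ^ n •
          (show Γ(X, X.basicOpen f) from (i.app (X.basicOpen f)).hom t) := by
      have h2 := app_map i (X.basicOpen_le f) τ
      have h3 : H.presheaf.map (homOfLE (X.basicOpen_le f)).op τ =
          ((X.presheaf.map (homOfLE (X.basicOpen_le f)).op).hom f) ^ n • t := hτ
      rw [h3] at h2
      refine h2.symm.trans ?_
      exact Scheme.Modules.Hom.app_smul i _ t
    rw [h1] at hmem
    exact mem_of_pow_smul_mem ((imgIdeal H i W).map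
      (X.presheaf.map (homOfLE (X.basicOpen_le f)).op).hom)
      (X.toRingedSpace.isUnit_res_basicOpen f) n hmem

/-- the `IdealSheafData` of the image of `i : H ⟶ O_X`, `H` quasi-coherent -/
noncomputable def idealOfHom [H.IsQuasicoherent] : X.IdealSheafData where
  ideal W := imgIdeal H i W.1
  map_ideal_basicOpen W f := map_imgIdeal_basicOpen H i W.2 f

theorem idealOfHom_ideal [H.IsQuasicoherent] (W : X.affineOpens) :
    (idealOfHom H i).ideal W = imgIdeal H i W.1 := rfl

theorem isFiniteTypeIdeal_idealOfHom [H.IsQuasicoherent] (hft : CohB1.IsFT H) :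
    BlowUp.IsFiniteTypeIdeal (idealOfHom H i) := by
  intro W
  have hfin : Module.Finite Γ(X, W.1) Γ(H, W.1) := finite_sections_of_isFiniteType H hft W.2
  show (LinearMap.range (secLin i W.1)).FG
  rw [LinearMap.range_eq_map]
  exact Submodule.FG.map _ Module.Finite.fg_top

theorem comp_toSubscheme_eq_zero [H.IsQuasicoherent] :
    i ≫ ClSub.toSubscheme (idealOfHom H i) = 0 := by
  refine hom_ext_of_basis _ _ {D : X.Opens | IsAffineOpen D} X.isBasis_affineOpens
    (fun D hD s => ?_)
  have h1 : (((i ≫ ClSub.toSubscheme (idealOfHom H i)).app D).hom s) =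
      ((idealOfHom H i).subschemeι.app D).hom (show Γ(X, D) from (i.app D).hom s) := rfl
  have h2 : (show Γ(X, D) from (i.app D).hom s) ∈
      RingHom.ker ((idealOfHom H i).subschemeι.app D).hom := by
    rw [(idealOfHom H i).ker_subschemeι_app ⟨D, hD⟩]
    exact ⟨s, rfl⟩
  rw [h1, (RingHom.mem_ker).mp h2]
  rfl

/-- the canonical map from `H` to the ideal sheaf of its image -/
noncomputable def toIdealMod [H.IsQuasicoherent] : H ⟶ ClSub.idealMod (idealOfHom H i) :=
  kernel.lift _ i (comp_toSubscheme_eq_zero H i)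

@[reassoc]
theorem toIdealMod_ι [H.IsQuasicoherent] :
    toIdealMod H i ≫ ClSub.idealModι (idealOfHom H i) = i :=
  kernel.lift_ι _ _ _

theorem isIso_toIdealMod [H.IsQuasicoherent] [Mono i] : IsIso (toIdealMod H i) := by
  have hm : Mono (toIdealMod H i) := mono_of_mono_fac (toIdealMod_ι H i)
  refine isIso_of_mono_of_surjective_on_affine_cover _ (fun W : X.affineOpens => W.1)
    (fun W => W.2) (fun x => ?_) (fun W t => ?_)
  · obtain ⟨_, ⟨U, hU : IsAffineOpen U, rfl⟩, hx, -⟩ :=
      X.isBasis_affineOpens.exists_subset_of_mem_open (Set.mem_univ x) isOpen_univ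
    exact ⟨⟨U, hU⟩, hx⟩
  · obtain ⟨a, ha⟩ := IdealMod.idealModι_app_mem (idealOfHom H i) W t
    refine ⟨a, IdealMod.idealModι_app_injective (idealOfHom H i) W.1 ?_⟩
    refine Eq.trans ?_ ha
    exact congrArg (fun φ : H ⟶ Coh.structureModule X => (φ.app W.1).hom a) (toIdealMod_ι H i)

/-- `H ≅ idealMod (idealOfHom H i)` for a monomorphism `i : H ⟶ O_X`, `H` quasi-coherent -/
noncomputable def idealModIso [H.IsQuasicoherent] [Mono i] :
    H ≅ ClSub.idealMod (idealOfHom H i) :=
  have := isIso_toIdealMod H i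
  asIso (toIdealMod H i)

theorem idealModIso_hom_ι [H.IsQuasicoherent] [Mono i] :
    (idealModIso H i).hom ≫ ClSub.idealModι (idealOfHom H i) = i :=
  toIdealMod_ι H i

end Groth.Agent.Lib.helper11.IdealOfMono
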