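import Groth.Agent.Lib.Helper11.IdealGG
import Groth.Agent.Lib.Helper11.IdealOfMono
import Groth.Agent.Lib.Helper16.FLF1

/-!
# Ampleness from global generation of twisted finite type ideals, `IdealSheafData` form (helper11)

EGA II 4.5.5 (c) ⇒ (a).
-/

set_option autoImplicit false
universe u
open CategoryTheory CategoryTheory.Limits AlgebraicGeometry TopologicalSpace Opposite
open Scheme.Modules
open Groth.Agent.Lib.helper11.InvMod Groth.Agent.Lib.helper11.IdealGG
open Groth.Agent.Lib.helper11.IdealOfMono Groth.Agent.Lib.helper11.CounitEpi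
open Groth.Agent.Lib.helper12.TensorInv
open Groth.Agent.Lib.helper11.IsoLocus Groth.Agent.Lib.helper11.SerreCrit
open Groth.Agent.Lib.helper7 Groth.Agent.Lib.helper16.Satur

namespace Groth.Agent.Lib.helper11.IdealGG2

variable {X : Scheme.{u}}

/-- **EGA II 4.5.5 (c) ⇒ (a)**: if every finite type quasi-coherent ideal has a globally generated
positive twist, then `L` is ample. -/
theorem isAmple_of_ideal_gg [CompactSpace X] [QuasiSeparatedSpace X] (L : X.Modules)
    (hL : PicF.IsInvertible L)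
    (h : ∀ I : X.IdealSheafData, BlowUp.IsFiniteTypeIdeal I → ∃ n : ℕ,
      Curv2.IsGloballyGenerated (CohB1.tensorMod (ClSub.idealMod I) (CohB1.tensorPow L (n + 1)))) :
    CohB1.IsAmple L := by
  refine ⟨hL, inferInstance, fun x => ?_⟩
  obtain ⟨U, hU, hxU, -, hTU⟩ := exists_affine_isTrivOn hL x ⊤ trivial
  obtain ⟨H, i, hm, hq, hft, hle, hv⟩ := exists_ft_ideal_of_affine hU
  obtain ⟨n, hgg⟩ := h (idealOfHom H i) (isFiniteTypeIdeal_idealOfHom H i hft)
  have hgg' : Curv2.IsGloballyGenerated (CohB1.tensorMod H (CohB1.tensorPow L (n + 1))) :=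
    isGloballyGenerated_of_iso (PicGrp.tensorModIso (idealModIso H i).symm (Iso.refl _)) hgg
  obtain ⟨s, h3, h4⟩ := exists_affine_genLocus_of_gg (isInvertible_tensorPow hL _) i hU
    (isTrivOn_tensorPow hTU _) hv (hle hxU) hgg'
  exact ⟨n, s, h3, h4⟩

/-- a quotient of `O^k` is globally generated -/
theorem isGloballyGenerated_of_epi_freeMod {M : X.Modules} {k : ℕ}
    (p : FlatMod.freeMod X k ⟶ M) [hp : Epi p] : Curv2.IsGloballyGenerated M :=
  ⟨ULift.{u} (Fin k), (Groth.Agent.Lib.helper16.FLF.freeModIso X k).inv ≫ p,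
    @epi_comp _ _ _ _ _ (Groth.Agent.Lib.helper16.FLF.freeModIso X k).inv inferInstance p hp⟩

/-- the radical ideal of the complement of an affine open `U` (no finiteness): it is the unit
ideal on `U` and its functions vanish off `U` -/
theorem vanishingIdeal_compl_props {U : X.Opens} (hU : IsAffineOpen U) :
    U ≤ isoLocus (ClSub.idealModι (Scheme.IdealSheafData.vanishingIdeal
      (⟨(U : Set X)ᶜ, U.2.isClosed_compl⟩ : Closeds X))) ∧
    VanishOff (ClSub.idealModι (Scheme.IdealSheafData.vanishingIdeal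
      (⟨(U : Set X)ᶜ, U.2.isClosed_compl⟩ : Closeds X))) U := by
  set Z : Closeds X := ⟨(U : Set X)ᶜ, U.2.isClosed_compl⟩ with hZ
  have hO : (Coh.structureModule X).IsQuasicoherent :=
    Groth.Agent.Lib.helper12.AmpleBasis.structureModule_qcoh X
  have hdisj : Disjoint (U : Set X) (Z : Set X) := disjoint_compl_right
  have hiso : IsoOn (ClSub.idealModι (Scheme.IdealSheafData.vanishingIdeal Z)) U :=
    isoOn_of_bijective_affine _ U hU
      ⟨IdealMod.idealModι_app_injective _ U,
        idealModι_app_surjective_of_disjoint Z ⟨U, hU⟩ hdisj⟩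
  refine ⟨?_, ?_⟩
  · rw [le_isoLocus_iff, ← isoOn_iff_isIso_restrict]
    exact hiso
  · intro W a z hz
    by_contra hzU
    have hzs : z ∈ (Scheme.IdealSheafData.vanishingIdeal Z).support := by
      have : ((Scheme.IdealSheafData.vanishingIdeal Z).support : Set X) = Z :=
        Scheme.IdealSheafData.coe_support_vanishingIdeal Z
      show z ∈ ((Scheme.IdealSheafData.vanishingIdeal Z).support : Set X)
      rw [this]
      exact hzU
    exact not_mem_basicOpen_of_mem_support' _ W a z hzs hz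

/-- **EGA II 5.1.2 (d) ⇒ (a), local form**: if the counit of `f` is epi over `f⁻¹ V` (`V` affine) for
every quasi-coherent module, then `f⁻¹ V` is quasi-affine. -/
theorem isQuasiAffine_preimage_of_counit_epi {Y : Scheme.{u}} (f : X ⟶ Y) [QuasiCompact f]
    [QuasiSeparated f] (V : Y.Opens) (hV : IsAffineOpen V)
    (h : ∀ F : X.Modules, Coh.IsQCoh F → Epi ((restrictFunctor (f ⁻¹ᵁ V).ι).map
      ((pullbackPushforwardAdjunction f).counit.app F))) :
    Scheme.IsQuasiAffine ((f ⁻¹ᵁ V : X.Opens) : Scheme.{u}) := by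
  have hVa : IsAffine (V : Scheme.{u}) := hV
  have hc : CompactSpace ((f ⁻¹ᵁ V : X.Opens) : Scheme.{u}) :=
    isCompact_iff_compactSpace.mp (f.isCompact_preimage hV.isCompact)
  refine Scheme.IsQuasiAffine.of_forall_exists_mem_basicOpen _ (fun x' => ?_)
  obtain ⟨U, hU, hxU, hUle⟩ := (Opens.isBasis_iff_nbhd.mp X.isBasis_affineOpens) x'.2
  obtain ⟨hle, hv⟩ := vanishingIdeal_compl_props hU
  set K := ClSub.idealMod (Scheme.IdealSheafData.vanishingIdeal
    (⟨(U : Set X)ᶜ, U.2.isClosed_compl⟩ : Closeds X)) with hK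
  have hKq : K.IsQuasicoherent := inferInstance
  have h2 := (epi_restrict_counit_iff f V K).mp (h K hKq)
  have hqc : QuasiCompact (f ∣_ V) := inferInstance
  have hqs : QuasiSeparated (f ∣_ V) := inferInstance
  have hgg := isGloballyGenerated_of_epi_counit (f ∣_ V) (K.restrict (f ⁻¹ᵁ V).ι) h2
  have hgg' : Curv2.IsGloballyGenerated (CohB1.tensorMod (K.restrict (f ⁻¹ᵁ V).ι)
      (Coh.structureModule _)) :=
    isGloballyGenerated_of_iso (Groth.Agent.Lib.Lead.ModTensor.rightUnitor _).symm hgg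
  have hv' := hv.restrict (f ⁻¹ᵁ V)
  have hx' : x' ∈ isoLocus ((restrictFunctor (f ⁻¹ᵁ V).ι).map
      (ClSub.idealModι (Scheme.IdealSheafData.vanishingIdeal
        (⟨(U : Set X)ᶜ, U.2.isClosed_compl⟩ : Closeds X))) ≫
      (restrictUnitIso (f ⁻¹ᵁ V).ι).hom) := by
    rw [isoLocus_comp_of_isIso_right, isoLocus_restrictFunctor]
    exact hle hxU
  have hU' : IsAffineOpen ((f ⁻¹ᵁ V).ι ⁻¹ᵁ U) :=
    hU.preimage_of_isOpenImmersion (f ⁻¹ᵁ V).ι (by rw [Scheme.Opens.opensRange_ι]; exact hUle)
  obtain ⟨s, h3, h4⟩ := exists_affine_genLocus_of_gg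
    (isInvertible_structureModule _) _ hU' (isTrivOn_structureModule _) hv' hx' hgg'
  rw [Groth.Agent.Lib.helper11.GenLocus.genLocus_structureModule] at h3 h4
  exact ⟨_, h4, h3⟩

end Groth.Agent.Lib.helper11.IdealGG2
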