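import Groth.Prelude.Def_W4c2invhilbsl2
import Mathlib.LinearAlgebra.Dimension.Constructions
import Mathlib.Tactic

/-! Weight pieces of quotients of polynomial rings: generic lemmas (helper11). -/

set_option autoImplicit false

namespace Groth.Agent.Lib.helper11.WtPiece

open MvPolynomial W4c2invhilbsl2

universe u

section generic
variable {σ : Type*} {k : Type u} [Field k] {M : Type*} [AddCommMonoid M] (w : σ → M)

/-- If all monomials of weight `ν` are, modulo `I`, scalar multiples of one element, then the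
weight piece has rank at most one. -/
lemma rank_piece_le_one (I : Ideal (MvPolynomial σ k)) (ν : M) (v₀ : MvPolynomial σ k ⧸ I)
    (h : ∀ d : σ →₀ ℕ, Finsupp.weight w d = ν →
      Ideal.Quotient.mk I (monomial d 1) ∈ Submodule.span k {v₀}) :
    Module.rank k (piece k w I ν) ≤ 1 := by
  have hle : piece k w I ν ≤ Submodule.span k {v₀} := by
    rintro _ ⟨f, hf, rfl⟩
    rw [SetLike.mem_coe, mem_weightedHomogeneousSubmodule] at hf
    rw [as_sum f, map_sum]
    refine Submodule.sum_mem _ fun d hd => ?_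
    have h1 : monomial d (coeff d f) = coeff d f • (monomial d (1 : k)) := by
      rw [smul_monomial, smul_eq_mul, mul_one]
    rw [h1, map_smul]
    refine Submodule.smul_mem _ _ ?_
    exact h d (hf (mem_support_iff.1 hd))
  calc Module.rank k (piece k w I ν) ≤ Module.rank k (Submodule.span k {v₀}) :=
        Submodule.rank_mono hle
    _ ≤ Cardinal.mk ({v₀} : Set (MvPolynomial σ k ⧸ I)) := rank_span_le _
    _ = 1 := by simp

/-- Generation of a weight piece modulo an ideal, checked on monomials. -/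
lemma gen_mod {ι : Type*} (s : Finset ι) (U : ι → MvPolynomial σ k)
    (P : Ideal (MvPolynomial σ k)) (ν : M)
    (h : ∀ d : σ →₀ ℕ, Finsupp.weight w d = ν → ∃ a : ι → MvPolynomial σ k,
      (∀ j, a j ∈ weightedHomogeneousSubmodule k w 0) ∧
        monomial d 1 - ∑ j ∈ s, a j * U j ∈ P)
    (f : MvPolynomial σ k) (hf : f ∈ weightedHomogeneousSubmodule k w ν) :
    ∃ a : ι → MvPolynomial σ k, (∀ j, a j ∈ weightedHomogeneousSubmodule k w 0) ∧
      f - ∑ j ∈ s, a j * U j ∈ P := by
  classical
  rw [mem_weightedHomogeneousSubmodule] at hf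
  choose! A hA0 hAP using h
  refine ⟨fun j => ∑ d ∈ f.support, coeff d f • A d j, fun j => ?_, ?_⟩
  · refine Submodule.sum_mem _ fun d hd => Submodule.smul_mem _ _ ?_
    exact hA0 d (hf (mem_support_iff.1 hd)) j
  · have h1 : f - ∑ j ∈ s, (∑ d ∈ f.support, coeff d f • A d j) * U j =
        ∑ d ∈ f.support, C (coeff d f) * (monomial d 1 - ∑ j ∈ s, A d j * U j) := by
      symm
      simp only [mul_sub, Finset.sum_sub_distrib, C_mul_monomial, mul_one]
      rw [← as_sum f]
      congr 1
      simp only [Finset.mul_sum, Finset.sum_mul]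
      rw [Finset.sum_comm]
      refine Finset.sum_congr rfl fun j _ => Finset.sum_congr rfl fun d _ => ?_
      rw [smul_eq_C_mul, mul_assoc]
    rw [h1]
    refine Ideal.sum_mem _ fun d hd => Ideal.mul_mem_left _ _ ?_
    exact hAP d (hf (mem_support_iff.1 hd))


/-- a monomial quotient has weight zero. -/
lemma monomial_sub_mem {G : Type*} [AddCommGroup G] (w : σ → G) (ν : G) (d u : σ →₀ ℕ)
    (hd : Finsupp.weight w d = ν) (hu : Finsupp.weight w u = ν) (hle : u ≤ d) :
    (monomial (d - u) (1 : k)) ∈ weightedHomogeneousSubmodule k w 0 := by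
  rw [mem_weightedHomogeneousSubmodule]
  apply isWeightedHomogeneous_monomial
  have h1 : Finsupp.weight w (d - u) + Finsupp.weight w u = Finsupp.weight w d := by
    rw [← map_add, tsub_add_cancel_of_le hle]
  rw [hd, hu] at h1
  exact add_right_cancel (b := ν) (by rw [h1, zero_add])

/-- Exact generation of a weight piece by monomials, checked on monomials by divisibility. -/
lemma gen_of_le {G : Type*} [AddCommGroup G] (w : σ → G) {ι : Type*} [DecidableEq ι]
    (s : Finset ι) (u : ι → σ →₀ ℕ) (ν : G)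
    (hu : ∀ j ∈ s, Finsupp.weight w (u j) = ν)
    (h : ∀ d : σ →₀ ℕ, Finsupp.weight w d = ν → ∃ j ∈ s, u j ≤ d)
    (f : MvPolynomial σ k) (hf : f ∈ weightedHomogeneousSubmodule k w ν) :
    ∃ a : ι → MvPolynomial σ k, (∀ j, a j ∈ weightedHomogeneousSubmodule k w 0) ∧
      f = ∑ j ∈ s, a j * monomial (u j) 1 := by
  have hmono : ∀ d : σ →₀ ℕ, Finsupp.weight w d = ν → ∃ a : ι → MvPolynomial σ k,
      (∀ j, a j ∈ weightedHomogeneousSubmodule k w 0) ∧
        monomial d 1 - ∑ j ∈ s, a j * (fun j => monomial (u j) (1 : k)) j ∈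
          (⊥ : Ideal (MvPolynomial σ k)) := by
    intro d hd
    obtain ⟨j0, hj0, hle⟩ := h d hd
    refine ⟨fun j => if j = j0 then monomial (d - u j0) 1 else 0, fun j => ?_, ?_⟩
    · beta_reduce
      split_ifs
      · exact monomial_sub_mem w ν d (u j0) hd (hu j0 hj0) hle
      · exact zero_mem _
    · rw [Ideal.mem_bot, sub_eq_zero]
      simp only [ite_mul, zero_mul]
      rw [Finset.sum_ite_eq' s j0, if_pos hj0, monomial_mul, mul_one, tsub_add_cancel_of_le hle]
  obtain ⟨a, ha, hfa⟩ := gen_mod w s (fun j => monomial (u j) (1 : k)) ⊥ ν hmono f hf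
  exact ⟨a, ha, sub_eq_zero.1 (by simpa using hfa)⟩

end generic


section concrete
variable {k : Type u} [Field k] (p q m : ℕ)

lemma mono3 (d : Fin 3 →₀ ℕ) :
    (monomial d (1 : k)) = X 0 ^ d 0 * X 1 ^ d 1 * X 2 ^ d 2 := by
  rw [monomial_eq, C_1, one_mul, Finsupp.prod_fintype _ _ (fun i => pow_zero _),
    Fin.prod_univ_three]

lemma mono5 (d : Fin 5 →₀ ℕ) :
    (monomial d (1 : k)) = X 0 ^ d 0 * X 1 ^ d 1 * X 2 ^ d 2 * X 3 ^ d 3 * X 4 ^ d 4 := by
  rw [monomial_eq, C_1, one_mul, Finsupp.prod_fintype _ _ (fun i => pow_zero _),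
    Fin.prod_univ_five]

lemma weight3 (d : Fin 3 →₀ ℕ) :
    Finsupp.weight (wt3 p q m) d =
      ((d 0 : ℤ) - p * d 1 + q * d 2, (d 2 : ZMod m) - d 1) := by
  rw [Finsupp.weight_apply, Finsupp.sum_fintype d (fun i c => c • wt3 p q m i) (fun i => zero_smul _ _), Fin.sum_univ_three]
  simp only [wt3, Matrix.cons_val_zero, Matrix.cons_val_one, Matrix.cons_val_two,
    Matrix.head_cons, Matrix.tail_cons, Prod.smul_mk, Prod.mk_add_mk, nsmul_eq_mul]
  ext
  · simp only; ring
  · simp only; ring

lemma weight5 (d : Fin 5 →₀ ℕ) :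
    Finsupp.weight (wt5 p q m) d =
      ((d 0 : ℤ) - p * (d 1 + d 2) + q * (d 3 + d 4),
        ((d 3 : ZMod m) + d 4) - ((d 1 : ZMod m) + d 2)) := by
  rw [Finsupp.weight_apply, Finsupp.sum_fintype d (fun i c => c • wt5 p q m i) (fun i => zero_smul _ _), Fin.sum_univ_five]
  simp only [wt5, Matrix.cons_val_zero, Matrix.cons_val_one, Matrix.cons_val_two,
    Matrix.cons_val_three, Matrix.cons_val_four,
    Matrix.head_cons, Matrix.tail_cons, Prod.smul_mk, Prod.mk_add_mk, nsmul_eq_mul]
  ext
  · simp only; ring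
  · simp only; ring

end concrete

end Groth.Agent.Lib.helper11.WtPiece
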