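import Groth.Agent.Lib.Helper11.HJ
import Groth.Agent.Lib.Helper11.WtPiece

/-! Weight pieces of `k[X₀,X₁,X₂] / L⁽ⁱ⁾_s` have rank at most one (helper11). -/

set_option autoImplicit false

namespace Groth.Agent.Lib.helper11.IdealL

open MvPolynomial W4c2invhilbsl2

universe u

section arith
variable {p q m : ℕ} (hp : 0 < p) (hpq : p < q) (hcop : Nat.Coprime p q) (hm : 0 < m)
  (hnt : ¬ (q - p ∣ m)) {c : List ℤ} (hc : IsHJDigits p q m c) {i : ℕ} (hi : 1 ≤ i)
  (hir : i ≤ c.length)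

include hp hpq hcop hm hnt hc hi hir in
/-- the arithmetic core: `X₁^x₁ X₂^x₂` of weight `(a, 0)` with `0 < a < n_{i-1}` is divisible by
`X₁^{eᵢ} X₂^{lᵢ}`. -/
lemma arithI (x1 x2 : ℤ) (h2 : 0 < x2) (hdvd : (m : ℤ) ∣ x1 - x2)
    (ha0 : 0 < (q : ℤ) * x2 - (p : ℤ) * x1)
    (ha : (q : ℤ) * x2 - (p : ℤ) * x1 < nN p q m c (i - 1)) :
    eE p q m c i ≤ x1 ∧ lL p q m c i ≤ x2 := by
  obtain ⟨z, hz⟩ := hdvd
  have hmpos : (0 : ℤ) < m := by exact_mod_cast hm
  have hppos : (0 : ℤ) < p := by exact_mod_cast hp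
  have hDpos : (0 : ℤ) < (q : ℤ) - p := by
    have : (p : ℤ) < q := by exact_mod_cast hpq
    linarith
  have hx1 : x1 = x2 + (m : ℤ) * z := by linarith
  -- n_{i-1} ≤ D
  have hnle : nN p q m c (i - 1) ≤ (q : ℤ) - p := by
    rcases Nat.eq_or_lt_of_le hi with h | h
    · subst h
      simp only [Nat.sub_self]
      rw [HJ.nN_eq hpq, HJ.T_zero]
      have := HJ.g_mul_b (p := p) (q := q) (m := m)
      rw [← Nat.cast_sub hpq.le, ← this]
      push_cast; exact le_rfl
    · exact (HJ.nN_lt hpq hcop hm hnt hc (i - 1) (by omega) (by omega)).le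
  have hnlt := HJ.nN_lt hpq hcop hm hnt hc i hi (by omega)
  -- a = D x2 - p m z
  have ea : (q : ℤ) * x2 - (p : ℤ) * x1 = ((q : ℤ) - p) * x2 - (p : ℤ) * m * z := by
    rw [hx1]; ring
  rw [ea] at ha0 ha
  -- z ≥ 1
  have hz1 : 1 ≤ z := by
    by_contra hcon
    push Not at hcon
    have hz0 : z ≤ 0 := by omega
    have h3 : (p : ℤ) * m * z ≤ 0 := mul_nonpos_of_nonneg_of_nonpos (by positivity) hz0
    have h4 : ((q : ℤ) - p) * 1 ≤ ((q : ℤ) - p) * x2 :=
      mul_le_mul_of_nonneg_left (by omega) hDpos.le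
    linarith
  -- z ≥ P_i
  have hzP : hjP c i ≤ z := by
    by_contra hcon
    push Not at hcon
    have hi2 : 1 < i := by
      rcases Nat.eq_or_lt_of_le hi with h | h
      · subst h
        simp only [hjP] at hcon
        omega
      · exact h
    obtain ⟨j, rfl⟩ : ∃ j, i = j + 1 := ⟨i - 1, by omega⟩
    simp only [Nat.add_sub_cancel] at ha hnle
    -- τ = t z - b y'
    set y' : ℤ := ((alpha p q m : ℕ) + 1 : ℤ) * z - x2 with hy'
    have hd : ((q - p : ℕ) : ℤ) = (q : ℤ) - p := Nat.cast_sub hpq.le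
    have h1 : ((gcdK p q m : ℕ) : ℤ) * (tT p q m : ℤ) = (q : ℤ) - p - ((m * p % (q - p) : ℕ) : ℤ) := by
      have := HJ.g_mul_t (p := p) (q := q) (m := m)
      have h' : ((gcdK p q m * tT p q m : ℕ) : ℤ) = ((q - p - m * p % (q - p) : ℕ) : ℤ) := by
        rw [this]
      rw [Nat.cast_sub (HJ.mod_lt hpq).le, hd] at h'
      rw [← h']; push_cast; ring
    have h2' : ((gcdK p q m : ℕ) : ℤ) * (bB p q m : ℤ) = (q : ℤ) - p := by
      have := HJ.g_mul_b (p := p) (q := q) (m := m)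
      rw [← hd, ← this]; push_cast; ring
    have h3 : ((q : ℤ) - p) * ((alpha p q m : ℕ) : ℤ) + ((m * p % (q - p) : ℕ) : ℤ) = (m : ℤ) * p := by
      have := Nat.div_add_mod (m * p) (q - p)
      rw [← hd]; unfold alpha; exact_mod_cast this
    have hgpos : (0 : ℤ) < (gcdK p q m : ℤ) := by exact_mod_cast HJ.g_pos (p := p) (q := q) hm
    have hτ : ((gcdK p q m : ℕ) : ℤ) * ((tT p q m : ℤ) * z - (bB p q m : ℤ) * y') =
        ((q : ℤ) - p) * x2 - (p : ℤ) * m * z := by
      rw [hy']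
      linear_combination z * h1 + (-(((alpha p q m : ℕ) : ℤ) + 1) * z + x2) * h2' + (-z) * h3
    have hτ0 : 0 ≤ (tT p q m : ℤ) * z - (bB p q m : ℤ) * y' := by
      by_contra hneg
      push Not at hneg
      have := mul_neg_of_pos_of_neg hgpos hneg
      linarith
    have hge := HJ.rho_ge hpq hcop hnt hc j (by omega) hir z y' (by omega) hcon hτ0
    have hnN := HJ.nN_eq (m := m) hpq c j
    have : ((gcdK p q m : ℕ) : ℤ) * HJ.T p q m c j ≤
        ((gcdK p q m : ℕ) : ℤ) * ((tT p q m : ℤ) * z - (bB p q m : ℤ) * y') :=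
      mul_le_mul_of_nonneg_left hge hgpos.le
    linarith
  -- conclusion
  have hDl := HJ.D_mul_lL (p := p) (q := q) (m := m) c i
  have hel := HJ.eE_sub_lL (p := p) (q := q) (m := m) c i
  have h9 : (p : ℤ) * m * hjP c i ≤ (p : ℤ) * m * z :=
    mul_le_mul_of_nonneg_left hzP (by positivity)
  have h10 : ((q : ℤ) - p) * (lL p q m c i - 1) < ((q : ℤ) - p) * x2 := by linarith
  have h11 : lL p q m c i - 1 < x2 := lt_of_mul_lt_mul_left h10 hDpos.le
  have h12 : lL p q m c i ≤ x2 := by omega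
  refine ⟨?_, h12⟩
  have h13 : (m : ℤ) * hjP c i ≤ (m : ℤ) * z := mul_le_mul_of_nonneg_left hzP hmpos.le
  linarith

end arith


section mem
variable {k : Type u} [Field k] (p q m : ℕ) (c : List ℤ) (i : ℕ) (s : k)

lemma mem_of_K (d u : Fin 3 →₀ ℕ) (hu0 : u ≠ 0) (hwu : Finsupp.weight (wt3 p q m) u = 0)
    (hle : u ≤ d) : monomial d (1 : k) ∈ idealL k p q m c i s := by
  have h1 : monomial d (1 : k) = monomial (d - u) 1 * monomial u 1 := by
    rw [monomial_mul, mul_one, tsub_add_cancel_of_le hle]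
  rw [h1]
  apply Ideal.mul_mem_left
  apply (le_sup_right : idealK k p q m ≤ idealL k p q m c i s)
  exact Ideal.subset_span ⟨u, hu0, hwu, rfl⟩

lemma mem_of_X0 (d : Fin 3 →₀ ℕ) (h : (nN p q m c (i - 1)).toNat ≤ d 0) :
    monomial d (1 : k) ∈ idealL k p q m c i s := by
  have hle : Finsupp.single 0 (nN p q m c (i - 1)).toNat ≤ d := by
    rw [Finsupp.single_le_iff]; exact h
  have h1 : monomial d (1 : k) =
      monomial (d - Finsupp.single 0 (nN p q m c (i - 1)).toNat) 1 *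
        X 0 ^ (nN p q m c (i - 1)).toNat := by
    rw [X_pow_eq_monomial, monomial_mul, mul_one, tsub_add_cancel_of_le hle]
  rw [h1]
  apply Ideal.mul_mem_left
  apply (le_sup_left : _ ≤ idealL k p q m c i s)
  exact Ideal.subset_span (Or.inl rfl)

lemma mem_of_EL (d : Fin 3 →₀ ℕ) (hE : (eE p q m c i).toNat ≤ d 1) (hL : (lL p q m c i).toNat ≤ d 2) :
    monomial d (1 : k) - C s * monomial (d - (Finsupp.single 1 (eE p q m c i).toNat +
      Finsupp.single 2 (lL p q m c i).toNat) + Finsupp.single 0 (nN p q m c i).toNat) 1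
      ∈ idealL k p q m c i s := by
  set u := Finsupp.single (1 : Fin 3) (eE p q m c i).toNat +
      Finsupp.single 2 (lL p q m c i).toNat with hu
  have hle : u ≤ d := by
    rw [Finsupp.le_def]
    intro j
    fin_cases j <;> simp [hu] <;> omega
  have h1 : monomial d (1 : k) = monomial (d - u) 1 *
      (X 1 ^ (eE p q m c i).toNat * X 2 ^ (lL p q m c i).toNat) := by
    rw [X_pow_eq_monomial, X_pow_eq_monomial, monomial_mul, monomial_mul, mul_one, mul_one,
      ← hu, tsub_add_cancel_of_le hle]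
  have h2 : monomial (d - u + Finsupp.single 0 (nN p q m c i).toNat) (1 : k) =
      monomial (d - u) 1 * X 0 ^ (nN p q m c i).toNat := by
    rw [X_pow_eq_monomial, monomial_mul, mul_one]
  rw [h1, h2]
  have h3 : monomial (d - u) (1 : k) * (X 1 ^ (eE p q m c i).toNat * X 2 ^ (lL p q m c i).toNat) -
      C s * (monomial (d - u) 1 * X 0 ^ (nN p q m c i).toNat) =
      -(monomial (d - u) 1) * (C s * X 0 ^ (nN p q m c i).toNat -
        X 1 ^ (eE p q m c i).toNat * X 2 ^ (lL p q m c i).toNat) := by ring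
  rw [h3]
  apply Ideal.mul_mem_left
  apply (le_sup_left : _ ≤ idealL k p q m c i s)
  exact Ideal.subset_span (Or.inr rfl)

/-- two monomials are proportional modulo `idealL`. -/
def Rel (d d' : Fin 3 →₀ ℕ) : Prop :=
  ∃ a b : k, (a ≠ 0 ∨ b ≠ 0) ∧
    C a * monomial d (1 : k) - C b * monomial d' (1 : k) ∈ idealL k p q m c i s

variable {p q m c i s}

lemma Rel.refl (d : Fin 3 →₀ ℕ) : Rel p q m c i s d d :=
  ⟨1, 1, Or.inl one_ne_zero, by rw [sub_self]; exact zero_mem _⟩

lemma Rel.symm {d d' : Fin 3 →₀ ℕ} (h : Rel p q m c i s d d') : Rel p q m c i s d' d := by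
  obtain ⟨a, b, hab, hmem⟩ := h
  refine ⟨b, a, hab.symm, ?_⟩
  rw [← Ideal.neg_mem_iff, neg_sub]
  exact hmem

lemma Rel.of_mem_left {d d' : Fin 3 →₀ ℕ} (h : monomial d (1 : k) ∈ idealL k p q m c i s) :
    Rel p q m c i s d d' :=
  ⟨1, 0, Or.inl one_ne_zero, by simpa using h⟩

lemma Rel.of_mem_right {d d' : Fin 3 →₀ ℕ} (h : monomial d' (1 : k) ∈ idealL k p q m c i s) :
    Rel p q m c i s d d' :=
  (Rel.of_mem_left h).symm

lemma Rel.step {d d'' d' : Fin 3 →₀ ℕ}
    (h1 : monomial d (1 : k) - C s * monomial d'' 1 ∈ idealL k p q m c i s)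
    (h2 : Rel p q m c i s d'' d') : Rel p q m c i s d d' := by
  by_cases hs : s = 0
  · subst hs
    apply Rel.of_mem_left
    rw [C_0, zero_mul, sub_zero] at h1
    exact h1
  · obtain ⟨a, b, hab, hmem⟩ := h2
    refine ⟨a * s⁻¹, b, ?_, ?_⟩
    · rcases hab with h | h
      · exact Or.inl (mul_ne_zero h (inv_ne_zero hs))
      · exact Or.inr h
    · have h3 : C (a * s⁻¹) * monomial d (1 : k) - C b * monomial d' 1 =
          C (a * s⁻¹) * (monomial d 1 - C s * monomial d'' 1) +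
          (C a * monomial d'' 1 - C b * monomial d' 1) := by
        have : (C (a * s⁻¹) : MvPolynomial (Fin 3) k) * C s = C a := by
          rw [← C_mul, mul_assoc, inv_mul_cancel₀ hs, mul_one]
        linear_combination (monomial d'' (1 : k)) * this
      rw [h3]
      exact add_mem (Ideal.mul_mem_left _ _ h1) hmem

end mem


section main
variable {k : Type u} [Field k] {p q m : ℕ} (hp : 0 < p) (hpq : p < q) (hcop : Nat.Coprime p q)
  (hm : 0 < m) (hnt : ¬ (q - p ∣ m)) {c : List ℤ} (hc : IsHJDigits p q m c) {i : ℕ} (hi : 1 ≤ i)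
  (hir : i ≤ c.length) (s : k)

lemma wt_eq (d d' : Fin 3 →₀ ℕ)
    (h : Finsupp.weight (wt3 p q m) d = Finsupp.weight (wt3 p q m) d') :
    ((d 0 : ℤ) - d' 0) - (p : ℤ) * ((d 1 : ℤ) - d' 1) + (q : ℤ) * ((d 2 : ℤ) - d' 2) = 0 ∧
      (m : ℤ) ∣ ((d 1 : ℤ) - d' 1) - ((d 2 : ℤ) - d' 2) := by
  rw [WtPiece.weight3, WtPiece.weight3, Prod.mk.injEq] at h
  obtain ⟨h1, h2⟩ := h
  refine ⟨by linarith, ?_⟩
  rw [← ZMod.intCast_zmod_eq_zero_iff_dvd]
  push_cast
  linear_combination (-1 : ZMod m) * h2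

lemma wt_of_eq (d d' : Fin 3 →₀ ℕ)
    (h1 : ((d 0 : ℤ) - d' 0) - (p : ℤ) * ((d 1 : ℤ) - d' 1) + (q : ℤ) * ((d 2 : ℤ) - d' 2) = 0)
    (h2 : (m : ℤ) ∣ ((d 1 : ℤ) - d' 1) - ((d 2 : ℤ) - d' 2)) :
    Finsupp.weight (wt3 p q m) d = Finsupp.weight (wt3 p q m) d' := by
  rw [WtPiece.weight3, WtPiece.weight3, Prod.mk.injEq]
  refine ⟨by linarith, ?_⟩
  rw [← ZMod.intCast_zmod_eq_zero_iff_dvd] at h2
  push_cast at h2
  linear_combination (-1 : ZMod m) * h2

include hp hpq hcop hm hnt hc hi hir in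
lemma half (d d' : Fin 3 →₀ ℕ)
    (hw : Finsupp.weight (wt3 p q m) d = Finsupp.weight (wt3 p q m) d')
    (IH : ∀ e e' : Fin 3 →₀ ℕ, Finsupp.weight (wt3 p q m) e = Finsupp.weight (wt3 p q m) e' →
      Int.natAbs ((e 1 : ℤ) - e' 1) < Int.natAbs ((d 1 : ℤ) - d' 1) → Rel p q m c i s e e')
    (hpat : (0 ≤ (d 1 : ℤ) - d' 1 ∧ (d 2 : ℤ) - d' 2 ≤ 0) ∨
      (0 < (d 1 : ℤ) - d' 1 ∧ 0 < (d 2 : ℤ) - d' 2)) :
    Rel p q m c i s d d' := by
  obtain ⟨h1, h2⟩ := wt_eq d d' hw
  have hppos : (0 : ℤ) < p := by exact_mod_cast hp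
  have hqp : (p : ℤ) < q := by exact_mod_cast hpq
  -- n_{i-1} ≤ D
  have hnle : nN p q m c (i - 1) ≤ (q : ℤ) - p := by
    rcases Nat.eq_or_lt_of_le hi with h | h
    · subst h
      simp only [Nat.sub_self]
      rw [HJ.nN_eq hpq, HJ.T_zero]
      have := HJ.g_mul_b (p := p) (q := q) (m := m)
      rw [← Nat.cast_sub hpq.le, ← this]
      push_cast; exact le_rfl
    · exact (HJ.nN_lt hpq hcop hm hnt hc (i - 1) (by omega) (by omega)).le
  have hn0 : 0 ≤ nN p q m c (i - 1) := HJ.nN_nonneg hpq hcop hm hnt hc (i - 1) (by omega)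
  have hN'c : ((nN p q m c (i - 1)).toNat : ℤ) = nN p q m c (i - 1) := Int.toNat_of_nonneg hn0
  -- the weight-zero divisor d - d'
  have hK : 0 ≤ (d 0 : ℤ) - d' 0 → 0 ≤ (d 1 : ℤ) - d' 1 → 0 ≤ (d 2 : ℤ) - d' 2 → d ≠ d' →
      monomial d (1 : k) ∈ idealL k p q m c i s := by
    intro g0 g1 g2 hne
    have l0 : d' 0 ≤ d 0 := by omega
    have l1 : d' 1 ≤ d 1 := by omega
    have l2 : d' 2 ≤ d 2 := by omega
    have hle : d' ≤ d := by
      rw [Finsupp.le_def]; intro j; fin_cases j <;> assumption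
    apply mem_of_K p q m c i s d (d - d') _ _ tsub_le_self
    · intro h0
      apply hne
      have := tsub_add_cancel_of_le hle
      rw [h0, zero_add] at this
      exact this.symm
    · have hadd : Finsupp.weight (wt3 p q m) (d - d') + Finsupp.weight (wt3 p q m) d' =
          Finsupp.weight (wt3 p q m) d := by
        rw [← map_add, tsub_add_cancel_of_le hle]
      rw [hw] at hadd
      exact add_right_cancel (b := Finsupp.weight (wt3 p q m) d') (by rw [hadd, zero_add])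
  rcases hpat with ⟨g1, g2⟩ | ⟨g1, g2⟩
  · -- x1 ≥ 0, x2 ≤ 0
    rcases eq_or_lt_of_le g2 with g2 | g2
    · -- x2 = 0
      by_cases hne : d = d'
      · rw [hne]; exact Rel.refl _
      · apply Rel.of_mem_left
        apply hK _ g1 g2.ge hne
        have : (0 : ℤ) ≤ (p : ℤ) * ((d 1 : ℤ) - d' 1) := mul_nonneg hppos.le g1
        rw [g2] at h1
        linarith
    · -- x2 < 0 : x0 ≥ q
      apply Rel.of_mem_left
      apply mem_of_X0
      have h3 : (0 : ℤ) ≤ (p : ℤ) * ((d 1 : ℤ) - d' 1) := mul_nonneg hppos.le g1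
      have h4 : (q : ℤ) * ((d 2 : ℤ) - d' 2) ≤ (q : ℤ) * (-1) :=
        mul_le_mul_of_nonneg_left (by omega) (by omega)
      have h5 : ((nN p q m c (i - 1)).toNat : ℤ) ≤ d 0 := by
        rw [hN'c]
        have : (0 : ℤ) ≤ d' 0 := by positivity
        linarith
      exact_mod_cast h5
  · -- x1 > 0, x2 > 0
    rcases le_or_gt 0 ((d 0 : ℤ) - d' 0) with g0 | g0
    · apply Rel.of_mem_left
      apply hK g0 g1.le g2.le
      intro h; rw [h] at g1; simp at g1
    · -- a = -x0 > 0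
      by_cases hbig : nN p q m c (i - 1) ≤ -((d 0 : ℤ) - d' 0)
      · apply Rel.of_mem_right
        apply mem_of_X0
        have h5 : ((nN p q m c (i - 1)).toNat : ℤ) ≤ d' 0 := by
          rw [hN'c]
          have : (0 : ℤ) ≤ d 0 := by positivity
          linarith
        exact_mod_cast h5
      · push Not at hbig
        have ha : (q : ℤ) * ((d 2 : ℤ) - d' 2) - (p : ℤ) * ((d 1 : ℤ) - d' 1) =
            -((d 0 : ℤ) - d' 0) := by linarith
        obtain ⟨hE, hL⟩ := arithI hp hpq hcop hm hnt hc hi hir ((d 1 : ℤ) - d' 1) ((d 2 : ℤ) - d' 2)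
          g2 h2 (by rw [ha]; linarith) (by rw [ha]; exact hbig)
        have hE0 : 0 < eE p q m c i := HJ.eE_pos hpq hcop hnt hc i hi hir
        have hL0 : 0 < lL p q m c i := HJ.lL_pos hpq hcop hnt hc i hi hir
        have hNi0 : 0 ≤ nN p q m c i := HJ.nN_nonneg hpq hcop hm hnt hc i (by omega)
        have hEc : ((eE p q m c i).toNat : ℤ) = eE p q m c i := Int.toNat_of_nonneg hE0.le
        have hLc : ((lL p q m c i).toNat : ℤ) = lL p q m c i := Int.toNat_of_nonneg hL0.le
        have hNc : ((nN p q m c i).toNat : ℤ) = nN p q m c i := Int.toNat_of_nonneg hNi0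
        have hE1 : (eE p q m c i).toNat ≤ d 1 := by
          have : ((eE p q m c i).toNat : ℤ) ≤ d 1 := by
            rw [hEc]; have : (0 : ℤ) ≤ d' 1 := by positivity
            linarith
          exact_mod_cast this
        have hL1 : (lL p q m c i).toNat ≤ d 2 := by
          have : ((lL p q m c i).toNat : ℤ) ≤ d 2 := by
            rw [hLc]; have : (0 : ℤ) ≤ d' 2 := by positivity
            linarith
          exact_mod_cast this
        set d'' := d - (Finsupp.single 1 (eE p q m c i).toNat +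
          Finsupp.single 2 (lL p q m c i).toNat) + Finsupp.single 0 (nN p q m c i).toNat with hd''
        have e0 : ((d'' 0 : ℕ) : ℤ) = (d 0 : ℤ) + nN p q m c i := by
          simp [hd'', hNc]
        have e1 : ((d'' 1 : ℕ) : ℤ) = (d 1 : ℤ) - eE p q m c i := by
          simp only [hd'', Finsupp.coe_add, Finsupp.coe_tsub, Pi.add_apply, Pi.sub_apply,
            Finsupp.single_apply]
          simp only [Fin.isValue, if_true, (by decide : (2 : Fin 3) ≠ 1),
            (by decide : (0 : Fin 3) ≠ 1), if_false, add_zero]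
          rw [Nat.cast_sub hE1, hEc]
        have e2 : ((d'' 2 : ℕ) : ℤ) = (d 2 : ℤ) - lL p q m c i := by
          simp only [hd'', Finsupp.coe_add, Finsupp.coe_tsub, Pi.add_apply, Pi.sub_apply,
            Finsupp.single_apply]
          simp only [Fin.isValue, if_true, (by decide : (1 : Fin 3) ≠ 2),
            (by decide : (0 : Fin 3) ≠ 2), if_false, add_zero, zero_add]
          rw [Nat.cast_sub hL1, hLc]
        have hel := HJ.eE_sub_lL (p := p) (q := q) (m := m) c i
        have hw'' : Finsupp.weight (wt3 p q m) d'' = Finsupp.weight (wt3 p q m) d' := by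
          apply wt_of_eq
          · rw [e0, e1, e2]
            have : nN p q m c i = -(p : ℤ) * eE p q m c i + (q : ℤ) * lL p q m c i := rfl
            linarith
          · rw [e1, e2]
            have : ((d 1 : ℤ) - eE p q m c i - d' 1) - ((d 2 : ℤ) - lL p q m c i - d' 2) =
                (((d 1 : ℤ) - d' 1) - ((d 2 : ℤ) - d' 2)) - (m : ℤ) * hjP c i := by linarith
            rw [this]
            exact dvd_sub h2 (dvd_mul_right _ _)
        refine Rel.step (mem_of_EL p q m c i s d hE1 hL1) (IH d'' d' hw'' ?_)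
        rw [e1]
        omega


include hp hpq hcop hm hnt hc hi hir in
lemma rel_all (d d' : Fin 3 →₀ ℕ)
    (hw : Finsupp.weight (wt3 p q m) d = Finsupp.weight (wt3 p q m) d') :
    Rel p q m c i s d d' := by
  induction hn : Int.natAbs ((d 1 : ℤ) - d' 1) using Nat.strong_induction_on generalizing d d' with
  | _ n ih =>
    by_cases hpat : (0 ≤ (d 1 : ℤ) - d' 1 ∧ (d 2 : ℤ) - d' 2 ≤ 0) ∨
      (0 < (d 1 : ℤ) - d' 1 ∧ 0 < (d 2 : ℤ) - d' 2)
    · refine half hp hpq hcop hm hnt hc hi hir s d d' hw (fun e e' hwe hlt => ?_) hpat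
      exact ih _ (hn ▸ hlt) e e' hwe rfl
    · have hpat' : (0 ≤ (d' 1 : ℤ) - d 1 ∧ (d' 2 : ℤ) - d 2 ≤ 0) ∨
          (0 < (d' 1 : ℤ) - d 1 ∧ 0 < (d' 2 : ℤ) - d 2) := by omega
      apply Rel.symm
      refine half hp hpq hcop hm hnt hc hi hir s d' d hw.symm (fun e e' hwe hlt => ?_) hpat'
      have hsymm : Int.natAbs ((d' 1 : ℤ) - d 1) = Int.natAbs ((d 1 : ℤ) - d' 1) := by omega
      rw [hsymm] at hlt
      exact ih _ (hn ▸ hlt) e e' hwe rfl

include hp hpq hcop hm hnt hc hi hir in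
theorem rank_le_one (ν : ℤ × ZMod m) :
    Module.rank k (piece k (wt3 p q m) (idealL k p q m c i s) ν) ≤ 1 := by
  classical
  by_cases hS : ∃ d : Fin 3 →₀ ℕ, Finsupp.weight (wt3 p q m) d = ν ∧
      monomial d (1 : k) ∉ idealL k p q m c i s
  · obtain ⟨dstar, hw0, hnot⟩ := hS
    apply WtPiece.rank_piece_le_one _ _ ν (Ideal.Quotient.mk _ (monomial dstar 1))
    intro d hw
    obtain ⟨a, b, hab, hmem⟩ := rel_all hp hpq hcop hm hnt hc hi hir s d dstar (hw.trans hw0.symm)
    have ha : a ≠ 0 := by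
      intro ha0
      rw [ha0, C_0, zero_mul, zero_sub, Ideal.neg_mem_iff] at hmem
      have hb : b ≠ 0 := hab.resolve_left (fun h => h ha0)
      apply hnot
      have : monomial dstar (1 : k) = C b⁻¹ * (C b * monomial dstar 1) := by
        rw [← mul_assoc, ← C_mul, inv_mul_cancel₀ hb, C_1, one_mul]
      rw [this]
      exact Ideal.mul_mem_left _ _ hmem
    rw [Submodule.mem_span_singleton]
    refine ⟨a⁻¹ * b, ?_⟩
    have h1 : (a⁻¹ * b) • Ideal.Quotient.mk (idealL k p q m c i s) (monomial dstar (1 : k)) =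
        Ideal.Quotient.mk (idealL k p q m c i s) (C (a⁻¹ * b) * monomial dstar 1) := by
      rw [← smul_eq_C_mul]
      exact (map_smul (Ideal.Quotient.mkₐ k (idealL k p q m c i s)) _ _).symm
    rw [h1, Ideal.Quotient.eq]
    have h2 : C (a⁻¹ * b) * monomial dstar (1 : k) - monomial d 1 =
        -(C a⁻¹ * (C a * monomial d 1 - C b * monomial dstar 1)) := by
      have : (C a⁻¹ : MvPolynomial (Fin 3) k) * C a = 1 := by
        rw [← C_mul, inv_mul_cancel₀ ha, C_1]
      rw [C_mul]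
      linear_combination (monomial d (1 : k)) * this
    rw [h2, Ideal.neg_mem_iff]
    exact Ideal.mul_mem_left _ _ hmem
  · push Not at hS
    apply WtPiece.rank_piece_le_one _ _ ν 0
    intro d hw
    rw [Ideal.Quotient.eq_zero_iff_mem.2 (hS d hw)]
    exact zero_mem _

end main

end Groth.Agent.Lib.helper11.IdealL
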