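import Mathlib
import Groth.Agent.Lib.Helper3.FlatDescQ

/-!
# Kernel of a surjection onto a finitely presented module flat over the base (helper11)

`B` a finitely presented `A`-algebra, `N` a finitely presented `B`-module flat over `A`,
`M` a finitely presented `B`-module, `p : M ↠ N`. Then `ker p` is a finitely presented `B`-module
(EGA IV 11.3.9.1-type; via Noetherian descent of flatness `FlatDesc.exists_fg_model_flat_module`).
-/

set_option autoImplicit false
set_option linter.style.haveILetI false
universe u
open TensorProduct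

namespace Groth.Agent.Lib.helper11.KerFP

section Schanuel

variable {R : Type*} [CommRing R] {F M N : Type*} [AddCommGroup F] [Module R F]
  [AddCommGroup M] [Module R M] [AddCommGroup N] [Module R N]

/-- Schanuel-type lemma: if one surjection from a projective module onto `N` has finitely
presented kernel, then every surjection from a finitely presented module onto `N` has. -/
theorem fp_ker_of_fp_ker (q : F →ₗ[R] N) (hq : Function.Surjective q) [Module.Projective R F]
    [Module.FinitePresentation R (LinearMap.ker q)] [Module.FinitePresentation R M]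
    (p : M →ₗ[R] N) (hp : Function.Surjective p) :
    Module.FinitePresentation R (LinearMap.ker p) := by
  let φ : (F × M) →ₗ[R] N := q ∘ₗ LinearMap.fst R F M - p ∘ₗ LinearMap.snd R F M
  have hφ : ∀ z : F × M, z ∈ LinearMap.ker φ ↔ q z.1 = p z.2 := by
    intro z
    simp [φ, sub_eq_zero]
  let pr₂ : LinearMap.ker φ →ₗ[R] M := LinearMap.snd R F M ∘ₗ (LinearMap.ker φ).subtype
  let pr₁ : LinearMap.ker φ →ₗ[R] F := LinearMap.fst R F M ∘ₗ (LinearMap.ker φ).subtype
  have hpr₂ : Function.Surjective pr₂ := by
    intro m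
    obtain ⟨x, hx⟩ := hq (p m)
    exact ⟨⟨(x, m), (hφ _).mpr hx⟩, rfl⟩
  have hpr₁ : Function.Surjective pr₁ := by
    intro x
    obtain ⟨m, hm⟩ := hp (q x)
    exact ⟨⟨(x, m), (hφ _).mpr hm.symm⟩, rfl⟩
  -- `ker pr₂ ≃ ker q`
  let j : LinearMap.ker q →ₗ[R] LinearMap.ker pr₂ :=
    { toFun := fun k => ⟨⟨(k.1, 0), (hφ _).mpr (by simpa using k.2)⟩, by simp [pr₂]⟩
      map_add' := fun a b => by ext <;> simp
      map_smul' := fun r a => by ext <;> simp }
  have hj : Function.Bijective j := by
    constructor
    · intro a b hab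
      have := congrArg (fun z : LinearMap.ker pr₂ => z.1.1.1) hab
      exact Subtype.ext this
    · rintro ⟨⟨⟨x, m⟩, hz⟩, hz'⟩
      have hm : m = 0 := by simpa [pr₂] using hz'
      subst hm
      have hx : q x = 0 := by simpa using (hφ _).mp hz
      exact ⟨⟨x, hx⟩, rfl⟩
  haveI : Module.FinitePresentation R (LinearMap.ker pr₂) := by
    have h0 : Module.FinitePresentation R (LinearMap.ker q) := inferInstance
    exact (LinearEquiv.finitePresentation_iff (M := LinearMap.ker q) (N := LinearMap.ker pr₂)
      (LinearEquiv.ofBijective j hj)).mp h0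
  haveI : Module.FinitePresentation R (LinearMap.ker φ) :=
    Module.finitePresentation_of_ker pr₂ hpr₂
  -- `0 → ker p → P → F → 0`
  let i : LinearMap.ker p →ₗ[R] LinearMap.ker φ :=
    { toFun := fun k => ⟨(0, k.1), (hφ _).mpr (by simpa using k.2.symm)⟩
      map_add' := fun a b => by ext <;> simp
      map_smul' := fun r a => by ext <;> simp }
  refine Module.finitePresentation_of_projective_of_exact i pr₁ ?_ hpr₁ ?_
  · intro a b hab
    have := congrArg (fun z : LinearMap.ker φ => z.1.2) hab
    exact Subtype.ext this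
  · intro z
    constructor
    · intro hz
      obtain ⟨⟨x, m⟩, hzm⟩ := z
      have hx : x = 0 := by simpa [pr₁] using hz
      subst hx
      have hm : p m = 0 := by simpa using ((hφ _).mp hzm).symm
      exact ⟨⟨m, hm⟩, rfl⟩
    · rintro ⟨k, rfl⟩
      rfl

end Schanuel

section Main

open Groth.Agent.Lib.helper3.FlatDesc

/-- base change of an injection with flat cokernel along a pushout square stays injective -/
theorem baseChange_subtype_injective {A₀ A B₀ B : Type*} [CommRing A₀] [CommRing A] [CommRing B₀]
    [CommRing B] [Algebra A₀ A] [Algebra A₀ B₀] [Algebra A₀ B] [Algebra B₀ B] [Algebra A B]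
    [IsScalarTower A₀ B₀ B] [IsScalarTower A₀ A B] [Algebra.IsPushout A₀ A B₀ B]
    {F₀ N₀ : Type*} [AddCommGroup F₀] [Module A₀ F₀] [Module B₀ F₀] [IsScalarTower A₀ B₀ F₀]
    [AddCommGroup N₀] [Module A₀ N₀] [Module B₀ N₀] [IsScalarTower A₀ B₀ N₀] [Module.Flat A₀ N₀]
    (π₀ : F₀ →ₗ[B₀] N₀) (hπ₀ : Function.Surjective π₀) :
    Function.Injective ((LinearMap.ker π₀).subtype.baseChange B) := by
  have h1 : Function.Injective
      (((LinearMap.ker π₀).subtype.restrictScalars A₀).lTensor A) :=
    LinearMap.lTensor_injective_of_exact_of_flat (π₀.restrictScalars A₀) hπ₀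
      ((LinearMap.ker π₀).subtype.restrictScalars A₀) Subtype.val_injective
      (LinearMap.exact_subtype_ker_map π₀) A
  let cK := (Algebra.IsPushout.cancelBaseChange A₀ A B₀ B (LinearMap.ker π₀)).symm
  let cF := (Algebra.IsPushout.cancelBaseChange A₀ A B₀ B F₀).symm
  have hnat : ∀ z : A ⊗[A₀] (LinearMap.ker π₀),
      (LinearMap.ker π₀).subtype.baseChange B (cK z) =
        cF ((((LinearMap.ker π₀).subtype.restrictScalars A₀).lTensor A) z) := by
    intro z
    induction z with
    | zero => simp
    | add x y hx hy => simp only [map_add, hx, hy]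
    | tmul a k =>
      simp only [cK, cF, Algebra.IsPushout.cancelBaseChange_symm_tmul, LinearMap.baseChange_tmul,
        LinearMap.lTensor_tmul]
      rfl
  intro w₁ w₂ hw
  obtain ⟨z₁, rfl⟩ := cK.surjective w₁
  obtain ⟨z₂, rfl⟩ := cK.surjective w₂
  rw [hnat, hnat] at hw
  rw [h1 (cF.injective hw)]

theorem fp_ker_of_flat {A B : Type u} [CommRing A] [CommRing B] [Algebra A B]
    [Algebra.FinitePresentation A B] {M N : Type u} [AddCommGroup M] [Module B M]
    [AddCommGroup N] [Module A N] [Module B N] [IsScalarTower A B N]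
    [Module.FinitePresentation B M] [Module.FinitePresentation B N] [Module.Flat A N]
    (p : M →ₗ[B] N) (hp : Function.Surjective p) :
    Module.FinitePresentation B (LinearMap.ker p) := by
  obtain ⟨A₀, _, _, _, _, hft, -, -, B₀, _, _, _, _, hfp, hpo, -, N₀, _, _, _, _, hfin, hflat, ⟨e⟩⟩ :=
    exists_fg_model_flat_module (A := A) (B := B) (M := N) ∅
  haveI : IsNoetherianRing A₀ := Algebra.FiniteType.isNoetherianRing ℤ A₀
  haveI : IsNoetherianRing B₀ := Algebra.FiniteType.isNoetherianRing A₀ B₀
  obtain ⟨b, π₀, hπ₀⟩ := Module.Finite.exists_fin' B₀ N₀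
  haveI : Module.FinitePresentation B₀ (LinearMap.ker π₀) := Module.finitePresentation_of_finite _ _
  haveI : Module.Flat A₀ N₀ := hflat
  have hinj := baseChange_subtype_injective (A₀ := A₀) (A := A) (B := B) π₀ hπ₀
  let q : B ⊗[B₀] (Fin b → B₀) →ₗ[B] N := e.toLinearMap ∘ₗ π₀.baseChange B
  have hq : Function.Surjective q :=
    e.surjective.comp (LinearMap.lTensor_surjective B hπ₀)
  have hex : Function.Exact ((LinearMap.ker π₀).subtype.baseChange B) (π₀.baseChange B) :=
    lTensor_exact B π₀.exact_subtype_ker_map hπ₀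
  have hker : LinearMap.ker q = LinearMap.range ((LinearMap.ker π₀).subtype.baseChange B) := by
    rw [← LinearMap.exact_iff.mp hex]
    ext z
    simp [q]
  haveI : Module.FinitePresentation B (LinearMap.ker q) := by
    have h0 : Module.FinitePresentation B (B ⊗[B₀] (LinearMap.ker π₀)) := inferInstance
    exact (LinearEquiv.finitePresentation_iff (M := B ⊗[B₀] (LinearMap.ker π₀))
      (N := LinearMap.ker q)
      ((LinearEquiv.ofInjective _ hinj).trans (LinearEquiv.ofEq _ _ hker.symm))).mp h0
  exact fp_ker_of_fp_ker q hq p hp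

end Main

end Groth.Agent.Lib.helper11.KerFP
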