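import Mathlib
import Groth.Agent.Lib.Helper11.KerFP
import Groth.Agent.Lib.Helper16.CohFinite
import Groth.Agent.Lib.Helper16.CohFP
import Groth.Agent.Lib.Helper16.QCohEpi
import Groth.Agent.Lib.Helper7.KerSections
import Groth.Agent.Lib.Helper7.CohKer
import Groth.Agent.Lib.Helper17.FlatOver1

/-!
# Kernel of an epimorphism onto a flat finitely presented module is finitely presented (helper11)
-/

set_option autoImplicit false
set_option linter.style.haveILetI false
universe u
open CategoryTheory CategoryTheory.Limits AlgebraicGeometry TopologicalSpace Opposite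

namespace Groth.Agent.Lib.helper11.KerFPSch

open Scheme.Modules Groth.Agent.Lib.helper17.FlatOver1

theorem isFP_kernel {X Y : Scheme.{u}} (f : X ⟶ Y) [LocallyOfFinitePresentation f]
    (G H : X.Modules) [G.IsQuasicoherent] [H.IsQuasicoherent] (hG : CohB1.IsFP G)
    (hH : CohB1.IsFP H) (hflat : FlatMod.IsFlatOver f H) (p : G ⟶ H) [Epi p] :
    CohB1.IsFP (kernel p) := by
  haveI : (kernel p).IsQuasicoherent := Groth.Agent.Lib.helper7.CohKer.isQuasicoherent_kernel p
  have hch : ∀ x : X, ∃ (U : X.Opens) (V : Y.Opens), IsAffineOpen U ∧ IsAffineOpen V ∧ x ∈ U ∧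
      U ≤ f ⁻¹ᵁ V := by
    intro x
    obtain ⟨_, ⟨V, hV : IsAffineOpen V, rfl⟩, hxV, -⟩ :=
      Y.isBasis_affineOpens.exists_subset_of_mem_open (Set.mem_univ (f.base x)) isOpen_univ
    obtain ⟨_, ⟨U, hU : IsAffineOpen U, rfl⟩, hxU, hUV⟩ :=
      X.isBasis_affineOpens.exists_subset_of_mem_open (show x ∈ (f ⁻¹ᵁ V : Set X) from hxV)
        (f ⁻¹ᵁ V).2
    exact ⟨U, V, hU, hV, hxU, hUV⟩
  choose U V hU hV hxU hUV using hch
  refine Groth.Agent.Lib.helper16.CohFinite.isFinitePresentation_of_fp_sections (kernel p) U hU ?_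
    (fun x => ?_)
  · rw [eq_top_iff]
    intro x _
    exact Opens.mem_iSup.mpr ⟨x, hxU x⟩
  · letI := (f.appLE (V x) (U x) (hUV x)).hom.toAlgebra
    letI := modSecBase f H (hUV x)
    haveI := isScalarTower_sections f H (hUV x)
    haveI : Algebra.FinitePresentation Γ(Y, V x) Γ(X, U x) :=
      HasRingHomProperty.appLE (P := @LocallyOfFinitePresentation) f inferInstance
        ⟨V x, hV x⟩ ⟨U x, hU x⟩ (hUV x)
    haveI : Module.FinitePresentation Γ(X, U x) Γ(G, U x) :=
      Groth.Agent.Lib.helper16.CohFP.fp_sections_of_isFinitePresentation G hG (hU x)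
    haveI : Module.FinitePresentation Γ(X, U x) Γ(H, U x) :=
      Groth.Agent.Lib.helper16.CohFP.fp_sections_of_isFinitePresentation H hH (hU x)
    haveI : Module.Flat Γ(Y, V x) Γ(H, U x) :=
      (forall_mem_isFlatOverAt_iff f H (hUV x) (hU x) (hV x)).mp (fun y _ => hflat y)
    let pl : Γ(G, U x) →ₗ[Γ(X, U x)] Γ(H, U x) :=
      { toFun := (p.app (U x)).hom
        map_add' := fun a b => map_add _ a b
        map_smul' := fun r m => Scheme.Modules.Hom.app_smul p r m }
    let il : Γ(kernel p, U x) →ₗ[Γ(X, U x)] Γ(G, U x) :=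
      { toFun := ((kernel.ι p).app (U x)).hom
        map_add' := fun a b => map_add _ a b
        map_smul' := fun r m => Scheme.Modules.Hom.app_smul (kernel.ι p) r m }
    have hpl : Function.Surjective pl :=
      Groth.Agent.Lib.helper16.QCohEpi.surjective_app_of_epi p (hU x)
    have hfp := Groth.Agent.Lib.helper11.KerFP.fp_ker_of_flat (A := Γ(Y, V x)) (B := Γ(X, U x))
      pl hpl
    have hι : Function.Injective il :=
      Groth.Agent.Lib.helper7.KerSections.kernel_ι_app_injective p (U x)
    have hr : LinearMap.range il = LinearMap.ker pl := by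
      ext s
      have := Groth.Agent.Lib.helper7.KerSections.range_kernel_ι_app p (U x)
      exact Set.ext_iff.mp this s
    exact (LinearEquiv.finitePresentation_iff (M := Γ(kernel p, U x))
      (N := LinearMap.ker pl)
      ((LinearEquiv.ofInjective il hι).trans (LinearEquiv.ofEq _ _ hr))).mpr hfp

end Groth.Agent.Lib.helper11.KerFPSch
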