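import Mathlib
import Groth.Agent.Lib.Helper8.LocalFlat

/-!
# A variant of the local criterion of flatness (Stacks 0523) (helper11)

`R → S` with `S` Noetherian, `I ⊆ rad(S)`, `M` a finite `S`-module such that every `M / IⁿM` is flat
over `R`; then `M` is flat over `R`.
-/

set_option autoImplicit false

noncomputable section

namespace Groth.Agent.Lib.helper11.NormFlat

open TensorProduct

universe u v w

variable {R : Type u} {S : Type v} {M : Type w} [CommRing R] [CommRing S] [Algebra R S]
  [AddCommGroup M] [Module R M] [Module S M] [IsScalarTower R S M]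

/-- elements `y ⊗ a` with `y ∈ J M` lie in `J (M ⊗ 𝔞)`. -/
lemma range_rTensor_subtype_le (J : Ideal S) (N : Type*) [AddCommGroup N] [Module R N]
    (z : ↥(J • (⊤ : Submodule S M)) ⊗[R] N) :
    ((J • (⊤ : Submodule S M)).subtype.restrictScalars R).rTensor N z ∈
      (J • ⊤ : Submodule S (M ⊗[R] N)) := by
  induction z using TensorProduct.induction_on with
  | zero => rw [map_zero]; exact Submodule.zero_mem _
  | add x y hx hy => rw [map_add]; exact Submodule.add_mem _ hx hy
  | tmul y a =>
    obtain ⟨y, hy⟩ := y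
    show y ⊗ₜ[R] a ∈ _
    refine Submodule.smul_induction_on hy ?_ ?_
    · intro i hi m _
      rw [← TensorProduct.smul_tmul']
      exact Submodule.smul_mem_smul hi Submodule.mem_top
    · intro y₁ y₂ h₁ h₂
      rw [TensorProduct.add_tmul]
      exact Submodule.add_mem _ h₁ h₂

/-- **Stacks 0523.** -/
theorem flat_of_forall_flat_quotient_pow_smul [IsNoetherianRing S] [Module.Finite S M]
    (I : Ideal S) (hI : I ≤ Ideal.jacobson ⊥)
    (h : ∀ n : ℕ, Module.Flat R (M ⧸ (I ^ n • ⊤ : Submodule S M))) : Module.Flat R M := by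
  rw [Module.Flat.iff_lTensor_injective]
  intro 𝔞 h𝔞
  have : Module.Finite R ↥𝔞 := Module.Finite.iff_fg.mpr h𝔞
  have hfin : Module.Finite S (M ⊗[R] 𝔞) :=
    Groth.Agent.Lib.helper8.LocalFlat.finite_tensor_left M 𝔞
  rw [injective_iff_map_eq_zero]
  intro x hx
  have key : x ∈ (⨅ n : ℕ, I ^ n • ⊤ : Submodule S (M ⊗[R] 𝔞)) := by
    rw [Submodule.mem_iInf]
    intro n
    have := h n
    let Nn : Submodule S M := I ^ n • ⊤
    let π : M →ₗ[R] (M ⧸ Nn) := Nn.mkQ.restrictScalars R
    let ι : ↥Nn →ₗ[R] M := Nn.subtype.restrictScalars R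
    have hex : Function.Exact ι π := by
      intro m
      show Nn.mkQ m = 0 ↔ m ∈ Set.range Nn.subtype
      rw [Submodule.mkQ_apply, Submodule.Quotient.mk_eq_zero, Submodule.coe_subtype,
        Subtype.range_coe]
      rfl
    have hsurj : Function.Surjective π := Nn.mkQ_surjective
    have hx2 : π.rTensor 𝔞 x = 0 := by
      have hinj : Function.Injective (𝔞.subtype.lTensor (M ⧸ Nn)) :=
        Module.Flat.lTensor_preserves_injective_linearMap _ Subtype.val_injective
      apply hinj
      rw [map_zero, ← LinearMap.comp_apply, LinearMap.lTensor_comp_rTensor,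
        ← LinearMap.rTensor_comp_lTensor, LinearMap.comp_apply, hx, map_zero]
    obtain ⟨z, rfl⟩ := (rTensor_exact 𝔞 hex hsurj x).mp hx2
    exact range_rTensor_subtype_le (I ^ n) 𝔞 z
  rw [Ideal.iInf_pow_smul_eq_bot_of_le_jacobson _ hI, Submodule.mem_bot] at key
  exact key

end Groth.Agent.Lib.helper11.NormFlat
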