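import Mathlib
import Groth.Agent.Lib.Helper11.GenFree4

/-!
# Generic normal flatness, part 1 (helper11)

`GF_quot_smul_top`: for a prime `p` of `A` with `A ⧸ p` Noetherian, a finite type `A`-algebra `B`
and a finite `B`-module `E`, the `A ⧸ p`-module `E ⧸ p E` is generically free.
-/

set_option autoImplicit false

noncomputable section

namespace Groth.Agent.Lib.helper11.NormFlat

open Groth.Agent.Lib.helper11.GenFree TensorProduct

universe u

section general

variable (A : Type u) [CommRing A] (p : Ideal A)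
  (B : Type u) [CommRing B] [Algebra A B]
  (E : Type u) [AddCommGroup E] [Module A E] [Module B E] [IsScalarTower A B E]

instance isScalarTower_quot_smul_top : IsScalarTower A (A ⧸ p) (E ⧸ (p • ⊤ : Submodule A E)) :=
  IsScalarTower.of_algebraMap_smul (fun a x => by
    obtain ⟨x, rfl⟩ := Submodule.Quotient.mk_surjective _ x
    rfl)

/-- `p • ⊤` (over `A`) is `(pB) • ⊤` (over `B`) as sets. -/
lemma smul_top_eq_restrictScalars :
    (p • ⊤ : Submodule A E) =
      ((p.map (algebraMap A B)) • (⊤ : Submodule B E)).restrictScalars A := by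
  apply le_antisymm
  · rw [Submodule.smul_le]
    intro a ha e _
    rw [Submodule.restrictScalars_mem, ← algebraMap_smul B a e]
    exact Submodule.smul_mem_smul (Ideal.mem_map_of_mem _ ha) Submodule.mem_top
  · intro x hx
    rw [Submodule.restrictScalars_mem] at hx
    refine Submodule.smul_induction_on hx ?_ ?_
    · intro b hb e _
      have key : ∀ e : E, b • e ∈ (p • ⊤ : Submodule A E) := by
        refine Submodule.span_induction (p := fun b _ => ∀ e : E, b • e ∈ (p • ⊤ : Submodule A E))
          ?_ ?_ ?_ ?_ hb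
        · rintro _ ⟨a, ha, rfl⟩ e
          rw [algebraMap_smul]
          exact Submodule.smul_mem_smul ha Submodule.mem_top
        · intro e
          rw [zero_smul]
          exact Submodule.zero_mem _
        · intro b₁ b₂ _ _ h₁ h₂ e
          rw [add_smul]
          exact Submodule.add_mem _ (h₁ e) (h₂ e)
        · intro c b₁ _ h₁ e
          rw [smul_eq_mul, mul_comm, mul_smul]
          exact h₁ _
      exact key e
    · intro x y hx hy
      exact Submodule.add_mem _ hx hy

end general

/-- Generic freeness of `E ⧸ p E` over the domain `A ⧸ p`. -/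
theorem GF_quot_smul_top (A : Type u) [CommRing A] (p : Ideal A) [p.IsPrime]
    [IsNoetherianRing (A ⧸ p)]
    (B : Type u) [CommRing B] [Algebra A B] [Algebra.FiniteType A B]
    (E : Type u) [AddCommGroup E] [Module A E] [Module B E] [IsScalarTower A B E]
    [Module.Finite B E] : GF (A ⧸ p) (E ⧸ (p • ⊤ : Submodule A E)) := by
  let J : Ideal B := p.map (algebraMap A B)
  let NB := E ⧸ (J • ⊤ : Submodule B E)
  let _ : Module (A ⧸ p) NB := Module.compHom NB (algebraMap (A ⧸ p) (B ⧸ J))
  have : IsScalarTower (A ⧸ p) (B ⧸ J) NB := IsScalarTower.of_algebraMap_smul (fun _ _ => rfl)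
  have : Algebra.FiniteType (A ⧸ p) (B ⧸ J) :=
    Algebra.FiniteType.of_restrictScalars_finiteType A (A ⧸ p) (B ⧸ J)
  have : Module.Finite B NB := inferInstance
  have : Module.Finite (B ⧸ J) NB := Module.Finite.of_restrictScalars_finite B (B ⧸ J) NB
  have hGF : GF (A ⧸ p) NB := GF_of_finiteType (A := A ⧸ p) (B ⧸ J) NB
  have : IsScalarTower A (A ⧸ p) NB := IsScalarTower.of_algebraMap_smul (fun a x => by
    obtain ⟨x, rfl⟩ := Submodule.Quotient.mk_surjective _ x
    show (algebraMap (A ⧸ p) (B ⧸ J) (Ideal.Quotient.mk p a)) •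
      (Submodule.Quotient.mk x : NB) = a • (Submodule.Quotient.mk x : NB)
    rw [Ideal.Quotient.algebraMap_quotient_map_quotient]
    show (Submodule.Quotient.mk ((algebraMap A B a) • x) : NB) = Submodule.Quotient.mk (a • x)
    rw [algebraMap_smul])
  let e₁ : (E ⧸ (J • ⊤ : Submodule B E).restrictScalars A) ≃ₗ[A] NB :=
    Submodule.Quotient.restrictScalarsEquiv A (J • ⊤ : Submodule B E)
  let e₂ : (E ⧸ (p • ⊤ : Submodule A E)) ≃ₗ[A] (E ⧸ (J • ⊤ : Submodule B E).restrictScalars A) :=
    Submodule.quotEquivOfEq _ _ (smul_top_eq_restrictScalars A p B E)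
  let e : NB ≃ₗ[A ⧸ p] (E ⧸ (p • ⊤ : Submodule A E)) :=
    (e₂.trans e₁).symm.extendScalarsOfSurjective Ideal.Quotient.mk_surjective
  exact hGF.of_equiv e

/-- Uniform projectivity of the reductions mod `p` of all `A`-linear retracts of `E`, after
inverting a single nonzero element of `A ⧸ p`. -/
theorem exists_projective_baseChange_of_retract (A : Type u) [CommRing A] (p : Ideal A) [p.IsPrime]
    [IsNoetherianRing (A ⧸ p)]
    (B : Type u) [CommRing B] [Algebra A B] [Algebra.FiniteType A B]
    (E : Type u) [AddCommGroup E] [Module A E] [Module B E] [IsScalarTower A B E]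
    [Module.Finite B E] :
    ∃ a : A ⧸ p, a ≠ 0 ∧ ∀ (S' : Type u) [CommRing S'] [Algebra (A ⧸ p) S'],
      IsUnit (algebraMap (A ⧸ p) S' a) →
      ∀ (P : Type u) [AddCommGroup P] [Module A P] (i : P →ₗ[A] E) (s : E →ₗ[A] P),
        s ∘ₗ i = LinearMap.id →
        Module.Projective S' (S' ⊗[A ⧸ p] (P ⧸ (p • ⊤ : Submodule A P))) := by
  obtain ⟨a, ha, hPF⟩ := GF_quot_smul_top A p B E
  refine ⟨a, ha, ?_⟩
  intro S' _ _ hu P _ _ i s hsi
  unfold PF at hPF
  let φ : Localization.Away a →ₐ[A ⧸ p] S' :=
    { toRingHom := IsLocalization.Away.lift (S := Localization.Away a) a hu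
      commutes' := fun r => IsLocalization.Away.lift_eq a hu r }
  have hfree : Module.Free S' (S' ⊗[A ⧸ p] (E ⧸ (p • ⊤ : Submodule A E))) :=
    free_baseChange_of_algHom φ hPF
  let ib : (P ⧸ (p • ⊤ : Submodule A P)) →ₗ[A ⧸ p] (E ⧸ (p • ⊤ : Submodule A E)) :=
    (Submodule.mapQ _ _ i (Submodule.smul_top_le_comap_smul_top p i)).extendScalarsOfSurjective
      Ideal.Quotient.mk_surjective
  let sb : (E ⧸ (p • ⊤ : Submodule A E)) →ₗ[A ⧸ p] (P ⧸ (p • ⊤ : Submodule A P)) :=
    (Submodule.mapQ _ _ s (Submodule.smul_top_le_comap_smul_top p s)).extendScalarsOfSurjective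
      Ideal.Quotient.mk_surjective
  have hsb : sb ∘ₗ ib = LinearMap.id := by
    ext x
    obtain ⟨x, rfl⟩ := Submodule.Quotient.mk_surjective _ x
    show Submodule.Quotient.mk (s (i x)) = Submodule.Quotient.mk x
    have := LinearMap.congr_fun hsi x
    rw [LinearMap.comp_apply, LinearMap.id_apply] at this
    rw [this]
  refine Module.Projective.of_split (ib.baseChange S') (sb.baseChange S') ?_
  rw [← LinearMap.baseChange_comp, hsb, LinearMap.baseChange_id]

end Groth.Agent.Lib.helper11.NormFlat
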