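import Mathlib
import Groth.Agent.Lib.Helper11.NormFlat1

/-!
# Generic normal flatness, part 2 (helper11): Rees module, graded pieces as retracts
-/

set_option autoImplicit false

noncomputable section

namespace Groth.Agent.Lib.helper11.NormFlat

open Groth.Agent.Lib.helper11.GenFree TensorProduct

universe u

variable (A : Type u) [CommRing A] (p : Ideal A)
  (M : Type u) [AddCommGroup M] [Module A M]

/-- The Rees module `⊕ pⁿ M` as a module over the Rees algebra. -/
abbrev RMod := ↥((p.stableFiltration (⊤ : Submodule A M)).submodule)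

/-- The graded piece `pⁿM / p pⁿM`, in the form of `EGA4.IsNormallyFlat`. -/
abbrev piece (n : ℕ) :=
  ↥(p ^ n • (⊤ : Submodule A M)) ⧸ (p • ⊤ : Submodule A ↥(p ^ n • (⊤ : Submodule A M)))

instance [IsNoetherianRing A] [Module.Finite A M] :
    Module.Finite (reesAlgebra p) (RMod A p M) := by
  rw [Module.Finite.iff_fg, Ideal.Filtration.submodule_fg_iff_stable]
  · exact Ideal.stableFiltration_stable p ⊤
  · intro i
    exact IsNoetherian.noetherian _

/-- inclusion of the `n`-th graded piece (before passing to quotients) -/
def inc' (n : ℕ) : ↥(p ^ n • (⊤ : Submodule A M)) →ₗ[A] RMod A p M where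
  toFun m := ⟨PolynomialModule.single A n m.1, fun i => by
    rw [PolynomialModule.coeff_single, Finsupp.single_apply]
    split_ifs with h
    · subst h
      exact m.2
    · exact Submodule.zero_mem _⟩
  map_add' x y := by
    apply Subtype.ext
    simp
  map_smul' a x := by
    apply Subtype.ext
    simp [PolynomialModule.single_smul]

/-- projection to the `n`-th graded piece (before passing to quotients) -/
def proj' (n : ℕ) : RMod A p M →ₗ[A] ↥(p ^ n • (⊤ : Submodule A M)) where
  toFun f := ⟨f.1.coeff n, f.2 n⟩
  map_add' x y := by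
    apply Subtype.ext
    simp
  map_smul' a x := by
    apply Subtype.ext
    simp only [Submodule.coe_smul_of_tower, RingHom.id_apply]
    rfl

lemma proj'_inc' (n : ℕ) : proj' A p M n ∘ₗ inc' A p M n = LinearMap.id := by
  ext m
  simp [proj', inc']

/-- All graded pieces `pⁿM/pⁿ⁺¹M` become projective after inverting one nonzero element of
`A ⧸ p`. -/
theorem exists_projective_piece [IsNoetherianRing A] [Module.Finite A M] [p.IsPrime] :
    ∃ a : A ⧸ p, a ≠ 0 ∧ ∀ (S' : Type u) [CommRing S'] [Algebra (A ⧸ p) S'],
      IsUnit (algebraMap (A ⧸ p) S' a) →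
      ∀ n : ℕ, Module.Projective S' (S' ⊗[A ⧸ p] piece A p M n) := by
  obtain ⟨a, ha, h⟩ :=
    exists_projective_baseChange_of_retract A p (reesAlgebra p) (RMod A p M)
  refine ⟨a, ha, fun S' _ _ hu n => ?_⟩
  exact h S' hu _ (inc' A p M n) (proj' A p M n) (proj'_inc' A p M n)

end Groth.Agent.Lib.helper11.NormFlat
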