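import Mathlib
import Groth.Agent.Lib.Helper11.NormFlat2
import Groth.Agent.Lib.Helper17.FlatSES

/-!
# Generic flatness along a closed subscheme of finite type, part 1 (helper11)

`A₁` a Noetherian domain, `B` an `A₁`-algebra, `J` an ideal of `B` with `B ⧸ J` of finite type over
`A₁`, `N` a finite `B`-module (`B` Noetherian): after inverting one nonzero `a ∈ A₁` all `N ⧸ JⁿN`
become flat over `A₁`.
-/

set_option autoImplicit false

noncomputable section

namespace Groth.Agent.Lib.helper11.NormFlat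

open Groth.Agent.Lib.helper11.GenFree TensorProduct

universe u

/-- Uniform projectivity of the reductions mod `J` of all `B`-linear retracts of `E`, after
inverting a single nonzero element of the base domain `A₁`. -/
theorem exists_projective_of_retract' (A₁ : Type u) [CommRing A₁] [IsDomain A₁]
    [IsNoetherianRing A₁] (B : Type u) [CommRing B] [Algebra A₁ B] (J : Ideal B)
    [Algebra.FiniteType A₁ (B ⧸ J)]
    (C : Type u) [CommRing C] [Algebra B C] [Algebra.FiniteType B C]
    (E : Type u) [AddCommGroup E] [Module B E] [Module C E] [IsScalarTower B C E]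
    [Module.Finite C E] :
    ∃ a : A₁, a ≠ 0 ∧ ∀ (S' : Type u) [CommRing S'] [Algebra A₁ S'],
      IsUnit (algebraMap A₁ S' a) →
      ∀ (P : Type u) [AddCommGroup P] [Module B P] [Module A₁ P] [IsScalarTower A₁ B P]
        (i : P →ₗ[B] E) (s : E →ₗ[B] P), s ∘ₗ i = LinearMap.id →
        Module.Projective S' (S' ⊗[A₁] (P ⧸ (J • ⊤ : Submodule B P))) := by
  let J' : Ideal C := J.map (algebraMap B C)
  let NB := E ⧸ (J' • ⊤ : Submodule C E)
  let QE := E ⧸ (J • ⊤ : Submodule B E)
  -- the `A₁`-algebra structure on `C ⧸ J'`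
  let _ : Algebra A₁ (C ⧸ J') :=
    ((algebraMap (B ⧸ J) (C ⧸ J')).comp (algebraMap A₁ (B ⧸ J))).toAlgebra
  have : IsScalarTower A₁ (B ⧸ J) (C ⧸ J') := IsScalarTower.of_algebraMap_eq (fun _ => rfl)
  have hft1 : Algebra.FiniteType (B ⧸ J) (C ⧸ J') :=
    Algebra.FiniteType.of_restrictScalars_finiteType B (B ⧸ J) (C ⧸ J')
  have hft0 : Algebra.FiniteType A₁ (B ⧸ J) := inferInstance
  have : Algebra.FiniteType A₁ (C ⧸ J') := Algebra.FiniteType.trans hft0 hft1
  let _ : Module A₁ NB := Module.compHom NB (algebraMap A₁ (C ⧸ J'))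
  have : IsScalarTower A₁ (C ⧸ J') NB := IsScalarTower.of_algebraMap_smul (fun _ _ => rfl)
  have : Module.Finite C NB := inferInstance
  have : Module.Finite (C ⧸ J') NB := Module.Finite.of_restrictScalars_finite C (C ⧸ J') NB
  have hGF : GF A₁ NB := GF_of_finiteType (A := A₁) (C ⧸ J') NB
  have hNB : IsScalarTower A₁ B NB := IsScalarTower.of_algebraMap_smul (fun a x => by
    obtain ⟨x, rfl⟩ := Submodule.Quotient.mk_surjective _ x
    show (algebraMap A₁ B a) • (Submodule.Quotient.mk x : NB) =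
      (algebraMap (B ⧸ J) (C ⧸ J') (algebraMap A₁ (B ⧸ J) a)) • (Submodule.Quotient.mk x : NB)
    rw [IsScalarTower.algebraMap_apply A₁ B (B ⧸ J), Ideal.Quotient.algebraMap_eq,
      Ideal.Quotient.algebraMap_quotient_map_quotient]
    show (Submodule.Quotient.mk ((algebraMap A₁ B a) • x) : NB) =
      Submodule.Quotient.mk ((algebraMap B C (algebraMap A₁ B a)) • x)
    rw [algebraMap_smul C (algebraMap A₁ B a) x])
  let _ : Module A₁ QE := Module.compHom QE (algebraMap A₁ (B ⧸ J))
  have hQE : IsScalarTower A₁ B QE := IsScalarTower.of_algebraMap_smul (fun a x => by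
    obtain ⟨x, rfl⟩ := Submodule.Quotient.mk_surjective _ x
    show (algebraMap A₁ B a) • (Submodule.Quotient.mk x : QE) =
      (algebraMap A₁ (B ⧸ J) a) • (Submodule.Quotient.mk x : QE)
    rw [IsScalarTower.algebraMap_apply A₁ B (B ⧸ J), Ideal.Quotient.algebraMap_eq]
    rfl)
  let e₁ : (E ⧸ (J' • ⊤ : Submodule C E).restrictScalars B) ≃ₗ[B] NB :=
    Submodule.Quotient.restrictScalarsEquiv B (J' • ⊤ : Submodule C E)
  let e₂ : QE ≃ₗ[B] (E ⧸ (J' • ⊤ : Submodule C E).restrictScalars B) :=
    Submodule.quotEquivOfEq _ _ (smul_top_eq_restrictScalars B J C E)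
  let e : NB ≃ₗ[A₁] QE := ((e₂.trans e₁).symm).restrictScalars A₁
  obtain ⟨a, ha, hPF⟩ := hGF.of_equiv e
  refine ⟨a, ha, ?_⟩
  intro S' _ _ hu P _ _ _ _ i s hsi
  unfold PF at hPF
  let φ : Localization.Away a →ₐ[A₁] S' :=
    { toRingHom := IsLocalization.Away.lift (S := Localization.Away a) a hu
      commutes' := fun r => IsLocalization.Away.lift_eq a hu r }
  have hfree : Module.Free S' (S' ⊗[A₁] QE) := free_baseChange_of_algHom φ hPF
  let ib : (P ⧸ (J • ⊤ : Submodule B P)) →ₗ[A₁] QE :=
    (Submodule.mapQ _ _ i (Submodule.smul_top_le_comap_smul_top J i)).restrictScalars A₁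
  let sb : QE →ₗ[A₁] (P ⧸ (J • ⊤ : Submodule B P)) :=
    (Submodule.mapQ _ _ s (Submodule.smul_top_le_comap_smul_top J s)).restrictScalars A₁
  have hsb : sb ∘ₗ ib = LinearMap.id := by
    ext x
    obtain ⟨x, rfl⟩ := Submodule.Quotient.mk_surjective _ x
    show Submodule.Quotient.mk (s (i x)) = Submodule.Quotient.mk x
    have := LinearMap.congr_fun hsi x
    rw [LinearMap.comp_apply, LinearMap.id_apply] at this
    rw [this]
  refine Module.Projective.of_split (ib.baseChange S') (sb.baseChange S') ?_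
  rw [← LinearMap.baseChange_comp, hsb, LinearMap.baseChange_id]

end Groth.Agent.Lib.helper11.NormFlat
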