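import Mathlib
import Groth.Agent.Lib.Helper11.NormFlat5

/-!
# Generic flatness along a closed subscheme of finite type, part 2 (helper11)

The short exact sequences `0 → JⁿN/Jⁿ⁺¹N → N/Jⁿ⁺¹N → N/JⁿN → 0` and generic flatness of all
`N/JⁿN` over the base domain.
-/

set_option autoImplicit false

noncomputable section

namespace Groth.Agent.Lib.helper11.NormFlat

open Groth.Agent.Lib.helper11.GenFree TensorProduct

universe u

section ses

variable (B : Type u) [CommRing B] (J : Ideal B) (N : Type u) [AddCommGroup N] [Module B N]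

/-- `JⁿN/J·JⁿN → N/Jⁿ⁺¹N` -/
def pieceIncl (n : ℕ) : piece B J N n →ₗ[B] (N ⧸ (J ^ (n + 1) • ⊤ : Submodule B N)) :=
  Submodule.liftQ _ ((J ^ (n + 1) • ⊤ : Submodule B N).mkQ ∘ₗ (J ^ n • ⊤ : Submodule B N).subtype)
    (by
      rw [Submodule.smul_le]
      intro j hj t _
      rw [LinearMap.mem_ker, LinearMap.comp_apply, Submodule.mkQ_apply,
        Submodule.Quotient.mk_eq_zero, pow_succ', mul_smul]
      exact Submodule.smul_mem_smul hj t.2)

/-- `N/Jⁿ⁺¹N → N/JⁿN` -/
def quotFactor (n : ℕ) :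
    (N ⧸ (J ^ (n + 1) • ⊤ : Submodule B N)) →ₗ[B] (N ⧸ (J ^ n • ⊤ : Submodule B N)) :=
  Submodule.mapQ _ _ LinearMap.id (by
    intro x hx
    exact Submodule.smul_mono_left (Ideal.pow_le_pow_right (Nat.le_succ n)) hx)

lemma pieceIncl_injective (n : ℕ) : Function.Injective (pieceIncl B J N n) := by
  rw [injective_iff_map_eq_zero]
  intro x hx
  obtain ⟨t, rfl⟩ := Submodule.Quotient.mk_surjective _ x
  rw [Submodule.Quotient.mk_eq_zero]
  have h1 : (t : N) ∈ (J ^ (n + 1) • ⊤ : Submodule B N) := by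
    have : (J ^ (n + 1) • ⊤ : Submodule B N).mkQ (t : N) = 0 := hx
    rwa [Submodule.mkQ_apply, Submodule.Quotient.mk_eq_zero] at this
  have h2 : (J • ⊤ : Submodule B ↥(J ^ n • ⊤ : Submodule B N)).map
      (J ^ n • ⊤ : Submodule B N).subtype = (J ^ (n + 1) • ⊤ : Submodule B N) := by
    rw [Submodule.map_smul'', Submodule.map_subtype_top, pow_succ', mul_smul]
  rw [← h2] at h1
  obtain ⟨t', ht', e⟩ := h1
  rwa [Subtype.ext e] at ht'

lemma quotFactor_surjective (n : ℕ) : Function.Surjective (quotFactor B J N n) := by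
  intro x
  obtain ⟨y, rfl⟩ := Submodule.Quotient.mk_surjective _ x
  exact ⟨Submodule.Quotient.mk y, rfl⟩

lemma exact_pieceIncl_quotFactor (n : ℕ) :
    Function.Exact (pieceIncl B J N n) (quotFactor B J N n) := by
  intro x
  obtain ⟨y, rfl⟩ := Submodule.Quotient.mk_surjective _ x
  constructor
  · intro h
    have h1 : y ∈ (J ^ n • ⊤ : Submodule B N) := by
      have : (Submodule.Quotient.mk y : N ⧸ (J ^ n • ⊤ : Submodule B N)) = 0 := h
      rwa [Submodule.Quotient.mk_eq_zero] at this
    exact ⟨Submodule.Quotient.mk ⟨y, h1⟩, rfl⟩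
  · rintro ⟨t, ht⟩
    obtain ⟨t, rfl⟩ := Submodule.Quotient.mk_surjective _ t
    rw [← ht]
    show (Submodule.Quotient.mk (t : N) : N ⧸ (J ^ n • ⊤ : Submodule B N)) = 0
    rw [Submodule.Quotient.mk_eq_zero]
    exact t.2

end ses

variable (A₁ : Type u) [CommRing A₁] [IsDomain A₁] [IsNoetherianRing A₁]
  (B : Type u) [CommRing B] [IsNoetherianRing B] [Algebra A₁ B] (J : Ideal B)
  [Algebra.FiniteType A₁ (B ⧸ J)]
  (N : Type u) [AddCommGroup N] [Module B N] [Module A₁ N] [IsScalarTower A₁ B N]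
  [Module.Finite B N]

theorem exists_projective_piece' :
    ∃ a : A₁, a ≠ 0 ∧ ∀ (S' : Type u) [CommRing S'] [Algebra A₁ S'],
      IsUnit (algebraMap A₁ S' a) →
      ∀ n : ℕ, Module.Projective S' (S' ⊗[A₁] piece B J N n) := by
  obtain ⟨a, ha, h⟩ :=
    exists_projective_of_retract' A₁ B J (reesAlgebra J) (RMod B J N)
  refine ⟨a, ha, fun S' _ _ hu n => ?_⟩
  exact h S' hu _ (inc' B J N n) (proj' B J N n) (proj'_inc' B J N n)

/-- After inverting one nonzero element of `A₁`, all `N ⧸ JⁿN` are flat over `A₁`. -/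
theorem exists_flat_quotients :
    ∃ a : A₁, a ≠ 0 ∧ ∀ n : ℕ,
      Module.Flat A₁ (Localization.Away a ⊗[A₁] (N ⧸ (J ^ n • ⊤ : Submodule B N))) := by
  obtain ⟨a, ha, h⟩ := exists_projective_piece' A₁ B J N
  refine ⟨a, ha, ?_⟩
  have hp : ∀ n : ℕ, Module.Flat A₁ (Localization.Away a ⊗[A₁] piece B J N n) := by
    intro n
    have := h (Localization.Away a) (IsLocalization.Away.algebraMap_isUnit a) n
    exact Module.Flat.trans A₁ (Localization.Away a) _
  intro n
  induction n with
  | zero =>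
    have : Subsingleton (N ⧸ (J ^ 0 • ⊤ : Submodule B N)) := by
      rw [pow_zero, Ideal.one_eq_top, Submodule.top_smul]
      infer_instance
    infer_instance
  | succ n ih =>
    have := hp n
    let f := ((pieceIncl B J N n).restrictScalars A₁).lTensor (Localization.Away a)
    let g := ((quotFactor B J N n).restrictScalars A₁).lTensor (Localization.Away a)
    refine Groth.Agent.Lib.helper17.FlatSES.flat_mid_of_exact f g ?_ ?_ ?_
    · exact Module.Flat.lTensor_preserves_injective_linearMap _ (pieceIncl_injective B J N n)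
    · exact LinearMap.lTensor_surjective _ (quotFactor_surjective B J N n)
    · exact lTensor_exact _ (exact_pieceIncl_quotFactor B J N n) (quotFactor_surjective B J N n)

end Groth.Agent.Lib.helper11.NormFlat
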