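import Mathlib
import Groth.Agent.Lib.Helper11.NormFlat6
import Groth.Agent.Lib.Helper11.NormFlat4

/-!
# Generic flatness along a closed subscheme of finite type, part 3 (helper11)

* `flat_of_isLocalizedModule_of_flat_away`: if `T_a` is `A₁`-flat, so is any localization of the
  `B`-module `T` at a submonoid containing the image of `a`.
* `flat_localizedModule_of_flat_quotients`, `exists_forall_flat_localizedModule`: ring form of
  generic flatness along `V(J)` (EGA IV 6.9.3-type statement).
-/

set_option autoImplicit false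

noncomputable section

namespace Groth.Agent.Lib.helper11.NormFlat

open TensorProduct

universe u

section loc

variable {A₁ : Type u} [CommRing A₁] {B : Type u} [CommRing B] [Algebra A₁ B]
  {T T' : Type u} [AddCommGroup T] [Module A₁ T] [Module B T] [IsScalarTower A₁ B T]
  [AddCommGroup T'] [Module A₁ T'] [Module B T'] [IsScalarTower A₁ B T']

/-- If `T_a` is flat over `A₁` and `T'` is a localization of the `B`-module `T` at a submonoid
containing the image of `a`, then `T'` is flat over `A₁`. -/
theorem flat_of_isLocalizedModule_of_flat_away (a : A₁) (Sg : Submonoid B)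
    (ha : algebraMap A₁ B a ∈ Sg) (g : T →ₗ[B] T') [IsLocalizedModule Sg g]
    (hflat : Module.Flat A₁ (Localization.Away a ⊗[A₁] T)) : Module.Flat A₁ T' := by
  rw [Module.Flat.iff_lTensor_injectiveₛ]
  intro P _ _ N₀
  rw [← AlgebraTensorModule.coe_lTensor (A := B)]
  rw [← IsLocalizedModule.map_lTensor (S := Sg) (f := N₀.subtype) (g := g)]
  let u := AlgebraTensorModule.rTensor A₁ N₀ g
  let v := AlgebraTensorModule.rTensor A₁ P g
  let h := AlgebraTensorModule.lTensor B T N₀.subtype
  -- the kernel of `h` is `a`-power torsion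
  have hker : ∀ x : T ⊗[A₁] N₀, h x = 0 → ∃ k : ℕ, a ^ k • x = 0 := by
    intro x hx
    have hinj : Function.Injective (N₀.subtype.lTensor (Localization.Away a ⊗[A₁] T)) :=
      Module.Flat.lTensor_preserves_injective_linearMap _ N₀.injective_subtype
    have h1 : (TensorProduct.assoc A₁ (Localization.Away a) T N₀).symm
        ((1 : Localization.Away a) ⊗ₜ[A₁] x) = 0 := by
      apply hinj
      rw [map_zero]
      have h2 : ∀ y : T ⊗[A₁] N₀,
          (N₀.subtype.lTensor (Localization.Away a ⊗[A₁] T))
            ((TensorProduct.assoc A₁ (Localization.Away a) T N₀).symm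
              ((1 : Localization.Away a) ⊗ₜ[A₁] y)) =
          (TensorProduct.assoc A₁ (Localization.Away a) T P).symm
            ((1 : Localization.Away a) ⊗ₜ[A₁] (N₀.subtype.lTensor T y)) := by
        intro y
        induction y using TensorProduct.induction_on with
        | zero => simp
        | add y₁ y₂ h₁ h₂ => simp only [tmul_add, map_add, h₁, h₂]
        | tmul t n => simp
      rw [h2]
      have h3 : N₀.subtype.lTensor T x = 0 := hx
      rw [h3, tmul_zero, map_zero]
    have h4 : TensorProduct.mk A₁ (Localization.Away a) (T ⊗[A₁] N₀) 1 x = 0 := by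
      have := congrArg (TensorProduct.assoc A₁ (Localization.Away a) T N₀) h1
      rwa [LinearEquiv.apply_symm_apply, map_zero] at this
    rw [IsLocalizedModule.eq_zero_iff (Submonoid.powers a)] at h4
    obtain ⟨⟨_, k, rfl⟩, hk⟩ := h4
    exact ⟨k, hk⟩
  rw [injective_iff_map_eq_zero]
  intro y hy
  obtain ⟨⟨x, σ⟩, hxσ⟩ := IsLocalizedModule.surj Sg u y
  have hxσ' : (σ : B) • y = u x := hxσ
  have h5 : v (h x) = 0 := by
    rw [← IsLocalizedModule.map_apply Sg u v h x, ← hxσ', map_smul, hy, smul_zero]
  rw [IsLocalizedModule.eq_zero_iff Sg] at h5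
  obtain ⟨τ, hτ⟩ := h5
  have hτ' : (τ : B) • h x = 0 := hτ
  obtain ⟨k, hk⟩ := hker ((τ : B) • x) (by rw [map_smul]; exact hτ')
  let ρ : Sg := ⟨algebraMap A₁ B a, ha⟩ ^ k * τ * σ
  have h6 : ρ • y = 0 := by
    show ((algebraMap A₁ B a) ^ k * (τ : B) * (σ : B)) • y = 0
    rw [mul_smul, mul_smul, hxσ', ← map_smul, ← map_smul, ← map_pow, algebraMap_smul, hk,
      map_zero]
  exact IsLocalizedModule.smul_injective u ρ (by
    show ρ • y = ρ • (0 : T' ⊗[A₁] ↥N₀)
    rw [h6, smul_zero])

end loc

section main

variable (A₁ : Type u) [CommRing A₁] (B : Type u) [CommRing B] [IsNoetherianRing B] [Algebra A₁ B]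
  (J : Ideal B) (N : Type u) [AddCommGroup N] [Module B N] [Module A₁ N] [IsScalarTower A₁ B N]
  [Module.Finite B N]

omit [IsNoetherianRing B] [Module.Finite B N] in
lemma localized'_pow_smul_top' (Sg : Submonoid B) (n : ℕ) :
    (J ^ n • (⊤ : Submodule B N)).localized' (Localization Sg) Sg
        (LocalizedModule.mkLinearMap Sg N) =
      ((J.map (algebraMap B (Localization Sg))) ^ n •
        (⊤ : Submodule (Localization Sg) (LocalizedModule Sg N))) := by
  rw [Submodule.localized'_smul, Ideal.localized'_eq_map, Submodule.localized'_top, Ideal.map_pow]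

/-- If all `(N ⧸ JⁿN)_a` are flat over `A₁`, then `N_q` is flat over `A₁` for all primes `q ⊇ J`
not containing `a`. -/
theorem flat_localizedModule_of_flat_quotients (a : A₁)
    (hflat : ∀ n : ℕ,
      Module.Flat A₁ (Localization.Away a ⊗[A₁] (N ⧸ (J ^ n • ⊤ : Submodule B N))))
    (q : Ideal B) [q.IsPrime] (hJ : J ≤ q) (ha : algebraMap A₁ B a ∉ q) :
    Module.Flat A₁ (LocalizedModule q.primeCompl N) := by
  let S := Localization.AtPrime q
  let M' := LocalizedModule q.primeCompl N
  let L := LocalizedModule.mkLinearMap q.primeCompl N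
  let I : Ideal S := J.map (algebraMap B S)
  have hI : I ≤ Ideal.jacobson ⊥ := by
    rw [IsLocalRing.jacobson_eq_maximalIdeal ⊥ bot_ne_top,
      ← Localization.AtPrime.map_eq_maximalIdeal (I := q)]
    exact Ideal.map_mono hJ
  have : Module.Finite S M' := Module.Finite.of_isLocalizedModule q.primeCompl L
  refine flat_of_forall_flat_quotient_pow_smul (R := A₁) (S := S) (M := M') I hI ?_
  intro n
  let Tn : Submodule B N := J ^ n • ⊤
  let g₂ : (N ⧸ Tn) →ₗ[B] (M' ⧸ Tn.localized' S q.primeCompl L) :=
    Tn.toLocalizedQuotient' S q.primeCompl L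
  have : IsLocalizedModule q.primeCompl g₂ := inferInstance
  let e : (M' ⧸ Tn.localized' S q.primeCompl L) ≃ₗ[S] (M' ⧸ (I ^ n • ⊤ : Submodule S M')) :=
    Submodule.quotEquivOfEq _ _ (localized'_pow_smul_top' B J N q.primeCompl n)
  let g : (N ⧸ Tn) →ₗ[B] (M' ⧸ (I ^ n • ⊤ : Submodule S M')) :=
    (e.restrictScalars B).toLinearMap ∘ₗ g₂
  have hg : IsLocalizedModule q.primeCompl g := IsLocalizedModule.of_linearEquiv _ _ _
  exact flat_of_isLocalizedModule_of_flat_away a q.primeCompl ha g (hflat n)

end main

/-- **Generic flatness along a closed subscheme of finite type, ring form.** -/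
theorem exists_forall_flat_localizedModule (A₁ : Type u) [CommRing A₁] [IsDomain A₁]
    [IsNoetherianRing A₁] (B : Type u) [CommRing B] [IsNoetherianRing B] [Algebra A₁ B]
    (J : Ideal B) [Algebra.FiniteType A₁ (B ⧸ J)]
    (N : Type u) [AddCommGroup N] [Module B N] [Module A₁ N] [IsScalarTower A₁ B N]
    [Module.Finite B N] :
    ∃ a : A₁, a ≠ 0 ∧ ∀ (q : Ideal B) [q.IsPrime], J ≤ q → algebraMap A₁ B a ∉ q →
      ∀ (M' : Type u) [AddCommGroup M'] [Module B M'] [Module A₁ M'] [IsScalarTower A₁ B M']
        (L : N →ₗ[B] M') [IsLocalizedModule q.primeCompl L], Module.Flat A₁ M' := by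
  obtain ⟨a, ha, hflat⟩ := exists_flat_quotients A₁ B J N
  refine ⟨a, ha, ?_⟩
  intro q _ hJ haq M' _ _ _ _ L _
  have h1 := flat_localizedModule_of_flat_quotients A₁ B J N a hflat q hJ haq
  exact Module.Flat.of_linearEquiv
    ((IsLocalizedModule.iso q.primeCompl L).restrictScalars A₁).symm

end Groth.Agent.Lib.helper11.NormFlat
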