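import Mathlib
import Groth.Prelude.Def_FlatMod2
import Groth.Agent.Lib.Helper11.NormFlat7
import Groth.Agent.Lib.Helper17.FlatOver1
import Groth.Agent.Lib.Helper16.CohFinite

/-!
# Generic flatness along a closed subscheme of finite type over the base (helper11)

`generic_flatness_along_closed` (= S11972): `S` integral Noetherian, `Y` Noetherian, `M` coherent on
`Y`, `Z ⊆ Y` closed and of finite type over `S`; then `M` is flat over `S` at the points of `Z`
lying over some nonempty open of `S`.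
-/

set_option autoImplicit false
set_option linter.style.haveILetI false
universe u
open CategoryTheory AlgebraicGeometry TopologicalSpace Opposite TensorProduct

namespace Groth.Agent.Lib.helper11.NormFlatSch

open Scheme.Modules Groth.Agent.Lib.helper17.FlatOver1 Groth.Agent.Lib.helper16.CohFinite
  Groth.Agent.Lib.helper16.CohStalk Groth.Agent.Lib.helper11.NormFlat

lemma mem_primeIdealOf_iff {X : Scheme.{u}} {U : X.Opens} (hU : IsAffineOpen U) (x : U)
    (b : Γ(X, U)) : b ∈ (hU.primeIdealOf x).asIdeal ↔ (x : X) ∉ X.basicOpen b := by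
  rw [IsAffineOpen.primeIdealOf_eq_map_closedPoint, Scheme.mem_basicOpen _ _ x.1 x.2]
  show (X.presheaf.germ U x.1 x.2).hom b ∈ IsLocalRing.maximalIdeal _ ↔ _
  rw [IsLocalRing.mem_maximalIdeal, mem_nonunits_iff]

variable {S Y Z : Scheme.{u}} (g : Y ⟶ S) (M : Y.Modules) (i : Z ⟶ Y)

/-- chart-level statement -/
theorem exists_chart [IsClosedImmersion i] [LocallyOfFiniteType (i ≫ g)] [IsLocallyNoetherian Y]
    (hM : Coh.IsCoh M) {V₀ : S.Opens} (hV₀ : IsAffineOpen V₀) [IsDomain Γ(S, V₀)]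
    [IsNoetherianRing Γ(S, V₀)] {W : Y.Opens} (hW : IsAffineOpen W) (e : W ≤ g ⁻¹ᵁ V₀) :
    ∃ a : Γ(S, V₀), a ≠ 0 ∧ ∀ z : Z, i.base z ∈ W → g.base (i.base z) ∈ S.basicOpen a →
      FlatMod.IsFlatOverAt g M (i.base z) := by
  haveI : M.IsQuasicoherent := hM.1
  letI := (g.appLE V₀ W e).hom.toAlgebra
  letI := modSecBase g M e
  haveI : IsScalarTower Γ(S, V₀) Γ(Y, W) Γ(M, W) := isScalarTower_sections g M e
  haveI : IsNoetherianRing Γ(Y, W) := IsLocallyNoetherian.component_noetherian ⟨W, hW⟩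
  haveI : Module.Finite Γ(Y, W) Γ(M, W) := finite_sections_of_isCoh M hM hW
  let J : Ideal Γ(Y, W) := RingHom.ker (i.app W).hom
  have hsurj : Function.Surjective (i.app W).hom := i.app_surjective W hW
  have hW' : IsAffineOpen (i ⁻¹ᵁ W) := hW.preimage i
  have e' : i ⁻¹ᵁ W ≤ (i ≫ g) ⁻¹ᵁ V₀ := fun z hz => e hz
  have hft : RingHom.FiniteType ((i ≫ g).appLE V₀ (i ⁻¹ᵁ W) e').hom :=
    HasRingHomProperty.appLE (P := @LocallyOfFiniteType) (i ≫ g) inferInstance ⟨V₀, hV₀⟩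
      ⟨i ⁻¹ᵁ W, hW'⟩ e'
  have hcomp : ((i ≫ g).appLE V₀ (i ⁻¹ᵁ W) e').hom =
      (i.app W).hom.comp (g.appLE V₀ W e).hom := by
    have h1 := Scheme.Hom.appLE_comp_appLE i g V₀ W (i ⁻¹ᵁ W) e le_rfl
    rw [← Scheme.Hom.app_eq_appLE] at h1
    rw [← h1]
    rfl
  haveI : Algebra.FiniteType Γ(S, V₀) (Γ(Y, W) ⧸ J) := by
    rw [← RingHom.finiteType_algebraMap]
    let ε : (Γ(Y, W) ⧸ J) ≃+* Γ(Z, i ⁻¹ᵁ W) := RingHom.quotientKerEquivOfSurjective hsurj
    have h2 : algebraMap Γ(S, V₀) (Γ(Y, W) ⧸ J) =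
        (ε.symm : Γ(Z, i ⁻¹ᵁ W) →+* (Γ(Y, W) ⧸ J)).comp
          ((i ≫ g).appLE V₀ (i ⁻¹ᵁ W) e').hom := by
      ext x
      rw [hcomp]
      simp only [RingHom.comp_apply, RingEquiv.coe_toRingHom]
      rw [RingEquiv.eq_symm_apply]
      rfl
    rw [h2]
    exact RingHom.FiniteType.comp (RingHom.FiniteType.of_surjective _ ε.symm.surjective) hft
  obtain ⟨a, ha, h⟩ := exists_forall_flat_localizedModule Γ(S, V₀) Γ(Y, W) J Γ(M, W)
  refine ⟨a, ha, fun z hzW hza => ?_⟩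
  let q : Ideal Γ(Y, W) := (hW.primeIdealOf ⟨i.base z, hzW⟩).asIdeal
  have hJq : J ≤ q := by
    intro b hb
    rw [mem_primeIdealOf_iff]
    intro hmem
    have h3 : z ∈ i ⁻¹ᵁ (Y.basicOpen b) := hmem
    rw [Scheme.preimage_basicOpen] at h3
    have h4 : (i.app W).hom b = 0 := hb
    rw [h4, Scheme.basicOpen_zero] at h3
    exact h3
  have haq : algebraMap Γ(S, V₀) Γ(Y, W) a ∉ q := by
    rw [mem_primeIdealOf_iff, not_not]
    have h1 : i.base z ∈ g ⁻¹ᵁ (S.basicOpen a) := hza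
    rw [Scheme.preimage_basicOpen] at h1
    have h2 : algebraMap Γ(S, V₀) Γ(Y, W) a =
        (Y.presheaf.map (homOfLE e).op).hom ((g.app V₀).hom a) := rfl
    rw [h2, Scheme.basicOpen_res]
    exact ⟨hzW, h1⟩
  letI := modStalk M (i.base z) hzW
  letI := modStalkBase g M (i.base z) (e hzW)
  haveI := isScalarTower_stalk_base g M e (i.base z) hzW
  haveI := isLocalizedModule_stalk M hW (i.base z) hzW
  have hfl := h q hJq haq (M.presheaf.stalk (i.base z)) (germLin M (i.base z) hzW)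
  exact (isFlatOverAt_iff_flat_stalk_sections g M hV₀ (i.base z) (e hzW)).mpr hfl

/-- **Generic flatness along a closed subscheme of finite type over the base.** -/
theorem generic_flatness_along_closed [IsIntegral S] [IsNoetherian S] [IsNoetherian Y]
    [IsClosedImmersion i] [LocallyOfFiniteType (i ≫ g)] (hM : Coh.IsCoh M) :
    ∃ S₀ : S.Opens, (S₀ : Set S).Nonempty ∧
      ∀ z : Z, g.base (i.base z) ∈ S₀ → FlatMod.IsFlatOverAt g M (i.base z) := by
  classical
  obtain ⟨s₀⟩ : Nonempty S := inferInstance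
  obtain ⟨_, ⟨V₀, hV₀ : IsAffineOpen V₀, rfl⟩, hsV, -⟩ :=
    S.isBasis_affineOpens.exists_subset_of_mem_open (Set.mem_univ s₀) isOpen_univ
  have hne : (V₀ : Set S).Nonempty := ⟨s₀, hsV⟩
  haveI : Nonempty V₀ := hne.to_subtype
  haveI : IsDomain Γ(S, V₀) := inferInstance
  haveI : IsNoetherianRing Γ(S, V₀) := IsLocallyNoetherian.component_noetherian ⟨V₀, hV₀⟩
  have hqc : IsCompact (g ⁻¹ᵁ V₀ : Set Y) := TopologicalSpace.NoetherianSpace.isCompact _
  obtain ⟨s, hs, hcov⟩ := isCompact_iff_finite_and_eq_biUnion_affineOpens.mp hqc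
  have hle : ∀ W : s, (W.1 : Y.Opens) ≤ g ⁻¹ᵁ V₀ := by
    intro W
    rw [hcov]
    exact le_iSup₂ (f := fun (i : Y.affineOpens) (_ : i ∈ s) => (i : Y.Opens)) W.1 W.2
  have H' : ∀ W : s, ∃ a : Γ(S, V₀), a ≠ 0 ∧ ∀ z : Z, i.base z ∈ (W.1 : Y.Opens) →
      g.base (i.base z) ∈ S.basicOpen a → FlatMod.IsFlatOverAt g M (i.base z) :=
    fun W => exists_chart g M i hM hV₀ W.1.2 (hle W)
  choose a ha hP using H'
  haveI : Fintype s := hs.fintype
  let a₀ : Γ(S, V₀) := ∏ W : s, a W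
  have ha₀ : a₀ ≠ 0 := Finset.prod_ne_zero_iff.mpr (fun W _ => ha W)
  refine ⟨S.basicOpen a₀, ?_, ?_⟩
  · by_contra hemp
    rw [Set.not_nonempty_iff_eq_empty] at hemp
    have : S.basicOpen a₀ = ⊥ := by
      apply SetLike.coe_injective
      rw [hemp]
      rfl
    exact ha₀ ((basicOpen_eq_bot_iff a₀).mp this)
  · intro z hz
    have hzV : i.base z ∈ g ⁻¹ᵁ V₀ := S.basicOpen_le a₀ hz
    rw [hcov] at hzV
    simp only [Opens.mem_iSup] at hzV
    obtain ⟨W, hWs, hzW⟩ := hzV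
    let W' : s := ⟨W, hWs⟩
    refine hP W' z hzW ?_
    obtain ⟨c, hc⟩ := Finset.dvd_prod_of_mem a (Finset.mem_univ W')
    have h1 : S.basicOpen a₀ ≤ S.basicOpen (a W') := by
      have : a₀ = a W' * c := hc
      rw [this, Scheme.basicOpen_mul]
      exact inf_le_left
    exact h1 hz

end Groth.Agent.Lib.helper11.NormFlatSch
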