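import Mathlib
import Groth.Agent.Lib.Helper11.KerFPSch
import Groth.Agent.Lib.Helper11.LocCoker
import Groth.Agent.Lib.Helper11.NormFlatSch
import Groth.Agent.Lib.Helper3.FlatDescJ
import Groth.Agent.Lib.Helper16.CohStalk
import Groth.Agent.Lib.Helper17.FlatOver7

/-!
# Openness of the locus where `u_x` is injective and `Coker u` is flat (helper11)
-/

set_option autoImplicit false
set_option linter.style.haveILetI false
universe u
open CategoryTheory CategoryTheory.Limits AlgebraicGeometry TopologicalSpace Opposite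

namespace Groth.Agent.Lib.helper11.InjFlatOpen

section Ring

variable {B : Type*} [CommRing B] (S : Submonoid B) {M' M L' L : Type*}
  [AddCommGroup M'] [Module B M'] [AddCommGroup M] [Module B M]
  [AddCommGroup L'] [Module B L'] [AddCommGroup L] [Module B L]
  (g' : M' →ₗ[B] L') (g : M →ₗ[B] L) [IsLocalizedModule S g'] [IsLocalizedModule S g]
  (uU : M' →ₗ[B] M) (uL : L' →ₗ[B] L) (hcomm : ∀ s, uL (g' s) = g (uU s))

include hcomm in
/-- if an element of `S` kills `ker uU`, the localized map is injective -/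
theorem injective_of_kills (b : B) (hb : b ∈ S) (hkill : ∀ k, uU k = 0 → b • k = 0) :
    Function.Injective uL := by
  rw [injective_iff_map_eq_zero]
  intro m hm
  obtain ⟨⟨s, t⟩, hst⟩ := IsLocalizedModule.surj S g' m
  have hst' : (t : B) • m = g' s := hst
  have h1 : g (uU s) = 0 := by
    rw [← hcomm, ← hst', map_smul, hm, smul_zero]
  obtain ⟨t', ht'⟩ := (IsLocalizedModule.eq_zero_iff S g).mp h1
  have ht'' : (t' : B) • uU s = 0 := ht'
  have h2 : uU ((t' : B) • s) = 0 := by rw [map_smul]; exact ht''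
  have h3 : b • ((t' : B) • s) = 0 := hkill _ h2
  have h4 : g' s = 0 := by
    rw [IsLocalizedModule.eq_zero_iff S g']
    exact ⟨⟨b, hb⟩ * t', by rw [Submonoid.smul_def, Submonoid.coe_mul, mul_smul]; exact h3⟩
  have h5 : (t : B) • m = 0 := hst'.trans h4
  have hu := IsLocalizedModule.map_units g' t
  have hinj : Function.Injective ((algebraMap B (Module.End B L')) t) :=
    ((Module.End.isUnit_iff _).mp hu).injective
  apply hinj
  rw [map_zero]
  exact h5

include hcomm in
/-- if the localized map is injective and `ker uU` is finitely generated, some element of `S`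
kills `ker uU` -/
theorem exists_kills_of_injective (huL : Function.Injective uL) (hfg : (LinearMap.ker uU).FG) :
    ∃ b ∈ S, ∀ k, uU k = 0 → b • k = 0 := by
  classical
  have h1 : ∀ k : M', uU k = 0 → ∃ c : S, c • k = 0 := by
    intro k hk
    have : g' k = 0 := huL (by rw [hcomm, hk, map_zero, map_zero])
    exact (IsLocalizedModule.eq_zero_iff S g').mp this
  obtain ⟨s, hs⟩ := hfg
  have h2 : ∀ k ∈ s, ∃ c : S, c • k = 0 := fun k hk =>
    h1 k (LinearMap.mem_ker.mp (hs ▸ Submodule.subset_span hk))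
  choose! c hc using h2
  refine ⟨∏ k ∈ s, (c k : B), Submonoid.prod_mem S (fun k _ => (c k).2), ?_⟩
  have key : ∀ k ∈ Submodule.span B (s : Set M'), (∏ k ∈ s, (c k : B)) • k = 0 := by
    intro k hk'
    induction hk' using Submodule.span_induction with
    | mem x hx =>
      rw [← Finset.mul_prod_erase s _ hx, mul_comm, mul_smul]
      have := hc x hx
      rw [Submonoid.smul_def] at this
      rw [this, smul_zero]
    | zero => exact smul_zero _
    | add x y _ _ hx hy => rw [smul_add, hx, hy, add_zero]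
    | smul a x _ hx => rw [smul_comm, hx, smul_zero]
  intro k hk
  exact key k (hs ▸ LinearMap.mem_ker.mpr hk)

end Ring

section Sch

open Scheme.Modules Groth.Agent.Lib.helper17.FlatOver1 Groth.Agent.Lib.helper17.FlatOver7
  Groth.Agent.Lib.helper16.CohStalk

variable {X Y : Scheme.{u}}

/-- the map on sections as a linear map -/
noncomputable def appLin {F G : X.Modules} (u : F ⟶ G) (U : X.Opens) :
    Γ(F, U) →ₗ[Γ(X, U)] Γ(G, U) where
  toFun := (u.app U).hom
  map_add' := fun a b => map_add _ a b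
  map_smul' := fun r x => Scheme.Modules.Hom.app_smul u r x

/-- the map on stalks as a `Γ(X,U)`-linear map -/
noncomputable def stalkLinU {F G : X.Modules} (u : F ⟶ G) {U : X.Opens} (x : X) (hx : x ∈ U) :
    @LinearMap Γ(X, U) Γ(X, U) _ _ (RingHom.id _) (F.presheaf.stalk x) (G.presheaf.stalk x) _ _
      (modStalk F x hx) (modStalk G x hx) :=
  letI := modStalk F x hx
  letI := modStalk G x hx
  { toFun := stalkAdd u x
    map_add' := map_add _
    map_smul' := fun r m => stalkAdd_smul u x ((X.presheaf.germ U x hx).hom r) m }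

/-- on an affine open, sections of `F'` surject onto the kernel of `Γ(F,U) → Γ(Coker u,U)` -/
theorem exists_app_eq_of_π_eq_zero {F F' : X.Modules} [F.IsQuasicoherent] [F'.IsQuasicoherent]
    (u : F' ⟶ F) {U : X.Opens} (hU : IsAffineOpen U) (s : Γ(F, U))
    (hs : ((cokernel.π u).app U).hom s = 0) : ∃ w : Γ(F', U), (u.app U).hom w = s := by
  obtain ⟨t, ht⟩ := Groth.Agent.Lib.helper7.KerSections.exists_kernel_section (cokernel.π u) U s hs
  haveI : (cokernel u).IsQuasicoherent :=
    Groth.Agent.Lib.helper7.CohKer.isQuasicoherent_cokernel u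
  haveI : (kernel (cokernel.π u)).IsQuasicoherent :=
    Groth.Agent.Lib.helper7.CohKer.isQuasicoherent_kernel _
  haveI : (Abelian.image u).IsQuasicoherent := ‹(kernel (cokernel.π u)).IsQuasicoherent›
  obtain ⟨w, hw⟩ := Groth.Agent.Lib.helper16.QCohEpi.surjective_app_of_epi
    (Abelian.factorThruImage u) hU t
  refine ⟨w, ?_⟩
  have hfac : Abelian.factorThruImage u ≫ Abelian.image.ι u = u := Abelian.image.fac u
  have h2 : (u.app U).hom w = ((Abelian.image.ι u).app U).hom
      (((Abelian.factorThruImage u).app U).hom w) :=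
    congrArg (fun ψ => (Scheme.Modules.Hom.app ψ U).hom w) hfac.symm
  rw [h2, hw]
  exact ht

theorem isOpen_inj_flat (f : X ⟶ Y) [LocallyOfFinitePresentation f]
    (F F' : X.Modules) [F.IsQuasicoherent] [F'.IsQuasicoherent]
    (hF : CohB1.IsFP F) (hF' : CohB1.IsFP F') (u : F' ⟶ F) :
    IsOpen {x : X | Function.Injective (stalkAdd u x) ∧
      FlatMod.IsFlatOverAt f (cokernel u) x} := by
  haveI hCq : (cokernel u).IsQuasicoherent :=
    Groth.Agent.Lib.helper7.CohKer.isQuasicoherent_cokernel u
  haveI : SheafOfModules.IsFinitePresentation (R := X.ringCatSheaf) F := hF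
  haveI : SheafOfModules.IsFinitePresentation (R := X.ringCatSheaf) F' := hF'
  haveI : SheafOfModules.IsFiniteType (R := X.ringCatSheaf) F' := inferInstance
  have hC : CohB1.IsFP (cokernel u) :=
    Groth.Agent.Lib.helper11.LocCoker.isFinitePresentation_cokernel u
  have hW := Groth.Agent.Lib.helper3.FlatDesc.isOpen_flatLocus_modules f (cokernel u) hC
  rw [isOpen_iff_forall_mem_open]
  rintro x ⟨hinj, hfl⟩
  obtain ⟨_, ⟨V, hV : IsAffineOpen V, rfl⟩, hxV, -⟩ :=
    Y.isBasis_affineOpens.exists_subset_of_mem_open (Set.mem_univ (f.base x)) isOpen_univ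
  obtain ⟨_, ⟨U, hU : IsAffineOpen U, rfl⟩, hxU, hUsub⟩ :=
    X.isBasis_affineOpens.exists_subset_of_mem_open
      (show x ∈ (f ⁻¹ᵁ V : Set X) ∩ {y | FlatMod.IsFlatOverAt f (cokernel u) y} from ⟨hxV, hfl⟩)
      ((f ⁻¹ᵁ V).2.inter hW)
  have hUV : U ≤ f ⁻¹ᵁ V := fun y hy => (hUsub hy).1
  have hUW : ∀ y ∈ U, FlatMod.IsFlatOverAt f (cokernel u) y := fun y hy => (hUsub hy).2
  letI := (f.appLE V U hUV).hom.toAlgebra
  letI := modSecBase f (cokernel u) hUV
  haveI := isScalarTower_sections f (cokernel u) hUV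
  haveI : Algebra.FinitePresentation Γ(Y, V) Γ(X, U) :=
    HasRingHomProperty.appLE (P := @LocallyOfFinitePresentation) f inferInstance
      ⟨V, hV⟩ ⟨U, hU⟩ hUV
  haveI : Module.FinitePresentation Γ(X, U) Γ(F, U) :=
    Groth.Agent.Lib.helper16.CohFP.fp_sections_of_isFinitePresentation F hF hU
  haveI : Module.FinitePresentation Γ(X, U) Γ(F', U) :=
    Groth.Agent.Lib.helper16.CohFP.fp_sections_of_isFinitePresentation F' hF' hU
  haveI : Module.FinitePresentation Γ(X, U) Γ(cokernel u, U) :=
    Groth.Agent.Lib.helper16.CohFP.fp_sections_of_isFinitePresentation (cokernel u) hC hU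
  haveI : Module.Flat Γ(Y, V) Γ(cokernel u, U) :=
    (forall_mem_isFlatOverAt_iff f (cokernel u) hUV hU hV).mp hUW
  have hpl : Function.Surjective (appLin (cokernel.π u) U) :=
    Groth.Agent.Lib.helper16.QCohEpi.surjective_app_of_epi (cokernel.π u) hU
  haveI hfpI := Groth.Agent.Lib.helper11.KerFP.fp_ker_of_flat (A := Γ(Y, V)) (B := Γ(X, U))
    (appLin (cokernel.π u) U) hpl
  have hle : ∀ s, appLin u U s ∈ LinearMap.ker (appLin (cokernel.π u) U) := by
    intro s
    have h := cokernel.condition u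
    exact congrArg (fun ψ => (Scheme.Modules.Hom.app ψ U).hom s) h
  have hsurj : Function.Surjective ((appLin u U).codRestrict _ hle) := by
    rintro ⟨s, hs⟩
    obtain ⟨w, hw⟩ := exists_app_eq_of_π_eq_zero u hU s hs
    exact ⟨w, Subtype.ext hw⟩
  have hfg : (LinearMap.ker (appLin u U)).FG := by
    have := Module.FinitePresentation.fg_ker ((appLin u U).codRestrict _ hle) hsurj
    rwa [LinearMap.ker_codRestrict] at this
  obtain ⟨b, hbS, hkill⟩ : ∃ b ∈ (hU.primeIdealOf ⟨x, hxU⟩).asIdeal.primeCompl,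
      ∀ k, appLin u U k = 0 → b • k = 0 := by
    letI := modStalk F' x hxU
    letI := modStalk F x hxU
    haveI := isLocalizedModule_stalk F' hU x hxU
    haveI := isLocalizedModule_stalk F hU x hxU
    exact exists_kills_of_injective (hU.primeIdealOf ⟨x, hxU⟩).asIdeal.primeCompl
      (germLin F' x hxU) (germLin F x hxU) (appLin u U) (stalkLinU u x hxU)
      (fun s => stalkAdd_germ u x U hxU s) hinj hfg
  have hxb : x ∈ X.basicOpen b := by
    by_contra hcon
    exact hbS ((Groth.Agent.Lib.helper11.NormFlatSch.mem_primeIdealOf_iff hU ⟨x, hxU⟩ b).mpr hcon)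
  refine ⟨(X.basicOpen b : Set X), ?_, (X.basicOpen b).2, hxb⟩
  intro y hy
  have hyU : y ∈ U := X.basicOpen_le b hy
  refine ⟨?_, hUW y hyU⟩
  letI := modStalk F' y hyU
  letI := modStalk F y hyU
  haveI := isLocalizedModule_stalk F' hU y hyU
  haveI := isLocalizedModule_stalk F hU y hyU
  exact injective_of_kills (hU.primeIdealOf ⟨y, hyU⟩).asIdeal.primeCompl
    (germLin F' y hyU) (germLin F y hyU) (appLin u U) (stalkLinU u y hyU)
    (fun s => stalkAdd_germ u y U hyU s) b
    (fun hcon => ((Groth.Agent.Lib.helper11.NormFlatSch.mem_primeIdealOf_iff hU ⟨y, hyU⟩ b).mp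
      hcon) hy) hkill

end Sch

end Groth.Agent.Lib.helper11.InjFlatOpen
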