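import Groth.Agent.Lib.Helper11.LocHom

/-!
# Extension `j_*` of sheaves of modules from an open subset (helper11)

`(T, R)` a ringed space, `U` an open, `N` a sheaf of modules on `Over U`: `jStar U N` is Mathlib's
`pushforward (pushforwardOver U)` (right adjoint of restriction).  Section-level API:
`resM_bijective` (it is determined on `U`), `jOut` (sections over `D ≤ U` are sections of `N`),
`unitJ`, `jMap`.
-/

set_option autoImplicit false
set_option backward.isDefEq.respectTransparency false
universe u
open CategoryTheory CategoryTheory.Limits TopologicalSpace Opposite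

namespace Groth.Agent.Lib.helper11.JStar

open Groth.Agent.Lib.helper11.OverGen Groth.Agent.Lib.helper11.LocGen
  Groth.Agent.Lib.helper11.LocPres

variable {T : TopCat.{u}} {R : Sheaf (Opens.grothendieckTopology T) RingCat.{u}} (U : Opens T)

/-- a presheaf of modules sends mutually inverse morphisms to bijections -/
theorem bijective_map_of_inverse {C : Type*} [Category C] {R₀ : Cᵒᵖ ⥤ RingCat.{u}}
    (N : PresheafOfModules.{u} R₀) {X Y : C} (f : X ⟶ Y) (g : Y ⟶ X) (hfg : f ≫ g = 𝟙 X)
    (hgf : g ≫ f = 𝟙 Y) : Function.Bijective (N.map f.op).hom := by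
  refine Function.bijective_iff_has_inverse.mpr ⟨(N.map g.op).hom, ?_, ?_⟩
  · intro y
    have h1 := (PresheafOfModules.map_comp_apply N f.op g.op y).symm
    have h2 : f.op ≫ g.op = 𝟙 (op Y) := by rw [← op_comp, hgf]; rfl
    rw [PresheafOfModules.congr_map_apply N h2, PresheafOfModules.map_id] at h1
    exact h1
  · intro y
    have h1 := (PresheafOfModules.map_comp_apply N g.op f.op y).symm
    have h2 : g.op ≫ f.op = 𝟙 (op X) := by rw [← op_comp, hfg]; rfl
    rw [PresheafOfModules.congr_map_apply N h2, PresheafOfModules.map_id] at h1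
    exact h1

/-- `j_* N` -/
noncomputable def jStar (N : SheafOfModules.{u} (R.over U)) : SheafOfModules.{u} R :=
  (SheafOfModules.pushforward (SheafOfModules.pushforwardOver (R := R) U)).obj N

/-- `D → U` as an object of `Over U` -/
abbrev ov {D : Opens T} (hD : D ≤ U) : Over U := Over.mk (homOfLE hD)

theorem le_prod {D V : Opens T} (hDU : D ≤ U) (hDV : D ≤ V) : D ≤ (U ⨯ V : Opens T) :=
  (le_inf hDU hDV).trans (CompleteLattice.prod_eq_inf U V).ge

/-- the morphism `(D → U) ⟶ star V` for `D ≤ U`, `D ≤ V` -/
noncomputable def toStar {D V : Opens T} (hDU : D ≤ U) (hDV : D ≤ V) :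
    ov U hDU ⟶ (Over.star U).obj V :=
  Over.homMk (homOfLE (le_prod U hDU hDV)) (Subsingleton.elim _ _)

instance (A B : Over U) : Subsingleton (A ⟶ B) :=
  ⟨fun f g => Over.OverMorphism.ext (Subsingleton.elim _ _)⟩

variable (N : SheafOfModules.{u} (R.over U))

/-- `j_* N` is determined on `U` -/
theorem resM_bijective (V : Opens T) :
    Function.Bijective (resM (jStar U N) (inf_le_left : V ⊓ U ≤ V)) := by
  have hle : (U ⨯ V : Opens T) ≤ (U ⨯ (V ⊓ U) : Opens T) := by
    rw [CompleteLattice.prod_eq_inf, CompleteLattice.prod_eq_inf]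
    exact le_inf inf_le_left (le_inf inf_le_right inf_le_left)
  exact bijective_map_of_inverse N.val ((Over.star U).map (homOfLE (inf_le_left : V ⊓ U ≤ V)))
    (Over.homMk (homOfLE hle) (Subsingleton.elim _ _)) (Subsingleton.elim _ _)
    (Subsingleton.elim _ _)

/-- sections of `j_* N` over `D ≤ U` are sections of `N` over `D → U` -/
noncomputable def jOut {D : Opens T} (hD : D ≤ U) (w : (jStar U N).val.obj (op D)) :
    N.val.obj (op (ov U hD)) :=
  (N.val.map (toStar U hD le_rfl).op).hom (show N.val.obj (op ((Over.star U).obj D)) from w)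

theorem jOut_bijective {D : Opens T} (hD : D ≤ U) : Function.Bijective (jOut U N hD) := by
  have hle : (U ⨯ D : Opens T) ≤ D := by
    rw [CompleteLattice.prod_eq_inf]
    exact inf_le_right
  exact bijective_map_of_inverse N.val (toStar U hD le_rfl)
    (Over.homMk (homOfLE hle) (Subsingleton.elim _ _)) (Subsingleton.elim _ _)
    (Subsingleton.elim _ _)

theorem jOut_add {D : Opens T} (hD : D ≤ U) (w w' : (jStar U N).val.obj (op D)) :
    jOut U N hD (w + w') = jOut U N hD w + jOut U N hD w' :=
  map_add (N.val.map (toStar U hD le_rfl).op).hom _ _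

theorem jOut_zero {D : Opens T} (hD : D ≤ U) : jOut U N hD 0 = 0 :=
  map_zero (N.val.map (toStar U hD le_rfl).op).hom

theorem jOut_smul {D : Opens T} (hD : D ≤ U) (r : R.obj.obj (op D))
    (w : (jStar U N).val.obj (op D)) :
    jOut U N hD (r • w) = (show (R.over U).obj.obj (op (ov U hD)) from r) • jOut U N hD w := by
  have h1 := PresheafOfModules.map_smul N.val (toStar U hD le_rfl).op
    ((R.obj.map (prod.snd : (U ⨯ D : Opens T) ⟶ D).op).hom r)
    (show N.val.obj (op ((Over.star U).obj D)) from w)
  refine h1.trans ?_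
  congr 1
  have h2 := congrArg (fun φ => φ.hom r)
    (R.obj.map_comp (prod.snd : (U ⨯ D : Opens T) ⟶ D).op (toStar U hD le_rfl).left.op)
  refine h2.symm.trans ?_
  have h3 : (prod.snd : (U ⨯ D : Opens T) ⟶ D).op ≫ (toStar U hD le_rfl).left.op = 𝟙 (op D) :=
    Subsingleton.elim _ _
  rw [h3, R.obj.map_id]
  rfl

theorem jOut_resM {D D' : Opens T} (hD : D ≤ U) (hD' : D' ≤ D)
    (w : (jStar U N).val.obj (op D)) :
    jOut U N (hD'.trans hD) (resM (jStar U N) hD' w) =
      (N.val.map (Over.homMk (homOfLE hD') (Subsingleton.elim _ _) :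
        ov U (hD'.trans hD) ⟶ ov U hD).op).hom (jOut U N hD w) := by
  unfold jOut
  have h1 := PresheafOfModules.map_comp_apply N.val
    ((Over.star U).map (homOfLE hD')).op (toStar U (hD'.trans hD) le_rfl).op
    (show N.val.obj (op ((Over.star U).obj D)) from w)
  have h2 := PresheafOfModules.map_comp_apply N.val (toStar U hD le_rfl).op
    (Over.homMk (homOfLE hD') (Subsingleton.elim _ _) : ov U (hD'.trans hD) ⟶ ov U hD).op
    (show N.val.obj (op ((Over.star U).obj D)) from w)
  refine h1.symm.trans (Eq.trans ?_ h2)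
  exact PresheafOfModules.congr_map_apply N.val (Subsingleton.elim _ _) _

/-- the unit `F ⟶ j_* (F|_U)` -/
noncomputable def unitJ (F : SheafOfModules.{u} R) : F ⟶ jStar U (F.over U) :=
  (SheafOfModules.overPushforwardOverAdj (R := R) U).unit.app F

theorem jOut_unitJ (F : SheafOfModules.{u} R) {D : Opens T} (hD : D ≤ U) (y : F.val.obj (op D)) :
    jOut U (F.over U) hD (((unitJ U F).val.app (op D)).hom y) = y := by
  unfold jOut
  have h1 := PresheafOfModules.map_comp_apply F.val
    ((Over.forgetAdjStar U).counit.app D).op (toStar U hD le_rfl).left.op y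
  have h2 : ((Over.forgetAdjStar U).counit.app D).op ≫ (toStar U hD le_rfl).left.op = 𝟙 (op D) :=
    Subsingleton.elim _ _
  rw [PresheafOfModules.congr_map_apply F.val h2] at h1
  refine h1.symm.trans ?_
  have h4 := F.val.map_id (op D)
  rw [h4]
  rfl

/-- functoriality of `j_*` -/
noncomputable def jMap {N N' : SheafOfModules.{u} (R.over U)} (q : N ⟶ N') :
    jStar U N ⟶ jStar U N' :=
  (SheafOfModules.pushforward (SheafOfModules.pushforwardOver (R := R) U)).map q

theorem jOut_jMap {N N' : SheafOfModules.{u} (R.over U)} (q : N ⟶ N') {D : Opens T} (hD : D ≤ U)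
    (w : (jStar U N).val.obj (op D)) :
    jOut U N' hD (((jMap U q).val.app (op D)).hom w) =
      (q.val.app (op (ov U hD))).hom (jOut U N hD w) :=
  (PresheafOfModules.naturality_apply q.val (toStar U hD le_rfl).op
    (show N.val.obj (op ((Over.star U).obj D)) from w)).symm

end Groth.Agent.Lib.helper11.JStar
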