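import Mathlib

/-! Vanishing of Koszul `H₁` plus a Nakayama-type property implies regularity (helper11). -/

set_option autoImplicit false

universe u v w

namespace Groth.Agent.Lib.helper11.KoszulH1

variable {A : Type u} [CommRing A]

/-- Nakayama-type property of the element `a` on the module `H`: for submodules `N, N'`,
`N ⊆ N' + a N` implies `N ⊆ N'`. -/
def Nak (a : A) (H : Type w) [AddCommGroup H] [Module A H] : Prop :=
  ∀ N N' : Submodule A H, (∀ x ∈ N, ∃ y ∈ N', ∃ z ∈ N, x = y + a • z) → N ≤ N'

/-- separatedness of all subquotients gives the Nakayama property -/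
theorem nak_of_isHausdorff {M : Type v} [AddCommGroup M] [Module A M] (I : Ideal A) (a : A)
    (ha : a ∈ I)
    (hsep : ∀ (N : Submodule A M) (N' : Submodule A N), IsHausdorff I (N ⧸ N')) : Nak a M := by
  intro N N' h
  set N'' : Submodule A N := N'.comap N.subtype with hN''
  have haus := hsep N N''
  have claim : ∀ (k : ℕ) (x : M) (hx : x ∈ N),
      (Submodule.Quotient.mk (⟨x, hx⟩ : N) : N ⧸ N'') ∈ (I ^ k • ⊤ : Submodule A (N ⧸ N'')) := by
    intro k
    induction k with
    | zero => intro x hx; simp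
    | succ k ih =>
      intro x hx
      obtain ⟨y, hy, z, hz, hxyz⟩ := h x hx
      have hyN : y ∈ N := by
        have : y = x - a • z := by rw [hxyz]; abel
        rw [this]; exact N.sub_mem hx (N.smul_mem a hz)
      have h1 : (Submodule.Quotient.mk (⟨x, hx⟩ : N) : N ⧸ N'') =
          a • (Submodule.Quotient.mk (⟨z, hz⟩ : N) : N ⧸ N'') := by
        have h2 : (⟨x, hx⟩ : N) = ⟨y, hyN⟩ + a • ⟨z, hz⟩ := by
          ext; simpa using hxyz
        rw [h2, Submodule.Quotient.mk_add, Submodule.Quotient.mk_smul]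
        have h3 : (Submodule.Quotient.mk (⟨y, hyN⟩ : N) : N ⧸ N'') = 0 := by
          rw [Submodule.Quotient.mk_eq_zero]
          exact hy
        rw [h3, zero_add]
      rw [h1, pow_succ', Submodule.mul_smul]
      exact Submodule.smul_mem_smul ha (ih z hz)
  intro x hx
  have h0 : (Submodule.Quotient.mk (⟨x, hx⟩ : N) : N ⧸ N'') = 0 :=
    haus.haus' _ (fun k => SModEq.zero.2 (claim k x hx))
  rw [Submodule.Quotient.mk_eq_zero] at h0
  exact h0

/-- Nakayama's lemma gives the property for finite modules over Noetherian rings -/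
theorem nak_of_jacobson [IsNoetherianRing A] {M : Type v} [AddCommGroup M] [Module A M]
    [Module.Finite A M] (a : A) (ha : a ∈ (⊥ : Ideal A).jacobson) : Nak a M := by
  intro N N' h
  have hfg : N.FG := IsNoetherian.noetherian N
  apply Submodule.le_of_le_smul_of_le_jacobson_bot (I := Ideal.span {a}) hfg
  · rw [Ideal.span_le]
    intro b hb
    rw [Set.mem_singleton_iff.1 hb]
    exact ha
  · intro x hx
    obtain ⟨y, hy, z, hz, rfl⟩ := h x hx
    exact Submodule.add_mem_sup hy
      (Submodule.smul_mem_smul (Ideal.subset_span rfl) hz)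

/-- extension-closedness -/
theorem nak_ext {H : Type v} {H2 : Type w} [AddCommGroup H] [Module A H] [AddCommGroup H2]
    [Module A H2] (a : A) (π : H →ₗ[A] H2) (h2 : Nak a H2)
    (hK : ∀ N N' : Submodule A H, N ≤ LinearMap.ker π →
      (∀ x ∈ N, ∃ y ∈ N', ∃ z ∈ N, x = y + a • z) → N ≤ N') : Nak a H := by
  intro N N' h
  -- images
  have hP : N.map π ≤ (N ⊓ N').map π := by
    apply h2
    rintro p ⟨x, hx, rfl⟩
    obtain ⟨y, hy, z, hz, hxyz⟩ := h x hx
    have hyN : y ∈ N := by
      have : y = x - a • z := by rw [hxyz]; abel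
      rw [this]; exact N.sub_mem hx (N.smul_mem a hz)
    refine ⟨π y, ⟨y, ⟨hyN, hy⟩, rfl⟩, π z, ⟨z, hz, rfl⟩, ?_⟩
    rw [hxyz, map_add, map_smul]
  -- kernel part
  have hKer : N ⊓ LinearMap.ker π ≤ N' := by
    apply hK _ _ inf_le_right
    rintro x ⟨hxN, hxK⟩
    obtain ⟨y, hy, z, hz, hxyz⟩ := h x hxN
    obtain ⟨w, ⟨hwN, hwN'⟩, hw⟩ := hP ⟨z, hz, rfl⟩
    refine ⟨y + a • w, N'.add_mem hy (N'.smul_mem a hwN'), z - w, ⟨N.sub_mem hz hwN, ?_⟩, ?_⟩
    · have h0 : π (z - w) = 0 := by rw [map_sub, hw, sub_self]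
      exact LinearMap.mem_ker.2 h0
    · rw [hxyz, smul_sub]; abel
  intro x hx
  obtain ⟨w, ⟨hwN, hwN'⟩, hw⟩ := hP ⟨x, hx, rfl⟩
  have h0 : π (x - w) = 0 := by rw [map_sub, hw, sub_self]
  have h1 : x - w ∈ N' := hKer ⟨N.sub_mem hx hwN, LinearMap.mem_ker.2 h0⟩
  have : x = (x - w) + w := by abel
  rw [this]
  exact N'.add_mem h1 hwN'

/-- transport along an injection -/
theorem nak_of_injective {H1 : Type v} {H : Type w} [AddCommGroup H] [Module A H] [AddCommGroup H1]
    [Module A H1] (a : A) (ι : H1 →ₗ[A] H) (h1 : Nak a H1)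
    (N N' : Submodule A H) (hN : N ≤ LinearMap.range ι)
    (h : ∀ x ∈ N, ∃ y ∈ N', ∃ z ∈ N, x = y + a • z) : N ≤ N' := by
  have key : N.comap ι ≤ N'.comap ι := by
    apply h1
    intro x1 hx1
    obtain ⟨y, hy, z, hz, hxyz⟩ := h (ι x1) hx1
    obtain ⟨z1, rfl⟩ := hN hz
    refine ⟨x1 - a • z1, ?_, z1, hz, by abel⟩
    rw [Submodule.mem_comap, map_sub, map_smul]
    have : y = ι x1 - a • ι z1 := by rw [hxyz]; abel
    rw [← this]; exact hy
  intro x hx
  obtain ⟨x1, rfl⟩ := hN hx
  exact key hx

/-- finite powers -/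
theorem nak_pi {M : Type v} [AddCommGroup M] [Module A M] (a : A) (hM : Nak a M) :
    ∀ k : ℕ, Nak a (Fin k → M) := by
  intro k
  induction k with
  | zero =>
    intro N N' _ x _
    have : x = 0 := Subsingleton.elim _ _
    rw [this]; exact N'.zero_mem
  | succ k ih =>
    apply nak_ext a (LinearMap.proj (0 : Fin (k + 1)) : (Fin (k + 1) → M) →ₗ[A] M) hM
    intro N N' hN h
    let ι : (Fin k → M) →ₗ[A] (Fin (k + 1) → M) :=
      { toFun := fun y => Fin.cons 0 y
        map_add' := by
          intro y1 y2; ext i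
          refine Fin.cases ?_ (fun j => ?_) i <;> simp
        map_smul' := by
          intro c y; ext i
          refine Fin.cases ?_ (fun j => ?_) i <;> simp }
    apply nak_of_injective a ι ih N N' ?_ h
    · intro x hx
      have hx0 : x 0 = 0 := hN hx
      refine ⟨Fin.tail x, ?_⟩
      show Fin.cons 0 (Fin.tail x) = x
      rw [← hx0]
      exact Fin.cons_self_tail x

/-! ### Koszul relations -/

/-- trivial (Koszul) relations -/
def Triv {n : ℕ} (f : Fin n → A) (M : Type v) [AddCommGroup M] [Module A M] :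
    Submodule A (Fin n → M) :=
  Submodule.span A {v : Fin n → M | ∃ (i j : Fin n) (x : M),
    v = f j • (Pi.single i x : Fin n → M) - f i • (Pi.single j x : Fin n → M)}

/-- vanishing of `H₁` of the Koszul complex -/
def H1Z {n : ℕ} (f : Fin n → A) (M : Type v) [AddCommGroup M] [Module A M] : Prop :=
  ∀ m : Fin n → M, ∑ i, f i • m i = 0 → m ∈ Triv f M

section
variable {M : Type v} [AddCommGroup M] [Module A M] {n : ℕ}

/-- forget the last component -/
def res : (Fin (n + 1) → M) →ₗ[A] (Fin n → M) := LinearMap.funLeft A M Fin.castSucc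

@[simp] lemma res_apply (m : Fin (n + 1) → M) (l : Fin n) :
    (res (A := A) m) l = m (Fin.castSucc l) := rfl

lemma res_single_castSucc (i : Fin n) (x : M) :
    res (A := A) (Pi.single (Fin.castSucc i) x : Fin (n + 1) → M) = Pi.single i x := by
  ext l
  rw [res_apply, Pi.single_apply, Pi.single_apply]
  simp only [Fin.castSucc_inj]

lemma res_single_last (x : M) :
    res (A := A) (Pi.single (Fin.last n) x : Fin (n + 1) → M) = 0 := by
  ext l
  rw [res_apply, Pi.single_apply, if_neg (Fin.castSucc_ne_last l)]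
  rfl

lemma sum_smul_single (g : Fin n → A) (i : Fin n) (x : M) :
    ∑ l, g l • (Pi.single i x : Fin n → M) l = g i • x := by
  rw [Finset.sum_eq_single i]
  · rw [Pi.single_eq_same]
  · intro b _ hb
    rw [Pi.single_eq_of_ne hb, smul_zero]
  · intro h; exact absurd (Finset.mem_univ i) h

theorem key (f : Fin (n + 1) → A) (m : Fin (n + 1) → M) (hm : m ∈ Triv f M) :
    ∃ y : Fin n → M, res (A := A) m - f (Fin.last n) • y ∈ Triv (fun i => f (Fin.castSucc i)) M ∧
      m (Fin.last n) = - ∑ i, f (Fin.castSucc i) • y i := by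
  unfold Triv at hm
  induction hm using Submodule.span_induction with
  | mem v hv =>
    obtain ⟨i, j, x, rfl⟩ := hv
    induction i using Fin.lastCases with
    | last =>
      induction j using Fin.lastCases with
      | last =>
        refine ⟨0, ?_, ?_⟩
        · rw [sub_self, map_zero, smul_zero, sub_zero]; exact Submodule.zero_mem _
        · simp
      | cast j' =>
        refine ⟨- Pi.single j' x, ?_, ?_⟩
        · rw [map_sub, map_smul, map_smul, res_single_last, res_single_castSucc, smul_zero,
            zero_sub, smul_neg, sub_neg_eq_add, neg_add_cancel]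
          exact Submodule.zero_mem _
        · simp only [Pi.sub_apply, Pi.smul_apply, Pi.single_eq_same, Pi.neg_apply, smul_neg,
            Finset.sum_neg_distrib, neg_neg]
          rw [sum_smul_single, Pi.single_eq_of_ne (Fin.castSucc_ne_last j').symm, smul_zero,
            sub_zero]
    | cast i' =>
      induction j using Fin.lastCases with
      | last =>
        refine ⟨Pi.single i' x, ?_, ?_⟩
        · rw [map_sub, map_smul, map_smul, res_single_last, res_single_castSucc, smul_zero,
            sub_zero, sub_self]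
          exact Submodule.zero_mem _
        · simp only [Pi.sub_apply, Pi.smul_apply, Pi.single_eq_same]
          rw [sum_smul_single, Pi.single_eq_of_ne (Fin.castSucc_ne_last i').symm, smul_zero,
            zero_sub]
      | cast j' =>
        refine ⟨0, ?_, ?_⟩
        · rw [smul_zero, sub_zero, map_sub, map_smul, map_smul, res_single_castSucc,
            res_single_castSucc]
          exact Submodule.subset_span ⟨i', j', x, rfl⟩
        · simp only [Pi.sub_apply, Pi.smul_apply, Pi.zero_apply, smul_zero,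
            Finset.sum_const_zero, neg_zero]
          rw [Pi.single_eq_of_ne (Fin.castSucc_ne_last i').symm,
            Pi.single_eq_of_ne (Fin.castSucc_ne_last j').symm, smul_zero, smul_zero, sub_zero]
  | zero =>
    refine ⟨0, ?_, ?_⟩
    · rw [map_zero, smul_zero, sub_zero]; exact Submodule.zero_mem _
    · simp
  | add v w _ _ hv hw =>
    obtain ⟨y1, h1, h1'⟩ := hv
    obtain ⟨y2, h2, h2'⟩ := hw
    refine ⟨y1 + y2, ?_, ?_⟩
    · have : res (A := A) (v + w) - f (Fin.last n) • (y1 + y2) =
          (res (A := A) v - f (Fin.last n) • y1) + (res (A := A) w - f (Fin.last n) • y2) := by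
        rw [map_add, smul_add]; abel
      rw [this]
      exact Submodule.add_mem _ h1 h2
    · rw [Pi.add_apply, h1', h2']
      simp only [Pi.add_apply, smul_add, Finset.sum_add_distrib, neg_add_rev]
      abel
  | smul c v _ hv =>
    obtain ⟨y1, h1, h1'⟩ := hv
    refine ⟨c • y1, ?_, ?_⟩
    · have : res (A := A) (c • v) - f (Fin.last n) • (c • y1) =
          c • (res (A := A) v - f (Fin.last n) • y1) := by
        rw [map_smul, smul_sub, smul_comm]
      rw [this]
      exact Submodule.smul_mem _ c h1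
    · rw [Pi.smul_apply, h1', smul_neg, Finset.smul_sum]
      congr 1
      apply Finset.sum_congr rfl
      intro l _
      rw [Pi.smul_apply, smul_comm]

/-- membership in `(g) M` -/
lemma mem_ofList_smul_top_iff (g : Fin n → A) (x : M) :
    x ∈ Ideal.ofList (List.ofFn g) • (⊤ : Submodule A M) ↔ ∃ y : Fin n → M, x = ∑ i, g i • y i := by
  have hspan : Ideal.ofList (List.ofFn g) = Ideal.span (Set.range g) := by
    unfold Ideal.ofList
    congr 1
    ext x
    simp [List.mem_ofFn]
  rw [hspan]
  constructor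
  · intro hx
    refine Submodule.smul_induction_on hx ?_ ?_
    · intro r hr m _
      obtain ⟨c, rfl⟩ := (Ideal.mem_span_range_iff_exists_fun).1 hr
      refine ⟨fun i => c i • m, ?_⟩
      rw [Finset.sum_smul]
      apply Finset.sum_congr rfl
      intro i _
      rw [mul_comm, mul_smul]
    · rintro x1 x2 ⟨y1, rfl⟩ ⟨y2, rfl⟩
      refine ⟨y1 + y2, ?_⟩
      simp only [Pi.add_apply, smul_add, Finset.sum_add_distrib]
  · rintro ⟨y, rfl⟩
    apply Submodule.sum_mem
    intro i _
    exact Submodule.smul_mem_smul (Ideal.subset_span ⟨i, rfl⟩) Submodule.mem_top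

/-- the module of relations -/
def Rel (g : Fin n → A) (M : Type v) [AddCommGroup M] [Module A M] : Submodule A (Fin n → M) where
  carrier := {m | ∑ i, g i • m i = 0}
  add_mem' := by
    intro a b ha hb
    simp only [Set.mem_ofPred_eq, Pi.add_apply, smul_add, Finset.sum_add_distrib] at *
    rw [ha, hb, add_zero]
  zero_mem' := by simp
  smul_mem' := by
    intro c x hx
    simp only [Set.mem_ofPred_eq, Pi.smul_apply] at *
    have : ∀ i, g i • c • x i = c • (g i • x i) := fun i => smul_comm _ _ _
    simp_rw [this]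
    rw [← Finset.smul_sum, hx, smul_zero]

lemma mem_Rel (g : Fin n → A) (m : Fin n → M) : m ∈ Rel g M ↔ ∑ i, g i • m i = 0 := Iff.rfl

lemma sum_snoc (f : Fin (n + 1) → A) (y : Fin n → M) (m0 : M) :
    ∑ i, f i • (Fin.snoc (α := fun _ => M) y m0 : Fin (n + 1) → M) i =
      ∑ i, f (Fin.castSucc i) • y i + f (Fin.last n) • m0 := by
  rw [Fin.sum_univ_castSucc]
  simp only [Fin.snoc_castSucc, Fin.snoc_last]

/-- (A): `H₁` of the truncated sequence vanishes -/
theorem H1Z_init (f : Fin (n + 1) → A) (hN : Nak (f (Fin.last n)) M) (h : H1Z f M) :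
    H1Z (fun i => f (Fin.castSucc i)) M := by
  intro m' hm'
  have hm'' : m' ∈ Rel (fun i => f (Fin.castSucc i)) M := hm'
  refine nak_pi _ hN n (Rel (fun i => f (Fin.castSucc i)) M) _ ?_ hm''
  intro x hx
  rw [mem_Rel] at hx
  set r : Fin (n + 1) → M := Fin.snoc (α := fun _ => M) x 0 with hr
  have hrel : ∑ i, f i • r i = 0 := by
    rw [hr, sum_snoc, hx, smul_zero, add_zero]
  obtain ⟨y, hy1, hy2⟩ := key f r (h r hrel)
  have hres : res (A := A) r = x := by
    ext l
    rw [res_apply, hr, Fin.snoc_castSucc]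
  rw [hres] at hy1
  rw [hr, Fin.snoc_last] at hy2
  refine ⟨_, hy1, y, ?_, by abel⟩
  rw [mem_Rel]
  have := hy2.symm
  rwa [neg_eq_zero] at this

/-- (B): the last element is a nonzerodivisor modulo the others -/
theorem last_regular (f : Fin (n + 1) → A) (h : H1Z f M) (m0 : M)
    (hm0 : f (Fin.last n) • m0 ∈
      Ideal.ofList (List.ofFn fun i => f (Fin.castSucc i)) • (⊤ : Submodule A M)) :
    m0 ∈ Ideal.ofList (List.ofFn fun i => f (Fin.castSucc i)) • (⊤ : Submodule A M) := by
  rw [mem_ofList_smul_top_iff] at hm0 ⊢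
  obtain ⟨y, hy⟩ := hm0
  set r : Fin (n + 1) → M := Fin.snoc (α := fun _ => M) (fun i => - y i) m0 with hr
  have hrel : ∑ i, f i • r i = 0 := by
    rw [hr, sum_snoc, hy]
    simp only [smul_neg, Finset.sum_neg_distrib, neg_add_cancel]
  obtain ⟨y', _, hy2⟩ := key f r (h r hrel)
  rw [hr, Fin.snoc_last] at hy2
  refine ⟨fun i => - y' i, ?_⟩
  rw [hy2]
  simp only [smul_neg, Finset.sum_neg_distrib]

/-- **Main theorem**: `H₁ = 0` plus the Nakayama property gives a weakly regular sequence. -/
theorem isWeaklyRegular_of_H1Z : ∀ (n : ℕ) (f : Fin n → A), (∀ i, Nak (f i) M) → H1Z f M →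
    RingTheory.Sequence.IsWeaklyRegular M (List.ofFn f) := by
  intro n
  induction n with
  | zero =>
    intro f _ _
    rw [List.ofFn_zero]
    exact RingTheory.Sequence.IsWeaklyRegular.nil A M
  | succ n ih =>
    intro f hN h
    rw [List.ofFn_succ', List.concat_eq_append, RingTheory.Sequence.isWeaklyRegular_append_iff]
    refine ⟨ih _ (fun i => hN _) (H1Z_init f (hN _) h), ?_⟩
    rw [RingTheory.Sequence.isWeaklyRegular_singleton_iff,
      isSMulRegular_quotient_iff_mem_of_smul_mem]
    exact last_regular f h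

end

end Groth.Agent.Lib.helper11.KoszulH1
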