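import Groth.Agent.Lib.Helper11.KoszulH1
import Groth.Agent.Lib.Helper11.QuasiReg

/-! `H₁`-regular sequences generate ideals of linear type (helper11). -/

set_option autoImplicit false

universe u

namespace Groth.Agent.Lib.helper11.KoszulH1

open MvPolynomial

variable {A : Type u} [CommRing A] {r : ℕ}

/-- the Koszul linear forms -/
noncomputable def L (f : Fin r → A) (i j : Fin r) : MvPolynomial (Fin r) A :=
  C (f i) * X j - C (f j) * X i

/-- the ideal of Koszul linear forms -/
noncomputable def KI (f : Fin r → A) : Ideal (MvPolynomial (Fin r) A) :=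
  Ideal.span {q | ∃ i j : Fin r, q = C (f i) * X j - C (f j) * X i}

lemma L_mem (f : Fin r → A) (i j : Fin r) : L f i j ∈ KI f :=
  Ideal.subset_span ⟨i, j, rfl⟩

lemma KI_eq_span_range (f : Fin r → A) :
    KI f = Ideal.span (Set.range fun p : Fin r × Fin r => L f p.1 p.2) := by
  unfold KI
  congr 1
  ext q
  constructor
  · rintro ⟨i, j, rfl⟩; exact ⟨(i, j), rfl⟩
  · rintro ⟨⟨i, j⟩, rfl⟩; exact ⟨i, j, rfl⟩

lemma sum_C_single (c x : A) (i : Fin r) :
    ∑ l, C (c * (Pi.single i x : Fin r → A) l) * (X l : MvPolynomial (Fin r) A) =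
      C (c * x) * X i := by
  rw [Finset.sum_eq_single i]
  · rw [Pi.single_eq_same]
  · intro b _ hb
    rw [Pi.single_eq_of_ne hb, mul_zero, C_0, zero_mul]
  · intro h; exact absurd (Finset.mem_univ i) h

/-- trivial relations give elements of `KI` -/
lemma psi_mem (f : Fin r → A) (v : Fin r → A) (hv : v ∈ Triv f A) :
    ∑ i, C (v i) * (X i : MvPolynomial (Fin r) A) ∈ KI f := by
  unfold Triv at hv
  induction hv using Submodule.span_induction with
  | mem v hv =>
    obtain ⟨i, j, x, rfl⟩ := hv
    have : ∑ l, C ((f j • (Pi.single i x : Fin r → A) - f i • (Pi.single j x : Fin r → A)) l) *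
        (X l : MvPolynomial (Fin r) A) = C x * L f j i := by
      simp only [Pi.sub_apply, Pi.smul_apply, smul_eq_mul, C_sub, sub_mul, Finset.sum_sub_distrib]
      rw [sum_C_single, sum_C_single]
      unfold L
      simp only [C_mul]
      ring
    rw [this]
    exact Ideal.mul_mem_left _ _ (L_mem f j i)
  | zero => simp
  | add v w _ _ hv hw =>
    have : ∑ i, C ((v + w) i) * (X i : MvPolynomial (Fin r) A) =
        ∑ i, C (v i) * X i + ∑ i, C (w i) * X i := by
      simp only [Pi.add_apply, C_add, add_mul, Finset.sum_add_distrib]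
    rw [this]
    exact Ideal.add_mem _ hv hw
  | smul c v _ hv =>
    have : ∑ i, C ((c • v) i) * (X i : MvPolynomial (Fin r) A) =
        C c * ∑ i, C (v i) * X i := by
      simp only [Pi.smul_apply, smul_eq_mul, C_mul, Finset.mul_sum, mul_assoc]
    rw [this]
    exact Ideal.mul_mem_left _ _ hv

lemma eq_sum_monomial_of_support_subset (p : MvPolynomial (Fin r) A) (D : Finset (Fin r →₀ ℕ))
    (hD : p.support ⊆ D) : p = ∑ d ∈ D, monomial d (p.coeff d) := by
  conv_lhs => rw [p.as_sum]
  apply Finset.sum_subset hD
  intro d _ hd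
  rw [notMem_support_iff.1 hd, monomial_zero]

/-- relations with polynomial coefficients -/
lemma pure_mem (f : Fin r → A) (h : H1Z f A) (P : Fin r → MvPolynomial (Fin r) A)
    (hP : ∑ i, C (f i) * P i = 0) : ∑ i, X i * P i ∈ KI f := by
  classical
  set D : Finset (Fin r →₀ ℕ) := Finset.univ.biUnion (fun i => (P i).support) with hD
  have hsub : ∀ i, (P i).support ⊆ D := fun i =>
    Finset.subset_biUnion_of_mem (fun i => (P i).support) (Finset.mem_univ i)
  have hrel : ∀ d, (fun i => (P i).coeff d) ∈ Triv f A := by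
    intro d
    apply h
    have := congrArg (coeff d) hP
    rw [coeff_sum, coeff_zero] at this
    simpa only [coeff_C_mul, smul_eq_mul] using this
  have key : ∑ i, X i * P i = ∑ d ∈ D, monomial d (1 : A) * ∑ i, C ((P i).coeff d) * X i := by
    calc ∑ i, X i * P i = ∑ i, X i * ∑ d ∈ D, monomial d ((P i).coeff d) := by
          apply Finset.sum_congr rfl
          intro i _
          rw [← eq_sum_monomial_of_support_subset (P i) D (hsub i)]
      _ = ∑ i, ∑ d ∈ D, X i * monomial d ((P i).coeff d) := by
          apply Finset.sum_congr rfl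
          intro i _
          rw [Finset.mul_sum]
      _ = ∑ d ∈ D, ∑ i, X i * monomial d ((P i).coeff d) := Finset.sum_comm
      _ = ∑ d ∈ D, monomial d (1 : A) * ∑ i, C ((P i).coeff d) * X i := by
          apply Finset.sum_congr rfl
          intro d _
          rw [Finset.mul_sum]
          apply Finset.sum_congr rfl
          intro i _
          have : monomial d ((P i).coeff d) = C ((P i).coeff d) * monomial d (1 : A) := by
            rw [C_mul_monomial, mul_one]
          rw [this]
          ring
  rw [key]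
  apply Ideal.sum_mem
  intro d _
  exact Ideal.mul_mem_left _ _ (psi_mem f _ (hrel d))

/-- forms of positive degree are combinations of the variables -/
lemma exists_decomp (n : ℕ) (F : MvPolynomial (Fin r) A) (hF : F.IsHomogeneous (n + 1)) :
    ∃ Fi : Fin r → MvPolynomial (Fin r) A, (∀ i, (Fi i).IsHomogeneous n) ∧
      F = ∑ i, X i * Fi i := by
  classical
  rw [F.as_sum]
  apply Finset.sum_induction _ (fun G => ∃ Fi : Fin r → MvPolynomial (Fin r) A,
    (∀ i, (Fi i).IsHomogeneous n) ∧ G = ∑ i, X i * Fi i)
  · rintro a b ⟨Fa, ha, rfl⟩ ⟨Fb, hb, rfl⟩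
    refine ⟨Fa + Fb, fun i => (ha i).add (hb i), ?_⟩
    simp only [Pi.add_apply, mul_add, Finset.sum_add_distrib]
  · exact ⟨0, fun i => isHomogeneous_zero _ _ _, by simp⟩
  · intro d hd
    have hdeg : d.degree = n + 1 := by
      rw [Finsupp.degree_eq_weight_one]
      exact hF (mem_support_iff.1 hd)
    obtain ⟨i, hi⟩ : ∃ i, d i ≠ 0 := by
      by_contra hcon
      push Not at hcon
      have : d = 0 := by ext i; exact hcon i
      rw [this] at hdeg
      simp at hdeg
    have hle : Finsupp.single i 1 ≤ d := by
      rw [Finsupp.single_le_iff]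
      exact Nat.one_le_iff_ne_zero.2 hi
    have hadd : Finsupp.single i 1 + (d - Finsupp.single i 1) = d := add_tsub_cancel_of_le hle
    have hdeg' : (d - Finsupp.single i 1).degree = n := by
      have h1 := congrArg Finsupp.degree hadd
      rw [map_add, Finsupp.degree_single, hdeg] at h1
      omega
    refine ⟨Pi.single i (monomial (d - Finsupp.single i 1) (F.coeff d)), ?_, ?_⟩
    · intro l
      by_cases hl : l = i
      · subst hl
        rw [Pi.single_eq_same]
        exact isHomogeneous_monomial _ hdeg'
      · rw [Pi.single_eq_of_ne hl]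
        exact isHomogeneous_zero _ _ _
    · rw [Finset.sum_eq_single i]
      · rw [Pi.single_eq_same, X, monomial_mul, one_mul, hadd]
      · intro b _ hb
        rw [Pi.single_eq_of_ne hb, mul_zero]
      · intro h; exact absurd (Finset.mem_univ i) h

/-- **Linear type**: a form vanishing at an `H₁`-regular sequence lies in the ideal of
Koszul linear forms. -/
theorem mem_KI_of_eval_eq_zero (f : Fin r → A) (h : H1Z f A) :
    ∀ (n : ℕ) (F : MvPolynomial (Fin r) A), F.IsHomogeneous n → eval f F = 0 → F ∈ KI f := by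
  intro n
  induction n with
  | zero =>
    intro F hF hev
    have h1 : F = C (F.coeff 0) := by
      rw [← totalDegree_eq_zero_iff_eq_C]
      exact Nat.le_zero.1 hF.totalDegree_le
    rw [h1, eval_C] at hev
    rw [h1, hev, C_0]
    exact Ideal.zero_mem _
  | succ n ih =>
    intro F hF hev
    obtain ⟨Fi, hFi, rfl⟩ := exists_decomp n F hF
    have hF'h : (∑ i, C (f i) * Fi i).IsHomogeneous n := by
      apply IsHomogeneous.sum
      intro i _
      have := (isHomogeneous_C (Fin r) (f i)).mul (hFi i)
      rwa [zero_add] at this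
    have hF'ev : eval f (∑ i, C (f i) * Fi i) = 0 := by
      rw [← hev]
      simp only [map_sum, map_mul, eval_C, eval_X]
    have hmem := ih _ hF'h hF'ev
    rw [KI_eq_span_range] at hmem
    obtain ⟨G, hG⟩ := (Ideal.mem_span_range_iff_exists_fun).1 hmem
    set Q : Fin r → MvPolynomial (Fin r) A := fun i => ∑ j, (G (i, j) - G (j, i)) * X j with hQ
    have hI1 : ∑ i, C (f i) * Q i = ∑ p : Fin r × Fin r, G p * L f p.1 p.2 := by
      rw [Fintype.sum_prod_type]
      have e1 : ∑ i, C (f i) * Q i = ∑ i, ∑ j, G (i, j) * (C (f i) * X j) -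
          ∑ i, ∑ j, G (j, i) * (C (f i) * X j) := by
        rw [← Finset.sum_sub_distrib]
        apply Finset.sum_congr rfl
        intro i _
        rw [← Finset.sum_sub_distrib, hQ, Finset.mul_sum]
        apply Finset.sum_congr rfl
        intro j _
        ring
      have e2 : ∑ i, ∑ j, G (i, j) * L f i j = ∑ i, ∑ j, G (i, j) * (C (f i) * X j) -
          ∑ i, ∑ j, G (i, j) * (C (f j) * X i) := by
        rw [← Finset.sum_sub_distrib]
        apply Finset.sum_congr rfl
        intro i _
        rw [← Finset.sum_sub_distrib]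
        apply Finset.sum_congr rfl
        intro j _
        unfold L
        ring
      rw [e1, e2]
      congr 1
      exact Finset.sum_comm
    have hI2 : ∑ i, X i * Q i = 0 := by
      have e1 : ∑ i, X i * Q i = ∑ i, ∑ j, G (i, j) * (X i * X j) -
          ∑ i, ∑ j, G (j, i) * (X i * X j) := by
        rw [← Finset.sum_sub_distrib]
        apply Finset.sum_congr rfl
        intro i _
        rw [← Finset.sum_sub_distrib, hQ, Finset.mul_sum]
        apply Finset.sum_congr rfl
        intro j _
        ring
      rw [e1, sub_eq_zero]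
      rw [Finset.sum_comm]
      apply Finset.sum_congr rfl
      intro i _
      apply Finset.sum_congr rfl
      intro j _
      ring
    have hP : ∑ i, C (f i) * (Fi i - Q i) = 0 := by
      simp only [mul_sub, Finset.sum_sub_distrib]
      rw [hI1, hG]
      exact sub_self _
    have hfin := pure_mem f h (fun i => Fi i - Q i) hP
    simp only [mul_sub, Finset.sum_sub_distrib] at hfin
    rw [hI2, sub_zero] at hfin
    exact hfin

lemma KI_le_map_C (f : Fin r → A) :
    KI f ≤ Ideal.map (C : A →+* MvPolynomial (Fin r) A) (Ideal.span (Set.range f)) := by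
  unfold KI
  rw [Ideal.span_le]
  rintro q ⟨i, j, rfl⟩
  have hi : (C (f i) : MvPolynomial (Fin r) A) ∈
      Ideal.map (C : A →+* MvPolynomial (Fin r) A) (Ideal.span (Set.range f)) :=
    Ideal.mem_map_of_mem _ (Ideal.subset_span ⟨i, rfl⟩)
  have hj : (C (f j) : MvPolynomial (Fin r) A) ∈
      Ideal.map (C : A →+* MvPolynomial (Fin r) A) (Ideal.span (Set.range f)) :=
    Ideal.mem_map_of_mem _ (Ideal.subset_span ⟨j, rfl⟩)
  exact Ideal.sub_mem _ (Ideal.mul_mem_right _ _ hi) (Ideal.mul_mem_right _ _ hj)

/-- **`H₁`-regular implies quasi-regular** -/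
theorem QR_of_H1Z (f : Fin r → A) (h : H1Z f A) : QuasiReg.QR f := by
  intro n F hF hval d
  obtain ⟨G, hG, hGc, hGe⟩ := QuasiReg.exists_form_of_mem_pow_succ f n _ hval
  have hev : eval f (F - G) = 0 := by rw [map_sub, hGe, sub_self]
  have hmem := KI_le_map_C f (mem_KI_of_eval_eq_zero f h n (F - G) (hF.sub hG) hev)
  have h1 := (MvPolynomial.mem_map_C_iff.1 hmem) d
  have h2 := Ideal.add_mem _ h1 (hGc d)
  rwa [coeff_sub, sub_add_cancel] at h2

/-- the Prelude-style formulation of `H₁`-regularity implies `H1Z` -/
theorem H1Z_of_span (f : Fin r → A)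
    (hf : ∀ a : Fin r → A, ∑ i, a i * f i = 0 →
      a ∈ Submodule.span A {v : Fin r → A | ∃ i j : Fin r,
        v = Pi.single i (f j) - Pi.single j (f i)}) : H1Z f A := by
  intro m hm
  have hm' : ∑ i, m i * f i = 0 := by
    rw [← hm]
    apply Finset.sum_congr rfl
    intro i _
    rw [smul_eq_mul, mul_comm]
  refine (Submodule.span_le.2 ?_) (hf m hm')
  rintro v ⟨i, j, rfl⟩
  apply Submodule.subset_span
  refine ⟨i, j, 1, ?_⟩
  ext l
  simp only [Pi.sub_apply, Pi.smul_apply, smul_eq_mul, Pi.single_apply]
  split_ifs <;> simp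

end Groth.Agent.Lib.helper11.KoszulH1
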