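import Groth.Agent.Lib.Helper11.KoszulLin

/-! Regular sequences are `H₁`-regular; Rees algebra of a regular sequence (helper11). -/

set_option autoImplicit false

universe u v

namespace Groth.Agent.Lib.helper11.KoszulH1

variable {A : Type u} [CommRing A]

section
variable {M : Type v} [AddCommGroup M] [Module A M] {n : ℕ}

/-- extension by zero in the last component -/
def ext0 : (Fin n → M) →ₗ[A] (Fin (n + 1) → M) where
  toFun := fun y => Fin.snoc (α := fun _ => M) y 0
  map_add' := by
    intro y1 y2
    ext i
    refine Fin.lastCases ?_ (fun j => ?_) i <;> simp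
  map_smul' := by
    intro c y
    ext i
    refine Fin.lastCases ?_ (fun j => ?_) i <;> simp

@[simp] lemma ext0_last (y : Fin n → M) : (ext0 (A := A) y) (Fin.last n) = 0 := by
  show (Fin.snoc (α := fun _ => M) y 0 : Fin (n + 1) → M) (Fin.last n) = 0
  rw [Fin.snoc_last]

@[simp] lemma ext0_castSucc (y : Fin n → M) (l : Fin n) :
    (ext0 (A := A) y) (Fin.castSucc l) = y l := by
  show (Fin.snoc (α := fun _ => M) y 0 : Fin (n + 1) → M) (Fin.castSucc l) = y l
  rw [Fin.snoc_castSucc]

lemma ext0_single (i : Fin n) (x : M) :
    ext0 (A := A) (Pi.single i x : Fin n → M) = Pi.single (Fin.castSucc i) x := by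
  ext l
  refine Fin.lastCases ?_ (fun j => ?_) l
  · rw [ext0_last, Pi.single_eq_of_ne (Fin.castSucc_ne_last i).symm]
  · rw [ext0_castSucc, Pi.single_apply, Pi.single_apply]
    simp only [Fin.castSucc_inj]

lemma ext0_mem_Triv (f : Fin (n + 1) → A) (z : Fin n → M)
    (hz : z ∈ Triv (fun i => f (Fin.castSucc i)) M) : ext0 (A := A) z ∈ Triv f M := by
  have : Triv (fun i => f (Fin.castSucc i)) M ≤ (Triv f M).comap (ext0 (A := A)) := by
    unfold Triv
    rw [Submodule.span_le]
    rintro v ⟨i, j, x, rfl⟩
    rw [SetLike.mem_coe, Submodule.mem_comap, map_sub, map_smul, map_smul, ext0_single,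
      ext0_single]
    exact Submodule.subset_span ⟨Fin.castSucc i, Fin.castSucc j, x, rfl⟩
  exact this hz

/-- **Regular sequences are `H₁`-regular.** -/
theorem H1Z_of_isWeaklyRegular : ∀ (n : ℕ) (f : Fin n → A),
    RingTheory.Sequence.IsWeaklyRegular M (List.ofFn f) → H1Z f M := by
  intro n
  induction n with
  | zero =>
    intro f _ m _
    have : m = 0 := Subsingleton.elim _ _
    rw [this]; exact Submodule.zero_mem _
  | succ n ih =>
    intro f hf rr hrr
    rw [List.ofFn_succ', List.concat_eq_append,
      RingTheory.Sequence.isWeaklyRegular_append_iff] at hf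
    obtain ⟨hf1, hf2⟩ := hf
    rw [RingTheory.Sequence.isWeaklyRegular_singleton_iff,
      isSMulRegular_quotient_iff_mem_of_smul_mem] at hf2
    have hih := ih _ hf1
    rw [Fin.sum_univ_castSucc] at hrr
    -- the last component lies in `(f') M`
    have hlast : rr (Fin.last n) ∈
        Ideal.ofList (List.ofFn fun i => f (Fin.castSucc i)) • (⊤ : Submodule A M) := by
      apply hf2
      rw [mem_ofList_smul_top_iff]
      refine ⟨fun i => - rr (Fin.castSucc i), ?_⟩
      simp only [smul_neg, Finset.sum_neg_distrib]
      exact eq_neg_of_add_eq_zero_right hrr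
    rw [mem_ofList_smul_top_iff] at hlast
    obtain ⟨y, hy⟩ := hlast
    -- the corrected relation for `f'`
    set z : Fin n → M := fun l => rr (Fin.castSucc l) + f (Fin.last n) • y l with hz
    have hzrel : ∑ i, f (Fin.castSucc i) • z i = 0 := by
      simp only [hz, smul_add, Finset.sum_add_distrib]
      have : ∑ i, f (Fin.castSucc i) • f (Fin.last n) • y i =
          f (Fin.last n) • ∑ i, f (Fin.castSucc i) • y i := by
        rw [Finset.smul_sum]
        apply Finset.sum_congr rfl
        intro i _
        rw [smul_comm]
      rw [this, ← hy]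
      exact hrr
    have hzT := ext0_mem_Triv f z (hih z hzrel)
    -- the remaining trivial relations
    have hdecomp : rr = ext0 (A := A) z + ∑ l, (f (Fin.castSucc l) •
        (Pi.single (Fin.last n) (y l) : Fin (n + 1) → M) -
          f (Fin.last n) • (Pi.single (Fin.castSucc l) (y l) : Fin (n + 1) → M)) := by
      ext k
      rw [Pi.add_apply, Finset.sum_apply]
      refine Fin.lastCases ?_ (fun j => ?_) k
      · rw [ext0_last, zero_add, hy]
        apply Finset.sum_congr rfl
        intro l _
        rw [Pi.sub_apply, Pi.smul_apply, Pi.smul_apply, Pi.single_eq_same,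
          Pi.single_eq_of_ne (Fin.castSucc_ne_last l).symm, smul_zero, sub_zero]
      · rw [ext0_castSucc, hz]
        have : ∑ l, (f (Fin.castSucc l) • (Pi.single (Fin.last n) (y l) : Fin (n + 1) → M) -
            f (Fin.last n) • (Pi.single (Fin.castSucc l) (y l) : Fin (n + 1) → M))
              (Fin.castSucc j) = - (f (Fin.last n) • y j) := by
          rw [Finset.sum_eq_single j]
          · rw [Pi.sub_apply, Pi.smul_apply, Pi.smul_apply, Pi.single_eq_same,
              Pi.single_eq_of_ne (Fin.castSucc_ne_last j), smul_zero, zero_sub]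
          · intro b _ hb
            have hne : Fin.castSucc j ≠ Fin.castSucc b := fun h => hb (Fin.castSucc_injective _ h).symm
            rw [Pi.sub_apply, Pi.smul_apply, Pi.smul_apply, Pi.single_eq_of_ne hne,
              Pi.single_eq_of_ne (Fin.castSucc_ne_last j), smul_zero, smul_zero, sub_zero]
          · intro h; exact absurd (Finset.mem_univ j) h
        rw [this, add_neg_cancel_right]
    rw [hdecomp]
    refine Submodule.add_mem _ hzT (Submodule.sum_mem _ ?_)
    intro l _
    exact Submodule.subset_span ⟨Fin.last n, Fin.castSucc l, y l, rfl⟩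

end

section Rees

open MvPolynomial

variable {n : ℕ}

lemma aeval_monomial_rees (a : Fin n → A) (d : Fin n →₀ ℕ) (c : A) :
    aeval (fun i : Fin n => Polynomial.C (a i) * (Polynomial.X : Polynomial A)) (monomial d c) =
      Polynomial.C (eval a (monomial d c)) * Polynomial.X ^ d.degree := by
  rw [aeval_monomial, eval_monomial, Finsupp.prod_fintype _ _ (fun i => pow_zero _),
    Finsupp.prod_fintype _ _ (fun i => pow_zero _), Finsupp.degree_eq_sum]
  simp only [mul_pow, Finset.prod_mul_distrib, Finset.prod_pow_eq_pow_sum, map_mul, map_prod,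
    map_pow]
  rw [← Polynomial.C_eq_algebraMap]
  ring

lemma aeval_hom_rees (a : Fin n → A) (k : ℕ) (G : MvPolynomial (Fin n) A)
    (hG : G.IsHomogeneous k) :
    aeval (fun i : Fin n => Polynomial.C (a i) * (Polynomial.X : Polynomial A)) G =
      Polynomial.C (eval a G) * Polynomial.X ^ k := by
  have h1 : aeval (fun i : Fin n => Polynomial.C (a i) * (Polynomial.X : Polynomial A)) G =
      ∑ d ∈ G.support, aeval (fun i : Fin n => Polynomial.C (a i) * (Polynomial.X : Polynomial A))
        (monomial d (coeff d G)) := by
    conv_lhs => rw [G.as_sum, map_sum]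
  have h2 : eval a G = ∑ d ∈ G.support, eval a (monomial d (coeff d G)) := by
    conv_lhs => rw [G.as_sum, map_sum]
  rw [h1, h2, map_sum, Finset.sum_mul]
  apply Finset.sum_congr rfl
  intro d hd
  rw [aeval_monomial_rees]
  have : d.degree = k := by
    rw [Finsupp.degree_eq_weight_one]
    exact hG (mem_support_iff.1 hd)
  rw [this]

/-- **The Rees algebra of a regular sequence is of linear type.** -/
theorem ker_rees (a : Fin n → A) (ha : RingTheory.Sequence.IsWeaklyRegular A (List.ofFn a)) :
    RingHom.ker (MvPolynomial.aeval (R := A)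
      (fun i : Fin n => Polynomial.C (a i) * (Polynomial.X : Polynomial A))) = KI a := by
  have hH : H1Z a A := H1Z_of_isWeaklyRegular n a ha
  apply le_antisymm
  · intro F hF
    rw [RingHom.mem_ker] at hF
    have hsum := MvPolynomial.sum_homogeneousComponent F
    have hval : ∑ k ∈ Finset.range (F.totalDegree + 1),
        Polynomial.C (eval a (homogeneousComponent k F)) * (Polynomial.X : Polynomial A) ^ k = 0 := by
      rw [← hF]
      conv_rhs => rw [← hsum, map_sum]
      apply Finset.sum_congr rfl
      intro k _
      rw [aeval_hom_rees a k _ (homogeneousComponent_isHomogeneous k F)]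
    have hzero : ∀ k ∈ Finset.range (F.totalDegree + 1),
        eval a (homogeneousComponent k F) = 0 := by
      intro k0 hk0
      have := congrArg (fun p => Polynomial.coeff p k0) hval
      simp only [Polynomial.finsetSum_coeff, Polynomial.coeff_C_mul_X_pow,
        Polynomial.coeff_zero] at this
      rw [Finset.sum_ite_eq (Finset.range (F.totalDegree + 1)) k0, if_pos hk0] at this
      exact this
    rw [← hsum]
    apply Ideal.sum_mem
    intro k hk
    exact mem_KI_of_eval_eq_zero a hH k _ (homogeneousComponent_isHomogeneous k F) (hzero k hk)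
  · unfold KI
    rw [Ideal.span_le]
    rintro q ⟨i, j, rfl⟩
    rw [SetLike.mem_coe, RingHom.mem_ker]
    simp only [map_sub, map_mul, aeval_C, aeval_X, ← Polynomial.C_eq_algebraMap]
    ring

end Rees

end Groth.Agent.Lib.helper11.KoszulH1
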