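import Mathlib
import Groth.Prelude.Def_Lef
import Groth.Agent.Lib.Helper12.TwistExtend
import Groth.Agent.Lib.Helper12.SecExtend
import Groth.Agent.Lib.Helper12.AmpleBasis
import Groth.Agent.Lib.Helper28.SymLineSec
import Groth.Agent.Lib.Helper13.Normal11

set_option autoImplicit false
universe u
open CategoryTheory CategoryTheory.Limits AlgebraicGeometry Opposite TopologicalSpace

namespace Groth.Agent.Lib.helper11.LefConn

open Groth.Agent.Lib.helper12.TwistExtend Groth.Agent.Lib.helper12.SecExtend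
  Groth.Agent.Lib.helper12.AmpleBasis Groth.Agent.Lib.helper28.SymLineSec

variable {V : Scheme.{u}}

lemma toSubscheme_app (K : V.IdealSheafData) (W : V.Opens) (a : Γ(V, W)) :
    ((ClSub.toSubscheme K).val.app (op W)).hom a = (K.subschemeι.app W).hom a := rfl

lemma val_comp {M N : V.Modules} (s : Coh.structureModule V ⟶ M) (φ : M ⟶ N) (W : V.Opens) :
    SecTwist.val (s ≫ φ) W = (φ.val.app (op W)).hom (SecTwist.val s W) := rfl

lemma val_homOfSec_top (M : V.Modules) (σ : M.val.obj (op ⊤)) :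
    SecTwist.val (homOfSec M σ) ⊤ = σ := by
  rw [val_homOfSec]
  exact (res_bijective_of_eq M rfl le_rfl).1 (by rw [res_res])

/-- the preimage in the closed subscheme of an open disjoint from the support is empty -/
lemma preimage_eq_bot (K : V.IdealSheafData) (W : V.Opens)
    (h : Disjoint (W : Set V) (K.support : Set V)) : K.subschemeι ⁻¹ᵁ W = ⊥ := by
  ext z
  simp only [Opens.coe_bot, Set.mem_empty_iff_false, iff_false]
  intro hz
  have hz' : K.subschemeι z ∈ (K.support : Set V) := by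
    rw [← K.range_subschemeι]
    exact ⟨z, rfl⟩
  exact Set.disjoint_left.mp h hz hz'

/-- (F2) `O_V/K` has no sections over opens disjoint from the support -/
lemma subsingleton_sec (K : V.IdealSheafData) (W : V.Opens)
    (h : Disjoint (W : Set V) (K.support : Set V)) :
    Subsingleton ((ClSub.quotMod K).val.obj (op W)) := by
  change Subsingleton Γ(K.subscheme, K.subschemeι ⁻¹ᵁ W)
  rw [preimage_eq_bot K W h]
  infer_instance

/-- (F3) if `1` dies in `O_V/K` over `W` then `W` misses the support -/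
lemma disjoint_of_one_eq_zero (K : V.IdealSheafData) (W : V.Opens)
    (h : ((ClSub.toSubscheme K).val.app (op W)).hom (1 : Γ(V, W)) = 0) :
    Disjoint (W : Set V) (K.support : Set V) := by
  rw [toSubscheme_app, map_one] at h
  have h' : (1 : Γ(K.subscheme, K.subschemeι ⁻¹ᵁ W)) = 0 := h
  have h1 : K.subschemeι ⁻¹ᵁ W = ⊥ := by
    rw [← K.subscheme.basicOpen_of_isUnit (isUnit_one (M := Γ(K.subscheme, K.subschemeι ⁻¹ᵁ W))),
      h', Scheme.basicOpen_zero]
  rw [Set.disjoint_left]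
  intro x hxW hxS
  rw [← K.range_subschemeι] at hxS
  obtain ⟨z, rfl⟩ := hxS
  have : z ∈ K.subschemeι ⁻¹ᵁ W := hxW
  rw [h1] at this
  exact this

/-- (F1) the quotient maps are compatible with the projections from `O_V` -/
lemma toSubscheme_quotMap {I J : V.IdealSheafData} (h : I ≤ J) :
    ClSub.toSubscheme I ≫ Lef.quotMap h = ClSub.toSubscheme J := by
  apply hom_ext_val_top
  rw [val_comp]
  change ((Lef.quotMap h).val.app (op ⊤)).hom ((I.subschemeι.app ⊤).hom 1) = (J.subschemeι.app ⊤).hom 1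
  rw [map_one, map_one]
  unfold Lef.quotMap
  change (J.subscheme.presheaf.map (eqToHom (show (Opens.map J.subschemeι.base).obj ⊤ =
      Scheme.IdealSheafData.inclusion h ⁻¹ᵁ I.subschemeι ⁻¹ᵁ ⊤ from rfl)).op).hom
    (((Scheme.IdealSheafData.inclusion h).app (I.subschemeι ⁻¹ᵁ ⊤)).hom 1) = 1
  rw [map_one, map_one]

section LefTranslate

variable (J : V.IdealSheafData) (hLef : Lef.HomToFormalBijective J (Coh.structureModule V))

include hLef

/-- (L1) a function is determined by its images in all `O_V/J^(n+1)` -/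
lemma eq_of_forall_eq (a b : (Coh.structureModule V).val.obj (op ⊤))
    (h : ∀ n : ℕ, ((ClSub.toSubscheme (J ^ (n + 1))).val.app (op ⊤)).hom a =
      ((ClSub.toSubscheme (J ^ (n + 1))).val.app (op ⊤)).hom b) : a = b := by
  have h1 := hLef.1 (homOfSec _ a) (homOfSec _ b) (fun n => by
    apply hom_ext_val_top
    rw [val_comp, val_comp, val_homOfSec_top, val_homOfSec_top]
    exact h n)
  have h2 := congrArg (fun φ => SecTwist.val φ ⊤) h1
  rw [val_homOfSec_top, val_homOfSec_top] at h2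
  exact h2

/-- (L2) compatible families of sections of the `O_V/J^(n+1)` come from functions -/
lemma exists_of_compatible (c : ∀ n : ℕ, (ClSub.quotMod (J ^ (n + 1))).val.obj (op ⊤))
    (hc : ∀ n, ((Lef.quotMap (Lef.pow_succ_le J n)).val.app (op ⊤)).hom (c (n + 1)) = c n) :
    ∃ a : (Coh.structureModule V).val.obj (op ⊤),
      ∀ n, ((ClSub.toSubscheme (J ^ (n + 1))).val.app (op ⊤)).hom a = c n := by
  obtain ⟨φ, hφ⟩ := hLef.2 (fun n => homOfSec _ (c n)) (fun n => by
    apply hom_ext_val_top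
    rw [val_comp, val_homOfSec_top, val_homOfSec_top]
    exact hc n)
  refine ⟨SecTwist.val φ ⊤, fun n => ?_⟩
  have h2 := congrArg (fun ψ => SecTwist.val ψ ⊤) (hφ n)
  rw [val_comp, val_homOfSec_top] at h2
  exact h2

end LefTranslate

section Glue

lemma res_zero' (G : V.Modules) {W W' : V.Opens} (h : W ≤ W') :
    res G h (0 : G.val.obj (op W')) = 0 :=
  map_zero (G.presheaf.map (homOfLE h).op).hom

lemma res_smul' (G : V.Modules) {W W' : V.Opens} (h : W ≤ W') (r : Γ(V, W'))
    (x : G.val.obj (op W')) :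
    res G h (r • x) = (V.presheaf.map (homOfLE h).op r) • res G h x :=
  Scheme.Modules.map_smul G (homOfLE h) r x

/-- restriction of sections of the structure module is restriction of functions -/
lemma res_structure {W W' : V.Opens} (h : W ≤ W') (r : Γ(V, W')) :
    res (Coh.structureModule V) h r = V.presheaf.map (homOfLE h).op r := rfl

/-- an idempotent vanishes on the non-vanishing locus of its complement -/
lemma res_idem_eq_zero (e : Γ(V, ⊤)) (he : IsIdempotentElem e) :
    V.presheaf.map (homOfLE (le_top : V.basicOpen (1 - e) ≤ ⊤)).op e = 0 := by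
  have hu : IsUnit (V.presheaf.map (homOfLE (le_top : V.basicOpen (1 - e) ≤ ⊤)).op (1 - e)) :=
    RingedSpace.isUnit_res_basicOpen V.toRingedSpace (1 - e)
  have h0 : e * (1 - e) = 0 := by rw [mul_sub, mul_one, he.eq, sub_self]
  have h1 : V.presheaf.map (homOfLE (le_top : V.basicOpen (1 - e) ≤ ⊤)).op e *
      V.presheaf.map (homOfLE (le_top : V.basicOpen (1 - e) ≤ ⊤)).op (1 - e) = 0 := by
    rw [← map_mul, h0, map_zero]
  exact (hu.mul_left_eq_zero).mp h1

lemma top_le_iSup_idem (e : Γ(V, ⊤)) :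
    (⊤ : V.Opens) ≤ ⨆ b : Bool, (bif b then V.basicOpen e else V.basicOpen (1 - e)) := by
  have h1 := V.basicOpen_add_le e (1 - e)
  rw [add_sub_cancel, Scheme.basicOpen_one] at h1
  refine h1.trans (sup_le ?_ ?_)
  · exact le_iSup (fun b : Bool => (bif b then V.basicOpen e else V.basicOpen (1 - e))) true
  · exact le_iSup (fun b : Bool => (bif b then V.basicOpen e else V.basicOpen (1 - e))) false

/-- (G1) an idempotent whose non-vanishing locus misses the support dies in `O_V/K` -/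
lemma toSubscheme_idem_eq_zero (K : V.IdealSheafData) (e : Γ(V, ⊤)) (he : IsIdempotentElem e)
    (hd : Disjoint (V.basicOpen e : Set V) (K.support : Set V)) :
    ((ClSub.toSubscheme K).val.app (op ⊤)).hom e = 0 := by
  refine eq_of_cover (ClSub.quotMod K)
    (fun b : Bool => (bif b then V.basicOpen e else V.basicOpen (1 - e))) ⊤ (fun _ => le_top)
    (top_le_iSup_idem e) _ _ (fun b => ?_)
  cases b
  · change res (ClSub.quotMod K) (le_top : V.basicOpen (1 - e) ≤ ⊤) _ =
      res (ClSub.quotMod K) (le_top : V.basicOpen (1 - e) ≤ ⊤) _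
    rw [res_app, res_zero', res_structure, res_idem_eq_zero e he]
    exact map_zero _
  · change res (ClSub.quotMod K) (le_top : V.basicOpen e ≤ ⊤) _ =
      res (ClSub.quotMod K) (le_top : V.basicOpen e ≤ ⊤) _
    haveI := subsingleton_sec K _ hd
    exact Subsingleton.elim _ _

end Glue

section Glue2

/-- the two-element cover -/
def cov₂ (W₁ W₂ : V.Opens) : Bool → V.Opens := fun b => match b with
  | true => W₁
  | false => W₂

lemma top_le_iSup_cov₂ {W₁ W₂ : V.Opens} (hcov : (⊤ : V.Opens) ≤ W₁ ⊔ W₂) :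
    (⊤ : V.Opens) ≤ ⨆ b, cov₂ W₁ W₂ b :=
  hcov.trans (sup_le (le_iSup (cov₂ W₁ W₂) true) (le_iSup (cov₂ W₁ W₂) false))

lemma eq_of_cover₂ (H : V.Modules) {W₁ W₂ : V.Opens} (hcov : (⊤ : V.Opens) ≤ W₁ ⊔ W₂)
    (x y : H.val.obj (op ⊤))
    (h₁ : res H (le_top : W₁ ≤ ⊤) x = res H (le_top : W₁ ≤ ⊤) y)
    (h₂ : res H (le_top : W₂ ≤ ⊤) x = res H (le_top : W₂ ≤ ⊤) y) : x = y := by
  refine eq_of_cover H (cov₂ W₁ W₂) ⊤ (fun _ => le_top) (top_le_iSup_cov₂ hcov) x y (fun b => ?_)
  cases b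
  · exact h₂
  · exact h₁

lemma exists_glue₂ (H : V.Modules) {W₁ W₂ : V.Opens} (hcov : (⊤ : V.Opens) ≤ W₁ ⊔ W₂)
    (x₁ : H.val.obj (op W₁)) (x₂ : H.val.obj (op W₂))
    (hx : res H (inf_le_left : W₁ ⊓ W₂ ≤ W₁) x₁ = res H (inf_le_right : W₁ ⊓ W₂ ≤ W₂) x₂) :
    ∃ c : H.val.obj (op ⊤), res H (le_top : W₁ ≤ ⊤) c = x₁ ∧ res H (le_top : W₂ ≤ ⊤) c = x₂ := by
  let sf : ∀ b, H.val.obj (op (cov₂ W₁ W₂ b)) := fun b => match b with
    | true => x₁
    | false => x₂
  obtain ⟨c, hc⟩ := exists_glue H (cov₂ W₁ W₂) (top_le_iSup_cov₂ hcov) sf (fun i j => by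
    cases i <;> cases j
    · rfl
    · change res H (inf_le_left : W₂ ⊓ W₁ ≤ W₂) x₂ = res H (inf_le_right : W₂ ⊓ W₁ ≤ W₁) x₁
      have e : W₂ ⊓ W₁ = W₁ ⊓ W₂ := inf_comm _ _
      have h1 : res H (inf_le_left : W₂ ⊓ W₁ ≤ W₂) x₂ =
          res H (e.le : W₂ ⊓ W₁ ≤ W₁ ⊓ W₂) (res H (inf_le_right : W₁ ⊓ W₂ ≤ W₂) x₂) := by
        rw [res_res]
      have h2 : res H (inf_le_right : W₂ ⊓ W₁ ≤ W₁) x₁ =
          res H (e.le : W₂ ⊓ W₁ ≤ W₁ ⊓ W₂) (res H (inf_le_left : W₁ ⊓ W₂ ≤ W₁) x₁) := by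
        rw [res_res]
      rw [h1, h2, hx]
    · exact hx
    · rfl)
  exact ⟨c, hc true, hc false⟩

end Glue2

end Groth.Agent.Lib.helper11.LefConn
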