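import Mathlib
import Groth.Agent.Lib.Helper11.LefConn1

set_option autoImplicit false
universe u
open CategoryTheory CategoryTheory.Limits AlgebraicGeometry Opposite TopologicalSpace

namespace Groth.Agent.Lib.helper11.LefConn

open Groth.Agent.Lib.helper12.TwistExtend Groth.Agent.Lib.helper12.SecExtend
  Groth.Agent.Lib.helper12.AmpleBasis Groth.Agent.Lib.helper28.SymLineSec
  Groth.Agent.Lib.helper13.Normal Scheme.IdealSheafData

variable {V : Scheme.{u}}

lemma quotMap_toSubscheme_apply {I J : V.IdealSheafData} (h : I ≤ J) (W : V.Opens) (a : Γ(V, W)) :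
    ((Lef.quotMap h).val.app (op W)).hom (((ClSub.toSubscheme I).val.app (op W)).hom a) =
      ((ClSub.toSubscheme J).val.app (op W)).hom a :=
  congrArg (fun φ : Coh.structureModule V ⟶ ClSub.quotMod J => (φ.val.app (op W)).hom a)
    (toSubscheme_quotMap h)

variable (J : V.IdealSheafData) (hLef : Lef.HomToFormalBijective J (Coh.structureModule V))

include hLef

lemma eq_of_forall_eq' (a b : Γ(V, ⊤))
    (h : ∀ n : ℕ, ((ClSub.toSubscheme (J ^ (n + 1))).val.app (op ⊤)).hom a =
      ((ClSub.toSubscheme (J ^ (n + 1))).val.app (op ⊤)).hom b) : a = b :=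
  eq_of_forall_eq J hLef a b h

lemma exists_of_compatible' (c : ∀ n : ℕ, (ClSub.quotMod (J ^ (n + 1))).val.obj (op ⊤))
    (hc : ∀ n, ((Lef.quotMap (Lef.pow_succ_le J n)).val.app (op ⊤)).hom (c (n + 1)) = c n) :
    ∃ a : Γ(V, ⊤), ∀ n, ((ClSub.toSubscheme (J ^ (n + 1))).val.app (op ⊤)).hom a = c n :=
  exists_of_compatible J hLef c hc

theorem connectedSpace_of_isConnected (hS : _root_.IsConnected (J.support : Set V)) :
    ConnectedSpace V := by
  obtain ⟨x, -⟩ := hS.nonempty
  haveI : Nonempty (⊤ : V.Opens) := ⟨⟨x, trivial⟩⟩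
  haveI : Nontrivial Γ(V, ⊤) := inferInstance
  refine connectedSpace_of_idempotents V (fun e he => ?_)
  have hdisj : Disjoint (V.basicOpen e : Set V) (V.basicOpen (1 - e) : Set V) := by
    rw [Set.disjoint_iff_inter_eq_empty, ← Opens.coe_inf, ← Scheme.basicOpen_mul, mul_sub, mul_one,
      he.eq, sub_self, Scheme.basicOpen_zero]
    rfl
  have hcov : (J.support : Set V) ⊆ (V.basicOpen e : Set V) ∪ (V.basicOpen (1 - e) : Set V) := by
    intro y _
    have h1 := V.basicOpen_add_le e (1 - e)
    rw [add_sub_cancel, Scheme.basicOpen_one] at h1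
    exact h1 (show y ∈ (⊤ : V.Opens) from trivial)
  rcases hS.isPreconnected.subset_or_subset (V.basicOpen e).2 (V.basicOpen (1 - e)).2 hdisj hcov
    with h | h
  · right
    have hd : Disjoint (V.basicOpen (1 - e) : Set V) (J.support : Set V) :=
      hdisj.symm.mono_right h
    have h0 : (1 - e : Γ(V, ⊤)) = 0 := eq_of_forall_eq' J hLef (1 - e) 0 (fun n => by
      rw [toSubscheme_idem_eq_zero (J ^ (n + 1)) (1 - e) he.one_sub
        (by rw [support_pow_succ]; exact hd)]
      exact (map_zero _).symm)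
    exact (sub_eq_zero.mp h0).symm
  · left
    have hd : Disjoint (V.basicOpen e : Set V) (J.support : Set V) := hdisj.mono_right h
    exact eq_of_forall_eq' J hLef e 0 (fun n => by
      rw [toSubscheme_idem_eq_zero (J ^ (n + 1)) e he (by rw [support_pow_succ]; exact hd)]
      exact (map_zero _).symm)

theorem isConnected_of_connectedSpace [ConnectedSpace V] :
    _root_.IsConnected (J.support : Set V) := by
  haveI : Nonempty (⊤ : V.Opens) := ⟨⟨Classical.arbitrary V, trivial⟩⟩
  haveI : Nontrivial Γ(V, ⊤) := inferInstance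
  constructor
  · by_contra hne
    rw [Set.not_nonempty_iff_eq_empty] at hne
    have h10 : (1 : Γ(V, ⊤)) = 0 := eq_of_forall_eq' J hLef 1 0 (fun n => by
      haveI := subsingleton_sec (J ^ (n + 1)) ⊤ (by
        rw [support_pow_succ, hne]; exact Set.disjoint_empty _)
      exact Subsingleton.elim _ _)
    exact one_ne_zero h10
  · rw [isPreconnected_closed_iff]
    intro t t' ht ht' hsub hnt hnt'
    by_contra hcon
    rw [Set.not_nonempty_iff_eq_empty] at hcon
    have hSc : IsClosed (J.support : Set V) := J.support.isClosed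
    let W₁ : V.Opens := ⟨((J.support : Set V) ∩ t')ᶜ, (hSc.inter ht').isOpen_compl⟩
    let W₂ : V.Opens := ⟨((J.support : Set V) ∩ t)ᶜ, (hSc.inter ht).isOpen_compl⟩
    have hcov : (⊤ : V.Opens) ≤ W₁ ⊔ W₂ := by
      intro y _
      by_cases hy : y ∈ (J.support : Set V) ∩ t'
      · right
        intro hy2
        have : y ∈ (J.support : Set V) ∩ (t ∩ t') := ⟨hy.1, hy2.2, hy.2⟩
        rw [hcon] at this
        exact this
      · left
        exact hy
    have hdK : ∀ n : ℕ, Disjoint ((W₁ ⊓ W₂ : V.Opens) : Set V) ((J ^ (n + 1)).support : Set V) := by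
      intro n
      rw [support_pow_succ, Set.disjoint_left]
      rintro y ⟨hy1, hy2⟩ hyS
      rcases hsub hyS with hyt | hyt
      · exact hy2 ⟨hyS, hyt⟩
      · exact hy1 ⟨hyS, hyt⟩
    -- the glued sections
    have hglue : ∀ n : ℕ, ∃ c : (ClSub.quotMod (J ^ (n + 1))).val.obj (op ⊤),
        res (ClSub.quotMod (J ^ (n + 1))) (le_top : W₁ ≤ ⊤) c =
          ((ClSub.toSubscheme (J ^ (n + 1))).val.app (op W₁)).hom (1 : Γ(V, W₁)) ∧
        res (ClSub.quotMod (J ^ (n + 1))) (le_top : W₂ ≤ ⊤) c = 0 := fun n =>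
      exists_glue₂ _ hcov _ _ (by
        haveI := subsingleton_sec (J ^ (n + 1)) _ (hdK n)
        exact Subsingleton.elim _ _)
    choose c hc₁ hc₂ using hglue
    have hcompat : ∀ n, ((Lef.quotMap (Lef.pow_succ_le J n)).val.app (op ⊤)).hom (c (n + 1)) =
        c n := by
      intro n
      refine eq_of_cover₂ _ hcov _ _ ?_ ?_
      · rw [res_app, hc₁ (n + 1), hc₁ n, quotMap_toSubscheme_apply]
      · rw [res_app, hc₂ (n + 1), hc₂ n]
        exact map_zero _
    obtain ⟨a, ha⟩ := exists_of_compatible' J hLef c hcompat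
    -- `a` is idempotent
    have hsm : ∀ n, a • c n = c n := by
      intro n
      refine eq_of_cover₂ _ hcov _ _ ?_ ?_
      · rw [res_smul', hc₁ n]
        have e1 : ((ClSub.toSubscheme (J ^ (n + 1))).val.app (op W₁)).hom
            (V.presheaf.map (homOfLE (le_top : W₁ ≤ ⊤)).op a • (1 : Γ(V, W₁))) =
            V.presheaf.map (homOfLE (le_top : W₁ ≤ ⊤)).op a •
              ((ClSub.toSubscheme (J ^ (n + 1))).val.app (op W₁)).hom (1 : Γ(V, W₁)) :=
          ((ClSub.toSubscheme (J ^ (n + 1))).val.app (op W₁)).hom.map_smul _ _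
        have e2 : V.presheaf.map (homOfLE (le_top : W₁ ≤ ⊤)).op a • (1 : Γ(V, W₁)) =
            V.presheaf.map (homOfLE (le_top : W₁ ≤ ⊤)).op a := by
          rw [smul_eq_mul, mul_one]
        have e3 : ((ClSub.toSubscheme (J ^ (n + 1))).val.app (op W₁)).hom
            (V.presheaf.map (homOfLE (le_top : W₁ ≤ ⊤)).op a) =
            res (ClSub.quotMod (J ^ (n + 1))) (le_top : W₁ ≤ ⊤)
              (((ClSub.toSubscheme (J ^ (n + 1))).val.app (op ⊤)).hom a) :=
          (res_app (ClSub.toSubscheme (J ^ (n + 1))) (le_top : W₁ ≤ ⊤) a).symm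
        rw [← e1, e2, e3, ha n, hc₁ n]
      · rw [res_smul', hc₂ n, smul_zero]
    have hidem : IsIdempotentElem a := by
      apply eq_of_forall_eq' J hLef (a * a) a
      intro n
      have e1 : ((ClSub.toSubscheme (J ^ (n + 1))).val.app (op ⊤)).hom (a • a) =
          a • ((ClSub.toSubscheme (J ^ (n + 1))).val.app (op ⊤)).hom a :=
        ((ClSub.toSubscheme (J ^ (n + 1))).val.app (op ⊤)).hom.map_smul _ _
      rw [← smul_eq_mul, e1, ha n, hsm n]
    rcases idempotent_eq_zero_or_one_of_isPreconnected (⊤ : V.Opens)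
      (by rw [Opens.coe_top]; exact isPreconnected_univ) a hidem with h0 | h1
    · have hc0 : c 0 = 0 := by
        rw [← ha 0, h0]
        exact map_zero _
      have h1 : ((ClSub.toSubscheme (J ^ (0 + 1))).val.app (op W₁)).hom (1 : Γ(V, W₁)) = 0 := by
        rw [← hc₁ 0, hc0, res_zero']
      have hd := disjoint_of_one_eq_zero _ _ h1
      rw [support_pow_succ] at hd
      obtain ⟨y, hyS, hyt⟩ := hnt
      have hyW : y ∈ (W₁ : Set V) := fun hy' => by
        have : y ∈ (J.support : Set V) ∩ (t ∩ t') := ⟨hyS, hyt, hy'.2⟩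
        rw [hcon] at this
        exact this
      exact Set.disjoint_left.mp hd hyW hyS
    · have h2 := hc₂ 0
      rw [← ha 0, h1, res_app, res_structure, map_one] at h2
      have hd := disjoint_of_one_eq_zero _ _ h2
      rw [support_pow_succ] at hd
      obtain ⟨y, hyS, hyt'⟩ := hnt'
      have hyW : y ∈ (W₂ : Set V) := fun hy' => by
        have : y ∈ (J.support : Set V) ∩ (t ∩ t') := ⟨hyS, hy'.2, hyt'⟩
        rw [hcon] at this
        exact this
      exact Set.disjoint_left.mp hd hyW hyS

theorem isConnected_support_iff :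
    _root_.IsConnected (J.support : Set V) ↔ ConnectedSpace V :=
  ⟨connectedSpace_of_isConnected J hLef, fun h => by
    haveI := h
    exact isConnected_of_connectedSpace J hLef⟩


end Groth.Agent.Lib.helper11.LefConn
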