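import Mathlib
import Groth.Prelude.Def_ega3
import Groth.Agent.Lib.Helper2.TpArtinFlat
import Groth.Agent.S4490
import Groth.Agent.S17754

/-!
# helper11: cohomological flatness ⟺ the length formula (EGA III 7.8.4 (b) ⟺ (c), algebraic part)

`A` Noetherian local, `P` a chain complex of finite flat modules, `T_p(M) = H_p(P ⊗ M)`.  Then `T_p` is exact iff
`ℓ(T_p(A/𝔪^{n+1})) = ℓ(T_p(k)) · ℓ(A/𝔪^{n+1})` for all large `n`.
-/

set_option autoImplicit false
set_option linter.unusedSectionVars false
universe u
open CategoryTheory CategoryTheory.Limits TensorProduct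

namespace Groth.Agent.Lib.helper11.LengthFormula

open Groth.Agent.Lib.helper2.TpLib Groth.Agent.Lib.helper2.HalfExact

noncomputable section

variable {A : Type u} [CommRing A] [IsNoetherianRing A] [IsLocalRing A]

variable (A) in
/-- `A/𝔪^{n+1}` -/
abbrev An (n : ℕ) : ModuleCat.{u} A := ModuleCat.of A (A ⧸ IsLocalRing.maximalIdeal A ^ (n + 1))

variable (A) in
/-- `A/𝔪` -/
abbrev kk : ModuleCat.{u} A := ModuleCat.of A (A ⧸ IsLocalRing.maximalIdeal A)

variable (A) in
/-- the projection `A/𝔪^{n+1} → A/𝔪` -/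
abbrev gn (n : ℕ) : An A n ⟶ kk A :=
  ModuleCat.ofHom (Ideal.Quotient.factorₐ A
    (Ideal.pow_le_self (I := IsLocalRing.maximalIdeal A) (Nat.succ_ne_zero n))).toLinearMap

lemma gn_surjective (n : ℕ) : Function.Surjective (gn A n).hom :=
  Ideal.Quotient.factor_surjective
    (Ideal.pow_le_self (I := IsLocalRing.maximalIdeal A) (Nat.succ_ne_zero n))

lemma length_An_ne_top (n : ℕ) :
    Module.length A (A ⧸ IsLocalRing.maximalIdeal A ^ (n + 1)) ≠ ⊤ := by
  have := Groth.Agent.S17754.isArtinianRing_quotient_pow A (n + 1) (Nat.succ_ne_zero n)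
  rw [Module.length_eq_of_surjective (S := A) (R := A ⧸ IsLocalRing.maximalIdeal A ^ (n + 1))
    (M := A ⧸ IsLocalRing.maximalIdeal A ^ (n + 1)) Ideal.Quotient.mk_surjective]
  exact Module.length_ne_top

lemma length_kk : Module.length A (A ⧸ IsLocalRing.maximalIdeal A) = 1 := by
  rw [Module.length_eq_one_iff]
  exact isSimpleModule_iff_quot_maximal.mpr ⟨IsLocalRing.maximalIdeal A, inferInstance,
    ⟨LinearEquiv.refl _ _⟩⟩

variable (A) in
/-- `0 → 𝔪/𝔪^{n+1} → A/𝔪^{n+1} → A/𝔪 → 0` -/
def sesN (n : ℕ) : ShortComplex (ModuleCat.{u} A) :=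
  ShortComplex.mk (ModuleCat.ofHom (LinearMap.ker (gn A n).hom).subtype) (gn A n) (by
    ext x
    exact x.2)

lemma sesN_shortExact (n : ℕ) : (sesN A n).ShortExact := by
  apply ModuleCat.shortComplex_shortExact
  · exact LinearMap.exact_subtype_ker_map _
  · exact Subtype.val_injective
  · exact gn_surjective n

lemma kk_eq : kk A = ModuleCat.of A (IsLocalRing.ResidueField A) := rfl

variable (P : ChainComplex (ModuleCat.{u} A) ℤ)
  (hP : ∀ i, Module.Finite A (P.X i) ∧ Module.Flat A (P.X i))

include hP in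
/-- `T_p(k)` has finite length. -/
lemma length_T_kk_ne_top (p : ℤ) :
    Module.length A ((CohIII.TFun P p).obj (kk A)) ≠ ⊤ := by
  have := (hP p).1
  set K := CohIII.tensorObj P (kk A) with hK
  have h1 : Module.length A (K.X p) ≠ ⊤ := by
    show Module.length A (P.X p ⊗[A] (A ⧸ IsLocalRing.maximalIdeal A)) ≠ ⊤
    rw [(TensorProduct.comm A (P.X p) (A ⧸ IsLocalRing.maximalIdeal A)).length_eq,
      Module.length_eq_of_surjective (S := A) (R := A ⧸ IsLocalRing.maximalIdeal A)
        (M := (A ⧸ IsLocalRing.maximalIdeal A) ⊗[A] P.X p) Ideal.Quotient.mk_surjective]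
    let : Field (A ⧸ IsLocalRing.maximalIdeal A) := Ideal.Quotient.field _
    rw [Module.length_eq_finrank]
    exact ENat.natCast_ne_top _
  have h2 : Module.length A (K.cycles p) ≤ Module.length A (K.X p) :=
    Module.length_le_of_injective (K.iCycles p).hom
      ((ModuleCat.mono_iff_injective _).mp inferInstance)
  have h3 : Module.length A (K.homology p) ≤ Module.length A (K.cycles p) :=
    Module.length_le_of_surjective (K.homologyπ p).hom
      ((ModuleCat.epi_iff_surjective _).mp inferInstance)
  show Module.length A (K.homology p) ≠ ⊤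
  exact ne_top_of_le_ne_top h1 (h3.trans h2)

include hP in
/-- exactness gives the length formula (for every `n`). -/
theorem length_formula_of_exact (p : ℤ)
    (hm : (CohIII.TFun P p).PreservesMonomorphisms) (he : (CohIII.TFun P p).PreservesEpimorphisms)
    (n : ℕ) :
    Module.length A ((CohIII.TFun P p).obj (An A n)) =
      Module.length A ((CohIII.TFun P p).obj (ModuleCat.of A (IsLocalRing.ResidueField A))) *
        Module.length A (A ⧸ IsLocalRing.maximalIdeal A ^ (n + 1)) :=
  length_T_eq' P (fun i => (hP i).2) p hm he (An A n) (length_An_ne_top n)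

include hP in
/-- the length formula at one level `n` gives: `T_p(A/𝔪^{n+1}) → T_p(k)` and
`T_{p+1}(A/𝔪^{n+1}) → T_{p+1}(k)` are surjective. -/
theorem surjective_of_length_formula (p : ℤ) (n : ℕ)
    (h : Module.length A ((CohIII.TFun P p).obj (An A n)) =
      Module.length A ((CohIII.TFun P p).obj (ModuleCat.of A (IsLocalRing.ResidueField A))) *
        Module.length A (A ⧸ IsLocalRing.maximalIdeal A ^ (n + 1))) :
    Function.Surjective ((CohIII.TFun P p).map (gn A n)).hom ∧
      Function.Surjective ((CohIII.TFun P (p + 1)).map (gn A n)).hom := by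
  have hfl : ∀ i, Module.Flat A (P.X i) := fun i => (hP i).2
  set d := Module.length A ((CohIII.TFun P p).obj
    (ModuleCat.of A (IsLocalRing.ResidueField A))) with hd
  have hdfin : d ≠ ⊤ := length_T_kk_ne_top P hP p
  have hSE := sesN_shortExact (A := A) n
  have hex := F_exact (CohIII.TFun P p) (TFun_halfExact P hfl p) _ hSE
  have hK_fin : Module.length A (sesN A n).X₁ ≠ ⊤ := by
    have hle := Module.length_le_of_injective (sesN A n).f.hom hSE.moduleCat_injective_f
    exact ne_top_of_le_ne_top (length_An_ne_top n) hle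
  have hb := length_T_le' P hfl p (sesN A n).X₁ hK_fin
  have hlen : Module.length A (A ⧸ IsLocalRing.maximalIdeal A ^ (n + 1)) =
      Module.length A (sesN A n).X₁ + 1 := by
    have := Module.length_eq_add_of_exact (sesN A n).f.hom (sesN A n).g.hom
      hSE.moduleCat_injective_f hSE.moduleCat_surjective_g
      ((ShortComplex.ShortExact.moduleCat_exact_iff_function_exact _).mp hSE.exact)
    rw [← length_kk (A := A)]
    exact this
  have hTK_fin : Module.length A ((CohIII.TFun P p).obj (sesN A n).X₁) ≠ ⊤ := by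
    refine ne_top_of_le_ne_top ?_ hb
    exact WithTop.mul_ne_top hdfin hK_fin
  have heq : Module.length A ((CohIII.TFun P p).obj (sesN A n).X₂) =
      Module.length A ((CohIII.TFun P p).obj (sesN A n).X₁) +
        Module.length A ((CohIII.TFun P p).obj (sesN A n).X₃) := by
    apply le_antisymm (length_mid_le _ _ hex)
    have h' : Module.length A ((CohIII.TFun P p).obj (sesN A n).X₂) =
        d * Module.length A (A ⧸ IsLocalRing.maximalIdeal A ^ (n + 1)) := h
    rw [h', hlen, mul_add, mul_one]
    exact add_le_add hb le_rfl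
  obtain ⟨hi, hs⟩ := (length_mid_eq_iff _ _ hex hTK_fin hdfin).mp heq
  refine ⟨hs, ?_⟩
  have hmono : Mono ((CohIII.TFun P p).map (sesN A n).f) := (ModuleCat.mono_iff_injective _).mpr hi
  have hepi : Epi ((CohIII.TFun P (p + 1)).map (sesN A n).g) :=
    (epi_iff_mono P hfl (sesN A n) hSE (p + 1) p rfl).mpr hmono
  exact (ModuleCat.epi_iff_surjective _).mp hepi

include hP in
/-- **the length formula for all large `n` gives exactness of `T_p`.** -/
theorem exact_of_length_formula (p : ℤ)
    (h : ∃ n₀ : ℕ, ∀ n : ℕ, n₀ ≤ n →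
      Module.length A ((CohIII.TFun P p).obj (An A n)) =
        Module.length A ((CohIII.TFun P p).obj (ModuleCat.of A (IsLocalRing.ResidueField A))) *
          Module.length A (A ⧸ IsLocalRing.maximalIdeal A ^ (n + 1))) :
    (CohIII.TFun P p).PreservesMonomorphisms ∧ (CohIII.TFun P p).PreservesEpimorphisms := by
  have hfl : ∀ i, Module.Flat A (P.X i) := fun i => (hP i).2
  obtain ⟨n₀, hn₀⟩ := h
  have he : (CohIII.TFun P p).PreservesEpimorphisms :=
    (Groth.Agent.S4490.result P hP p).2.mpr
      ⟨n₀, fun n hn => (surjective_of_length_formula P hP p n (hn₀ n hn)).1⟩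
  have he' : (CohIII.TFun P (p + 1)).PreservesEpimorphisms :=
    (Groth.Agent.S4490.result P hP (p + 1)).2.mpr
      ⟨n₀, fun n hn => (surjective_of_length_formula P hP p n (hn₀ n hn)).2⟩
  exact ⟨(preservesMono_iff_preservesEpi P hfl (p + 1) p rfl).mpr he', he⟩

end

end Groth.Agent.Lib.helper11.LengthFormula
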