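import Mathlib

/-!
# Spreading out a closed subset avoiding a fibre (helper11)

Tools for S9224 (EGA IV 8.?): sections over affine opens of a fibre product are sums of products,
the vanishing ideal of a closed set avoiding a fibre, etc.
-/

universe u

open CategoryTheory CategoryTheory.Limits AlgebraicGeometry TensorProduct

namespace Groth.Agent.Lib.helper11.LfpNhd

section Alg

/-- `x` is a finite sum of products `φ a * ψ p` with `p ∈ I`. -/
def IsSumProd {A C G : Type*} [CommRing A] [CommRing C] [CommRing G] (φ : A →+* G) (ψ : C →+* G)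
    (I : Ideal C) (x : G) : Prop :=
  ∃ (J : Type) (_ : Fintype J) (a : J → A) (p : J → C), (∀ j, p j ∈ I) ∧
    x = ∑ j, φ (a j) * ψ (p j)

variable {A C G : Type*} [CommRing A] [CommRing C] [CommRing G] {φ : A →+* G} {ψ : C →+* G}
  {I : Ideal C}

theorem IsSumProd.zero : IsSumProd φ ψ I 0 :=
  ⟨PEmpty, inferInstance, PEmpty.elim, PEmpty.elim, fun j => j.elim, by simp⟩

theorem IsSumProd.single (a : A) {p : C} (hp : p ∈ I) : IsSumProd φ ψ I (φ a * ψ p) :=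
  ⟨Unit, inferInstance, fun _ => a, fun _ => p, fun _ => hp, by simp⟩

theorem IsSumProd.add {x y : G} (hx : IsSumProd φ ψ I x) (hy : IsSumProd φ ψ I y) :
    IsSumProd φ ψ I (x + y) := by
  obtain ⟨J, _, a, p, hp, rfl⟩ := hx
  obtain ⟨J', _, a', p', hp', rfl⟩ := hy
  refine ⟨J ⊕ J', inferInstance, Sum.elim a a', Sum.elim p p', ?_, ?_⟩
  · rintro (j | j)
    · exact hp j
    · exact hp' j
  · rw [Fintype.sum_sum_type]
    rfl

theorem IsSumProd.mul {x y : G} (hx : IsSumProd φ ψ ⊤ x) (hy : IsSumProd φ ψ I y) :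
    IsSumProd φ ψ I (x * y) := by
  obtain ⟨J, _, a, p, -, rfl⟩ := hx
  obtain ⟨J', _, a', p', hp', rfl⟩ := hy
  refine ⟨J × J', inferInstance, fun q => a q.1 * a' q.2, fun q => p q.1 * p' q.2,
    fun q => I.mul_mem_left _ (hp' q.2), ?_⟩
  rw [Finset.sum_mul_sum, Fintype.sum_prod_type]
  refine Finset.sum_congr rfl fun j _ => Finset.sum_congr rfl fun j' _ => ?_
  simp only [map_mul]
  ring

/-- If every element of `G` is a sum of products, every element of the extension of `I` to `G` is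
a sum of products with second factors in `I`. -/
theorem isSumProd_of_mem_map (hall : ∀ x : G, IsSumProd φ ψ ⊤ x) {x : G} (hx : x ∈ I.map ψ) :
    IsSumProd φ ψ I x := by
  unfold Ideal.map at hx
  induction hx using Submodule.span_induction with
  | mem x hx =>
    obtain ⟨p, hp, rfl⟩ := hx
    have := IsSumProd.single (φ := φ) (ψ := ψ) (1 : A) hp
    rwa [map_one, one_mul] at this
  | zero => exact IsSumProd.zero
  | add x y _ _ hx hy => exact hx.add hy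
  | smul r x _ hx => exact (hall r).mul hx

end Alg

section Pushout

/-- Elements of a pushout of commutative rings are sums of products. -/
theorem isSumProd_pushout {R A C : CommRingCat.{u}} (a : R ⟶ A) (c : R ⟶ C) (x : (pushout a c : CommRingCat)) :
    IsSumProd (pushout.inl a c).hom (pushout.inr a c).hom ⊤ x := by
  algebraize [a.hom, c.hom]
  have hP := CommRingCat.isPushout_tensorProduct R A C
  have hl : ∀ y : A, hP.isoPushout.hom.hom (y ⊗ₜ[R] (1 : C)) = (pushout.inl a c).hom y := fun y =>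
    congr($(hP.inl_isoPushout_hom).hom y)
  have hr : ∀ y : C, hP.isoPushout.hom.hom ((1 : A) ⊗ₜ[R] y) = (pushout.inr a c).hom y := fun y =>
    congr($(hP.inr_isoPushout_hom).hom y)
  have hsurj : Function.Surjective hP.isoPushout.hom.hom :=
    (ConcreteCategory.bijective_of_isIso hP.isoPushout.hom).2
  obtain ⟨y, rfl⟩ := hsurj x
  induction y using TensorProduct.induction_on with
  | zero => rw [map_zero]; exact IsSumProd.zero
  | tmul y z =>
    have : y ⊗ₜ[R] z = (y ⊗ₜ[R] (1 : C)) * ((1 : A) ⊗ₜ[R] z) := by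
      rw [Algebra.TensorProduct.tmul_mul_tmul, mul_one, one_mul]
    rw [this, map_mul, hl, hr]
    exact IsSumProd.single y Submodule.mem_top
  | add y z hy hz => rw [map_add]; exact hy.add hz

end Pushout

section Geo

theorem le_fst {X Y T : Scheme.{u}} {g : Y ⟶ X} {iY : Y ⟶ T} {UT : T.Opens} {UX : X.Opens}
    {UY : Y.Opens} (hUY : UY = g ⁻¹ᵁ UX ⊓ iY ⁻¹ᵁ UT) : UY ≤ g ⁻¹ᵁ UX := by simp [hUY]

theorem le_snd {X Y T : Scheme.{u}} {g : Y ⟶ X} {iY : Y ⟶ T} {UT : T.Opens} {UX : X.Opens}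
    {UY : Y.Opens} (hUY : UY = g ⁻¹ᵁ UX ⊓ iY ⁻¹ᵁ UT) : UY ≤ iY ⁻¹ᵁ UT := by simp [hUY]

variable {X Y S T : Scheme.{u}} {f : T ⟶ S} {g : Y ⟶ X} {iX : X ⟶ S} {iY : Y ⟶ T}
  (H : IsPullback g iY iX f)
  {US : S.Opens} {UT : T.Opens}
  {UX : X.Opens} (hUST : UT ≤ f ⁻¹ᵁ US) (hUSX : UX ≤ iX ⁻¹ᵁ US)
  {UY : Y.Opens} (hUY : UY = g ⁻¹ᵁ UX ⊓ iY ⁻¹ᵁ UT)

include H hUST hUSX hUY

theorem isAffineOpen_of_isPullback (hUS : IsAffineOpen US) (hUT : IsAffineOpen UT)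
    (hUX : IsAffineOpen UX) : IsAffineOpen UY := by
  have : IsAffine _ := hUS
  have : IsAffine _ := hUT
  have : IsAffine _ := hUX
  exact .of_isIso (Scheme.Hom.isPullback_resLE H hUST hUSX hUY).isoPullback.hom

theorem isSumProd_section (hUS : IsAffineOpen US) (hUT : IsAffineOpen UT)
    (hUX : IsAffineOpen UX) (x : Γ(Y, UY)) :
    IsSumProd (g.appLE UX UY (le_fst hUY)).hom (iY.appLE UT UY (le_snd hUY)).hom ⊤ x := by
  have hiso := isIso_pushoutSection_of_isAffineOpen H hUST hUSX hUY hUS hUT hUX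
  have hsurj : Function.Surjective (pushoutSection H hUST hUSX hUY).hom :=
    (ConcreteCategory.bijective_of_isIso (pushoutSection H hUST hUSX hUY)).2
  obtain ⟨y, rfl⟩ := hsurj x
  obtain ⟨J, _, a, p, hp, rfl⟩ := isSumProd_pushout _ _ y
  refine ⟨J, inferInstance, a, p, hp, ?_⟩
  rw [map_sum]
  refine Finset.sum_congr rfl fun j _ => ?_
  rw [map_mul]
  have hl : pushout.inl _ _ ≫ pushoutSection H hUST hUSX hUY = g.appLE UX UY (le_fst hUY) :=
    pushout.inl_desc _ _ _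
  have hr : pushout.inr _ _ ≫ pushoutSection H hUST hUSX hUY = iY.appLE UT UY (le_snd hUY) :=
    pushout.inr_desc _ _ _
  congr 1
  · exact congr($(hl).hom (a j))
  · exact congr($(hr).hom (p j))

end Geo

/-- membership in a basic open of an affine open, in terms of prime ideals. -/
theorem mem_basicOpen_iff_notMem_primeIdealOf {W : Scheme.{u}} {U : W.Opens} (hU : IsAffineOpen U)
    (s : Γ(W, U)) (y : W) (hy : y ∈ U) :
    y ∈ W.basicOpen s ↔ s ∉ (hU.primeIdealOf ⟨y, hy⟩).asIdeal := by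
  have h1 : hU.fromSpec (hU.primeIdealOf ⟨y, hy⟩) = y := hU.fromSpec_primeIdealOf ⟨y, hy⟩
  have h2 := hU.fromSpec_preimage_basicOpen s
  constructor
  · intro h
    have : hU.primeIdealOf ⟨y, hy⟩ ∈ hU.fromSpec ⁻¹ᵁ W.basicOpen s := by
      change hU.fromSpec (hU.primeIdealOf ⟨y, hy⟩) ∈ W.basicOpen s
      rwa [h1]
    rw [h2] at this
    exact this
  · intro h
    have : hU.primeIdealOf ⟨y, hy⟩ ∈ hU.fromSpec ⁻¹ᵁ W.basicOpen s := by
      rw [h2]
      exact h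
    have h3 : hU.fromSpec (hU.primeIdealOf ⟨y, hy⟩) ∈ W.basicOpen s := this
    rwa [h1] at h3

section Geo2

variable {X Y S T : Scheme.{u}} {f : T ⟶ S} {g : Y ⟶ X} {iX : X ⟶ S} {iY : Y ⟶ T}
  (H : IsPullback g iY iX f)
  {US : S.Opens} {UT : T.Opens}
  {UX : X.Opens} (hUST : UT ≤ f ⁻¹ᵁ US) (hUSX : UX ≤ iX ⁻¹ᵁ US)
  {UY : Y.Opens} (hUY : UY = g ⁻¹ᵁ UX ⊓ iY ⁻¹ᵁ UT)

include H hUST hUSX in
/-- **K1.** A closed subset `Z` of `X ×_S T` avoiding the fibre over `t`: on an affine chart there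
are `h` not vanishing at `t` and `p_j` vanishing at `t` with `ψ h - ∑ φ a_j * ψ p_j` vanishing on
`Z`. -/
theorem exists_vanishing_section (hUS : IsAffineOpen US) (hUT : IsAffineOpen UT)
    (hUX : IsAffineOpen UX) (t : T) (ht : t ∈ UT) (Z : Set Y) (hZ : IsClosed Z)
    (hZt : ∀ z ∈ Z, iY.base z ≠ t) :
    ∃ (h : Γ(T, UT)) (J : Type) (_ : Fintype J) (a : J → Γ(X, UX)) (p : J → Γ(T, UT)),
      h ∉ (hUT.primeIdealOf ⟨t, ht⟩).asIdeal ∧
      (∀ j, p j ∈ (hUT.primeIdealOf ⟨t, ht⟩).asIdeal) ∧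
      ∀ y ∈ Z, y ∉ Y.basicOpen ((iY.appLE UT UY (le_snd hUY)).hom h -
        ∑ j, (g.appLE UX UY (le_fst hUY)).hom (a j) * (iY.appLE UT UY (le_snd hUY)).hom (p j)) := by
  classical
  have hUYa : IsAffineOpen UY := isAffineOpen_of_isPullback H hUST hUSX hUY hUS hUT hUX
  set φ := (g.appLE UX UY (le_fst hUY)).hom with hφ
  set ψ := (iY.appLE UT UY (le_snd hUY)).hom with hψ
  set 𝔭 := (hUT.primeIdealOf ⟨t, ht⟩).asIdeal with h𝔭
  set Z' : Set (PrimeSpectrum Γ(Y, UY)) := hUYa.fromSpec ⁻¹' Z with hZ'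
  have hZ'c : IsClosed Z' := hZ.preimage hUYa.fromSpec.continuous
  set 𝔞 := PrimeSpectrum.vanishingIdeal Z' with h𝔞
  have key : ∃ h : Γ(T, UT), h ∉ 𝔭 ∧ ψ h ∈ 𝔞 ⊔ 𝔭.map ψ := by
    by_contra hcon
    push_neg at hcon
    have hdisj : Disjoint ((𝔞 ⊔ 𝔭.map ψ : Ideal Γ(Y, UY)) : Set Γ(Y, UY))
        ((𝔭.primeCompl.map ψ : Submonoid Γ(Y, UY)) : Set Γ(Y, UY)) := by
      rw [Set.disjoint_left]
      rintro x hx ⟨h, hh, rfl⟩
      exact hcon h hh hx
    obtain ⟨𝔮, h𝔮p, h𝔮le, h𝔮d⟩ := Ideal.exists_le_prime_disjoint _ _ hdisj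
    let q : PrimeSpectrum Γ(Y, UY) := ⟨𝔮, h𝔮p⟩
    have hqZ : q ∈ Z' := by
      rw [← hZ'c.closure_eq, ← PrimeSpectrum.zeroLocus_vanishingIdeal_eq_closure]
      exact fun x hx => h𝔮le (Ideal.mem_sup_left hx)
    have hcomap : q.asIdeal.comap ψ = 𝔭 := by
      apply le_antisymm
      · intro x hx
        by_contra hx𝔭
        exact Set.disjoint_left.mp h𝔮d hx ⟨x, hx𝔭, rfl⟩
      · intro x hx
        exact h𝔮le (Ideal.mem_sup_right (Ideal.mem_map_of_mem ψ hx))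
    have hpt : iY.base (hUYa.fromSpec.base q) = t := by
      have h1 := congr($(IsAffineOpen.SpecMap_appLE_fromSpec iY hUT hUYa (le_snd hUY)).base q)
      rw [Scheme.Hom.comp_base, Scheme.Hom.comp_base] at h1
      change hUT.fromSpec.base ((Spec.map (iY.appLE UT UY (le_snd hUY))).base q) =
        iY.base (hUYa.fromSpec.base q) at h1
      rw [← h1]
      have h2 : (Spec.map (iY.appLE UT UY (le_snd hUY))).base q = hUT.primeIdealOf ⟨t, ht⟩ :=
        PrimeSpectrum.ext hcomap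
      rw [h2]
      exact hUT.fromSpec_primeIdealOf ⟨t, ht⟩
    exact hZt _ hqZ hpt
  obtain ⟨h, hh, hψh⟩ := key
  obtain ⟨α, hα, β, hβ, hαβ⟩ := Submodule.mem_sup.mp hψh
  obtain ⟨J, hJ, a, p, hp, hβe⟩ := isSumProd_of_mem_map (φ := φ)
    (isSumProd_section H hUST hUSX hUY hUS hUT hUX) hβ
  refine ⟨h, J, hJ, a, p, hh, hp, ?_⟩
  intro y hyZ hy
  have hαe : ψ h - ∑ j, φ (a j) * ψ (p j) = α := by
    rw [← hβe, ← hαβ]; ring
  rw [hαe] at hy
  have hyU : y ∈ UY := Y.basicOpen_le α hy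
  have hq := (mem_basicOpen_iff_notMem_primeIdealOf hUYa α y hyU).mp hy
  apply hq
  have hqZ : hUYa.primeIdealOf ⟨y, hyU⟩ ∈ Z' := by
    change hUYa.fromSpec (hUYa.primeIdealOf ⟨y, hyU⟩) ∈ Z
    rw [hUYa.fromSpec_primeIdealOf ⟨y, hyU⟩]
    exact hyZ
  exact (PrimeSpectrum.mem_vanishingIdeal _ _).mp hα _ hqZ

end Geo2

section Geo3

variable {X Y S T : Scheme.{u}} {f : T ⟶ S} {g : Y ⟶ X} {iX : X ⟶ S} {iY : Y ⟶ T}
  (H : IsPullback g iY iX f)
  {US : S.Opens} {UT : T.Opens}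
  {UX : X.Opens} (hUST : UT ≤ f ⁻¹ᵁ US) (hUSX : UX ≤ iX ⁻¹ᵁ US)
  {UY : Y.Opens} (hUY : UY = g ⁻¹ᵁ UX ⊓ iY ⁻¹ᵁ UT)

include H hUST hUSX in
/-- **K2.** If `h` does not vanish at `iY y` and the `p_j` vanish there, then
`ψ h - ∑ φ a_j * ψ p_j` does not vanish at `y`. -/
theorem mem_basicOpen_of_fibre (hUS : IsAffineOpen US) (hUT : IsAffineOpen UT)
    (hUX : IsAffineOpen UX) (y : Y) (hyU : y ∈ UY)
    (h : Γ(T, UT)) {J : Type} [Fintype J] (a : J → Γ(X, UX)) (p : J → Γ(T, UT))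
    (hh : h ∉ (hUT.primeIdealOf ⟨iY.base y, le_snd hUY hyU⟩).asIdeal)
    (hp : ∀ j, p j ∈ (hUT.primeIdealOf ⟨iY.base y, le_snd hUY hyU⟩).asIdeal) :
    y ∈ Y.basicOpen ((iY.appLE UT UY (le_snd hUY)).hom h -
        ∑ j, (g.appLE UX UY (le_fst hUY)).hom (a j) * (iY.appLE UT UY (le_snd hUY)).hom (p j)) := by
  have hUYa : IsAffineOpen UY := isAffineOpen_of_isPullback H hUST hUSX hUY hUS hUT hUX
  rw [mem_basicOpen_iff_notMem_primeIdealOf hUYa _ y hyU]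
  have hcomap := IsAffineOpen.comap_primeIdealOf_appLE (f := iY) UT hUT UY hUYa (le_snd hUY) hyU
  set ψ := (iY.appLE UT UY (le_snd hUY)).hom with hψ
  set q := hUYa.primeIdealOf ⟨y, hyU⟩ with hq
  have hmem : ∀ c : Γ(T, UT), ψ c ∈ q.asIdeal ↔
      c ∈ (hUT.primeIdealOf ⟨iY.base y, le_snd hUY hyU⟩).asIdeal := by
    intro c
    rw [← hcomap]
    rfl
  intro hcon
  apply hh
  rw [← hmem]
  have hsum : ∑ j, (g.appLE UX UY (le_fst hUY)).hom (a j) * ψ (p j) ∈ q.asIdeal :=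
    Ideal.sum_mem _ fun j _ => Ideal.mul_mem_left _ _ ((hmem (p j)).mpr (hp j))
  have := Ideal.add_mem _ hcon hsum
  rwa [sub_add_cancel] at this

end Geo3

section Geo4

theorem appLE_eq_of_eq {X Y : Scheme.{u}} {f f' : X ⟶ Y} (h : f = f') (U : Y.Opens) (V : X.Opens)
    (e : V ≤ f ⁻¹ᵁ U) : f.appLE U V e = f'.appLE U V (h ▸ e) := by
  subst h; rfl

/-- **K3.** Compatibility of the two sections `ψ h - ∑ φ c_k * ψ p_k` on `Y` and
`ψ' h' - ∑ φ' c_k * ψ' p'_k` on `Y'` along `n : P ⟶ Y`, `m : P ⟶ Y'`. -/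
theorem mem_basicOpen_of_mem_basicOpen
    {X Y Y' T T' P V' : Scheme.{u}} {g : Y ⟶ X} {iY : Y ⟶ T} {g' : Y' ⟶ X} {iY' : Y' ⟶ T'}
    {n : P ⟶ Y} {m : P ⟶ Y'} {fstP : P ⟶ X} {sndP : P ⟶ V'} {j : V' ⟶ T} {a : V' ⟶ T'}
    (hn1 : n ≫ g = fstP) (hn2 : n ≫ iY = sndP ≫ j) (hm1 : m ≫ g' = fstP)
    (hm2 : m ≫ iY' = sndP ≫ a)
    {UX : X.Opens} {UT : T.Opens} {UT' : T'.Opens} {UV' : V'.Opens}
    (hj : UV' ≤ j ⁻¹ᵁ UT) (ha : UV' ≤ a ⁻¹ᵁ UT')
    {UY : Y.Opens} (hUY : UY = g ⁻¹ᵁ UX ⊓ iY ⁻¹ᵁ UT)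
    {UY' : Y'.Opens} (hUY' : UY' = g' ⁻¹ᵁ UX ⊓ iY' ⁻¹ᵁ UT')
    (h : Γ(T, UT)) (h' : Γ(T', UT'))
    (hh : (j.appLE UT UV' hj).hom h = (a.appLE UT' UV' ha).hom h')
    {J : Type} [Fintype J] (c : J → Γ(X, UX)) (p : J → Γ(T, UT)) (p' : J → Γ(T', UT'))
    (hp : ∀ k, (j.appLE UT UV' hj).hom (p k) = (a.appLE UT' UV' ha).hom (p' k))
    (z : P) (hz1 : fstP.base z ∈ UX) (hz2 : sndP.base z ∈ UV')
    (hmz : m.base z ∈ Y'.basicOpen ((iY'.appLE UT' UY' (le_snd hUY')).hom h' -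
        ∑ k, (g'.appLE UX UY' (le_fst hUY')).hom (c k) *
          (iY'.appLE UT' UY' (le_snd hUY')).hom (p' k))) :
    n.base z ∈ Y.basicOpen ((iY.appLE UT UY (le_snd hUY)).hom h -
        ∑ k, (g.appLE UX UY (le_fst hUY)).hom (c k) * (iY.appLE UT UY (le_snd hUY)).hom (p k)) := by
  set UP : P.Opens := fstP ⁻¹ᵁ UX ⊓ sndP ⁻¹ᵁ UV' with hUP
  have hzP : z ∈ UP := ⟨hz1, hz2⟩
  have hP1 : UP ≤ fstP ⁻¹ᵁ UX := inf_le_left
  have hP2 : UP ≤ sndP ⁻¹ᵁ UV' := inf_le_right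
  have hnU : UP ≤ n ⁻¹ᵁ UY := by
    intro w hw
    rw [hUY]
    refine ⟨?_, ?_⟩
    · change g.base (n.base w) ∈ UX
      have : g.base (n.base w) = fstP.base w := congr($(hn1).base w)
      rw [this]; exact hw.1
    · change iY.base (n.base w) ∈ UT
      have : iY.base (n.base w) = j.base (sndP.base w) := congr($(hn2).base w)
      rw [this]; exact hj hw.2
  have hmU : UP ≤ m ⁻¹ᵁ UY' := by
    intro w hw
    rw [hUY']
    refine ⟨?_, ?_⟩
    · change g'.base (m.base w) ∈ UX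
      have : g'.base (m.base w) = fstP.base w := congr($(hm1).base w)
      rw [this]; exact hw.1
    · change iY'.base (m.base w) ∈ UT'
      have : iY'.base (m.base w) = a.base (sndP.base w) := congr($(hm2).base w)
      rw [this]; exact ha hw.2
  set ρ := n.appLE UY UP hnU with hρ
  set ρ' := m.appLE UY' UP hmU with hρ'
  have e1 : ∀ x : Γ(X, UX), ρ.hom ((g.appLE UX UY (le_fst hUY)).hom x) =
      ρ'.hom ((g'.appLE UX UY' (le_fst hUY')).hom x) := by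
    intro x
    have h1 : g.appLE UX UY (le_fst hUY) ≫ ρ = fstP.appLE UX UP hP1 := by
      rw [hρ, Scheme.Hom.appLE_comp_appLE, appLE_eq_of_eq hn1]
    have h2 : g'.appLE UX UY' (le_fst hUY') ≫ ρ' = fstP.appLE UX UP hP1 := by
      rw [hρ', Scheme.Hom.appLE_comp_appLE, appLE_eq_of_eq hm1]
    exact (congr($(h1).hom x)).trans (congr($(h2).hom x)).symm
  have e2 : ∀ (x : Γ(T, UT)) (x' : Γ(T', UT')),
      (j.appLE UT UV' hj).hom x = (a.appLE UT' UV' ha).hom x' →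
      ρ.hom ((iY.appLE UT UY (le_snd hUY)).hom x) =
        ρ'.hom ((iY'.appLE UT' UY' (le_snd hUY')).hom x') := by
    intro x x' hxx
    have h1 : iY.appLE UT UY (le_snd hUY) ≫ ρ = j.appLE UT UV' hj ≫ sndP.appLE UV' UP hP2 := by
      rw [hρ, Scheme.Hom.appLE_comp_appLE, Scheme.Hom.appLE_comp_appLE, appLE_eq_of_eq hn2]
    have h2 : iY'.appLE UT' UY' (le_snd hUY') ≫ ρ' =
        a.appLE UT' UV' ha ≫ sndP.appLE UV' UP hP2 := by
      rw [hρ', Scheme.Hom.appLE_comp_appLE, Scheme.Hom.appLE_comp_appLE, appLE_eq_of_eq hm2]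
    have h3 := congr($(h1).hom x)
    have h4 := congr($(h2).hom x')
    rw [CommRingCat.hom_comp, RingHom.comp_apply, CommRingCat.hom_comp, RingHom.comp_apply] at h3 h4
    rw [h3, h4, hxx]
  set α := (iY.appLE UT UY (le_snd hUY)).hom h -
        ∑ k, (g.appLE UX UY (le_fst hUY)).hom (c k) * (iY.appLE UT UY (le_snd hUY)).hom (p k)
    with hα
  set α' := (iY'.appLE UT' UY' (le_snd hUY')).hom h' -
        ∑ k, (g'.appLE UX UY' (le_fst hUY')).hom (c k) *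
          (iY'.appLE UT' UY' (le_snd hUY')).hom (p' k) with hα'
  have e3 : ρ.hom α = ρ'.hom α' := by
    rw [hα, hα', map_sub, map_sub, map_sum, map_sum, e2 h h' hh]
    congr 1
    refine Finset.sum_congr rfl fun k _ => ?_
    rw [map_mul, map_mul, e1, e2 _ _ (hp k)]
  have h5 : z ∈ P.basicOpen (ρ'.hom α') := by
    have := Scheme.basicOpen_appLE m UP UY' hmU α'
    change P.basicOpen (ρ'.hom α') = _ at this
    rw [this]
    exact ⟨hzP, hmz⟩
  rw [← e3] at h5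
  have := Scheme.basicOpen_appLE n UP UY hnU α
  change P.basicOpen (ρ.hom α) = _ at this
  rw [this] at h5
  exact h5.2

end Geo4

end Groth.Agent.Lib.helper11.LfpNhd
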