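import Mathlib
import Groth.Agent.Lib.Helper11.LfpNhd

/-!
# S9224: spreading out a closed subset avoiding a fibre (helper11)
-/

universe u

open CategoryTheory CategoryTheory.Limits AlgebraicGeometry TensorProduct

namespace Groth.Agent.Lib.helper11.LfpNhd

set_option maxHeartbeats 1600000 in
theorem main {X S T : Scheme.{u}} (f : X ⟶ S) [QuasiCompact f] (g : T ⟶ S) (t : T)
    (Z : Set ↥(pullback f g)) (hZ : IsClosed Z)
    (hZt : ∀ z ∈ Z, (pullback.snd f g).base z ≠ t) :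
    ∃ (V : T.Opens) (ht : t ∈ V) (T' : Scheme.{u}) (b : T' ⟶ S) (a : (V : Scheme.{u}) ⟶ T')
      (n : pullback f (V.ι ≫ g) ⟶ pullback f g) (m : pullback f (V.ι ≫ g) ⟶ pullback f b)
      (Z' : Set ↥(pullback f b)),
      IsAffineOpen V ∧ IsAffine T' ∧ LocallyOfFinitePresentation b ∧ a ≫ b = V.ι ≫ g ∧
      n ≫ pullback.fst f g = pullback.fst f (V.ι ≫ g) ∧
      n ≫ pullback.snd f g = pullback.snd f (V.ι ≫ g) ≫ V.ι ∧
      m ≫ pullback.fst f b = pullback.fst f (V.ι ≫ g) ∧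
      m ≫ pullback.snd f b = pullback.snd f (V.ι ≫ g) ≫ a ∧
      IsClosed Z' ∧ (∀ z' ∈ Z', (pullback.snd f b).base z' ≠ a.base ⟨t, ht⟩) ∧
      ∀ z : ↥(pullback f (V.ι ≫ g)), n.base z ∈ Z → m.base z ∈ Z' := by
  classical
  -- affine opens
  obtain ⟨_, ⟨US, hUS : IsAffineOpen US, rfl⟩, hgt, -⟩ :=
    S.isBasis_affineOpens.exists_subset_of_mem_open (Set.mem_univ (g.base t)) isOpen_univ
  obtain ⟨V, hV, htV, hVUS⟩ : ∃ V : T.Opens, IsAffineOpen V ∧ t ∈ V ∧ V ≤ g ⁻¹ᵁ US := by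
    obtain ⟨_, ⟨V, hV : IsAffineOpen V, rfl⟩, htV, hVUS'⟩ :=
      T.isBasis_affineOpens.exists_subset_of_mem_open (show t ∈ (g ⁻¹ᵁ US : Set T) from hgt)
        (g ⁻¹ᵁ US).isOpen
    exact ⟨V, hV, htV, hVUS'⟩
  -- finite affine cover of `f ⁻¹ US`
  obtain ⟨s, hs, hsU⟩ := isCompact_iff_finite_and_eq_biUnion_affineOpens.mp
    (f.isCompact_preimage hUS.isCompact)
  haveI : Finite s := hs.to_subtype
  haveI : Fintype s := Fintype.ofFinite s
  let UX : s → X.Opens := fun i => (i : X.affineOpens).1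
  have hUX : ∀ i, IsAffineOpen (UX i) := fun i => (i : X.affineOpens).2
  have hUXle : ∀ i, UX i ≤ f ⁻¹ᵁ US := fun i => by
    rw [hsU]
    exact le_iSup₂ (f := fun (j : X.affineOpens) (_ : j ∈ s) => (j : X.Opens)) i.1 i.2
  have hcov : ∀ x : X, f.base x ∈ US → ∃ i, x ∈ UX i := by
    intro x hx
    have : x ∈ f ⁻¹ᵁ US := hx
    rw [hsU] at this
    simp only [TopologicalSpace.Opens.mem_iSup] at this
    obtain ⟨j, hj, hxj⟩ := this
    exact ⟨⟨j, hj⟩, hxj⟩
  -- the chart-wise vanishing sections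
  have H : IsPullback (pullback.fst f g) (pullback.snd f g) f g := IsPullback.of_hasPullback f g
  let UY : s → (pullback f g).Opens := fun i =>
    (pullback.fst f g) ⁻¹ᵁ UX i ⊓ (pullback.snd f g) ⁻¹ᵁ V
  have hUYdef : ∀ i, UY i = (pullback.fst f g) ⁻¹ᵁ UX i ⊓ (pullback.snd f g) ⁻¹ᵁ V := fun i => rfl
  have K1 := fun i => exists_vanishing_section H hVUS (hUXle i) (hUYdef i) hUS hV (hUX i) t htV Z
    hZ hZt
  choose h J hJ c p hh hp hvan using K1
  letI : ∀ i, Fintype (J i) := hJ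
  -- the polynomial ring
  let R : CommRingCat.{u} := Γ(S, US)
  let σ : Type u := Σ i : s, Option (J i)
  let yv : σ → Γ(T, V) := fun x => x.2.elim (h x.1) (p x.1)
  let ev : MvPolynomial σ R →+* Γ(T, V) := MvPolynomial.eval₂Hom (g.appLE US V hVUS).hom yv
  have hevC : ev.comp MvPolynomial.C = (g.appLE US V hVUS).hom := by
    ext r
    simp [ev]
  have hevX : ∀ x : σ, ev (MvPolynomial.X x) = yv x := fun x => by simp [ev]
  let T' : Scheme.{u} := Spec (CommRingCat.of (MvPolynomial σ R))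
  let b : T' ⟶ S := Spec.map (CommRingCat.ofHom (MvPolynomial.C (σ := σ) (R := R))) ≫ hUS.fromSpec
  let a : (V : Scheme.{u}) ⟶ T' := hV.isoSpec.hom ≫ Spec.map (CommRingCat.ofHom ev)
  have hab : a ≫ b = V.ι ≫ g := by
    simp only [a, b, Category.assoc]
    rw [← Spec.map_comp_assoc, ← CommRingCat.ofHom_comp, hevC, CommRingCat.ofHom_hom,
      IsAffineOpen.SpecMap_appLE_fromSpec g hUS hV hVUS, ← Category.assoc,
      hV.isoSpec_hom_fromSpec]
  -- lifts of sections of `V` to `T'`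
  have hj : (⊤ : (V : Scheme.{u}).Opens) ≤ V.ι ⁻¹ᵁ V := by rw [Scheme.Opens.ι_preimage_self]
  have ha : (⊤ : (V : Scheme.{u}).Opens) ≤ a ⁻¹ᵁ ⊤ := le_of_eq rfl
  have KEY : ∀ x : MvPolynomial σ R, (V.ι.appLE V ⊤ hj).hom (ev x) =
      (a.appLE ⊤ ⊤ ha).hom ((Scheme.ΓSpecIso (CommRingCat.of (MvPolynomial σ R))).inv.hom x) := by
    intro x
    have h1 : V.ι.appLE V ⊤ hj = V.topIso.inv := by
      rw [Scheme.Opens.ι_appLE, Scheme.Opens.topIso_inv]
      congr 1
    have h2 : (Scheme.ΓSpecIso (CommRingCat.of (MvPolynomial σ R))).inv ≫ a.appLE ⊤ ⊤ ha =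
        CommRingCat.ofHom ev ≫ V.topIso.inv := by
      have : a.appLE ⊤ ⊤ ha = a.appTop := Scheme.Hom.appLE_eq_app _
      rw [this, Scheme.Hom.comp_appTop, ← Scheme.ΓSpecIso_inv_naturality_assoc,
        hV.isoSpec_hom_appTop, Iso.inv_hom_id_assoc]
    rw [h1]
    exact (congr($(h2).hom x)).symm
  let lift : MvPolynomial σ R → Γ(T', ⊤) := fun x =>
    (Scheme.ΓSpecIso (CommRingCat.of (MvPolynomial σ R))).inv.hom x
  have hpt : ∀ x : MvPolynomial σ R, (a.base ⟨t, htV⟩ ∈ T'.basicOpen (lift x) ↔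
      ev x ∉ (hV.primeIdealOf ⟨t, htV⟩).asIdeal) := by
    intro x
    rw [← mem_basicOpen_iff_notMem_primeIdealOf hV (ev x) t htV]
    have e1 := Scheme.basicOpen_appLE a ⊤ ⊤ ha (lift x)
    have e2 := Scheme.basicOpen_appLE V.ι ⊤ V hj (ev x)
    have e3 : (V : Scheme.{u}).basicOpen ((a.appLE ⊤ ⊤ ha).hom (lift x)) =
        (V : Scheme.{u}).basicOpen ((V.ι.appLE V ⊤ hj).hom (ev x)) := by rw [KEY x]
    change (V : Scheme.{u}).basicOpen ((a.appLE ⊤ ⊤ ha).hom (lift x)) = _ at e1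
    change (V : Scheme.{u}).basicOpen ((V.ι.appLE V ⊤ hj).hom (ev x)) = _ at e2
    rw [e1, e2] at e3
    have e4 : ((⟨t, htV⟩ : V) ∈ (⊤ : (V : Scheme.{u}).Opens) ⊓ a ⁻¹ᵁ T'.basicOpen (lift x)) ↔
        ((⟨t, htV⟩ : V) ∈ (⊤ : (V : Scheme.{u}).Opens) ⊓ V.ι ⁻¹ᵁ T.basicOpen (ev x)) := by rw [e3]
    constructor
    · intro hx
      exact (e4.mp ⟨trivial, hx⟩).2
    · intro hx
      exact (e4.mpr ⟨trivial, hx⟩).2
  -- the maps `n`, `m`
  let n : pullback f (V.ι ≫ g) ⟶ pullback f g :=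
    pullback.lift (pullback.fst f (V.ι ≫ g)) (pullback.snd f (V.ι ≫ g) ≫ V.ι)
      (by rw [pullback.condition, Category.assoc])
  let m : pullback f (V.ι ≫ g) ⟶ pullback f b :=
    pullback.lift (pullback.fst f (V.ι ≫ g)) (pullback.snd f (V.ι ≫ g) ≫ a)
      (by rw [pullback.condition, Category.assoc, hab])
  have hn1 : n ≫ pullback.fst f g = pullback.fst f (V.ι ≫ g) := pullback.lift_fst _ _ _
  have hn2 : n ≫ pullback.snd f g = pullback.snd f (V.ι ≫ g) ≫ V.ι := pullback.lift_snd _ _ _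
  have hm1 : m ≫ pullback.fst f b = pullback.fst f (V.ι ≫ g) := pullback.lift_fst _ _ _
  have hm2 : m ≫ pullback.snd f b = pullback.snd f (V.ι ≫ g) ≫ a := pullback.lift_snd _ _ _
  -- charts on `X ×_S T'`
  have H' : IsPullback (pullback.fst f b) (pullback.snd f b) f b := IsPullback.of_hasPullback f b
  have hbUS : (⊤ : T'.Opens) ≤ b ⁻¹ᵁ US := by
    intro x _
    change hUS.fromSpec.base ((Spec.map (CommRingCat.ofHom
      (MvPolynomial.C (σ := σ) (R := R)))).base x) ∈ (US : Set S)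
    rw [← hUS.range_fromSpec]
    exact Set.mem_range_self _
  let UY' : s → (pullback f b).Opens := fun i =>
    (pullback.fst f b) ⁻¹ᵁ UX i ⊓ (pullback.snd f b) ⁻¹ᵁ ⊤
  have hUY'def : ∀ i, UY' i = (pullback.fst f b) ⁻¹ᵁ UX i ⊓ (pullback.snd f b) ⁻¹ᵁ ⊤ :=
    fun i => rfl
  let h' : s → Γ(T', ⊤) := fun i => lift (MvPolynomial.X ⟨i, none⟩)
  let p' : ∀ i, J i → Γ(T', ⊤) := fun i k => lift (MvPolynomial.X ⟨i, some k⟩)
  let α' : ∀ i, Γ(pullback f b, UY' i) := fun i =>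
    ((pullback.snd f b).appLE ⊤ (UY' i) (le_snd (hUY'def i))).hom (h' i) -
      ∑ k, ((pullback.fst f b).appLE (UX i) (UY' i) (le_fst (hUY'def i))).hom (c i k) *
        ((pullback.snd f b).appLE ⊤ (UY' i) (le_snd (hUY'def i))).hom (p' i k)
  let Z' : Set ↥(pullback f b) := (⋃ i, ((pullback f b).basicOpen (α' i) : Set ↥(pullback f b)))ᶜ
  have hlfp : LocallyOfFinitePresentation b := by
    haveI : LocallyOfFinitePresentation
        (Spec.map (CommRingCat.ofHom (MvPolynomial.C (σ := σ) (R := R)))) := by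
      rw [HasRingHomProperty.Spec_iff (P := @LocallyOfFinitePresentation)]
      change (algebraMap R (MvPolynomial σ R)).FinitePresentation
      rw [RingHom.finitePresentation_algebraMap]
      infer_instance
    infer_instance
  refine ⟨V, htV, T', b, a, n, m, Z', hV, inferInstance, hlfp, hab, hn1, hn2, hm1, hm2, ?_, ?_, ?_⟩
  · exact (isOpen_iUnion fun i => ((pullback f b).basicOpen (α' i)).isOpen).isClosed_compl
  · intro z' hz' hsnd
    apply hz'
    have hfz : f.base ((pullback.fst f b).base z') ∈ US := by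
      have : f.base ((pullback.fst f b).base z') = b.base ((pullback.snd f b).base z') :=
        congr($(pullback.condition (f := f) (g := b)).base z')
      rw [this]
      exact hbUS trivial
    obtain ⟨i, hi⟩ := hcov _ hfz
    have hz'U : z' ∈ UY' i := ⟨hi, trivial⟩
    refine Set.mem_iUnion.mpr ⟨i, ?_⟩
    refine mem_basicOpen_of_fibre H' hbUS (hUXle i) (hUY'def i) hUS (isAffineOpen_top T') (hUX i)
      z' hz'U (h' i) (c i) (p' i) ?_ ?_
    · rw [← mem_basicOpen_iff_notMem_primeIdealOf (isAffineOpen_top T') (h' i) _ trivial, hsnd,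
        hpt, hevX]
      exact hh i
    · intro k
      by_contra hcon
      rw [← mem_basicOpen_iff_notMem_primeIdealOf (isAffineOpen_top T') (p' i k) _ trivial, hsnd,
        hpt, hevX] at hcon
      exact hcon (hp i k)
  · intro z hnz
    by_contra hmz
    simp only [Z', Set.mem_compl_iff, not_not, Set.mem_iUnion] at hmz
    obtain ⟨i, hi⟩ := hmz
    have hmzU : m.base z ∈ UY' i := (pullback f b).basicOpen_le (α' i) hi
    have hz1 : (pullback.fst f (V.ι ≫ g)).base z ∈ UX i := by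
      have : (pullback.fst f b).base (m.base z) = (pullback.fst f (V.ι ≫ g)).base z :=
        congr($(hm1).base z)
      rw [← this]
      exact hmzU.1
    refine hvan i (n.base z) hnz ?_
    refine mem_basicOpen_of_mem_basicOpen hn1 hn2 hm1 hm2 hj ha (hUYdef i) (hUY'def i)
      (h i) (h' i) ?_ (c i) (p i) (p' i) ?_ z hz1 trivial hi
    · rw [← KEY, hevX]
      rfl
    · intro k
      rw [← KEY, hevX]
      rfl

end Groth.Agent.Lib.helper11.LfpNhd
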