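import Groth.Agent.Lib.Helper11.QuasiReg2
import Groth.Agent.S11632

/-! Quasi-regular sequences in the Jacobson radical of a Noetherian ring are regular
(Matsumura 16.3) (helper11). -/

set_option autoImplicit false

universe u

namespace Groth.Agent.Lib.helper11.QuasiReg

open MvPolynomial
open scoped Pointwise

variable {B : Type u} [CommRing B]

/-- quasi-regularity relative to an ideal `K` (i.e. of the images in `B ⧸ K`) -/
def QRm {ι : Type*} (K : Ideal B) (g : ι → B) : Prop :=
  ∀ (n : ℕ) (P : MvPolynomial ι B), P.IsHomogeneous n →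
    MvPolynomial.eval g P ∈ K ⊔ Ideal.span (Set.range g) ^ (n + 1) →
      ∀ d : ι →₀ ℕ, P.coeff d ∈ K ⊔ Ideal.span (Set.range g)

lemma QRm_bot {ι : Type*} (g : ι → B) (h : QR g) : QRm ⊥ g := by
  intro n P hP hval d
  rw [bot_sup_eq] at hval ⊢
  exact h n P hP hval d

variable {c : ℕ}

/-- Lemma A -/
lemma QRm_step (K : Ideal B) (g : Fin (c + 1) → B) (hq : QRm K g) (j : ℕ)
    (H : MvPolynomial (Fin (c + 1)) B) (hH : H.IsHomogeneous j)
    (hval : g 0 * MvPolynomial.eval g H ∈ K ⊔ Ideal.span (Set.range g) ^ (j + 2)) :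
    MvPolynomial.eval g H ∈ K ⊔ Ideal.span (Set.range g) ^ (j + 1) := by
  have h1 : (X 0 * H).IsHomogeneous (j + 1) := by
    have := (isHomogeneous_X B (0 : Fin (c + 1))).mul hH
    have e : 1 + j = j + 1 := add_comm _ _
    exact e ▸ this
  have h2 : ∀ d, (X 0 * H).coeff d ∈ K ⊔ Ideal.span (Set.range g) := by
    apply hq (j + 1) _ h1
    rw [map_mul, eval_X]
    exact hval
  have h3 : ∀ d, H.coeff d ∈ K ⊔ Ideal.span (Set.range g) := by
    intro d
    have := h2 (Finsupp.single 0 1 + d)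
    rwa [coeff_X_mul] at this
  have h4 := eval_mem_mul g _ j H hH h3
  have h5 : (K ⊔ Ideal.span (Set.range g)) * Ideal.span (Set.range g) ^ j ≤
      K ⊔ Ideal.span (Set.range g) ^ (j + 1) := by
    rw [Ideal.sup_mul, ← pow_succ']
    exact sup_le_sup_right Ideal.mul_le_left _
  exact h5 h4

/-- Lemma B: colon ideals -/
lemma QRm_colon (K : Ideal B) (g : Fin (c + 1) → B) (hq : QRm K g) :
    ∀ (j : ℕ) (ω : B), g 0 * ω ∈ K ⊔ Ideal.span (Set.range g) ^ (j + 1) →
      ω ∈ K ⊔ Ideal.span (Set.range g) ^ j := by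
  intro j
  induction j with
  | zero => intro ω _; simp
  | succ j ih =>
    intro ω hω
    have h1 : ω ∈ K ⊔ Ideal.span (Set.range g) ^ j := by
      apply ih
      exact (sup_le_sup_left (Ideal.pow_le_pow_right (Nat.le_succ _)) K) hω
    obtain ⟨u, hu, v, hv, rfl⟩ := Submodule.mem_sup.1 h1
    obtain ⟨H, hH, rfl⟩ := (Ideal.mem_span_pow_iff_exists_isHomogeneous g v).1 hv
    have h2 : g 0 * MvPolynomial.eval g H ∈ K ⊔ Ideal.span (Set.range g) ^ (j + 2) := by
      have : g 0 * MvPolynomial.eval g H = g 0 * (u + MvPolynomial.eval g H) - g 0 * u := by ring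
      rw [this]
      exact Ideal.sub_mem _ hω (Ideal.mem_sup_left (Ideal.mul_mem_left _ _ hu))
    exact Ideal.add_mem _ (Ideal.mem_sup_left hu) (QRm_step K g hq j H hH h2)

/-- (1'): the first element is a nonzerodivisor modulo `K` -/
lemma QRm_regular [IsNoetherianRing B] (K : Ideal B) (g : Fin (c + 1) → B) (hq : QRm K g)
    (hrad : Ideal.span (Set.range g) ≤ (⊥ : Ideal B).jacobson) (b : B) (hb : g 0 * b ∈ K) :
    b ∈ K := by
  apply mem_of_forall_mem_sup_pow K _ hrad
  intro N
  exact QRm_colon K g hq N b (Ideal.mem_sup_left hb)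

/-- (2'): passing to the quotient by the first element -/
lemma QRm_tail (K : Ideal B) (g : Fin (c + 1) → B) (hq : QRm K g) :
    QRm (K ⊔ Ideal.span {g 0}) (fun i : Fin c => g i.succ) := by
  classical
  have hF1 : Ideal.span (Set.range g) =
      Ideal.span {g 0} ⊔ Ideal.span (Set.range fun i : Fin c => g i.succ) := by
    conv_lhs => rw [← Fin.cons_self_tail g, Fin.range_cons, Ideal.span_insert]
    rfl
  have hI'I : Ideal.span (Set.range fun i : Fin c => g i.succ) ≤ Ideal.span (Set.range g) := by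
    rw [hF1]; exact le_sup_right
  have hF2 : (K ⊔ Ideal.span {g 0}) ⊔ Ideal.span (Set.range fun i : Fin c => g i.succ) =
      K ⊔ Ideal.span (Set.range g) := by rw [hF1, sup_assoc]
  intro ν P' hP' hval d
  rw [hF2]
  rcases Nat.eq_zero_or_pos ν with rfl | hν
  · rw [zero_add, pow_one, hF2] at hval
    exact coeff_mem_of_deg_zero _ _ P' hP' hval d
  obtain ⟨μ, rfl⟩ : ∃ μ, ν = μ + 1 := ⟨ν - 1, by omega⟩
  obtain ⟨x1, hx1, w, hw, hxw⟩ := Submodule.mem_sup.1 hval
  obtain ⟨u, hu, t, ht, hut⟩ := Submodule.mem_sup.1 hx1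
  obtain ⟨ω, rfl⟩ := Ideal.mem_span_singleton'.1 ht
  obtain ⟨W', hW', hW'c, hW'e⟩ := exists_form_of_mem_pow_succ _ (μ + 1) w hw
  have hP'' : (P' - W').IsHomogeneous (μ + 1) := hP'.sub hW'
  have hev'' : eval (fun i : Fin c => g i.succ) (P' - W') = u + ω * g 0 := by
    rw [map_sub, hW'e, ← hxw, ← hut]; ring
  suffices hsuff : ∀ e, (P' - W').coeff e ∈ K ⊔ Ideal.span (Set.range g) by
    have h1 := Ideal.add_mem _ (hsuff d) (Ideal.mem_sup_right (hI'I (hW'c d)))
    rwa [coeff_sub, sub_add_cancel] at h1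
  generalize P' - W' = P'' at hP'' hev''
  have hPh : (rename Fin.succ P'').IsHomogeneous (μ + 1) := hP''.rename_isHomogeneous
  have hPev : eval g (rename Fin.succ P'') = u + ω * g 0 := by
    rw [eval_rename]; exact hev''
  have hω : g 0 * ω ∈ K ⊔ Ideal.span (Set.range g) ^ (μ + 1) := by
    have : g 0 * ω = eval g (rename Fin.succ P'') - u := by rw [hPev]; ring
    rw [this]
    exact Ideal.sub_mem _ (Ideal.mem_sup_right
      ((Ideal.mem_span_pow_iff_exists_isHomogeneous g _).2 ⟨_, hPh, rfl⟩)) (Ideal.mem_sup_left hu)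
  have hω' := QRm_colon K g hq μ ω hω
  obtain ⟨u', hu', v, hv, rfl⟩ := Submodule.mem_sup.1 hω'
  obtain ⟨H, hH, rfl⟩ := (Ideal.mem_span_pow_iff_exists_isHomogeneous g v).1 hv
  have hXH : (X 0 * H).IsHomogeneous (μ + 1) := by
    have := (isHomogeneous_X B (0 : Fin (c + 1))).mul hH
    have e : 1 + μ = μ + 1 := add_comm _ _
    exact e ▸ this
  have hZ : ∀ e, (rename Fin.succ P'' - X 0 * H).coeff e ∈ K ⊔ Ideal.span (Set.range g) := by
    apply hq (μ + 1) _ (hPh.sub hXH)
    have : eval g (rename Fin.succ P'' - X 0 * H) = u + u' * g 0 := by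
      rw [map_sub, hPev, map_mul, eval_X]; ring
    rw [this]
    exact Ideal.mem_sup_left (Ideal.add_mem _ hu (Ideal.mul_mem_right _ _ hu'))
  intro e
  have h0 : (0 : Fin (c + 1)) ∉ (e.mapDomain Fin.succ).support := by
    rw [Finsupp.mem_support_iff, not_not]
    apply Finsupp.mapDomain_of_notMem_range
    rintro ⟨i, hi⟩
    exact Fin.succ_ne_zero i hi
  have := hZ (e.mapDomain Fin.succ)
  rw [coeff_sub, coeff_rename_mapDomain Fin.succ (Fin.succ_injective _), coeff_X_mul',
    if_neg h0, sub_zero] at this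
  exact this

/-- **Matsumura 16.3**, relative elementwise form. -/
theorem RegL_of_QRm [IsNoetherianRing B] : ∀ (c : ℕ) (g : Fin c → B) (K : Ideal B),
    Ideal.span (Set.range g) ≤ (⊥ : Ideal B).jacobson → QRm K g →
      Groth.Agent.S11632.RegL (M := B) K (List.ofFn g) := by
  intro c
  induction c with
  | zero =>
    intro g K _ _
    rw [List.ofFn_zero]
    trivial
  | succ c ih =>
    intro g K hrad hq
    rw [List.ofFn_succ]
    refine ⟨fun m hm => QRm_regular K g hq hrad m hm, ?_⟩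
    have h1 : (g 0 • (⊤ : Submodule B B)) = Ideal.span {g 0} := by
      ext x
      rw [Groth.Agent.S11632.mem_smul_top, Ideal.mem_span_singleton']
      constructor
      · rintro ⟨m', rfl⟩; exact ⟨m', by rw [smul_eq_mul, mul_comm]⟩
      · rintro ⟨m', rfl⟩; exact ⟨m', by rw [smul_eq_mul, mul_comm]⟩
    rw [h1]
    apply ih _ _ _ (QRm_tail K g hq)
    refine le_trans (Ideal.span_mono ?_) hrad
    rintro _ ⟨i, rfl⟩
    exact ⟨i.succ, rfl⟩

/-- **Quasi-regular sequences in the Jacobson radical of a Noetherian ring are regular.** -/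
theorem isWeaklyRegular_of_QR [IsNoetherianRing B] (c : ℕ) (g : Fin c → B)
    (hrad : Ideal.span (Set.range g) ≤ (⊥ : Ideal B).jacobson) (hq : QR g) :
    RingTheory.Sequence.IsWeaklyRegular B (List.ofFn g) := by
  rw [Groth.Agent.S11632.weaklyRegular_iff_RegL]
  exact RegL_of_QRm c g ⊥ hrad (QRm_bot g hq)

end Groth.Agent.Lib.helper11.QuasiReg
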