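import Mathlib
import Groth.Prelude.Def_Mor2
import Groth.Agent.Lib.Helper9.FiniteDescend
import Groth.Agent.LibFlatFPModel29
import Groth.Agent.Lib.Helper9.LimIsoDescend
import Groth.Agent.Lib.Helper11.LimStageRank

/-!
# Finite locally free of degree `d` descends to a stage of a limit (helper11)
-/

set_option autoImplicit false
set_option linter.style.haveILetI false
universe u
open CategoryTheory CategoryTheory.Limits AlgebraicGeometry

namespace Groth.Agent.Lib.helper11.LimFinLocFree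

open Groth.Agent.Lib.helper9 Groth.Agent.LibFlatFPModel29

variable {I : Type u} [SmallCategory I] [IsCofiltered I] (D : I ⥤ Scheme.{u}) (c : Cone D)
  (hc : IsLimit c) [hD : ∀ (i j : I) (φ : i ⟶ j), IsAffineHom (D.map φ)] (i₀ : I)
  {X₀ Y₀ : Scheme.{u}} (f₀ : X₀ ⟶ Y₀) (g₀ : Y₀ ⟶ D.obj i₀)

theorem isPullback_of_eq {C : Type*} [Category C] {P X Y Z : C} {fst fst' : P ⟶ X} {snd : P ⟶ Y}
    {f : X ⟶ Z} {g g' : Y ⟶ Z} (h : IsPullback fst snd f g) (e1 : fst' = fst) (e2 : g' = g) :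
    IsPullback fst' snd f g' := by
  subst e1 e2
  exact h

omit [IsCofiltered I] hD in
theorem isPullback_cone (j : Over i₀) :
    IsPullback ((bcCone D c i₀ (f₀ ≫ g₀)).π.app j) (stageMap (c.π.app i₀) f₀ g₀)
      (stageMap (D.map j.hom) f₀ g₀) ((bcCone D c i₀ g₀).π.app j) := by
  refine IsPullback.of_right ?_ (stageFc_naturality D c i₀ f₀ g₀ j)
    (isPullback_stageMap (D.map j.hom) f₀ g₀)
  have e1 : (bcCone D c i₀ (f₀ ≫ g₀)).π.app j ≫ pullback.snd (D.map j.hom) (f₀ ≫ g₀) =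
      pullback.snd (c.π.app i₀) (f₀ ≫ g₀) :=
    (pullback.lift_snd _ _ _).trans (Category.comp_id _)
  have e2 : (bcCone D c i₀ g₀).π.app j ≫ pullback.snd (D.map j.hom) g₀ =
      pullback.snd (c.π.app i₀) g₀ :=
    (pullback.lift_snd _ _ _).trans (Category.comp_id _)
  exact isPullback_of_eq (isPullback_stageMap (c.π.app i₀) f₀ g₀) e1 e2

include hc in
theorem exists_stage (d : ℕ) [CompactSpace (D.obj i₀)] [QuasiSeparatedSpace (D.obj i₀)]
    [CompactSpace X₀] [QuasiSeparatedSpace X₀] [CompactSpace Y₀] [QuasiSeparatedSpace Y₀]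
    [LocallyOfFinitePresentation f₀]
    (h : Mor2.IsFinLocFreeOfDeg d (stageMap (c.π.app i₀) f₀ g₀)) :
    ∃ l : Over i₀, Mor2.IsFinLocFreeOfDeg d (stageMap (D.map l.hom) f₀ g₀) := by
  obtain ⟨⟨hfin, hflat, hlfp⟩, hrk⟩ := h
  haveI := hfin
  haveI := hflat
  obtain ⟨l₁, hl₁⟩ := exists_isFinite_stageMap D c hc i₀ f₀ g₀
  obtain ⟨l₂, hl₂⟩ := exists_flatFP_stageMap D c hc i₀ f₀ g₀ ⟨hflat, hlfp⟩
  let l := IsCofiltered.min l₁ l₂
  let m₁ : l ⟶ l₁ := IsCofiltered.minToLeft l₁ l₂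
  let m₂ : l ⟶ l₂ := IsCofiltered.minToRight l₁ l₂
  have hlfp' : ∀ k : Over i₀, LocallyOfFinitePresentation (stageMap (D.map k.hom) f₀ g₀) :=
    fun k => MorphismProperty.of_isPullback (P := @LocallyOfFinitePresentation)
      (isPullback_stageMap (D.map k.hom) f₀ g₀) inferInstance
  haveI hfl : IsFinite (stageMap (D.map l.hom) f₀ g₀) :=
    stageMap_of_hom D i₀ f₀ g₀ @IsFinite m₁ hl₁
  haveI hflat_l : Flat (stageMap (D.map l.hom) f₀ g₀) :=
    stageMap_of_hom D i₀ f₀ g₀ @Flat m₂ hl₂.1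
  haveI := hlfp' l
  let U : (pullback (D.map l.hom) g₀).Opens :=
    ⟨{t | (stageMap (D.map l.hom) f₀ g₀).finrank t = d},
      (Scheme.Hom.isLocallyConstant_finrank (stageMap (D.map l.hom) f₀ g₀)).isOpen_fiber d⟩
  haveI : IsAffineHom (pullback.snd (D.map l.hom) g₀) :=
    MorphismProperty.pullback_snd (P := @IsAffineHom) _ _ (hD _ _ l.hom)
  haveI : CompactSpace ((bcDiagram D i₀ g₀).obj l) :=
    QuasiCompact.compactSpace_of_compactSpace (pullback.snd (D.map l.hom) g₀)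
  have hU : (bcCone D c i₀ g₀).π.app l ⁻¹ᵁ U = ⊤ := by
    rw [eq_top_iff]
    intro y _
    change (stageMap (D.map l.hom) f₀ g₀).finrank ((bcCone D c i₀ g₀).π.app l y) = d
    have h1 := Scheme.Hom.finrank_of_isPullback (f := stageMap (D.map l.hom) f₀ g₀) _ _ _
      (isPullback_cone D c i₀ f₀ g₀ l) y
    exact h1.symm.trans (hrk y)
  obtain ⟨k, m, hk⟩ := Groth.Agent.Lib.helper11.LimStageRank.exists_map_eq_top'
    (bcDiagram D i₀ g₀) (bcCone D c i₀ g₀) (isLimitBcCone D c i₀ g₀ hc)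
    (hD := fun _ _ φ => inferInstance) l U hU
  refine ⟨k, ⟨stageMap_of_hom D i₀ f₀ g₀ @IsFinite m hfl,
    stageMap_of_hom D i₀ f₀ g₀ @Flat m hflat_l, hlfp' k⟩, fun y => ?_⟩
  have h2 := Scheme.Hom.finrank_of_isPullback (f := stageMap (D.map l.hom) f₀ g₀) _ _ _
    (isPullback_stageF_map D i₀ f₀ g₀ m) y
  have : y ∈ (bcDiagram D i₀ g₀).map m ⁻¹ᵁ U := hk ▸ (show y ∈ (⊤ : Scheme.Opens _) from trivial)
  exact h2.trans this

end Groth.Agent.Lib.helper11.LimFinLocFree
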