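import Mathlib
import Groth.Agent.Lib.Helper11.LimFlatSch
import Groth.Agent.Lib.Helper11.LimStageMod
import Groth.Agent.Lib.Helper17.FlatOver4
import Groth.Agent.Lib.Helper17.FlatOver2
import Groth.Agent.Lib.Helper3.FlatDescJ

/-!
# EGA IV 11.2.6, pointwise form: flatness at a point descends to a stage of a limit (helper11)
-/

set_option autoImplicit false
set_option linter.style.haveILetI false
universe u
open CategoryTheory CategoryTheory.Limits AlgebraicGeometry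

namespace Groth.Agent.Lib.helper11.LimFlatPt

open Groth.Agent.Lib.helper9 Groth.Agent.Lib.helper11.LimStageMod

section Local

variable {X Y X' Y' : Scheme.{u}}

/-- flatness at a point does not see an open immersion into the base -/
theorem isFlatOverAt_comp_openImmersion_iff (f' : X' ⟶ Y') (b : Y' ⟶ Y) [IsOpenImmersion b]
    (M : X'.Modules) (ξ : X') :
    FlatMod.IsFlatOverAt (f' ≫ b) M ξ ↔ FlatMod.IsFlatOverAt f' M ξ := by
  rw [Groth.Agent.Lib.helper17.FlatOver4.isFlatOverAt_comp_iff f' b M ξ]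
  unfold FlatMod.IsFlatOverAt
  letI := FlatMod.moduleStalkOver f' M ξ
  have hb : Function.Bijective (b.stalkMap (f'.base ξ)).hom :=
    ConcreteCategory.bijective_of_isIso (b.stalkMap (f'.base ξ))
  exact Groth.Agent.Lib.helper17.FlatOver2.flat_compHom_iff_of_bijective
    (b.stalkMap (f'.base ξ)).hom hb

/-- flatness at a point is insensitive to restricting source and target to opens -/
theorem isFlatOverAt_iff_of_openImmersions (f : X ⟶ Y) (f' : X' ⟶ Y') (a : X' ⟶ X) (b : Y' ⟶ Y)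
    [IsOpenImmersion a] [IsOpenImmersion b] (hw : a ≫ f = f' ≫ b) (F : X.Modules)
    [F.IsQuasicoherent] (ξ : X') :
    FlatMod.IsFlatOverAt f' ((Scheme.Modules.pullback a).obj F) ξ ↔
      FlatMod.IsFlatOverAt f F (a ξ) := by
  rw [← isFlatOverAt_comp_openImmersion_iff f' b, ← hw]
  exact (Groth.Agent.Lib.helper17.FlatOver4.isFlatOverAt_pullback_iff a f F ξ
    (Flat.stalkMap a ξ)).symm

/-- flatness at a point of a pulled-back module under base change (any cartesian square) -/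
theorem isFlatOverAt_of_isPullback {X' X S' S X₀ : Scheme.{u}} {g' : X' ⟶ X} {f' : X' ⟶ S'}
    {f : X ⟶ S} {g : S' ⟶ S} (hc : IsPullback g' f' f g) (F₀ : X₀.Modules) [F₀.IsQuasicoherent]
    (q : X ⟶ X₀) (q' : X' ⟶ X₀) (hq : g' ≫ q = q') (x' : X')
    (h : FlatMod.IsFlatOverAt f ((Scheme.Modules.pullback q).obj F₀) (g' x')) :
    FlatMod.IsFlatOverAt f' ((Scheme.Modules.pullback q').obj F₀) x' := by
  subst hq
  haveI := Groth.Agent.Lib.helper16.QCohPullback.isQuasicoherent_pullback q F₀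
  rw [← Groth.Agent.Lib.helper17.FlatOver7.isFlatOverAt_iff_of_iso f'
    ((Scheme.Modules.pullbackComp g' q).app F₀)]
  exact (Groth.Agent.Lib.helper17.FlatOver6.isFlatOverAt_baseChange_both hc _ x').1 h

end Local

section Transfer

variable {S' Sj Xt T X₀ X' Y' : Scheme.{u}} (π : S' ⟶ Sj)
  (ft : Xt ⟶ T) (gT : T ⟶ Sj) (qq : Xt ⟶ X₀) (F₀ : X₀.Modules) [F₀.IsQuasicoherent]
  (V : T.Opens) (W : Xt.Opens) (hWV : W ≤ ft ⁻¹ᵁ V)
  (f' : X' ⟶ Y') (g' : Y' ⟶ S') (vY : Y' ⟶ T) (vX : X' ⟶ Xt)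

/-- the preimage of `V` in the stage is the base change of `V` -/
theorem sqV (hY' : IsPullback vY g' gT π) :
    IsPullback (vY.resLE V (vY ⁻¹ᵁ V) le_rfl) ((vY ⁻¹ᵁ V).ι ≫ g') (V.ι ≫ gT) π := by
  rw [Scheme.Hom.resLE_eq_morphismRestrict]
  exact (isPullback_morphismRestrict vY V).paste_vert hY'

include hWV in
theorem le_aux (hw : vX ≫ ft = f' ≫ vY) :
    vX ⁻¹ᵁ W ⊓ f' ⁻¹ᵁ (vY ⁻¹ᵁ V) = vX ⁻¹ᵁ W := by
  apply le_antisymm inf_le_left
  refine le_inf le_rfl ?_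
  intro ξ hξ
  have h1 : ft (vX ξ) ∈ V := hWV hξ
  have h2 : ft (vX ξ) = vY (f' ξ) := by
    have := congrArg (fun φ => φ.base ξ) hw
    simpa using this
  change vY (f' ξ) ∈ V
  rw [← h2]
  exact h1

set_option maxHeartbeats 1600000 in
/-- **Transfer**: flatness at the points of the preimage of `W` in a stage `X' ⟶ Y'` is the
flatness predicate for the local data `W ⟶ V` -/
theorem transfer (hY' : IsPullback vY g' gT π) (hX' : IsPullback vX f' ft vY) :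
    (∀ ξ ∈ vX ⁻¹ᵁ W, FlatMod.IsFlatOverAt f' ((Scheme.Modules.pullback (vX ≫ qq)).obj F₀) ξ) ↔
      LimFlatSch.P (ft.resLE V W hWV) ((Scheme.Modules.pullback (W.ι ≫ qq)).obj F₀)
        (Over.mk (pullback.snd π (V.ι ≫ gT))) := by
  set V' : Y'.Opens := vY ⁻¹ᵁ V with hV'
  set W' : X'.Opens := vX ⁻¹ᵁ W ⊓ f' ⁻¹ᵁ V' with hW'
  have hW'eq : W' = vX ⁻¹ᵁ W := le_aux ft V W hWV f' vY vX hX'.w
  set f₁ := ft.resLE V W hWV with hf₁
  set g₁ := V.ι ≫ gT with hg₁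
  set F₁ := (Scheme.Modules.pullback (W.ι ≫ qq)).obj F₀ with hF₁
  haveI : F₁.IsQuasicoherent :=
    Groth.Agent.Lib.helper16.QCohPullback.isQuasicoherent_pullback (W.ι ≫ qq) F₀
  have hsqV := sqV π gT V g' vY hY'
  have hsqW : IsPullback (vX.resLE W W' (by rw [hW'eq])) (f'.resLE V' W' (by rw [hW']; exact inf_le_right))
      f₁ (vY.resLE V V' le_rfl) := Scheme.Hom.isPullback_resLE hX' le_rfl hWV rfl
  set vXr := vX.resLE W W' (by rw [hW'eq]) with hvXr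
  set f'r := f'.resLE V' W' (by rw [hW']; exact inf_le_right) with hf'r
  let β : (V' : Scheme.{u}) ≅ pullback π g₁ := hsqV.flip.isoPullback
  have hβ1 : β.hom ≫ pullback.fst π g₁ = V'.ι ≫ g' := hsqV.flip.isoPullback_hom_fst
  have hβ2 : β.hom ≫ pullback.snd π g₁ = vY.resLE V V' le_rfl := hsqV.flip.isoPullback_hom_snd
  let α : (W' : Scheme.{u}) ⟶ pullback f₁ (pullback.snd π g₁) :=
    pullback.lift vXr (f'r ≫ β.hom) (by rw [Category.assoc, hβ2]; exact hsqW.w)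
  have hα1 : α ≫ pullback.fst f₁ (pullback.snd π g₁) = vXr := pullback.lift_fst _ _ _
  have hα2 : α ≫ pullback.snd f₁ (pullback.snd π g₁) = f'r ≫ β.hom := pullback.lift_snd _ _ _
  have hsq : IsPullback α f'r (pullback.snd f₁ (pullback.snd π g₁)) β.hom := by
    refine IsPullback.of_right ?_ hα2 (IsPullback.of_hasPullback f₁ (pullback.snd π g₁))
    rw [hα1, hβ2]
    exact hsqW
  haveI : IsIso α := hsq.isIso_fst_of_isIso
  have hsq' : IsPullback (inv α) (pullback.snd f₁ (pullback.snd π g₁)) f'r β.inv := by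
    refine IsPullback.of_horiz_isIso ⟨?_⟩
    rw [IsIso.inv_comp_eq, ← Category.assoc, hα2, Category.assoc, Iso.hom_inv_id,
      Category.comp_id]
  -- the module on `W'`
  set r : (W' : Scheme.{u}) ⟶ X₀ := W'.ι ≫ vX ≫ qq with hr
  have hr2 : vXr ≫ W.ι ≫ qq = r := by
    rw [hr, hvXr, Scheme.Hom.resLE_comp_ι_assoc]
  let e₁ := (ηcomp W'.ι (vX ≫ qq) r rfl).app F₀
  let e₂ := (ηcomp vXr (W.ι ≫ qq) r hr2).app F₀
  haveI hFq : ((Scheme.Modules.pullback (vX ≫ qq)).obj F₀).IsQuasicoherent :=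
    Groth.Agent.Lib.helper16.QCohPullback.isQuasicoherent_pullback (vX ≫ qq) F₀
  -- flatness on `W'` in terms of points
  have hpt : FlatMod.IsFlatOver f'r ((Scheme.Modules.pullback vXr).obj F₁) ↔
      ∀ ξ ∈ vX ⁻¹ᵁ W,
        FlatMod.IsFlatOverAt f' ((Scheme.Modules.pullback (vX ≫ qq)).obj F₀) ξ := by
    have hkey : ∀ ξ' : (W' : Scheme.{u}),
        FlatMod.IsFlatOverAt f'r ((Scheme.Modules.pullback vXr).obj F₁) ξ' ↔
        FlatMod.IsFlatOverAt f' ((Scheme.Modules.pullback (vX ≫ qq)).obj F₀) (W'.ι ξ') := by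
      intro ξ'
      rw [← isFlatOverAt_iff_of_openImmersions f' f'r W'.ι V'.ι
        (Scheme.Hom.resLE_comp_ι f' _).symm _ ξ']
      exact Groth.Agent.Lib.helper17.FlatOver7.isFlatOverAt_iff_of_iso f'r (e₂ ≪≫ e₁.symm) ξ'
    constructor
    · intro h ξ hξ
      have hξ' : ξ ∈ W' := by rw [hW'eq]; exact hξ
      exact (hkey ⟨ξ, hξ'⟩).mp (h _)
    · intro h ξ'
      refine (hkey ξ').mpr (h _ ?_)
      have : (W'.ι ξ') ∈ W' := ξ'.2
      exact hW'eq.le this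
  rw [← hpt]
  constructor
  · intro h
    exact LimFlatSch.isFlatOver_of_isPullback hsq' F₁ vXr _
      (by rw [IsIso.inv_comp_eq]; exact hα1.symm) h
  · intro h
    exact LimFlatSch.isFlatOver_of_isPullback hsq F₁ (pullback.fst f₁ (pullback.snd π g₁)) _ hα1 h

end Transfer

section Squares

variable {Sj S₀ S' X₀ Y₀ X Y : Scheme.{u}} (d : Sj ⟶ S₀) (f₀ : X₀ ⟶ Y₀) (g₀ : Y₀ ⟶ S₀)

/-- `S_j ×_{S₀} X₀ ⟶ S_j ×_{S₀} Y₀` -/
noncomputable def ft : pullback d (f₀ ≫ g₀) ⟶ pullback d g₀ :=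
  pullback.lift (pullback.fst _ _) (pullback.snd _ _ ≫ f₀)
    (by rw [Category.assoc, pullback.condition])

theorem ft_fst : ft d f₀ g₀ ≫ pullback.fst d g₀ = pullback.fst d (f₀ ≫ g₀) :=
  pullback.lift_fst _ _ _

theorem ft_snd : ft d f₀ g₀ ≫ pullback.snd d g₀ = pullback.snd d (f₀ ≫ g₀) ≫ f₀ :=
  pullback.lift_snd _ _ _

theorem isPullback_ft :
    IsPullback (pullback.snd d (f₀ ≫ g₀)) (ft d f₀ g₀) f₀ (pullback.snd d g₀) := by
  refine IsPullback.of_bot ?_ (ft_snd d f₀ g₀).symm (IsPullback.of_hasPullback d g₀).flip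
  rw [ft_fst]
  exact (IsPullback.of_hasPullback d (f₀ ≫ g₀)).flip

variable (πj : S' ⟶ Sj) (π₀ : S' ⟶ S₀) (hπ : πj ≫ d = π₀)
  (f : X ⟶ Y) (g : Y ⟶ S') (qY : Y ⟶ Y₀) (qX : X ⟶ X₀)
  (hY : IsPullback qY g g₀ π₀) (hX : IsPullback qX f f₀ qY)

/-- `Y ⟶ S_j ×_{S₀} Y₀` -/
noncomputable def vY : Y ⟶ pullback d g₀ :=
  pullback.lift (g ≫ πj) qY (by rw [Category.assoc, hπ, hY.w])

/-- `X ⟶ S_j ×_{S₀} X₀` -/
noncomputable def vX : X ⟶ pullback d (f₀ ≫ g₀) :=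
  pullback.lift (f ≫ g ≫ πj) qX (by
    rw [Category.assoc, Category.assoc, hπ, ← hY.w, ← Category.assoc, ← hX.w, Category.assoc])

theorem vY_fst : vY d g₀ πj π₀ hπ g qY hY ≫ pullback.fst d g₀ = g ≫ πj := pullback.lift_fst _ _ _

theorem vY_snd : vY d g₀ πj π₀ hπ g qY hY ≫ pullback.snd d g₀ = qY := pullback.lift_snd _ _ _

theorem vX_fst : vX d f₀ g₀ πj π₀ hπ f g qY qX hY hX ≫ pullback.fst d (f₀ ≫ g₀) = f ≫ g ≫ πj :=
  pullback.lift_fst _ _ _

theorem vX_snd : vX d f₀ g₀ πj π₀ hπ f g qY qX hY hX ≫ pullback.snd d (f₀ ≫ g₀) = qX :=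
  pullback.lift_snd _ _ _

theorem vX_ft : vX d f₀ g₀ πj π₀ hπ f g qY qX hY hX ≫ ft d f₀ g₀ =
    f ≫ vY d g₀ πj π₀ hπ g qY hY := by
  apply pullback.hom_ext
  · rw [Category.assoc, ft_fst, vX_fst, Category.assoc, vY_fst]
  · rw [Category.assoc, ft_snd, ← Category.assoc, vX_snd, Category.assoc, vY_snd, hX.w]

theorem isPullback_vY : IsPullback (vY d g₀ πj π₀ hπ g qY hY) g (pullback.fst d g₀) πj := by
  refine IsPullback.of_right ?_ (vY_fst d g₀ πj π₀ hπ g qY hY)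
    (IsPullback.of_hasPullback d g₀).flip
  rw [vY_snd, hπ]
  exact hY

theorem isPullback_vX : IsPullback (vX d f₀ g₀ πj π₀ hπ f g qY qX hY hX) f (ft d f₀ g₀)
    (vY d g₀ πj π₀ hπ g qY hY) := by
  refine IsPullback.of_right ?_ (vX_ft d f₀ g₀ πj π₀ hπ f g qY qX hY hX) (isPullback_ft d f₀ g₀)
  rw [vX_snd, vY_snd]
  exact hX

end Squares

section Main

variable {I : Type u} [SmallCategory I] [IsCofiltered I] (D : I ⥤ Scheme.{u}) (c : Cone D)
  (hc : IsLimit c) [hD : ∀ (i j : I) (φ : i ⟶ j), IsAffineHom (D.map φ)] (i₀ : I)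
  [CompactSpace (D.obj i₀)] {X₀ Y₀ : Scheme.{u}} (f₀ : X₀ ⟶ Y₀) (g₀ : Y₀ ⟶ D.obj i₀)
  [LocallyOfFinitePresentation g₀] [LocallyOfFinitePresentation (f₀ ≫ g₀)]
  (F₀ : X₀.Modules) [F₀.IsQuasicoherent] (hF₀ : CohB1.IsFP F₀)
  {X Y : Scheme.{u}} (f : X ⟶ Y) (g : Y ⟶ c.pt) (qY : Y ⟶ Y₀) (qX : X ⟶ X₀)
  (hY : IsPullback qY g g₀ (c.π.app i₀)) (hX : IsPullback qX f f₀ qY) (x : X)

include hc hF₀ hY hX in
set_option maxHeartbeats 1600000 in
theorem exists_stage_pt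
    (hfl : FlatMod.IsFlatOverAt f ((Scheme.Modules.pullback qX).obj F₀) x) :
    ∃ (i : I) (φ : i ⟶ i₀) (Xi Yi : Scheme.{u}) (fi : Xi ⟶ Yi) (gi : Yi ⟶ D.obj i)
      (pY : Yi ⟶ Y₀) (pX : Xi ⟶ X₀) (vY : Y ⟶ Yi) (vX : X ⟶ Xi),
      IsPullback pY gi g₀ (D.map φ) ∧ IsPullback pX fi f₀ pY ∧
        vY ≫ pY = qY ∧ vY ≫ gi = g ≫ c.π.app i ∧ vX ≫ pX = qX ∧ vX ≫ fi = f ≫ vY ∧
        FlatMod.IsFlatOverAt fi ((Scheme.Modules.pullback pX).obj F₀) (vX x) := by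
  classical
  haveI : LocallyOfFinitePresentation f₀ :=
    Groth.Agent.Lib.helper7.locallyOfFinitePresentation_of_comp f₀ g₀
  haveI : LocallyOfFinitePresentation f := MorphismProperty.of_isPullback hX inferInstance
  haveI hFq := Groth.Agent.Lib.helper16.QCohPullback.isQuasicoherent_pullback qX F₀
  have hFfp := Groth.Agent.Lib.helper16.QCohPullback2.isFinitePresentation_pullback qX F₀ hF₀
  have hΩ : IsOpen {x' : X | FlatMod.IsFlatOverAt f ((Scheme.Modules.pullback qX).obj F₀) x'} :=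
    Groth.Agent.Lib.helper3.FlatDesc.isOpen_flatLocus_modules f _ hFfp
  -- `X` as the limit of the base-changed system
  have hXY : IsPullback qX (f ≫ g) (f₀ ≫ g₀) (c.π.app i₀) := hX.paste_vert hY
  let e : X ≅ pullback (c.π.app i₀) (f₀ ≫ g₀) := hXY.flip.isoPullback
  have he1 : e.hom ≫ pullback.fst (c.π.app i₀) (f₀ ≫ g₀) = f ≫ g := hXY.flip.isoPullback_hom_fst
  have he2 : e.hom ≫ pullback.snd (c.π.app i₀) (f₀ ≫ g₀) = qX := hXY.flip.isoPullback_hom_snd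
  let Ωt : (pullback (c.π.app i₀) (f₀ ≫ g₀)).Opens := e.inv ⁻¹ᵁ ⟨_, hΩ⟩
  have hinv : ∀ ξ : X, e.inv (e.hom ξ) = ξ := fun ξ => by
    rw [← Scheme.Hom.comp_apply, Iso.hom_inv_id]; rfl
  have hxΩ : e.hom x ∈ Ωt := by
    change e.inv (e.hom x) ∈ {x' : X | FlatMod.IsFlatOverAt f
      ((Scheme.Modules.pullback qX).obj F₀) x'}
    rw [hinv]
    exact hfl
  have B := isBasis_preimage_isAffineOpen (bcDiagram D i₀ (f₀ ≫ g₀)) (bcCone D c i₀ (f₀ ≫ g₀))
    (isLimitBcCone D c i₀ (f₀ ≫ g₀) hc)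
  obtain ⟨_, ⟨j, W₀, hW₀, rfl⟩, hxW₀, hW₀Ω⟩ := TopologicalSpace.Opens.isBasis_iff_nbhd.mp B hxΩ
  -- the stage `j`
  have hπ : c.π.app j.left ≫ D.map j.hom = c.π.app i₀ := c.w j.hom
  set d := D.map j.hom with hd
  set vXj := vX d f₀ g₀ (c.π.app j.left) (c.π.app i₀) hπ f g qY qX hY hX with hvXj
  set vYj := vY d g₀ (c.π.app j.left) (c.π.app i₀) hπ g qY hY with hvYj
  have hb1 : (bcCone D c i₀ (f₀ ≫ g₀)).π.app j ≫ pullback.fst d (f₀ ≫ g₀) =
      pullback.fst (c.π.app i₀) (f₀ ≫ g₀) ≫ c.π.app j.left := pullback.lift_fst _ _ _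
  have hb2 : (bcCone D c i₀ (f₀ ≫ g₀)).π.app j ≫ pullback.snd d (f₀ ≫ g₀) =
      pullback.snd (c.π.app i₀) (f₀ ≫ g₀) ≫ 𝟙 _ := pullback.lift_snd _ _ _
  have hevX : e.hom ≫ (bcCone D c i₀ (f₀ ≫ g₀)).π.app j = vXj := by
    apply pullback.hom_ext
    · rw [hvXj, vX_fst]
      exact ((Category.assoc _ _ _).trans (congrArg (e.hom ≫ ·) hb1)).trans
        (by rw [reassoc_of% he1])
    · rw [hvXj, vX_snd]
      exact ((Category.assoc _ _ _).trans (congrArg (e.hom ≫ ·) hb2)).trans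
        (by rw [Category.comp_id, he2])
  have hevX' : ∀ ξ : X, (bcCone D c i₀ (f₀ ≫ g₀)).π.app j (e.hom ξ) = vXj ξ := fun ξ => by
    rw [← hevX]; rfl
  have hpW₀ : vXj x ∈ W₀ := by
    rw [← hevX']
    exact hxW₀
  -- affine opens `W ≤ ft⁻¹ V`
  obtain ⟨V, hV, htV⟩ : ∃ V : (pullback d g₀).Opens, IsAffineOpen V ∧
      ft d f₀ g₀ (vXj x) ∈ V := by
    obtain ⟨_, ⟨V, hV : IsAffineOpen V, rfl⟩, htV, -⟩ :=
      (pullback d g₀).isBasis_affineOpens.exists_subset_of_mem_open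
        (Set.mem_univ (ft d f₀ g₀ (vXj x))) isOpen_univ
    exact ⟨V, hV, htV⟩
  obtain ⟨W, hW, hpW, hWW₀, hWV⟩ : ∃ W : (pullback d (f₀ ≫ g₀)).Opens, IsAffineOpen W ∧
      vXj x ∈ W ∧ W ≤ W₀ ∧ W ≤ ft d f₀ g₀ ⁻¹ᵁ V := by
    obtain ⟨_, ⟨W, hW : IsAffineOpen W, rfl⟩, hpW, hWsub⟩ :=
      (pullback d (f₀ ≫ g₀)).isBasis_affineOpens.exists_subset_of_mem_open
        (show vXj x ∈ ((W₀ ⊓ ft d f₀ g₀ ⁻¹ᵁ V : (pullback d (f₀ ≫ g₀)).Opens) : Set _) from
          ⟨hpW₀, htV⟩) (W₀ ⊓ ft d f₀ g₀ ⁻¹ᵁ V).2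
    exact ⟨W, hW, hpW, fun z hz => (hWsub hz).1, fun z hz => (hWsub hz).2⟩
  -- the local data
  set f₁ := (ft d f₀ g₀).resLE V W hWV with hf₁
  set g₁ := V.ι ≫ pullback.fst d g₀ with hg₁
  set F₁ := (Scheme.Modules.pullback (W.ι ≫ pullback.snd d (f₀ ≫ g₀))).obj F₀ with hF₁
  haveI : F₁.IsQuasicoherent :=
    Groth.Agent.Lib.helper16.QCohPullback.isQuasicoherent_pullback _ F₀
  have hF₁fp : CohB1.IsFP F₁ :=
    Groth.Agent.Lib.helper16.QCohPullback2.isFinitePresentation_pullback _ F₀ hF₀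
  haveI : IsAffine (V : Scheme.{u}) := hV
  haveI : IsAffine (W : Scheme.{u}) := hW
  haveI : CompactSpace (V : Scheme.{u}) := inferInstance
  haveI : QuasiCompact f₁ := inferInstance
  haveI : LocallyOfFinitePresentation (ft d f₀ g₀) := by
    haveI : LocallyOfFinitePresentation (ft d f₀ g₀ ≫ pullback.fst d g₀) := by
      rw [ft_fst]; infer_instance
    exact Groth.Agent.Lib.helper7.locallyOfFinitePresentation_of_comp (ft d f₀ g₀)
      (pullback.fst d g₀)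
  haveI : LocallyOfFinitePresentation f₁ := IsZariskiLocalAtSource.resLE hWV inferInstance
  -- transfer at the limit
  have hP : LimFlatSch.P f₁ F₁ (Over.mk (pullback.snd (c.π.app j.left) g₁)) := by
    refine (transfer (c.π.app j.left) (ft d f₀ g₀) (pullback.fst d g₀)
      (pullback.snd d (f₀ ≫ g₀)) F₀ V W hWV f g vYj vXj
      (isPullback_vY d g₀ _ _ hπ g qY hY) (isPullback_vX d f₀ g₀ _ _ hπ f g qY qX hY hX)).mp ?_
    intro ξ hξ
    rw [hvXj, vX_snd]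
    have h1 : e.hom ξ ∈ Ωt := by
      apply hW₀Ω
      change (bcCone D c i₀ (f₀ ≫ g₀)).π.app j (e.hom ξ) ∈ W₀
      rw [hevX']
      exact hWW₀ hξ
    have h2 : e.inv (e.hom ξ) ∈ {x' : X | FlatMod.IsFlatOverAt f
      ((Scheme.Modules.pullback qX).obj F₀) x'} := h1
    rw [hinv] at h2
    exact h2
  obtain ⟨k, hk⟩ := LimFlatSch.exists_stage D c hc j.left f₁ g₁ F₁ hF₁fp hP
  -- the stage `k`
  have hπ' : D.map k.hom ≫ d = D.map (k.hom ≫ j.hom) := (D.map_comp _ _).symm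
  set d' := D.map (k.hom ≫ j.hom) with hd'
  have hYi : IsPullback (pullback.snd d' g₀) (pullback.fst d' g₀) g₀ d' :=
    (IsPullback.of_hasPullback d' g₀).flip
  have hXi : IsPullback (pullback.fst f₀ (pullback.snd d' g₀)) (pullback.snd f₀ (pullback.snd d' g₀))
      f₀ (pullback.snd d' g₀) := IsPullback.of_hasPullback _ _
  set vXk := vX d f₀ g₀ (D.map k.hom) d' hπ' _ _ _ _ hYi hXi with hvXk
  set vYk := vY d g₀ (D.map k.hom) d' hπ' _ _ hYi with hvYk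
  have hflk := (transfer (D.map k.hom) (ft d f₀ g₀) (pullback.fst d g₀)
      (pullback.snd d (f₀ ≫ g₀)) F₀ V W hWV _ _ vYk vXk
      (isPullback_vY d g₀ _ _ hπ' _ _ hYi) (isPullback_vX d f₀ g₀ _ _ hπ' _ _ _ _ hYi hXi)).mpr hk
  -- the comparison maps
  let vYf : Y ⟶ pullback d' g₀ := pullback.lift (g ≫ c.π.app k.left) qY (by
    rw [Category.assoc, hd', c.w, hY.w])
  have hvYf1 : vYf ≫ pullback.fst d' g₀ = g ≫ c.π.app k.left := pullback.lift_fst _ _ _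
  have hvYf2 : vYf ≫ pullback.snd d' g₀ = qY := pullback.lift_snd _ _ _
  let vXf : X ⟶ pullback f₀ (pullback.snd d' g₀) := pullback.lift qX (f ≫ vYf) (by
    rw [Category.assoc, hvYf2, hX.w])
  have hvXf1 : vXf ≫ pullback.fst f₀ (pullback.snd d' g₀) = qX := pullback.lift_fst _ _ _
  have hvXf2 : vXf ≫ pullback.snd f₀ (pullback.snd d' g₀) = f ≫ vYf := pullback.lift_snd _ _ _
  have hcomp : vXf ≫ vXk = vXj := by
    apply pullback.hom_ext
    · rw [Category.assoc, hvXk, vX_fst, hvXj, vX_fst, reassoc_of% hvXf2, reassoc_of% hvYf1,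
        c.w]
    · rw [Category.assoc, hvXk, vX_snd, hvXj, vX_snd, hvXf1]
  refine ⟨k.left, k.hom ≫ j.hom, _, _, pullback.snd f₀ (pullback.snd d' g₀), pullback.fst d' g₀,
    pullback.snd d' g₀, pullback.fst f₀ (pullback.snd d' g₀), vYf, vXf, hYi, hXi, hvYf2, hvYf1,
    hvXf1, hvXf2, ?_⟩
  have h3 := hflk (vXf x) (by
    change vXk (vXf x) ∈ W
    rw [← Scheme.Hom.comp_apply, hcomp]
    exact hpW)
  rw [hvXk, vX_snd] at h3
  exact h3

end Main

end Groth.Agent.Lib.helper11.LimFlatPt
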