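import Mathlib
import Groth.Agent.S4761

/-!
# Local closedness of the preimage of a constructible set descends to a stage (helper11)
-/

set_option autoImplicit false
universe u
open CategoryTheory CategoryTheory.Limits AlgebraicGeometry Topology

namespace Groth.Agent.Lib.helper11.LimLocClosed

/-- constructible ∩ compact open is compact (no quasi-separatedness) -/
theorem isCompact_inter_of_isConstructible {X : Type*} [TopologicalSpace X] {K s : Set X}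
    (hK : IsCompact K) (hKo : IsOpen K) (hs : IsConstructible s) : IsCompact (K ∩ s) := by
  induction s, hs using BooleanSubalgebra.closure_sdiff_sup_induction with
  | isSublattice =>
    exact ⟨fun s hs t ht ↦ ⟨hs.1.union ht.1, hs.2.union ht.2⟩,
      fun s hs t ht ↦ ⟨hs.1.inter ht.1, hs.2.inter_isOpen ht.2 ht.1⟩⟩
  | bot_mem => exact ⟨isOpen_empty, .empty⟩
  | top_mem => exact ⟨isOpen_univ, .univ⟩
  | sdiff U hU V hV =>
    have h1 : IsCompact (U ∩ K) := hU.2 hK hKo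
    have h2 : K ∩ (U \ V) = (U ∩ K) \ V := by
      ext x; simp only [Set.mem_inter_iff, Set.mem_diff]; tauto
    rw [h2]
    exact h1.diff hV.1
  | sup s _ t _ hs' ht' =>
    have h2 : K ∩ (s ⊔ t) = (K ∩ s) ∪ (K ∩ t) := Set.inter_union_distrib_left K s t
    rw [h2]
    exact hs'.union ht'

variable {I : Type u} [SmallCategory I] [IsCofiltered I]
  (D : I ⥤ Scheme.{u}) (c : Cone D) (hc : IsLimit c)
  [inst : ∀ {i j : I} (f : i ⟶ j), IsAffineHom (D.map f)]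

include hc in
/-- stable version of `S4761.lemE` -/
theorem lemE' (j : I)
    (K : (D.obj j).Opens) (hK : IsCompact (K : Set (D.obj j))) (V : (D.obj j).Opens)
    (Z : Set (D.obj j)) (hZ : IsConstructible Z)
    (h : (⇑(c.π.app j) ⁻¹' (((K : Set (D.obj j)) ∩ Z) \ (V : Set (D.obj j))) : Set c.pt) = ∅) :
    ∃ (k : I) (φ : k ⟶ j), ∀ (k' : I) (a : k' ⟶ k) (x : D.obj k'),
      D.map (a ≫ φ) x ∈ (K : Set (D.obj j)) → D.map (a ≫ φ) x ∈ Z →
        D.map (a ≫ φ) x ∈ (V : Set (D.obj j)) := by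
  obtain ⟨k, φ, hk⟩ := Groth.Agent.S4761.lemE D c hc j K hK V Z hZ h
  refine ⟨k, φ, fun k' a x hxK hxZ => ?_⟩
  by_contra hxV
  rw [Set.eq_empty_iff_forall_notMem] at hk
  apply hk (D.map a x)
  have e : D.map (a ≫ φ) x = D.map φ (D.map a x) := by
    rw [D.map_comp]; rfl
  rw [e] at hxK hxZ hxV
  exact ⟨⟨hxK, hxZ⟩, hxV⟩

include hc in
theorem exists_stage (i₁ : I) [CompactSpace (D.obj i₁)] (Z₁ : Set (D.obj i₁))
    (hZ : IsConstructible Z₁)
    (hlc : IsLocallyClosed (⇑(c.π.app i₁) ⁻¹' Z₁ : Set c.pt)) :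
    ∃ (j : I) (φ : j ⟶ i₁), IsLocallyClosed (⇑(D.map φ) ⁻¹' Z₁) := by
  classical
  have haff : ∀ i, IsAffineHom (c.π.app i) := fun i => isAffineHom_π_app D c hc i
  haveI : CompactSpace c.pt := QuasiCompact.compactSpace_of_compactSpace (c.π.app i₁)
  set Z : Set c.pt := ⇑(c.π.app i₁) ⁻¹' Z₁ with hZdef
  have hZconstr : IsConstructible Z := (c.π.app i₁).isConstructible_preimage hZ
  have hZc : IsCompact Z := Groth.Agent.Lib.helper25.isCompact_of_isConstructible hZconstr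
  obtain ⟨U, F, hU, hF, hZUF⟩ := hlc
  -- cover `Z` by compact opens inside `U`
  have B := isBasis_preimage_isAffineOpen D c hc
  have hcov : ∀ z : c.pt, ∃ Bz : c.pt.Opens, z ∈ Z → (IsCompact (Bz : Set c.pt) ∧ z ∈ Bz ∧
      (Bz : Set c.pt) ⊆ U) := by
    intro z
    by_cases hz : z ∈ Z
    · have hzU : z ∈ U := by rw [hZUF] at hz; exact hz.1
      obtain ⟨_, ⟨i, V, hV, rfl⟩, hzB, hBU⟩ :=
        TopologicalSpace.Opens.isBasis_iff_nbhd.mp B (U := ⟨U, hU⟩) hzU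
      exact ⟨_, fun _ => ⟨(hV.preimage (c.π.app i)).isCompact, hzB, hBU⟩⟩
    · exact ⟨⊥, fun h => absurd h hz⟩
  choose Bz hBz using hcov
  obtain ⟨t, htZ, htfin, htcov⟩ := hZc.elim_finite_subcover_image (b := Z)
    (c := fun z => (Bz z : Set c.pt)) (fun z _ => (Bz z).2)
    (fun z hz => Set.mem_biUnion hz (hBz z hz).2.1)
  set U' : c.pt.Opens := ⟨⋃ z ∈ t, (Bz z : Set c.pt), isOpen_biUnion fun z _ => (Bz z).2⟩ with hU'
  have hU'c : IsCompact (U' : Set c.pt) :=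
    htfin.isCompact_biUnion fun z hz => (hBz z (htZ hz)).1
  have hU'U : (U' : Set c.pt) ⊆ U := Set.iUnion₂_subset fun z hz => (hBz z (htZ hz)).2.2
  have hZU' : Z ⊆ (U' : Set c.pt) := htcov
  -- `W = U' \ Z` is open and compact
  have hWeq : (U' : Set c.pt) \ Z = (U' : Set c.pt) ∩ Fᶜ := by
    ext x
    simp only [Set.mem_diff, Set.mem_inter_iff, Set.mem_compl_iff, hZUF]
    constructor
    · rintro ⟨hx, hxn⟩
      exact ⟨hx, fun hxF => hxn ⟨hU'U hx, hxF⟩⟩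
    · rintro ⟨hx, hxn⟩
      exact ⟨hx, fun h => hxn h.2⟩
  have hWo : IsOpen ((U' : Set c.pt) \ Z) := by
    rw [hWeq]; exact U'.2.inter hF.isOpen_compl
  have hWc : IsCompact ((U' : Set c.pt) \ Z) := by
    have := isCompact_inter_of_isConstructible hU'c U'.2 hZconstr.compl
    rwa [Set.diff_eq]
  obtain ⟨i, V, hV, hVU'⟩ := exists_preimage_eq D c hc U' hU'c
  obtain ⟨i', V', hV', hVW⟩ := exists_preimage_eq D c hc ⟨_, hWo⟩ hWc
  -- common stage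
  let j₀ := IsCofiltered.min i i'
  let j := IsCofiltered.min j₀ i₁
  let a : j ⟶ i := IsCofiltered.minToLeft j₀ i₁ ≫ IsCofiltered.minToLeft i i'
  let a' : j ⟶ i' := IsCofiltered.minToLeft j₀ i₁ ≫ IsCofiltered.minToRight i i'
  let φ : j ⟶ i₁ := IsCofiltered.minToRight j₀ i₁
  haveI : CompactSpace (D.obj j) := QuasiCompact.compactSpace_of_compactSpace (D.map φ)
  let Vj : (D.obj j).Opens := D.map a ⁻¹ᵁ V
  let Vj' : (D.obj j).Opens := D.map a' ⁻¹ᵁ V'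
  have hVj : IsCompact (Vj : Set (D.obj j)) :=
    QuasiCompact.isCompact_preimage (f := D.map a) _ V.2 hV
  have hVj' : IsCompact (Vj' : Set (D.obj j)) :=
    QuasiCompact.isCompact_preimage (f := D.map a') _ V'.2 hV'
  set Zj : Set (D.obj j) := ⇑(D.map φ) ⁻¹' Z₁ with hZj
  have hZjc : IsConstructible Zj := (D.map φ).isConstructible_preimage hZ
  have e1 : ∀ x : c.pt, D.map a (c.π.app j x) = c.π.app i x := fun x => by
    rw [← c.w a]; rfl
  have e1' : ∀ x : c.pt, D.map a' (c.π.app j x) = c.π.app i' x := fun x => by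
    rw [← c.w a']; rfl
  have e2 : ∀ x : c.pt, D.map φ (c.π.app j x) = c.π.app i₁ x := fun x => by
    rw [← c.w φ]; rfl
  have hmV : ∀ x : c.pt, c.π.app j x ∈ (Vj : Set (D.obj j)) ↔ x ∈ (U' : Set c.pt) := by
    intro x
    show D.map a (c.π.app j x) ∈ (V : Set (D.obj i)) ↔ _
    rw [e1]
    exact Set.ext_iff.mp (congrArg (fun O : c.pt.Opens => (O : Set c.pt)) hVU') x
  have hmV' : ∀ x : c.pt, c.π.app j x ∈ (Vj' : Set (D.obj j)) ↔ x ∈ (U' : Set c.pt) \ Z := by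
    intro x
    show D.map a' (c.π.app j x) ∈ (V' : Set (D.obj i')) ↔ _
    rw [e1']
    exact Set.ext_iff.mp (congrArg (fun O : c.pt.Opens => (O : Set c.pt)) hVW) x
  have hmZ : ∀ x : c.pt, c.π.app j x ∈ Zj ↔ x ∈ Z := by
    intro x
    show D.map φ (c.π.app j x) ∈ Z₁ ↔ _
    rw [e2]
    rfl
  -- the three conditions
  obtain ⟨k₁, φ₁, h₁⟩ := lemE' D c hc j ⊤ CompactSpace.isCompact_univ Vj Zj hZjc (by
    rw [Set.eq_empty_iff_forall_notMem]
    rintro x ⟨⟨-, hxZ⟩, hxV⟩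
    exact hxV ((hmV x).mpr (hZU' ((hmZ x).mp hxZ))))
  obtain ⟨k₂, φ₂, h₂⟩ := lemE' D c hc j Vj hVj Vj' Zjᶜ hZjc.compl (by
    rw [Set.eq_empty_iff_forall_notMem]
    rintro x ⟨⟨hxV, hxZ⟩, hxV'⟩
    exact hxV' ((hmV' x).mpr ⟨(hmV x).mp hxV, fun h => hxZ ((hmZ x).mpr h)⟩))
  obtain ⟨k₃, φ₃, h₃⟩ := lemE' D c hc j Vj' hVj' ⊥ Zj hZjc (by
    rw [Set.eq_empty_iff_forall_notMem]
    rintro x ⟨⟨hxV', hxZ⟩, -⟩
    exact ((hmV' x).mp hxV').2 ((hmZ x).mp hxZ))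
  obtain ⟨k₁₂, b₁, b₂, hb⟩ := IsCofiltered.cospan φ₁ φ₂
  obtain ⟨k, d₁, d₂, hd⟩ := IsCofiltered.cospan (b₁ ≫ φ₁) φ₃
  set θ : k ⟶ j := d₁ ≫ b₁ ≫ φ₁ with hθ
  have hθ1 : θ = (d₁ ≫ b₁) ≫ φ₁ := by rw [hθ, Category.assoc]
  have hθ2 : θ = (d₁ ≫ b₂) ≫ φ₂ := by rw [hθ, hb, Category.assoc]
  have hθ3 : θ = d₂ ≫ φ₃ := hd
  refine ⟨k, θ ≫ φ, ⟨(D.map θ ⁻¹ᵁ Vj : (D.obj k).Opens),
    ((D.map θ ⁻¹ᵁ Vj' : (D.obj k).Opens) : Set (D.obj k))ᶜ,
    (D.map θ ⁻¹ᵁ Vj).2, (D.map θ ⁻¹ᵁ Vj').2.isClosed_compl, ?_⟩⟩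
  ext x
  have e3 : D.map (θ ≫ φ) x = D.map φ (D.map θ x) := by
    rw [D.map_comp]; rfl
  have hxZ : x ∈ (⇑(D.map (θ ≫ φ)) ⁻¹' Z₁ : Set (D.obj k)) ↔ D.map θ x ∈ Zj := by
    show D.map (θ ≫ φ) x ∈ Z₁ ↔ D.map φ (D.map θ x) ∈ Z₁
    rw [e3]
  rw [hxZ]
  constructor
  · intro hx
    refine ⟨?_, ?_⟩
    · have := h₁ k (d₁ ≫ b₁) x trivial (by rw [← hθ1]; exact hx)
      rw [← hθ1] at this
      exact this
    · intro hxV'
      have hxV'' : D.map θ x ∈ (Vj' : Set (D.obj j)) := hxV'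
      have := h₃ k d₂ x (by rw [← hθ3]; exact hxV'') (by rw [← hθ3]; exact hx)
      exact this
  · rintro ⟨hxV, hxV'⟩
    by_contra hxZn
    have hxV0 : D.map θ x ∈ (Vj : Set (D.obj j)) := hxV
    have := h₂ k (d₁ ≫ b₂) x (by rw [← hθ2]; exact hxV0) (by rw [← hθ2]; exact hxZn)
    rw [← hθ2] at this
    exact hxV' this

end Groth.Agent.Lib.helper11.LimLocClosed
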