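import Mathlib
import Groth.Agent.Lib.Helper11.LimStageMod
import Groth.Agent.Lib.Helper7.CohKer
import Groth.Agent.Lib.Helper16.QCohPullback2
import Groth.Agent.Lib.Helper25.PullFlatExact
import Groth.Agent.S4764

/-!
# Limits with flat affine transition maps: mono / exactness at a stage (helper11)
-/

set_option autoImplicit false
set_option linter.style.haveILetI false
universe u
open CategoryTheory CategoryTheory.Limits AlgebraicGeometry

namespace Groth.Agent.Lib.helper11.LimStageFlatTr

open Groth.Agent.Lib.helper11.LimStageMod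

section Abstract

variable {A B : Type*} [Category A] [Category B] [Abelian A] [Abelian B]

/-- for a functor preserving kernels: `Φ f` is mono iff `Φ (kernel.ι f) = 0` -/
theorem mono_map_iff (Φ : A ⥤ B) [Φ.PreservesZeroMorphisms] {F G : A} (f : F ⟶ G)
    [PreservesLimit (parallelPair f 0) Φ] :
    Mono (Φ.map f) ↔ Φ.map (kernel.ι f) = 0 := by
  constructor
  · intro h
    rw [← cancel_mono (Φ.map f), ← Φ.map_comp, kernel.condition, Φ.map_zero, zero_comp]
  · intro h
    apply Abelian.mono_of_kernel_ι_eq_zero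
    have h1 := kernelComparison_comp_ι f Φ
    rw [h] at h1
    have h2 : IsIso (kernelComparison f Φ) := by
      rw [← PreservesKernel.iso_hom]
      infer_instance
    rw [← cancel_epi (kernelComparison f Φ), h1, comp_zero]

end Abstract

section Main

variable {I : Type u} [SmallCategory I] [IsCofiltered I] (D : I ⥤ Scheme.{u}) (c : Cone D)
  (hc : IsLimit c) [hD : ∀ (i j : I) (φ : i ⟶ j), IsAffineHom (D.map φ)] (i₀ : I)
  [CompactSpace (D.obj i₀)] (hfl : ∀ (i j : I) (φ : i ⟶ j), Flat (D.map φ))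
  {F₀ G₀ : (D.obj i₀).Modules} [F₀.IsQuasicoherent] [G₀.IsQuasicoherent] (f₀ : F₀ ⟶ G₀)

include hc hfl in
theorem mono_iff (hker : CohB1.IsFT (kernel f₀)) :
    Mono ((Scheme.Modules.pullback (c.π.app i₀)).map f₀) ↔
      ∃ (j : I) (φ : j ⟶ i₀), Mono ((Scheme.Modules.pullback (D.map φ)).map f₀) := by
  haveI : (kernel f₀).IsQuasicoherent := Groth.Agent.Lib.helper7.CohKer.isQuasicoherent_kernel f₀
  haveI hπ : Flat (c.π.app i₀) := Groth.Agent.S4764.result D c hc i₀ (fun j φ => hfl j i₀ φ)
  rw [mono_map_iff (Scheme.Modules.pullback (c.π.app i₀)) f₀,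
    zero_iff D c hc i₀ (kernel.ι f₀) hker]
  constructor
  · rintro ⟨j, φ, h⟩
    haveI := hfl _ _ φ
    exact ⟨j, φ, (mono_map_iff (Scheme.Modules.pullback (D.map φ)) f₀).mpr h⟩
  · rintro ⟨j, φ, h⟩
    haveI := hfl _ _ φ
    exact ⟨j, φ, (mono_map_iff (Scheme.Modules.pullback (D.map φ)) f₀).mp h⟩

end Main

end Groth.Agent.Lib.helper11.LimStageFlatTr
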