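import Mathlib
import Groth.Agent.Lib.Helper11.LimStageFlatTr
import Groth.Agent.Lib.Helper16.QCohPullback

/-!
# Limits with flat affine transition maps: exactness at a stage (helper11)
-/

set_option autoImplicit false
set_option linter.style.haveILetI false
universe u
open CategoryTheory CategoryTheory.Limits AlgebraicGeometry

namespace Groth.Agent.Lib.helper11.LimStageFlatEx

open Groth.Agent.Lib.helper11.LimStageMod Groth.Agent.Lib.helper7

section Abstract

variable {A B : Type*} [Category A] [Category B] [Abelian A] [Abelian B]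

/-- for an exact functor, `Φ S` is exact iff `Φ` kills the identity of the homology of `S` -/
theorem exact_map_iff (Φ : A ⥤ B) [Φ.Additive] [Φ.PreservesHomology] (S : ShortComplex A) :
    (S.map Φ).Exact ↔ Φ.map (𝟙 S.homology) = 0 := by
  rw [ShortComplex.exact_iff_isZero_homology, (S.mapHomologyIso Φ).isZero_iff,
    IsZero.iff_id_eq_zero, Φ.map_id]

omit [Abelian A] in
theorem exact_of_natIso {Φ Ψ : A ⥤ B} (η : Φ ≅ Ψ) {F G H : A} (f : F ⟶ G) (g : G ⟶ H)
    (h : ∃ w₁ : Φ.map f ≫ Φ.map g = 0, (ShortComplex.mk _ _ w₁).Exact) :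
    ∃ w₂ : Ψ.map f ≫ Ψ.map g = 0, (ShortComplex.mk _ _ w₂).Exact := by
  obtain ⟨w₁, h⟩ := h
  have w₂ : Ψ.map f ≫ Ψ.map g = 0 := by
    have : Ψ.map f ≫ Ψ.map g = η.inv.app F ≫ (Φ.map f ≫ Φ.map g) ≫ η.hom.app H := by
      simp
    rw [this, w₁, zero_comp, comp_zero]
  refine ⟨w₂, ?_⟩
  exact (ShortComplex.exact_iff_of_iso
    (ShortComplex.isoMk (η.app F) (η.app G) (η.app H) (by simp) (by simp) :
      ShortComplex.mk _ _ w₁ ≅ ShortComplex.mk _ _ w₂)).mp h

end Abstract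

section Stage

variable {I : Type u} [SmallCategory I] [IsCofiltered I] (D : I ⥤ Scheme.{u}) (c : Cone D)
  (hc : IsLimit c) [hD : ∀ (i j : I) (φ : i ⟶ j), IsAffineHom (D.map φ)]
  (hfl : ∀ (i j : I) (φ : i ⟶ j), Flat (D.map φ))

include hc hfl in
/-- the case of a complex -/
theorem exact_iff_of_zero (j₁ : I) [CompactSpace (D.obj j₁)] {F₁ G₁ H₁ : (D.obj j₁).Modules}
    [F₁.IsQuasicoherent] [G₁.IsQuasicoherent] [H₁.IsQuasicoherent] (f₁ : F₁ ⟶ G₁) (g₁ : G₁ ⟶ H₁)
    (w₁ : f₁ ≫ g₁ = 0) (hKer : CohB1.IsFT (kernel g₁)) :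
    ((ShortComplex.mk f₁ g₁ w₁).map (Scheme.Modules.pullback (c.π.app j₁))).Exact ↔
      ∃ (j : I) (φ : j ⟶ j₁),
        ((ShortComplex.mk f₁ g₁ w₁).map (Scheme.Modules.pullback (D.map φ))).Exact := by
  set S := ShortComplex.mk f₁ g₁ w₁ with hS
  haveI : (kernel g₁).IsQuasicoherent := CohKer.isQuasicoherent_kernel g₁
  have e := S.homologyIsoCokernelLift
  haveI hq : (cokernel (kernel.lift S.g S.f S.zero)).IsQuasicoherent :=
    CohKer.isQuasicoherent_cokernel (F := F₁) (G := kernel g₁) (kernel.lift g₁ f₁ w₁)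
  haveI : S.homology.IsQuasicoherent :=
    (SheafOfModules.isQuasicoherent (D.obj j₁).ringCatSheaf).prop_of_iso e.symm hq
  have hft : CohB1.IsFT S.homology :=
    CohKer.isFiniteType_of_epi (cokernel.π (kernel.lift g₁ f₁ w₁) ≫ e.inv) hKer
  haveI hπ : Flat (c.π.app j₁) := Groth.Agent.S4764.result D c hc j₁ (fun j φ => hfl j j₁ φ)
  rw [exact_map_iff (Scheme.Modules.pullback (c.π.app j₁)) S,
    zero_iff D c hc j₁ (𝟙 S.homology) hft]
  constructor
  · rintro ⟨j, φ, h⟩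
    haveI := hfl _ _ φ
    exact ⟨j, φ, (exact_map_iff (Scheme.Modules.pullback (D.map φ)) S).mpr h⟩
  · rintro ⟨j, φ, h⟩
    haveI := hfl _ _ φ
    exact ⟨j, φ, (exact_map_iff (Scheme.Modules.pullback (D.map φ)) S).mp h⟩

end Stage

section Main

variable {I : Type u} [SmallCategory I] [IsCofiltered I] (D : I ⥤ Scheme.{u}) (c : Cone D)
  (hc : IsLimit c) [hD : ∀ (i j : I) (φ : i ⟶ j), IsAffineHom (D.map φ)] (i₀ : I)
  [CompactSpace (D.obj i₀)] (hfl : ∀ (i j : I) (φ : i ⟶ j), Flat (D.map φ))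
  {F₀ G₀ H₀ : (D.obj i₀).Modules} [F₀.IsQuasicoherent] [G₀.IsQuasicoherent]
  [H₀.IsQuasicoherent] (f₀ : F₀ ⟶ G₀) (g₀ : G₀ ⟶ H₀)

include hc hfl in
/-- EGA IV 8.5.2-type: exactness of `F → G → H` at the limit iff at a stage (flat transitions) -/
theorem exact_iff (hIm : CohB1.IsFT (Limits.image f₀)) (hKer : CohB1.IsFT (kernel g₀)) :
    (∃ w : (Scheme.Modules.pullback (c.π.app i₀)).map f₀ ≫
        (Scheme.Modules.pullback (c.π.app i₀)).map g₀ = 0, (ShortComplex.mk _ _ w).Exact) ↔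
      ∃ (j : I) (φ : j ⟶ i₀) (w : (Scheme.Modules.pullback (D.map φ)).map f₀ ≫
        (Scheme.Modules.pullback (D.map φ)).map g₀ = 0), (ShortComplex.mk _ _ w).Exact := by
  constructor
  · rintro ⟨w, hex⟩
    haveI : (cokernel f₀).IsQuasicoherent := CohKer.isQuasicoherent_cokernel f₀
    haveI hAb : (Abelian.image f₀).IsQuasicoherent :=
      CohKer.isQuasicoherent_kernel (cokernel.π f₀)
    haveI : (Limits.image f₀).IsQuasicoherent :=
      (SheafOfModules.isQuasicoherent (D.obj i₀).ringCatSheaf).prop_of_iso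
        (Abelian.imageIsoImage f₀) hAb
    have hz : (Scheme.Modules.pullback (c.π.app i₀)).map (image.ι f₀ ≫ g₀) = 0 := by
      haveI : Epi ((Scheme.Modules.pullback (c.π.app i₀)).map (factorThruImage f₀)) :=
        inferInstance
      rw [← cancel_epi ((Scheme.Modules.pullback (c.π.app i₀)).map (factorThruImage f₀)),
        comp_zero, ← Functor.map_comp, ← Category.assoc, image.fac, Functor.map_comp]
      exact w
    obtain ⟨j₁, φ₁, h₁⟩ := (zero_iff D c hc i₀ (image.ι f₀ ≫ g₀) hIm).mp hz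
    haveI := hfl _ _ φ₁
    have w₁ : (Scheme.Modules.pullback (D.map φ₁)).map f₀ ≫
        (Scheme.Modules.pullback (D.map φ₁)).map g₀ = 0 := by
      rw [← Functor.map_comp, ← image.fac f₀, Category.assoc, Functor.map_comp, h₁, comp_zero]
    haveI : CompactSpace (D.obj j₁) := QuasiCompact.compactSpace_of_compactSpace (D.map φ₁)
    haveI := Groth.Agent.Lib.helper16.QCohPullback.isQuasicoherent_pullback (D.map φ₁) F₀
    haveI := Groth.Agent.Lib.helper16.QCohPullback.isQuasicoherent_pullback (D.map φ₁) G₀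
    haveI := Groth.Agent.Lib.helper16.QCohPullback.isQuasicoherent_pullback (D.map φ₁) H₀
    haveI : (kernel g₀).IsQuasicoherent := CohKer.isQuasicoherent_kernel g₀
    have hKer₁ : CohB1.IsFT (kernel ((Scheme.Modules.pullback (D.map φ₁)).map g₀)) :=
      CohKer.isFiniteType_of_epi (PreservesKernel.iso (Scheme.Modules.pullback (D.map φ₁)) g₀).hom
        (Groth.Agent.Lib.helper16.QCohPullback2.isFiniteType_pullback (D.map φ₁) (kernel g₀) hKer)
    obtain ⟨w₂, h₂⟩ := exact_of_natIso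
      (ηcomp (c.π.app j₁) (D.map φ₁) (c.π.app i₀) (c.w φ₁)).symm f₀ g₀ ⟨w, hex⟩
    obtain ⟨j₂, φ₂, h₃⟩ := (exact_iff_of_zero D c hc hfl j₁ _ _ w₁ hKer₁).mp h₂
    obtain ⟨w₄, h₄⟩ := exact_of_natIso
      (ηcomp (D.map φ₂) (D.map φ₁) (D.map (φ₂ ≫ φ₁)) (D.map_comp _ _).symm) f₀ g₀ ⟨_, h₃⟩
    exact ⟨j₂, φ₂ ≫ φ₁, w₄, h₄⟩
  · rintro ⟨j, φ, w, hex⟩
    haveI hπ : Flat (c.π.app j) := Groth.Agent.S4764.result D c hc j (fun k ψ => hfl k j ψ)
    have h₂ := hex.map (Scheme.Modules.pullback (c.π.app j))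
    exact exact_of_natIso (ηcomp (c.π.app j) (D.map φ) (c.π.app i₀) (c.w φ)) f₀ g₀ ⟨_, h₂⟩

end Main

end Groth.Agent.Lib.helper11.LimStageFlatEx
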