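import Mathlib
import Groth.Agent.Lib.Helper11.LimStageMod
import Groth.Agent.Lib.Helper7.CohKer
import Groth.Agent.Lib.Helper16.QCohPullback2

/-!
# Right exactness of a pulled-back sequence descends to a stage of a limit (helper11)
-/

set_option autoImplicit false
set_option linter.style.haveILetI false
universe u
open CategoryTheory CategoryTheory.Limits AlgebraicGeometry

namespace Groth.Agent.Lib.helper11.LimStageRExact

open Groth.Agent.Lib.helper11.LimStageMod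

section Abstract

variable {A B : Type*} [Category A] [Category B] [Abelian A] [Abelian B]

theorem map_w (Φ : A ⥤ B) [Φ.PreservesZeroMorphisms] {F G H : A} (f : F ⟶ G) (g : G ⟶ H)
    (w : f ≫ g = 0) : Φ.map f ≫ Φ.map g = 0 := by
  rw [← Φ.map_comp, w, Φ.map_zero]

/-- `Φ F → Φ G → Φ H → 0` is exact iff `Φ` of the comparison `coker f → H` is an iso, for `Φ`
preserving the cokernel of `f` -/
theorem rexact_iff_isIso (Φ : A ⥤ B) [Φ.PreservesZeroMorphisms] {F G H : A} (f : F ⟶ G)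
    (g : G ⟶ H) (w : f ≫ g = 0) [PreservesColimit (parallelPair f 0) Φ] :
    ((ShortComplex.mk (Φ.map f) (Φ.map g) (map_w Φ f g w)).Exact ∧ Epi (Φ.map g)) ↔
      IsIso (Φ.map (cokernel.desc f g w)) := by
  have hc₁ : IsColimit (CokernelCofork.ofπ (Φ.map (cokernel.π f))
      (by rw [← Φ.map_comp, cokernel.condition, Φ.map_zero]) : CokernelCofork (Φ.map f)) :=
    CokernelCofork.mapIsColimit _ (cokernelIsCokernel f) Φ
  have hcomp : Φ.map (cokernel.π f) ≫ Φ.map (cokernel.desc f g w) = Φ.map g := by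
    rw [← Φ.map_comp, cokernel.π_desc]
  have h1 := (ShortComplex.mk (Φ.map f) (Φ.map g) (map_w Φ f g w)).exact_and_epi_g_iff_g_is_cokernel
  refine h1.trans ?_
  constructor
  · rintro ⟨hc₂⟩
    have : Φ.map (cokernel.desc f g w) = (hc₁.coconePointUniqueUpToIso hc₂).hom := by
      apply Cofork.IsColimit.hom_ext hc₁
      rw [Cofork.π_ofπ, hcomp]
      have := hc₁.comp_coconePointUniqueUpToIso_hom hc₂ WalkingParallelPair.one
      simpa using this.symm
    rw [this]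
    infer_instance
  · intro h
    exact ⟨IsColimit.ofIsoColimit hc₁
      (Cofork.ext (asIso (Φ.map (cokernel.desc f g w))) (by simpa using hcomp))⟩

omit [Abelian A] in
theorem rexact_of_natIso {Φ Ψ : A ⥤ B} (η : Φ ≅ Ψ) {F G H : A} (f : F ⟶ G) (g : G ⟶ H)
    (h : ∃ w₁ : Φ.map f ≫ Φ.map g = 0, (ShortComplex.mk _ _ w₁).Exact ∧ Epi (Φ.map g)) :
    ∃ w₂ : Ψ.map f ≫ Ψ.map g = 0, (ShortComplex.mk _ _ w₂).Exact ∧ Epi (Ψ.map g) := by
  obtain ⟨w₁, h⟩ := h
  have w₂ : Ψ.map f ≫ Ψ.map g = 0 := by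
    have : Ψ.map f ≫ Ψ.map g = η.inv.app F ≫ (Φ.map f ≫ Φ.map g) ≫ η.hom.app H := by
      simp
    rw [this, w₁, zero_comp, comp_zero]
  refine ⟨w₂, ?_⟩
  exact (ShortComplex.exact_and_epi_g_iff_of_iso
    (ShortComplex.isoMk (η.app F) (η.app G) (η.app H) (by simp) (by simp) :
      ShortComplex.mk _ _ w₁ ≅ ShortComplex.mk _ _ w₂)).mp h

/-- right exact functors preserve right exact sequences -/
theorem rexact_map (Φ : A ⥤ B) [Φ.PreservesZeroMorphisms] {F G H : A} (f : F ⟶ G) (g : G ⟶ H)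
    [PreservesColimit (parallelPair f 0) Φ]
    (h : ∃ w : f ≫ g = 0, (ShortComplex.mk _ _ w).Exact ∧ Epi g) :
    ∃ w₂ : Φ.map f ≫ Φ.map g = 0, (ShortComplex.mk _ _ w₂).Exact ∧ Epi (Φ.map g) := by
  obtain ⟨w, h⟩ := h
  refine ⟨map_w Φ f g w, ?_⟩
  obtain ⟨hc⟩ := (ShortComplex.mk f g w).exact_and_epi_g_iff_g_is_cokernel.mp h
  exact (ShortComplex.mk (Φ.map f) (Φ.map g) (map_w Φ f g w)).exact_and_epi_g_iff_g_is_cokernel.mpr
    ⟨CokernelCofork.mapIsColimit _ hc Φ⟩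

end Abstract

section Main

variable {I : Type u} [SmallCategory I] [IsCofiltered I] (D : I ⥤ Scheme.{u}) (c : Cone D)
  (hc : IsLimit c) [hD : ∀ (i j : I) (φ : i ⟶ j), IsAffineHom (D.map φ)] (i₀ : I)
  [CompactSpace (D.obj i₀)] {F₀ G₀ H₀ : (D.obj i₀).Modules} [F₀.IsQuasicoherent]
  [G₀.IsQuasicoherent] [H₀.IsQuasicoherent] (f₀ : F₀ ⟶ G₀) (g₀ : G₀ ⟶ H₀)

include hc in
theorem rexact_iff (hF : CohB1.IsFT F₀) (hG : CohB1.IsFT G₀) (hH : CohB1.IsFP H₀) :
    (∃ w : (Scheme.Modules.pullback (c.π.app i₀)).map f₀ ≫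
        (Scheme.Modules.pullback (c.π.app i₀)).map g₀ = 0,
        (ShortComplex.mk _ _ w).Exact ∧ Epi ((Scheme.Modules.pullback (c.π.app i₀)).map g₀)) ↔
      ∃ (j : I) (φ : j ⟶ i₀) (w : (Scheme.Modules.pullback (D.map φ)).map f₀ ≫
          (Scheme.Modules.pullback (D.map φ)).map g₀ = 0),
        (ShortComplex.mk _ _ w).Exact ∧ Epi ((Scheme.Modules.pullback (D.map φ)).map g₀) := by
  have hpres : ∀ {T T' : Scheme.{u}} (t : T ⟶ T'),
      PreservesColimitsOfSize.{0, 0} (Scheme.Modules.pullback t) := fun t =>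
    (Scheme.Modules.pullbackPushforwardAdjunction t).leftAdjoint_preservesColimits
  constructor
  · rintro ⟨w, hex⟩
    have hz : (Scheme.Modules.pullback (c.π.app i₀)).map (f₀ ≫ g₀) = 0 := by
      rw [Functor.map_comp]; exact w
    obtain ⟨j₁, φ₁, hz₁⟩ := (zero_iff D c hc i₀ (f₀ ≫ g₀) hF).mp hz
    have w₁ : (Scheme.Modules.pullback (D.map φ₁)).map f₀ ≫
        (Scheme.Modules.pullback (D.map φ₁)).map g₀ = 0 := by
      rw [← Functor.map_comp]; exact hz₁
    haveI : CompactSpace (D.obj j₁) := QuasiCompact.compactSpace_of_compactSpace (D.map φ₁)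
    haveI := Groth.Agent.Lib.helper16.QCohPullback.isQuasicoherent_pullback (D.map φ₁) F₀
    haveI := Groth.Agent.Lib.helper16.QCohPullback.isQuasicoherent_pullback (D.map φ₁) G₀
    haveI := Groth.Agent.Lib.helper16.QCohPullback.isQuasicoherent_pullback (D.map φ₁) H₀
    haveI : (cokernel ((Scheme.Modules.pullback (D.map φ₁)).map f₀)).IsQuasicoherent :=
      Groth.Agent.Lib.helper7.CohKer.isQuasicoherent_cokernel _
    have hQft : CohB1.IsFT (cokernel ((Scheme.Modules.pullback (D.map φ₁)).map f₀)) :=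
      Groth.Agent.Lib.helper7.CohKer.isFiniteType_of_epi (cokernel.π _)
        (Groth.Agent.Lib.helper16.QCohPullback2.isFiniteType_pullback (D.map φ₁) G₀ hG)
    have hH₁ : CohB1.IsFP ((Scheme.Modules.pullback (D.map φ₁)).obj H₀) :=
      Groth.Agent.Lib.helper16.QCohPullback2.isFinitePresentation_pullback (D.map φ₁) H₀ hH
    haveI := hpres (c.π.app j₁)
    obtain ⟨w', hex₁⟩ := rexact_of_natIso
      (ηcomp (c.π.app j₁) (D.map φ₁) (c.π.app i₀) (c.w φ₁)).symm f₀ g₀ ⟨w, hex⟩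
    have hiso : IsIso ((Scheme.Modules.pullback (c.π.app j₁)).map
        (cokernel.desc ((Scheme.Modules.pullback (D.map φ₁)).map f₀)
          ((Scheme.Modules.pullback (D.map φ₁)).map g₀) w₁)) :=
      (rexact_iff_isIso (Scheme.Modules.pullback (c.π.app j₁)) _ _ w₁).mp hex₁
    obtain ⟨j₂, φ₂, hiso₂⟩ := (isIso_iff D c hc j₁ _ hQft hH₁).mp hiso
    haveI := hpres (D.map φ₂)
    have hex₂ := (rexact_iff_isIso (Scheme.Modules.pullback (D.map φ₂)) _ _ w₁).mpr hiso₂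
    obtain ⟨w₃, hex₃⟩ := rexact_of_natIso
      (ηcomp (D.map φ₂) (D.map φ₁) (D.map (φ₂ ≫ φ₁)) (D.map_comp _ _).symm) f₀ g₀ ⟨_, hex₂⟩
    exact ⟨j₂, φ₂ ≫ φ₁, w₃, hex₃⟩
  · rintro ⟨j, φ, w, hex⟩
    haveI := hpres (c.π.app j)
    have h1 := rexact_map (Scheme.Modules.pullback (c.π.app j)) _ _ ⟨w, hex⟩
    exact rexact_of_natIso (ηcomp (c.π.app j) (D.map φ) (c.π.app i₀) (c.w φ)) f₀ g₀ h1

end Main

end Groth.Agent.Lib.helper11.LimStageRExact
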