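import Groth.Agent.Lib.Helper11.LocStalk

/-!
# Local bases of locally free modules on ringed spaces (helper11)
-/

set_option autoImplicit false
universe u
open CategoryTheory CategoryTheory.Limits TopologicalSpace Opposite

namespace Groth.Agent.Lib.helper11.LocFree

open Groth.Agent.Lib.helper11.OverGen Groth.Agent.Lib.helper11.FreeSec
  Groth.Agent.Lib.helper11.LocGen Groth.Agent.Lib.helper11.LocPres
  Groth.Agent.Lib.helper11.LocGenExt Groth.Agent.Lib.helper11.LocKer
  Groth.Agent.Lib.helper11.OverPres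

variable {T : TopCat.{u}} {R : Sheaf (Opens.grothendieckTopology T) RingCat.{u}}

/-- `b` is a local basis of `M` over `U` -/
def LocBasis (M : SheafOfModules.{u} R) {I : Type u} [Fintype I] (U : Opens T)
    (b : I → M.val.obj (op U)) : Prop :=
  LocSpan M U b ∧ ∀ (D : Opens T) (hD : D ≤ U) (c : I → R.obj.obj (op D)),
    ∑ i, c i • resM M hD (b i) = 0 → c = 0

theorem LocBasis.mono {M : SheafOfModules.{u} R} {I : Type u} [Fintype I] {U V : Opens T}
    (hV : V ≤ U) {b : I → M.val.obj (op U)} (h : LocBasis M U b) :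
    LocBasis M V (fun i => resM M hV (b i)) := by
  refine ⟨LocSpan.mono hV (m := b) h.1, fun D hD c hc => h.2 D (hD.trans hV) c ?_⟩
  refine Eq.trans ?_ hc
  refine Finset.sum_congr rfl (fun i _ => ?_)
  rw [resM_resM]

/-- a trivialization over `U` gives a local basis over `U` -/
theorem exists_locBasis_of_iso (M : SheafOfModules.{u} R) {I : Type u} [Fintype I] (U : Opens T)
    (e : M.over U ≅ SheafOfModules.free (R := R.over U) I) :
    ∃ b : I → M.val.obj (op U), LocBasis M U b := by
  classical
  let s : I → (M.over U).sections := (M.over U).freeHomEquiv e.inv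
  let b : I → M.val.obj (op U) := fun i => (s i).val (op (Over.mk (𝟙 U)))
  have hs : s = fun i => secOver M U (b i) := by
    funext i
    exact sections_eq_secOver U _
  have hπ : (M.over U).freeHomEquiv.symm (fun i => secOver M U (b i)) = e.inv := by
    rw [← hs]
    exact Equiv.symm_apply_apply _ _
  refine ⟨b, ?_, ?_⟩
  · haveI : Epi ((M.over U).freeHomEquiv.symm (fun i => secOver M U (b i))) := by
      rw [hπ]; infer_instance
    haveI : Finite I := inferInstance
    exact locSpan_of_epi U b
  · intro D hD c hc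
    have h1 : (e.inv.val.app (op (Over.mk (homOfLE hD)))).hom
        (ofCoord (R := R.over U) (op (Over.mk (homOfLE hD))) c) = 0 := by
      rw [← hπ, π_ofCoord]
      exact hc
    have h2 : ofCoord (R := R.over U) (op (Over.mk (homOfLE hD))) c = 0 := by
      have h3 := congrArg (e.hom.val.app (op (Over.mk (homOfLE hD)))).hom h1
      rw [map_zero] at h3
      refine Eq.trans ?_ h3
      have h4 : e.inv ≫ e.hom = 𝟙 _ := e.inv_hom_id
      exact (congrArg (fun ψ => (ψ.val.app (op (Over.mk (homOfLE hD)))).hom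
        (ofCoord (R := R.over U) (op (Over.mk (homOfLE hD))) c)) h4).symm
    funext j
    have h5 := coord_ofCoord (R := R.over U) (op (Over.mk (homOfLE hD))) c j
    rw [h2, map_zero] at h5
    exact h5.symm

/-- a section which is locally zero is zero -/
theorem eq_zero_of_locally_zero (M : SheafOfModules.{u} R) {D : Opens T} (y : M.val.obj (op D))
    (h : ∀ x ∈ D, ∃ (D' : Opens T) (hD' : D' ≤ D), x ∈ D' ∧ resM M hD' y = 0) : y = 0 := by
  let S : Sieve D :=
    { arrows := fun Y f => (M.val.map f.op).hom y = 0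
      downward_closed := by
        intro Y Z f hf g
        change (M.val.map (g ≫ f).op).hom y = 0
        rw [op_comp, PresheafOfModules.map_comp_apply, hf]
        exact map_zero (M.val.map g.op).hom }
  have hS : S ∈ Opens.grothendieckTopology T D := by
    intro x hx
    obtain ⟨D', hD', hxD', h0⟩ := h x hx
    exact ⟨D', homOfLE hD', h0, hxD'⟩
  refine (Presheaf.IsSheaf.isSeparated M.isSheaf) D S hS _ _ (fun Y f hf => ?_)
  exact Eq.trans hf (map_zero _).symm

/-- a morphism which is injective on sections is a monomorphism -/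
theorem mono_of_injective {F G : SheafOfModules.{u} R} (φ : F ⟶ G)
    (h : ∀ D : Opens T, Function.Injective (φ.val.app (op D)).hom) : Mono φ := by
  haveI : Mono φ.val := PresheafOfModules.mono_of_injective (fun X => by
    induction X using Opposite.rec with | _ X => exact h X)
  exact (SheafOfModules.forget R).mono_of_mono_map (by assumption)

theorem resR_ite {U D : Opens T} (hD : D ≤ U) (P : Prop) [Decidable P] :
    resR (R := R) hD (if P then 1 else 0) = if P then 1 else 0 := by
  split_ifs
  · exact map_one (R.obj.map (homOfLE hD).op).hom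
  · exact map_zero (R.obj.map (homOfLE hD).op).hom

/-- an epimorphism between modules with local bases of the same finite cardinality, over a
commutative sheaf of rings, is injective on sections -/
theorem injective_of_epi_of_locBasis
    (hcomm : ∀ (U : Opens T) (a b : R.obj.obj (op U)), a * b = b * a)
    {F G : SheafOfModules.{u} R} (φ : F ⟶ G) [Epi φ] {I : Type u} [Fintype I]
    (hF : ∀ x : T, ∃ (U : Opens T), x ∈ U ∧ ∃ b : I → F.val.obj (op U), LocBasis F U b)
    (hG : ∀ x : T, ∃ (U : Opens T), x ∈ U ∧ ∃ b : I → G.val.obj (op U), LocBasis G U b)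
    (D : Opens T) : Function.Injective (φ.val.app (op D)).hom := by
  classical
  rw [injective_iff_map_eq_zero]
  intro y hy
  apply eq_zero_of_locally_zero
  intro x hxD
  obtain ⟨U_F, hxF, bF₀, hbF₀⟩ := hF x
  obtain ⟨U_G, hxG, bG₀, hbG₀⟩ := hG x
  let U : Opens T := U_F ⊓ U_G ⊓ D
  have hxU : x ∈ U := ⟨⟨hxF, hxG⟩, hxD⟩
  have hUF : U ≤ U_F := inf_le_left.trans inf_le_left
  have hUG : U ≤ U_G := inf_le_left.trans inf_le_right
  have hUD : U ≤ D := inf_le_right
  -- Step 1: the matrix of `φ`
  obtain ⟨W, hWU, hxW, hW⟩ := exists_common_nhd x U hxU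
    (fun (i : I) (W : Opens T) => ∃ (hW : W ≤ U) (Ai : I → R.obj.obj (op W)),
      (φ.val.app (op W)).hom (resM F (hW.trans hUF) (bF₀ i)) =
        ∑ k, Ai k • resM G (hW.trans hUG) (bG₀ k))
    (fun i => by
      obtain ⟨D', hD', hxD', hmem⟩ := hbG₀.1 U hUG
        ((φ.val.app (op U)).hom (resM F hUF (bF₀ i))) x hxU
      obtain ⟨Ai, hAi⟩ := (Submodule.mem_span_range_iff_exists_fun _).mp hmem
      refine ⟨D', hD', hxD', hD', Ai, ?_⟩
      rw [hAi, ← app_resM, resM_resM])
    (fun i W W' hW' hP => by
      obtain ⟨hW, Ai, hAi⟩ := hP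
      refine ⟨hW'.trans hW, fun k => resR hW' (Ai k), ?_⟩
      have := congrArg (resM G hW') hAi
      rw [← app_resM, resM_resM, resM_sum_smul] at this
      rw [this]
      refine Finset.sum_congr rfl (fun k _ => ?_)
      rw [resM_resM])
  choose hW' A hA using hW
  -- Step 2: lift the basis of `G`
  obtain ⟨V, hVW, hxV, hV⟩ := exists_common_nhd x W hxW
    (fun (j : I) (V : Opens T) => ∃ (hV : V ≤ W) (Bj : I → R.obj.obj (op V)),
      resM G ((hV.trans hWU).trans hUG) (bG₀ j) =
        (φ.val.app (op V)).hom (∑ i, Bj i • resM F ((hV.trans hWU).trans hUF) (bF₀ i)))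
    (fun j => by
      obtain ⟨W₁, hW₁, hxW₁, z, hz⟩ := exists_local_preimage φ W
        (resM G (hWU.trans hUG) (bG₀ j)) x hxW
      obtain ⟨W₂, hW₂, hxW₂, hmem⟩ := hbF₀.1 W₁ ((hW₁.trans hWU).trans hUF) z x hxW₁
      obtain ⟨Bj, hBj⟩ := (Submodule.mem_span_range_iff_exists_fun _).mp hmem
      refine ⟨W₂, hW₂.trans hW₁, hxW₂, hW₂.trans hW₁, Bj, ?_⟩
      rw [hBj, app_resM, hz, resM_resM, resM_resM])
    (fun j V V' hV' hP => by
      obtain ⟨hV, Bj, hBj⟩ := hP
      refine ⟨hV'.trans hV, fun i => resR hV' (Bj i), ?_⟩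
      have := congrArg (resM G hV') hBj
      rw [← app_resM, resM_resM, resM_sum_smul] at this
      rw [this]
      congr 1
      refine Finset.sum_congr rfl (fun i _ => ?_)
      rw [resM_resM])
  choose hV' B hB using hV
  have hVU : V ≤ U := hVW.trans hWU
  have hVF : V ≤ U_F := hVU.trans hUF
  have hVG : V ≤ U_G := hVU.trans hUG
  let A' : I → I → R.obj.obj (op V) := fun i k => resR hVW (A i k)
  have hA' : ∀ i, (φ.val.app (op V)).hom (resM F hVF (bF₀ i)) =
      ∑ k, A' i k • resM G hVG (bG₀ k) := fun i => by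
    have := congrArg (resM G hVW) (hA i)
    rw [← app_resM, resM_resM, resM_sum_smul] at this
    rw [this]
    refine Finset.sum_congr rfl (fun k _ => ?_)
    rw [resM_resM]
  -- Step 3: `B * A' = 1`
  have hBA : ∀ j k, ∑ i, B j i * A' i k = if j = k then 1 else 0 := by
    intro j
    have h1 : ∑ k, ((∑ i, B j i * A' i k) - if j = k then 1 else 0) • resM G hVG (bG₀ k) = 0 := by
      simp only [sub_smul, Finset.sum_sub_distrib, ite_smul, one_smul, zero_smul,
        Finset.sum_ite_eq, Finset.mem_univ, if_true]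
      rw [sub_eq_zero]
      conv_rhs => rw [hB j, app_sum_smul]
      simp only [hA', Finset.smul_sum, smul_smul, Finset.sum_smul]
      exact Finset.sum_comm
    have h2 := hbG₀.2 V hVG _ h1
    intro k
    have h3 := congrFun h2 k
    exact sub_eq_zero.mp h3
  -- Step 4: `A' * B = 1`
  have hAB : ∀ i l, ∑ k, A' i k * B k l = if i = l then 1 else 0 := by
    letI : CommRing (R.obj.obj (op V)) :=
      { (inferInstance : Ring (R.obj.obj (op V))) with mul_comm := hcomm V }
    let MA : Matrix I I (R.obj.obj (op V)) := Matrix.of A'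
    let MB : Matrix I I (R.obj.obj (op V)) := Matrix.of B
    have h1 : MB * MA = 1 := by
      ext j k
      rw [Matrix.mul_apply, Matrix.one_apply]
      exact hBA j k
    have h2 : MA * MB = 1 := _root_.mul_eq_one_comm.mp h1
    intro i l
    have h3 := congrFun (congrFun h2 i) l
    rw [Matrix.mul_apply, Matrix.one_apply] at h3
    exact h3
  -- Step 5
  obtain ⟨V₁, hV₁, hxV₁, hmem⟩ := hbF₀.1 V hVF (resM F (hVU.trans hUD) y) x hxV
  obtain ⟨c, hc⟩ := (Submodule.mem_span_range_iff_exists_fun _).mp hmem
  refine ⟨V₁, (hV₁.trans hVU).trans hUD, hxV₁, ?_⟩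
  rw [resM_resM] at hc
  have h0 : (φ.val.app (op V₁)).hom (∑ i, c i • resM F (hV₁.trans hVF) (bF₀ i)) = 0 := by
    rw [hc, app_resM, hy, resM_zero]
  have hcA : ∀ k, ∑ i, c i * resR hV₁ (A' i k) = 0 := by
    have h1 : ∑ k, (∑ i, c i * resR hV₁ (A' i k)) • resM G (hV₁.trans hVG) (bG₀ k) = 0 := by
      refine Eq.trans ?_ h0
      rw [app_sum_smul]
      have h2 : ∀ i, (φ.val.app (op V₁)).hom (resM F (hV₁.trans hVF) (bF₀ i)) =
          ∑ k, resR hV₁ (A' i k) • resM G (hV₁.trans hVG) (bG₀ k) := fun i => by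
        rw [← resM_resM hVF hV₁, app_resM, hA', resM_sum_smul]
        refine Finset.sum_congr rfl (fun k _ => ?_)
        rw [resM_resM]
      simp only [h2, Finset.smul_sum, smul_smul, Finset.sum_smul]
      exact Finset.sum_comm
    have h3 := hbG₀.2 V₁ (hV₁.trans hVG) _ h1
    exact fun k => congrFun h3 k
  have hc0 : c = 0 := by
    funext l
    have h1 : c l = ∑ i, c i * (if i = l then 1 else 0) := by
      simp only [mul_ite, mul_one, mul_zero, Finset.sum_ite_eq', Finset.mem_univ, if_true]
    rw [h1]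
    have h2 : ∀ i, (if i = l then (1 : R.obj.obj (op V₁)) else 0) =
        ∑ k, resR hV₁ (A' i k) * resR hV₁ (B k l) := fun i => by
      rw [← resR_ite hV₁, ← hAB i l, resR_sum]
      refine Finset.sum_congr rfl (fun k _ => ?_)
      rw [resR_mul]
    simp only [h2, Finset.mul_sum, ← mul_assoc]
    rw [Finset.sum_comm]
    simp only [← Finset.sum_mul, hcA, zero_mul, Finset.sum_const_zero]
    rfl
  rw [← hc, hc0]
  simp

end Groth.Agent.Lib.helper11.LocFree
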