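import Groth.Agent.Lib.Helper11.LocFree

/-!
# A local basis gives a trivialization (helper11)
-/

set_option autoImplicit false
universe u
open CategoryTheory CategoryTheory.Limits TopologicalSpace Opposite

namespace Groth.Agent.Lib.helper11.LocFree

open Groth.Agent.Lib.helper11.OverGen Groth.Agent.Lib.helper11.FreeSec
  Groth.Agent.Lib.helper11.LocGen Groth.Agent.Lib.helper11.LocPres
  Groth.Agent.Lib.helper11.LocGenExt Groth.Agent.Lib.helper11.LocKer
  Groth.Agent.Lib.helper11.OverPres

/-- a morphism which is injective on sections is a monomorphism (any site) -/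
theorem mono_of_injective' {C : Type u} [SmallCategory C] {J : GrothendieckTopology C}
    {R : Sheaf J RingCat.{u}} {F G : SheafOfModules.{u} R} (φ : F ⟶ G)
    (h : ∀ Y : Cᵒᵖ, Function.Injective (φ.val.app Y).hom) : Mono φ := by
  haveI : Mono φ.val := PresheafOfModules.mono_of_injective h
  exact (SheafOfModules.forget R).mono_of_mono_map (by assumption)

variable {T : TopCat.{u}} {R : Sheaf (Opens.grothendieckTopology T) RingCat.{u}}

/-- a local basis over `U` gives a trivialization over `U` -/
theorem nonempty_iso_free_of_locBasis (M : SheafOfModules.{u} R) {I : Type u} [Fintype I]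
    (U : Opens T) (b : I → M.val.obj (op U)) (h : LocBasis M U b) :
    Nonempty (M.over U ≅ SheafOfModules.free (R := R.over U) I) := by
  classical
  let π : SheafOfModules.free (R := R.over U) I ⟶ M.over U :=
    (M.over U).freeHomEquiv.symm (fun i => secOver M U (b i))
  haveI : Epi π := epi_of_locSpan U b h.1
  haveI : Mono π := by
    apply mono_of_injective'
    intro Y
    induction Y using Opposite.rec with | _ Y => ?_
    rcases Y with ⟨D, ⟨⟨⟩⟩, f⟩
    have hD : D ≤ U := f.le
    rw [injective_iff_map_eq_zero]
    intro z hz
    rw [← ofCoord_coord (R := R.over U) (op (Over.mk (homOfLE hD))) z] at hz ⊢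
    have h1 := π_ofCoord (R := R.over U) (M := M.over U) (fun i => secOver M U (b i))
      (op (Over.mk (homOfLE hD)))
      (fun i => ((coord (R := R.over U) i).val.app (op (Over.mk (homOfLE hD)))).hom z)
    have h2 := h.2 D hD _ (h1.symm.trans hz)
    rw [h2]
    unfold ofCoord
    refine Finset.sum_eq_zero (fun i _ => ?_)
    rw [Pi.zero_apply]
    exact zero_smul ((R.over U).obj.obj (op (Over.mk (homOfLE hD))))
      (secVal (SheafOfModules.freeSection (R := R.over U) i) (op (Over.mk (homOfLE hD))))
  haveI : IsIso π := isIso_of_mono_of_epi π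
  exact ⟨(asIso π).symm⟩

end Groth.Agent.Lib.helper11.LocFree
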