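import Groth.Agent.Lib.Helper11.EpiLocSurj
import Groth.Agent.Lib.Helper11.OverGen
import Groth.Agent.Lib.Helper11.FreeSec
import Groth.Agent.Lib.Helper11.OverPres

/-!
# Local generation of sheaves of modules on a ringed space (helper11)

`LocSpan M U m`: the sections `m i ∈ M(U)` locally span `M` over `U`.  Equivalent to the
corresponding morphism `free ι ⟶ M.over U` being an epimorphism (`epi_of_locSpan`,
`locSpan_of_epi` for finite `ι`), and `isFiniteType_iff_locSpan`.
-/

set_option autoImplicit false
universe u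
open CategoryTheory CategoryTheory.Limits TopologicalSpace Opposite

namespace Groth.Agent.Lib.helper11.LocGen

open Groth.Agent.Lib.helper11.OverGen Groth.Agent.Lib.helper11.FreeSec
  Groth.Agent.Lib.helper11.EpiLocSurj

variable {T : TopCat.{u}} {R : Sheaf (Opens.grothendieckTopology T) RingCat.{u}}

/-- an epimorphism of sheaves of modules on a space is locally surjective -/
theorem exists_local_preimage {F G : SheafOfModules.{u} R} (p : F ⟶ G) [Epi p] (U : Opens T)
    (y : G.val.obj (op U)) (x : T) (hx : x ∈ U) :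
    ∃ (W : Opens T) (hW : W ≤ U), x ∈ W ∧ ∃ z : F.val.obj (op W),
      (p.val.app (op W)).hom z = resM G hW y := by
  obtain ⟨S, hS, h⟩ := locally_surjective_of_epi p U y
  obtain ⟨W, f, hf, hxW⟩ := hS x hx
  obtain ⟨z, hz⟩ := h f hf
  exact ⟨W, f.le, hxW, z, hz⟩

/-- an epimorphism of sheaves of modules on `Over U` is locally surjective -/
theorem exists_local_preimage_over {U : Opens T} {F G : SheafOfModules.{u} (R.over U)} (p : F ⟶ G)
    [Epi p] (D : Opens T) (hD : D ≤ U) (y : G.val.obj (op (Over.mk (homOfLE hD)))) (x : T)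
    (hx : x ∈ D) :
    ∃ (W : Opens T) (hW : W ≤ D), x ∈ W ∧
      ∃ z : F.val.obj (op (Over.mk (homOfLE (hW.trans hD)))),
        (p.val.app (op (Over.mk (homOfLE (hW.trans hD))))).hom z =
          (G.val.map (Over.homMk (homOfLE hW) (Subsingleton.elim _ _) :
            Over.mk (homOfLE (hW.trans hD)) ⟶ Over.mk (homOfLE hD)).op).hom y := by
  obtain ⟨S, hS, h⟩ := locally_surjective_of_epi p (Over.mk (homOfLE hD)) y
  rw [GrothendieckTopology.mem_over_iff] at hS
  obtain ⟨W, f, hf, hxW⟩ := hS x hx
  rw [Sieve.overEquiv_iff] at hf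
  obtain ⟨z, hz⟩ := h _ hf
  exact ⟨W, f.le, hxW, z, hz⟩

variable (M : SheafOfModules.{u} R)

/-- the sections `m i` locally span `M` over `U` -/
def LocSpan {ι : Type u} (U : Opens T) (m : ι → M.val.obj (op U)) : Prop :=
  ∀ (D : Opens T) (hD : D ≤ U) (y : M.val.obj (op D)) (x : T), x ∈ D →
    ∃ (D' : Opens T) (hD' : D' ≤ D), x ∈ D' ∧ resM M hD' y ∈
      Submodule.span (R.obj.obj (op D')) (Set.range fun i => resM M (hD'.trans hD) (m i))

variable {M}

theorem resM_resM {U D D' : Opens T} (hD : D ≤ U) (hD' : D' ≤ D) (m : M.val.obj (op U)) :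
    resM M hD' (resM M hD m) = resM M (hD'.trans hD) m := by
  unfold resM
  rw [← PresheafOfModules.map_comp_apply]
  rfl

theorem resM_smul {U D : Opens T} (hD : D ≤ U) (r : R.obj.obj (op U)) (m : M.val.obj (op U)) :
    resM M hD (r • m) = (R.obj.map (homOfLE hD).op).hom r • resM M hD m :=
  PresheafOfModules.map_smul M.val (homOfLE hD).op r m

theorem resM_add {U D : Opens T} (hD : D ≤ U) (m m' : M.val.obj (op U)) :
    resM M hD (m + m') = resM M hD m + resM M hD m' := map_add _ _ _

theorem resM_zero {U D : Opens T} (hD : D ≤ U) : resM M hD (0 : M.val.obj (op U)) = 0 := map_zero _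

theorem resM_sum {U D : Opens T} (hD : D ≤ U) {ι : Type*} (s : Finset ι) (f : ι → M.val.obj (op U)) :
    resM M hD (∑ i ∈ s, f i) = ∑ i ∈ s, resM M hD (f i) := map_sum _ _ _

/-- restriction maps spans into spans -/
theorem resM_mem_span {ι : Type u} {U D : Opens T} (hD : D ≤ U) (m : ι → M.val.obj (op U))
    {D' : Opens T} (hD' : D' ≤ D) {y : M.val.obj (op D)}
    (hy : y ∈ Submodule.span (R.obj.obj (op D)) (Set.range fun i => resM M hD (m i))) :
    resM M hD' y ∈ Submodule.span (R.obj.obj (op D'))
      (Set.range fun i => resM M (hD'.trans hD) (m i)) := by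
  induction hy using Submodule.span_induction with
  | mem y hy =>
    obtain ⟨i, rfl⟩ := hy
    exact Submodule.subset_span ⟨i, (resM_resM hD hD' (m i)).symm⟩
  | zero => rw [resM_zero]; exact Submodule.zero_mem _
  | add y y' _ _ h h' => rw [resM_add]; exact Submodule.add_mem _ h h'
  | smul r y _ h => rw [resM_smul]; exact Submodule.smul_mem _ _ h

theorem LocSpan.mono {ι : Type u} {U V : Opens T} (hV : V ≤ U) {m : ι → M.val.obj (op U)}
    (h : LocSpan M U m) : LocSpan M V (fun i => resM M hV (m i)) := by
  intro D hD y x hx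
  obtain ⟨D', hD', hxD', hy⟩ := h D (hD.trans hV) y x hx
  refine ⟨D', hD', hxD', ?_⟩
  have : (fun i => resM M (hD'.trans hD) (resM M hV (m i))) =
      fun i => resM M (hD'.trans (hD.trans hV)) (m i) := by
    funext i
    exact resM_resM hV (hD'.trans hD) (m i)
  rw [this]
  exact hy

/-- sections which locally span define an epimorphism from the free module -/
theorem epi_of_locSpan {ι : Type u} (U : Opens T) (m : ι → M.val.obj (op U))
    (h : LocSpan M U m) :
    Epi ((M.over U).freeHomEquiv.symm (fun i => secOver M U (m i))) := by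
  apply epi_of_locally_surjective
  intro X y
  refine ⟨⟨fun Y f => ∃ x : (SheafOfModules.free (R := R.over U) ι).val.obj (op Y),
      (((M.over U).freeHomEquiv.symm (fun i => secOver M U (m i))).val.app (op Y)).hom x =
        ((M.over U).val.map f.op).hom y, ?_⟩, ?_, fun Y f hf => hf⟩
  · rintro Y Z f ⟨x, hx⟩ g
    refine ⟨((SheafOfModules.free (R := R.over U) ι).val.map g.op).hom x, ?_⟩
    have hn := PresheafOfModules.naturality_apply
      ((M.over U).freeHomEquiv.symm (fun i => secOver M U (m i))).val g.op x
    refine hn.trans ?_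
    rw [hx, ← PresheafOfModules.map_comp_apply]
    rfl
  · rw [GrothendieckTopology.mem_over_iff]
    intro x hx
    have hXU : X.left ≤ U := X.hom.le
    obtain ⟨D', hD', hxD', hy⟩ := h X.left hXU y x hx
    refine ⟨D', homOfLE hD', ?_, hxD'⟩
    rw [Sieve.overEquiv_iff]
    obtain ⟨z, hz⟩ := exists_preimage_of_span U m D' (hD'.trans hXU) _ hy
    exact ⟨z, hz⟩

/-- a section of `M.over U` is determined by its value on `U` -/
theorem sections_eq_secOver (U : Opens T) (s : (M.over U).sections) :
    s = secOver M U (s.val (op (Over.mk (𝟙 U)))) := by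
  apply Subtype.ext
  funext Y
  induction Y using Opposite.rec with | _ Y => ?_
  let f : Y ⟶ Over.mk (𝟙 U) := Over.homMk Y.hom (by simp)
  have h := PresheafOfModules.sections_property s f.op
  rw [secOver_val]
  exact h.symm

/-- an epimorphism from a finite free module gives sections which locally span -/
theorem locSpan_of_epi {ι : Type u} [Finite ι] (U : Opens T) (m : ι → M.val.obj (op U))
    [h : Epi ((M.over U).freeHomEquiv.symm (fun i => secOver M U (m i)))] :
    LocSpan M U m := by
  classical
  haveI := Fintype.ofFinite ι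
  intro D hD y x hx
  obtain ⟨W, hW, hxW, z, hz⟩ := exists_local_preimage_over
    ((M.over U).freeHomEquiv.symm (fun i => secOver M U (m i))) D hD y x hx
  refine ⟨W, hW, hxW, ?_⟩
  rw [π_apply] at hz
  have hz' : resM M hW y = ∑ i : ι, (show R.obj.obj (op W) from
      ((coord (R := R.over U) i).val.app (op (Over.mk (homOfLE (hW.trans hD))))).hom z) •
        resM M (hW.trans hD) (m i) := hz.symm
  rw [hz']
  refine Submodule.sum_mem _ (fun i _ => Submodule.smul_mem _ _ (Submodule.subset_span ⟨i, rfl⟩))

variable (M)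

/-- finite type from local spanning families -/
theorem isFiniteType_of_locSpan
    (h : ∀ x : T, ∃ (U : Opens T), x ∈ U ∧ ∃ (ι : Type u) (_ : Finite ι)
      (m : ι → M.val.obj (op U)), LocSpan M U m) :
    SheafOfModules.IsFiniteType (R := R) M := by
  choose W hxW I hI m hm using h
  let σ : SheafOfModules.LocalGeneratorsData.{u} M :=
    { I := T
      X := W
      coversTop := (Opens.coversTop_iff _ _).mpr (by
        apply top_unique
        intro x _
        exact Opens.mem_iSup.mpr ⟨x, hxW x⟩)
      generators := fun x =>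
        { I := I x
          s := fun j => secOver M (W x) (m x j)
          epi := epi_of_locSpan (W x) (m x) (hm x) } }
  have h : σ.IsFiniteType :=
    @SheafOfModules.LocalGeneratorsData.IsFiniteType.mk _ _ _ _ _ _ _ σ
      (fun x => @SheafOfModules.GeneratingSections.IsFiniteType.mk _ _ _ _ _ _ _
        (σ.generators x) (hI x))
  exact @SheafOfModules.IsFiniteType.mk _ _ _ _ _ _ M ⟨σ, h⟩

/-- local spanning families from finite type -/
theorem exists_locSpan_of_isFiniteType [SheafOfModules.IsFiniteType (R := R) M] (x : T) :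
    ∃ (U : Opens T), x ∈ U ∧ ∃ (ι : Type u) (_ : Finite ι)
      (m : ι → M.val.obj (op U)), LocSpan M U m := by
  obtain ⟨σ, hσ⟩ := SheafOfModules.IsFiniteType.exists_localGeneratorsData (M := M)
  have hcov := (Opens.coversTop_iff _ _).mp σ.coversTop
  have hx : x ∈ (⨆ i, σ.X i) := hcov ▸ Opens.mem_top x
  obtain ⟨i, hi⟩ := Opens.mem_iSup.mp hx
  have hfin : Finite (σ.generators i).I := (hσ.isFiniteType i).finite
  let m : (σ.generators i).I → M.val.obj (op (σ.X i)) :=
    fun j => ((σ.generators i).s j).val (op (Over.mk (𝟙 (σ.X i))))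
  have hs : (σ.generators i).s = fun j => secOver M (σ.X i) (m j) := by
    funext j
    exact sections_eq_secOver (σ.X i) _
  have hepi : Epi ((M.over (σ.X i)).freeHomEquiv.symm (fun j => secOver M (σ.X i) (m j))) := by
    rw [← hs]
    exact (σ.generators i).epi
  exact ⟨σ.X i, hi, (σ.generators i).I, hfin, m, locSpan_of_epi (σ.X i) m⟩

end Groth.Agent.Lib.helper11.LocGen
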