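import Groth.Agent.Lib.Helper11.LocGen
import Groth.Agent.Lib.Helper7.KerSections

/-!
# Extensions of finite type modules are of finite type (helper11)
-/

set_option autoImplicit false
universe u
open CategoryTheory CategoryTheory.Limits TopologicalSpace Opposite

namespace Groth.Agent.Lib.helper11.LocGenExt

open Groth.Agent.Lib.helper11.OverGen Groth.Agent.Lib.helper11.LocGen

variable {T : TopCat.{u}} {R : Sheaf (Opens.grothendieckTopology T) RingCat.{u}}

theorem app_resM {F G : SheafOfModules.{u} R} (p : F ⟶ G) {U D : Opens T} (hD : D ≤ U)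
    (y : F.val.obj (op U)) :
    (p.val.app (op D)).hom (resM F hD y) = resM G hD ((p.val.app (op U)).hom y) :=
  PresheafOfModules.naturality_apply p.val (homOfLE hD).op y

theorem map_mem_span {F G : SheafOfModules.{u} R} (p : F ⟶ G) {ι : Type*} {D : Opens T}
    (a : ι → F.val.obj (op D)) {w : F.val.obj (op D)}
    (hw : w ∈ Submodule.span (R.obj.obj (op D)) (Set.range a)) :
    (p.val.app (op D)).hom w ∈ Submodule.span (R.obj.obj (op D))
      (Set.range fun i => (p.val.app (op D)).hom (a i)) := by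
  have h1 := Submodule.mem_map_of_mem (f := (p.val.app (op D)).hom) hw
  rw [Submodule.map_span, ← Set.range_comp] at h1
  exact h1

theorem exists_mem_span_of_map {F G : SheafOfModules.{u} R} (p : F ⟶ G) {ι : Type*} {D : Opens T}
    (a : ι → F.val.obj (op D)) {y : G.val.obj (op D)}
    (hy : y ∈ Submodule.span (R.obj.obj (op D))
      (Set.range fun i => (p.val.app (op D)).hom (a i))) :
    ∃ w ∈ Submodule.span (R.obj.obj (op D)) (Set.range a), (p.val.app (op D)).hom w = y := by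
  have h1 : Submodule.span (R.obj.obj (op D)) (Set.range fun i => (p.val.app (op D)).hom (a i)) =
      Submodule.map (p.val.app (op D)).hom (Submodule.span (R.obj.obj (op D)) (Set.range a)) := by
    rw [Submodule.map_span, ← Set.range_comp]
    rfl
  rw [h1] at hy
  obtain ⟨w, hw, rfl⟩ := hy
  exact ⟨w, hw, rfl⟩

/-- common neighbourhood for finitely many local choices -/
theorem exists_common_nhd {ι : Type*} [Finite ι] (x : T) (U : Opens T) (hx : x ∈ U)
    (P : ι → Opens T → Prop)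
    (hP : ∀ i, ∃ W : Opens T, W ≤ U ∧ x ∈ W ∧ P i W)
    (hmono : ∀ i (W W' : Opens T), W' ≤ W → P i W → P i W') :
    ∃ W : Opens T, W ≤ U ∧ x ∈ W ∧ ∀ i, P i W := by
  classical
  haveI := Fintype.ofFinite ι
  choose W hWU hxW hPW using hP
  refine ⟨U ⊓ Finset.univ.inf W, inf_le_left, ⟨hx, ?_⟩, fun i => ?_⟩
  · exact Finset.inf_induction (p := fun V : Opens T => x ∈ V) (Opens.mem_top x)
      (fun a ha b hb => ⟨ha, hb⟩) (fun i _ => hxW i)
  · exact hmono i _ _ (inf_le_right.trans (Finset.inf_le (Finset.mem_univ i))) (hPW i)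

/-- an extension of finite type modules is of finite type -/
theorem isFiniteType_of_shortExact (S : ShortComplex (SheafOfModules.{u} R)) (hS : S.ShortExact)
    [SheafOfModules.IsFiniteType (R := R) S.X₁] [SheafOfModules.IsFiniteType (R := R) S.X₃] :
    SheafOfModules.IsFiniteType (R := R) S.X₂ := by
  haveI := hS.mono_f
  haveI := hS.epi_g
  apply isFiniteType_of_locSpan
  intro x
  obtain ⟨U₁, hxU₁, ι₁, hι₁, m₁, h₁⟩ := exists_locSpan_of_isFiniteType S.X₁ x
  obtain ⟨U₃, hxU₃, ι₃, hι₃, m₃, h₃⟩ := exists_locSpan_of_isFiniteType S.X₃ x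
  -- lift the generators of `X₃`
  obtain ⟨W, hWU, hxW, hW⟩ := exists_common_nhd x (U₁ ⊓ U₃) ⟨hxU₁, hxU₃⟩
    (fun (j : ι₃) (W : Opens T) => ∃ (hW : W ≤ U₃) (z : S.X₂.val.obj (op W)),
      (S.g.val.app (op W)).hom z = resM S.X₃ hW (m₃ j))
    (fun j => by
      obtain ⟨W, hW, hxW, z, hz⟩ := exists_local_preimage S.g (U₁ ⊓ U₃)
        (resM S.X₃ inf_le_right (m₃ j)) x ⟨hxU₁, hxU₃⟩
      exact ⟨W, hW, hxW, hW.trans inf_le_right, z, hz.trans (resM_resM _ _ _)⟩)
    (fun j W W' hW' hP => by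
      obtain ⟨hW, z, hz⟩ := hP
      exact ⟨hW'.trans hW, resM S.X₂ hW' z,
        (app_resM S.g hW' z).trans (by rw [hz, resM_resM])⟩)
  have hW₁ : W ≤ U₁ := hWU.trans inf_le_left
  have hW₃ : W ≤ U₃ := hWU.trans inf_le_right
  choose hW' z hz using hW
  let m : ι₁ ⊕ ι₃ → S.X₂.val.obj (op W) :=
    Sum.elim (fun i => (S.f.val.app (op W)).hom (resM S.X₁ hW₁ (m₁ i))) z
  refine ⟨W, hxW, ι₁ ⊕ ι₃, inferInstance, m, ?_⟩
  intro D hD y x' hx'
  -- step 1: `g y` is locally in the span of the `m₃ j`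
  obtain ⟨D', hD', hx'D', hy3⟩ := h₃ D (hD.trans hW₃) ((S.g.val.app (op D)).hom y) x' hx'
  have hfam3 : (fun j => resM S.X₃ (hD'.trans (hD.trans hW₃)) (m₃ j)) =
      fun j => (S.g.val.app (op D')).hom (resM S.X₂ (hD'.trans hD) (z j)) := by
    funext j
    rw [app_resM, hz, resM_resM]
  rw [hfam3] at hy3
  obtain ⟨w, hw, hgw⟩ := exists_mem_span_of_map S.g _ hy3
  -- step 2: `y - w` comes from `X₁`
  have hker : (S.g.val.app (op D')).hom (resM S.X₂ hD' y - w) = 0 := by
    rw [map_sub, hgw, app_resM, sub_self]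
  obtain ⟨a, ha⟩ := (Groth.Agent.Lib.helper7.KerSections.sections_leftExact_general S hS.exact
    (op D')).2 _ hker
  -- step 3: `a` is locally in the span of the `m₁ i`
  obtain ⟨D'', hD'', hx'D'', ha1⟩ := h₁ D' (hD'.trans (hD.trans hW₁)) a x' hx'D'
  refine ⟨D'', hD''.trans hD', hx'D'', ?_⟩
  have hy : resM S.X₂ (hD''.trans hD') y =
      (S.f.val.app (op D'')).hom (resM S.X₁ hD'' a) + resM S.X₂ hD'' w := by
    rw [app_resM, ha, ← resM_add, sub_add_cancel, resM_resM]
  rw [hy]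
  refine Submodule.add_mem _ ?_ ?_
  · have h2 := map_mem_span S.f _ ha1
    refine Submodule.span_mono ?_ h2
    rintro _ ⟨i, rfl⟩
    refine ⟨Sum.inl i, ?_⟩
    change resM S.X₂ _ ((S.f.val.app (op W)).hom (resM S.X₁ hW₁ (m₁ i))) = _
    rw [← app_resM, resM_resM]
  · have h2 := resM_mem_span (hD'.trans hD) z hD'' hw
    refine Submodule.span_mono ?_ h2
    rintro _ ⟨j, rfl⟩
    exact ⟨Sum.inr j, rfl⟩

end Groth.Agent.Lib.helper11.LocGenExt
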