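import Groth.Agent.Lib.Helper11.LocFree

/-!
# Germs of sections on ringed spaces (helper11)
-/

set_option autoImplicit false
universe u
open CategoryTheory CategoryTheory.Limits TopologicalSpace Opposite

namespace Groth.Agent.Lib.helper11.LocGerm

open Groth.Agent.Lib.helper11.OverGen Groth.Agent.Lib.helper11.FreeSec
  Groth.Agent.Lib.helper11.LocGen Groth.Agent.Lib.helper11.LocPres
  Groth.Agent.Lib.helper11.LocGenExt Groth.Agent.Lib.helper11.LocKer
  Groth.Agent.Lib.helper11.OverPres Groth.Agent.Lib.helper11.LocFree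

variable {X : TopCat.{u}} {O : TopCat.Sheaf CommRingCat.{u} X} (x : X)

/-- germ of a module section at `x` -/
noncomputable def gM (F : ModSite.Mod O) {U : Opens X} (hx : x ∈ U) (m : F.val.obj (op U)) :
    ModSite.stalkAb (Opens.pointGrothendieckTopology x) F :=
  ModSite.germ (Opens.pointGrothendieckTopology x) F U ⟨⟨hx⟩⟩ m

/-- germ of a function at `x` -/
noncomputable def gR {U : Opens X} (hx : x ∈ U) (r : (ModSite.ringSh O).obj.obj (op U)) :
    ModSite.stalkRing (Opens.pointGrothendieckTopology x) O :=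
  ModSite.germRing (Opens.pointGrothendieckTopology x) U ⟨⟨hx⟩⟩ r

variable {x}
variable {F : ModSite.Mod O}

theorem gM_add {U : Opens X} (hx : x ∈ U) (m m' : F.val.obj (op U)) :
    gM x F hx (m + m') = gM x F hx m + gM x F hx m' :=
  map_add ((Opens.pointGrothendieckTopology x).toPresheafFiber U ⟨⟨hx⟩⟩ (ModSite.toAb F).obj).hom m m'

theorem gM_zero {U : Opens X} (hx : x ∈ U) : gM x F hx (0 : F.val.obj (op U)) = 0 :=
  map_zero ((Opens.pointGrothendieckTopology x).toPresheafFiber U ⟨⟨hx⟩⟩ (ModSite.toAb F).obj).hom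

theorem gM_sum {U : Opens X} (hx : x ∈ U) {ι : Type*} (s : Finset ι) (f : ι → F.val.obj (op U)) :
    gM x F hx (∑ i ∈ s, f i) = ∑ i ∈ s, gM x F hx (f i) :=
  map_sum ((Opens.pointGrothendieckTopology x).toPresheafFiber U ⟨⟨hx⟩⟩ (ModSite.toAb F).obj).hom f s

theorem gM_smul {U : Opens X} (hx : x ∈ U) (r : (ModSite.ringSh O).obj.obj (op U))
    (m : F.val.obj (op U)) : gM x F hx (r • m) = gR x hx r • gM x F hx m :=
  ModSite.germ_smul (Opens.pointGrothendieckTopology x) F U ⟨⟨hx⟩⟩ r m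

theorem gR_add {U : Opens X} (hx : x ∈ U) (r s : (ModSite.ringSh O).obj.obj (op U)) :
    gR x hx (r + s) = gR x hx r + gR x hx s :=
  map_add ((Opens.pointGrothendieckTopology x).toPresheafFiber U ⟨⟨hx⟩⟩ O.obj).hom r s

theorem gR_mul {U : Opens X} (hx : x ∈ U) (r s : (ModSite.ringSh O).obj.obj (op U)) :
    gR x hx (r * s) = gR x hx r * gR x hx s :=
  map_mul ((Opens.pointGrothendieckTopology x).toPresheafFiber U ⟨⟨hx⟩⟩ O.obj).hom r s

theorem gR_zero {U : Opens X} (hx : x ∈ U) :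
    gR x hx (0 : (ModSite.ringSh O).obj.obj (op U)) = 0 :=
  map_zero ((Opens.pointGrothendieckTopology x).toPresheafFiber U ⟨⟨hx⟩⟩ O.obj).hom

theorem gR_one {U : Opens X} (hx : x ∈ U) :
    gR x hx (1 : (ModSite.ringSh O).obj.obj (op U)) = 1 :=
  map_one ((Opens.pointGrothendieckTopology x).toPresheafFiber U ⟨⟨hx⟩⟩ O.obj).hom

theorem gR_sum {U : Opens X} (hx : x ∈ U) {ι : Type*} (s : Finset ι)
    (f : ι → (ModSite.ringSh O).obj.obj (op U)) :
    gR x hx (∑ i ∈ s, f i) = ∑ i ∈ s, gR x hx (f i) :=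
  map_sum ((Opens.pointGrothendieckTopology x).toPresheafFiber U ⟨⟨hx⟩⟩ O.obj).hom f s

theorem gM_res {U W : Opens X} (hW : W ≤ U) (hxW : x ∈ W) (m : F.val.obj (op U)) :
    gM x F hxW (resM F hW m) = gM x F (hW hxW) m :=
  (Opens.pointGrothendieckTopology x).toPresheafFiber_w_apply (homOfLE hW) ⟨⟨hxW⟩⟩
    (ModSite.toAb F).obj m

theorem gR_res {U W : Opens X} (hW : W ≤ U) (hxW : x ∈ W) (r : (ModSite.ringSh O).obj.obj (op U)) :
    gR x hxW (resR (R := ModSite.ringSh O) hW r) = gR x (hW hxW) r :=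
  (Opens.pointGrothendieckTopology x).toPresheafFiber_w_apply (homOfLE hW) ⟨⟨hxW⟩⟩ O.obj r

theorem exists_gM_eq (γ : ModSite.stalkAb (Opens.pointGrothendieckTopology x) F) (U : Opens X)
    (hxU : x ∈ U) : ∃ (W : Opens X) (_ : W ≤ U) (hxW : x ∈ W) (s : F.val.obj (op W)),
      gM x F hxW s = γ := by
  obtain ⟨V, v, g, rfl⟩ := (Opens.pointGrothendieckTopology x).toPresheafFiber_jointly_surjective
    (P := (ModSite.toAb F).obj) γ
  have hxV : x ∈ V := v.down.down
  refine ⟨V ⊓ U, inf_le_right, ⟨hxV, hxU⟩, resM F (inf_le_left : V ⊓ U ≤ V) g, ?_⟩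
  exact gM_res _ _ _

theorem exists_gR_eq (γ : ModSite.stalkRing (Opens.pointGrothendieckTopology x) O) (U : Opens X)
    (hxU : x ∈ U) : ∃ (W : Opens X) (_ : W ≤ U) (hxW : x ∈ W)
      (s : (ModSite.ringSh O).obj.obj (op W)), gR x hxW s = γ := by
  obtain ⟨V, v, g, rfl⟩ := (Opens.pointGrothendieckTopology x).toPresheafFiber_jointly_surjective
    (P := O.obj) γ
  have hxV : x ∈ V := v.down.down
  refine ⟨V ⊓ U, inf_le_right, ⟨hxV, hxU⟩, resR (R := ModSite.ringSh O) (inf_le_left : V ⊓ U ≤ V) g, ?_⟩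
  exact gR_res _ _ _

theorem exists_res_eq_of_gM_eq {U : Opens X} (hxU : x ∈ U) (s t : F.val.obj (op U))
    (h : gM x F hxU s = gM x F hxU t) :
    ∃ (W : Opens X) (hW : W ≤ U), x ∈ W ∧ resM F hW s = resM F hW t := by
  obtain ⟨Y, f, y, -, hY⟩ := ((Opens.pointGrothendieckTopology x).toPresheafFiber_eq_iff'
    (P := (ModSite.toAb F).obj) U ⟨⟨hxU⟩⟩ _ _).mp h
  exact ⟨Y, f.le, y.down.down, hY⟩

theorem exists_res_eq_of_gR_eq {U : Opens X} (hxU : x ∈ U) (s t : (ModSite.ringSh O).obj.obj (op U))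
    (h : gR x hxU s = gR x hxU t) :
    ∃ (W : Opens X) (hW : W ≤ U), x ∈ W ∧
      resR (R := ModSite.ringSh O) hW s = resR (R := ModSite.ringSh O) hW t := by
  obtain ⟨Y, f, y, -, hY⟩ := ((Opens.pointGrothendieckTopology x).toPresheafFiber_eq_iff'
    (P := O.obj) U ⟨⟨hxU⟩⟩ _ _).mp h
  exact ⟨Y, f.le, y.down.down, hY⟩

theorem gR_ite {U : Opens X} (hx : x ∈ U) (P : Prop) [Decidable P] :
    gR x hx (if P then (1 : (ModSite.ringSh O).obj.obj (op U)) else 0) = if P then 1 else 0 := by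
  split_ifs
  · exact gR_one hx
  · exact gR_zero hx

/-- a finite family of germs of sections has representatives on a common neighbourhood -/
theorem exists_common_gM {ι : Type*} [Finite ι]
    (γ : ι → ModSite.stalkAb (Opens.pointGrothendieckTopology x) F) (U : Opens X) (hxU : x ∈ U) :
    ∃ (W : Opens X) (_ : W ≤ U) (hxW : x ∈ W) (s : ι → F.val.obj (op W)),
      ∀ i, gM x F hxW (s i) = γ i := by
  obtain ⟨W, hWU, hxW, hW⟩ := exists_common_nhd x U hxU
    (fun (i : ι) (W : Opens X) => ∀ hxW : x ∈ W, ∃ s : F.val.obj (op W), gM x F hxW s = γ i)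
    (fun i => by
      obtain ⟨W, hW, hxW, s, hs⟩ := exists_gM_eq (γ i) U hxU
      exact ⟨W, hW, hxW, fun _ => ⟨s, hs⟩⟩)
    (fun i W W' hW' hP hxW' => by
      obtain ⟨s, hs⟩ := hP (hW' hxW')
      exact ⟨resM F hW' s, (gM_res hW' hxW' s).trans hs⟩)
  choose s hs using fun i => hW i hxW
  exact ⟨W, hWU, hxW, s, hs⟩

/-- a finite family of germs of functions has representatives on a common neighbourhood -/
theorem exists_common_gR {ι : Type*} [Finite ι]
    (γ : ι → ModSite.stalkRing (Opens.pointGrothendieckTopology x) O) (U : Opens X) (hxU : x ∈ U) :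
    ∃ (W : Opens X) (_ : W ≤ U) (hxW : x ∈ W) (s : ι → (ModSite.ringSh O).obj.obj (op W)),
      ∀ i, gR x hxW (s i) = γ i := by
  obtain ⟨W, hWU, hxW, hW⟩ := exists_common_nhd x U hxU
    (fun (i : ι) (W : Opens X) => ∀ hxW : x ∈ W, ∃ s : (ModSite.ringSh O).obj.obj (op W),
      gR x hxW s = γ i)
    (fun i => by
      obtain ⟨W, hW, hxW, s, hs⟩ := exists_gR_eq (γ i) U hxU
      exact ⟨W, hW, hxW, fun _ => ⟨s, hs⟩⟩)
    (fun i W W' hW' hP hxW' => by
      obtain ⟨s, hs⟩ := hP (hW' hxW')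
      exact ⟨resR (R := ModSite.ringSh O) hW' s, (gR_res hW' hxW' s).trans hs⟩)
  choose s hs using fun i => hW i hxW
  exact ⟨W, hWU, hxW, s, hs⟩

/-- finitely many equalities of germs of sections hold on a common neighbourhood -/
theorem exists_common_res_eq_gM {ι : Type*} [Finite ι] {U : Opens X} (hxU : x ∈ U)
    (s t : ι → F.val.obj (op U)) (h : ∀ i, gM x F hxU (s i) = gM x F hxU (t i)) :
    ∃ (W : Opens X) (hW : W ≤ U), x ∈ W ∧ ∀ i, resM F hW (s i) = resM F hW (t i) := by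
  obtain ⟨W, hWU, hxW, hW⟩ := exists_common_nhd x U hxU
    (fun (i : ι) (W : Opens X) => ∃ hW : W ≤ U, resM F hW (s i) = resM F hW (t i))
    (fun i => by
      obtain ⟨W, hW, hxW, hs⟩ := exists_res_eq_of_gM_eq hxU (s i) (t i) (h i)
      exact ⟨W, hW, hxW, hW, hs⟩)
    (fun i W W' hW' hP => by
      obtain ⟨hWU, hs⟩ := hP
      refine ⟨hW'.trans hWU, ?_⟩
      rw [← resM_resM hWU hW', ← resM_resM hWU hW', hs])
  exact ⟨W, hWU, hxW, fun i => (hW i).2⟩

/-- finitely many equalities of germs of functions hold on a common neighbourhood -/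
theorem exists_common_res_eq_gR {ι : Type*} [Finite ι] {U : Opens X} (hxU : x ∈ U)
    (s t : ι → (ModSite.ringSh O).obj.obj (op U)) (h : ∀ i, gR x hxU (s i) = gR x hxU (t i)) :
    ∃ (W : Opens X) (hW : W ≤ U), x ∈ W ∧
      ∀ i, resR (R := ModSite.ringSh O) hW (s i) = resR (R := ModSite.ringSh O) hW (t i) := by
  obtain ⟨W, hWU, hxW, hW⟩ := exists_common_nhd x U hxU
    (fun (i : ι) (W : Opens X) => ∃ hW : W ≤ U,
      resR (R := ModSite.ringSh O) hW (s i) = resR (R := ModSite.ringSh O) hW (t i))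
    (fun i => by
      obtain ⟨W, hW, hxW, hs⟩ := exists_res_eq_of_gR_eq hxU (s i) (t i) (h i)
      exact ⟨W, hW, hxW, hW, hs⟩)
    (fun i W W' hW' hP => by
      obtain ⟨hWU, hs⟩ := hP
      refine ⟨hW'.trans hWU, ?_⟩
      rw [← resR_resR hWU hW', ← resR_resR hWU hW', hs])
  exact ⟨W, hWU, hxW, fun i => (hW i).2⟩

end Groth.Agent.Lib.helper11.LocGerm
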