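import Groth.Agent.Lib.Helper11.ClosedPushMod3

/-!
# Morphisms out of a locally presented sheaf of modules (helper11)

`(T, R)` a ringed space, `M` a sheaf of modules with local generators `m i ∈ M(U)` (`LocSpan`) and
local relations `a` (`LocSyz`), `G` a sheaf of modules determined by its restriction to `U`
(`G(V) → G(V ⊓ U)` bijective for all `V`).  Then morphisms `M ⟶ G` are the same as families
`t i ∈ G(U)` satisfying the relations: `hom_ext_of_locSpan`, `exists_desc`.
-/

set_option autoImplicit false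
set_option backward.isDefEq.respectTransparency false
universe u
open CategoryTheory CategoryTheory.Limits TopologicalSpace Opposite

namespace Groth.Agent.Lib.helper11.LocHom

open Groth.Agent.Lib.helper11.OverGen Groth.Agent.Lib.helper11.LocGen
  Groth.Agent.Lib.helper11.LocPres Groth.Agent.Lib.helper11.LocGenExt
  Groth.Agent.Lib.helper11.ClosedPushMod Groth.Agent.Lib.helper11.LocFree

variable {T : TopCat.{u}} {R : Sheaf (Opens.grothendieckTopology T) RingCat.{u}}
  {M G : SheafOfModules.{u} R}

/-- linear maps agreeing on a spanning family agree on the span -/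
theorem app_eq_of_mem_span {I : Type u} (ψ₁ ψ₂ : M ⟶ G) {D : Opens T} (g : I → M.val.obj (op D))
    (h : ∀ i, (ψ₁.val.app (op D)).hom (g i) = (ψ₂.val.app (op D)).hom (g i))
    {y : M.val.obj (op D)} (hy : y ∈ Submodule.span (R.obj.obj (op D)) (Set.range g)) :
    (ψ₁.val.app (op D)).hom y = (ψ₂.val.app (op D)).hom y := by
  induction hy using Submodule.span_induction with
  | mem y hy =>
    obtain ⟨i, rfl⟩ := hy
    exact h i
  | zero => rw [map_zero, map_zero]
  | add y y' _ _ h1 h2 => rw [map_add, map_add, h1, h2]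
  | smul r y _ h1 => rw [map_smul, map_smul, h1]

/-- two morphisms to a sheaf determined on `U` which agree on local generators over `U` are equal -/
theorem hom_ext_of_locSpan {I : Type u} (U : Opens T) (m : I → M.val.obj (op U))
    (hgen : LocSpan M U m)
    (hG : ∀ V : Opens T, Function.Injective (resM G (inf_le_left : V ⊓ U ≤ V)))
    (ψ₁ ψ₂ : M ⟶ G)
    (h : ∀ i, (ψ₁.val.app (op U)).hom (m i) = (ψ₂.val.app (op U)).hom (m i)) : ψ₁ = ψ₂ := by
  apply SheafOfModules.hom_ext
  apply PresheafOfModules.hom_ext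
  intro V
  induction V using Opposite.rec with | _ V => ?_
  ext y
  apply hG V
  rw [← app_resM, ← app_resM]
  apply eq_of_locally_eq
  intro x hx
  obtain ⟨D', hD', hxD', hy⟩ := hgen (V ⊓ U) inf_le_right (resM M inf_le_left y) x hx
  refine ⟨D', hD', hxD', ?_⟩
  rw [← app_resM, ← app_resM]
  refine app_eq_of_mem_span ψ₁ ψ₂ _ (fun i => ?_) hy
  rw [app_resM, app_resM, h i]

section Desc

variable {I K : Type u} [Fintype I] [Fintype K]
  (U : Opens T) (m : I → M.val.obj (op U)) (a : K → I → R.obj.obj (op U))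
  (t : I → G.val.obj (op U))

/-- `z` is locally the value at `y` of the map determined by `m i ↦ t i` -/
def IsVal {V : Opens T} (y : M.val.obj (op V)) (z : G.val.obj (op V)) : Prop :=
  ∀ x ∈ V ⊓ U, ∃ (D : Opens T) (hD : D ≤ V ⊓ U), x ∈ D ∧ ∃ c : I → R.obj.obj (op D),
    resM M (hD.trans inf_le_left) y = ∑ i, c i • resM M (hD.trans inf_le_right) (m i) ∧
    resM G (hD.trans inf_le_left) z = ∑ i, c i • resM G (hD.trans inf_le_right) (t i)

theorem resM_sum_smul (N : SheafOfModules.{u} R) {D D' : Opens T} (hD' : D' ≤ D) {ι : Type*}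
    (s : Finset ι) (c : ι → R.obj.obj (op D)) (n : ι → N.val.obj (op D)) :
    resM N hD' (∑ i ∈ s, c i • n i) = ∑ i ∈ s, resR hD' (c i) • resM N hD' (n i) := by
  rw [resM_sum]
  exact Finset.sum_congr rfl (fun i _ => resM_smul' N hD' (c i) (n i))

include a in
/-- relations among the `m i` are satisfied by the `t i` -/
theorem consistent (hsyz : LocSyz M U m a) (ht : ∀ κ, ∑ i, a κ i • t i = 0)
    {D : Opens T} (hD : D ≤ U) (c c' : I → R.obj.obj (op D))
    (h : ∑ i, c i • resM M hD (m i) = ∑ i, c' i • resM M hD (m i)) :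
    ∑ i, c i • resM G hD (t i) = ∑ i, c' i • resM G hD (t i) := by
  have hd : ∑ i, (c i - c' i) • resM M hD (m i) = 0 := by
    simp only [sub_smul, Finset.sum_sub_distrib, h, sub_self]
  rw [← sub_eq_zero, ← Finset.sum_sub_distrib]
  simp only [← sub_smul]
  apply eq_zero_of_locally_zero
  intro x hx
  obtain ⟨D', hD', hxD', e, he⟩ := hsyz.2 D hD (fun i => c i - c' i) hd x hx
  refine ⟨D', hD', hxD', ?_⟩
  rw [resM_sum_smul]
  simp only [he, resM_resM]
  simp only [Finset.sum_smul, mul_smul]
  rw [Finset.sum_comm]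
  refine Finset.sum_eq_zero (fun κ _ => ?_)
  rw [← Finset.smul_sum]
  have h1 := congrArg (resM G (hD'.trans hD)) (ht κ)
  rw [resM_sum_smul, resM_zero] at h1
  rw [h1, smul_zero]

include a in
theorem isVal_unique (hsyz : LocSyz M U m a) (ht : ∀ κ, ∑ i, a κ i • t i = 0)
    (hG : ∀ V : Opens T, Function.Injective (resM G (inf_le_left : V ⊓ U ≤ V)))
    {V : Opens T} {y : M.val.obj (op V)} {z z' : G.val.obj (op V)}
    (h : IsVal U m t y z) (h' : IsVal U m t y z') : z = z' := by
  apply hG V
  apply eq_of_locally_eq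
  intro x hx
  obtain ⟨D, hD, hxD, c, hcy, hcz⟩ := h x hx
  obtain ⟨D', hD', hxD', c', hcy', hcz'⟩ := h' x hx
  refine ⟨D ⊓ D', inf_le_left.trans hD, ⟨hxD, hxD'⟩, ?_⟩
  rw [resM_resM, resM_resM]
  have e1 := congrArg (resM G (inf_le_left : D ⊓ D' ≤ D)) hcz
  have e2 := congrArg (resM G (inf_le_right : D ⊓ D' ≤ D')) hcz'
  rw [resM_resM, resM_sum_smul] at e1 e2
  simp only [resM_resM] at e1 e2
  have f1 := congrArg (resM M (inf_le_left : D ⊓ D' ≤ D)) hcy
  have f2 := congrArg (resM M (inf_le_right : D ⊓ D' ≤ D')) hcy'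
  rw [resM_resM, resM_sum_smul] at f1 f2
  simp only [resM_resM] at f1 f2
  exact e1.trans ((consistent U m a t hsyz ht _ _ _ (f1.symm.trans f2)).trans e2.symm)

include a in
theorem isVal_exists (hgen : LocSpan M U m) (hsyz : LocSyz M U m a)
    (ht : ∀ κ, ∑ i, a κ i • t i = 0)
    (hG : ∀ V : Opens T, Function.Surjective (resM G (inf_le_left : V ⊓ U ≤ V)))
    {V : Opens T} (y : M.val.obj (op V)) : ∃ z : G.val.obj (op V), IsVal U m t y z := by
  have h0 := fun x : ↥(V ⊓ U) => hgen (V ⊓ U) inf_le_right (resM M inf_le_left y) x.1 x.2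
  choose D hD hxD hy using h0
  have h1 := fun x => (Submodule.mem_span_range_iff_exists_fun _).mp (hy x)
  choose c hc using h1
  have hc' : ∀ x, resM M ((hD x).trans inf_le_left) y =
      ∑ i, c x i • resM M ((hD x).trans inf_le_right) (m i) := by
    intro x
    have := hc x
    simp only [resM_resM] at this
    exact this.symm
  let s : ∀ x, G.val.obj (op (D x)) := fun x =>
    ∑ i, c x i • resM G ((hD x).trans inf_le_right) (t i)
  have hcov : V ⊓ U ≤ ⨆ x, D x := fun p hp => Opens.mem_iSup.mpr ⟨⟨p, hp⟩, hxD _⟩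
  obtain ⟨sg, hsg, -⟩ := TopCat.Sheaf.existsUnique_gluing' ⟨G.val.presheaf, G.isSheaf⟩
    D (V ⊓ U) (fun x => homOfLE (hD x)) hcov s (fun x x' => by
      show resM G (inf_le_left : D x ⊓ D x' ≤ D x) (s x) =
        resM G (inf_le_right : D x ⊓ D x' ≤ D x') (s x')
      simp only [s]
      rw [resM_sum_smul, resM_sum_smul]
      simp only [resM_resM]
      apply consistent U m a t hsyz ht
      have f1 := congrArg (resM M (inf_le_left : D x ⊓ D x' ≤ D x)) (hc' x)
      have f2 := congrArg (resM M (inf_le_right : D x ⊓ D x' ≤ D x')) (hc' x')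
      rw [resM_resM, resM_sum_smul] at f1 f2
      simp only [resM_resM] at f1 f2
      exact f1.symm.trans f2)
  obtain ⟨z, hz⟩ := hG V sg
  refine ⟨z, fun p hp => ⟨D ⟨p, hp⟩, hD _, hxD _, c ⟨p, hp⟩, hc' _, ?_⟩⟩
  rw [← resM_resM (inf_le_left : V ⊓ U ≤ V) (hD ⟨p, hp⟩), hz]
  exact hsg ⟨p, hp⟩

theorem res_rep (N : SheafOfModules.{u} R) (n : I → N.val.obj (op U)) {V D D' : Opens T}
    (hD' : D' ≤ D) (hDV : D ≤ V) (hDU : D ≤ U) (y : N.val.obj (op V)) (c : I → R.obj.obj (op D))
    (h : resM N hDV y = ∑ i, c i • resM N hDU (n i)) :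
    resM N (hD'.trans hDV) y = ∑ i, resR hD' (c i) • resM N (hD'.trans hDU) (n i) := by
  have h1 := congrArg (resM N hD') h
  rw [resM_resM, resM_sum_smul] at h1
  simp only [resM_resM] at h1
  exact h1

theorem isVal_add {V : Opens T} {y y' : M.val.obj (op V)} {z z' : G.val.obj (op V)}
    (h : IsVal U m t y z) (h' : IsVal U m t y' z') : IsVal U m t (y + y') (z + z') := by
  intro x hx
  obtain ⟨D, hD, hxD, c, hcy, hcz⟩ := h x hx
  obtain ⟨D', hD', hxD', c', hcy', hcz'⟩ := h' x hx
  refine ⟨D ⊓ D', inf_le_left.trans hD, ⟨hxD, hxD'⟩,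
    fun i => resR inf_le_left (c i) + resR inf_le_right (c' i), ?_, ?_⟩
  · rw [resM_add]
    simp only [add_smul, Finset.sum_add_distrib]
    congr 1
    · exact res_rep U M m inf_le_left _ _ y c hcy
    · exact res_rep U M m inf_le_right _ _ y' c' hcy'
  · rw [resM_add]
    simp only [add_smul, Finset.sum_add_distrib]
    congr 1
    · exact res_rep U G t inf_le_left _ _ z c hcz
    · exact res_rep U G t inf_le_right _ _ z' c' hcz'

theorem isVal_smul {V : Opens T} {y : M.val.obj (op V)} {z : G.val.obj (op V)}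
    (r : R.obj.obj (op V)) (h : IsVal U m t y z) : IsVal U m t (r • y) (r • z) := by
  intro x hx
  obtain ⟨D, hD, hxD, c, hcy, hcz⟩ := h x hx
  refine ⟨D, hD, hxD, fun i => resR (hD.trans inf_le_left) r * c i, ?_, ?_⟩
  · rw [resM_smul', hcy, Finset.smul_sum]
    simp only [mul_smul]
  · rw [resM_smul', hcz, Finset.smul_sum]
    simp only [mul_smul]

theorem isVal_resM {V V' : Opens T} (hV' : V' ≤ V) {y : M.val.obj (op V)} {z : G.val.obj (op V)}
    (h : IsVal U m t y z) : IsVal U m t (resM M hV' y) (resM G hV' z) := by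
  intro x hx
  obtain ⟨D, hD, hxD, c, hcy, hcz⟩ := h x ⟨hV' hx.1, hx.2⟩
  refine ⟨D ⊓ V', le_inf inf_le_right (inf_le_left.trans (hD.trans inf_le_right)),
    ⟨hxD, hx.1⟩, fun i => resR inf_le_left (c i), ?_, ?_⟩
  · rw [resM_resM]
    exact res_rep U M m inf_le_left _ _ y c hcy
  · rw [resM_resM]
    exact res_rep U G t inf_le_left _ _ z c hcz

theorem isVal_gen (i : I) : IsVal U m t (m i) (t i) := by
  classical
  intro x hx
  refine ⟨U ⊓ U, le_rfl, hx, fun j => if j = i then 1 else 0, ?_, ?_⟩
  · rw [Finset.sum_eq_single i]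
    · simp only [if_true, one_smul]
    · intro j _ hj
      simp only [if_neg hj, zero_smul]
    · intro hi
      exact absurd (Finset.mem_univ i) hi
  · rw [Finset.sum_eq_single i]
    · simp only [if_true, one_smul]
    · intro j _ hj
      simp only [if_neg hj, zero_smul]
    · intro hi
      exact absurd (Finset.mem_univ i) hi

variable (hgen : LocSpan M U m) (hsyz : LocSyz M U m a) (ht : ∀ κ, ∑ i, a κ i • t i = 0)
  (hG : ∀ V : Opens T, Function.Bijective (resM G (inf_le_left : V ⊓ U ≤ V)))

/-- the value of the descended map -/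
noncomputable def val {V : Opens T} (y : M.val.obj (op V)) : G.val.obj (op V) :=
  (isVal_exists U m a t hgen hsyz ht (fun V => (hG V).2) y).choose

theorem val_spec {V : Opens T} (y : M.val.obj (op V)) :
    IsVal U m t y (val U m a t hgen hsyz ht hG y) :=
  (isVal_exists U m a t hgen hsyz ht (fun V => (hG V).2) y).choose_spec

theorem val_eq {V : Opens T} {y : M.val.obj (op V)} {z : G.val.obj (op V)}
    (h : IsVal U m t y z) : val U m a t hgen hsyz ht hG y = z :=
  isVal_unique U m a t hsyz ht (fun V => (hG V).1) (val_spec U m a t hgen hsyz ht hG y) h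

/-- **morphisms out of a locally presented module**: the morphism `M ⟶ G` with `m i ↦ t i` -/
noncomputable def desc : M ⟶ G :=
  ⟨PresheafOfModules.homMk
    { app := fun V => AddCommGrpCat.ofHom (AddMonoidHom.mk' (val U m a t hgen hsyz ht hG (V := V.unop))
        (fun y y' => val_eq U m a t hgen hsyz ht hG
          (isVal_add U m t (val_spec U m a t hgen hsyz ht hG y)
            (val_spec U m a t hgen hsyz ht hG y'))))
      naturality := by
        intro V V' f
        ext y
        obtain ⟨V⟩ := V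
        obtain ⟨V'⟩ := V'
        have hle : V' ≤ V := f.unop.le
        have hf : f = (homOfLE hle).op := Subsingleton.elim _ _
        subst hf
        exact val_eq U m a t hgen hsyz ht hG
          (isVal_resM U m t hle (val_spec U m a t hgen hsyz ht hG y)) }
    (fun V r y => val_eq U m a t hgen hsyz ht hG
      (isVal_smul U m t r (val_spec U m a t hgen hsyz ht hG y)))⟩

theorem desc_app {V : Opens T} (y : M.val.obj (op V)) :
    ((desc U m a t hgen hsyz ht hG).val.app (op V)).hom y = val U m a t hgen hsyz ht hG y := rfl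

theorem desc_gen (i : I) :
    ((desc U m a t hgen hsyz ht hG).val.app (op U)).hom (m i) = t i := by
  rw [desc_app]
  exact val_eq U m a t hgen hsyz ht hG (isVal_gen U m t i)

end Desc

end Groth.Agent.Lib.helper11.LocHom
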