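import Groth.Agent.Lib.Helper11.LocPres2
import Groth.Agent.Lib.Helper11.LocGenExt

/-!
# Kernels and cokernels of maps from finite type to finitely presented modules (helper11)
-/

set_option autoImplicit false
universe u
open CategoryTheory CategoryTheory.Limits TopologicalSpace Opposite

namespace Groth.Agent.Lib.helper11.LocKer

open Groth.Agent.Lib.helper11.OverGen Groth.Agent.Lib.helper11.LocGen
  Groth.Agent.Lib.helper11.LocPres Groth.Agent.Lib.helper11.LocGenExt

variable {T : TopCat.{u}} {R : Sheaf (Opens.grothendieckTopology T) RingCat.{u}}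

theorem resM_sum_smul (M : SheafOfModules.{u} R) {U D : Opens T} (hD : D ≤ U) {ι : Type*}
    [Fintype ι] (r : ι → R.obj.obj (op U)) (m : ι → M.val.obj (op U)) :
    resM M hD (∑ i, r i • m i) = ∑ i, resR hD (r i) • resM M hD (m i) := by
  rw [resM_sum]
  exact Finset.sum_congr rfl (fun i _ => resM_smul hD (r i) (m i))

theorem app_sum_smul {F G : SheafOfModules.{u} R} (p : F ⟶ G) {D : Opens T} {ι : Type*}
    [Fintype ι] (r : ι → R.obj.obj (op D)) (m : ι → F.val.obj (op D)) :
    (p.val.app (op D)).hom (∑ i, r i • m i) = ∑ i, r i • (p.val.app (op D)).hom (m i) := by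
  rw [map_sum]
  exact Finset.sum_congr rfl (fun i _ => map_smul _ _ _)

theorem LocSyz.mono {M : SheafOfModules.{u} R} {I K : Type u} [Fintype I] [Fintype K]
    {U V : Opens T} (hV : V ≤ U) {m : I → M.val.obj (op U)} {a : K → I → R.obj.obj (op U)}
    (h : LocSyz M U m a) :
    LocSyz M V (fun i => resM M hV (m i)) (fun k i => resR hV (a k i)) := by
  refine ⟨fun k => ?_, ?_⟩
  · rw [← resM_sum_smul, h.1 k, resM_zero]
  · intro D hD c hc x hx
    have hc' : ∑ l, c l • resM M (hD.trans hV) (m l) = 0 := by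
      refine Eq.trans ?_ hc
      refine Finset.sum_congr rfl (fun l _ => ?_)
      rw [resM_resM]
    obtain ⟨D', hD', hxD', e, he⟩ := h.2 D (hD.trans hV) c hc' x hx
    refine ⟨D', hD', hxD', e, fun l => ?_⟩
    rw [he l]
    refine Finset.sum_congr rfl (fun k _ => ?_)
    rw [resR_resR]

/-- the algebraic core of the kernel computation -/
theorem core_ker {A : Type*} [Ring A] {G₂ : Type*} [AddCommGroup G₂] [Module A G₂]
    {J I K : Type*} [Fintype J] [Fintype I] [Fintype K] (g : J → G₂) (f' : I → G₂)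
    (b : J → I → A) (a : K → I → A) (c : J → A) (e : K → A)
    (hd : ∀ i, ∑ j, c j * b j i = ∑ k, e k * a k i) :
    ∑ j, c j • g j = ∑ j, c j • (g j - ∑ i, b j i • f' i) + ∑ k, e k • (∑ i, a k i • f' i) := by
  have h1 : ∑ j, c j • (∑ i, b j i • f' i) = ∑ k, e k • (∑ i, a k i • f' i) := by
    simp only [Finset.smul_sum, smul_smul]
    rw [Finset.sum_comm]
    conv_rhs => rw [Finset.sum_comm]
    refine Finset.sum_congr rfl (fun i _ => ?_)
    rw [← Finset.sum_smul, ← Finset.sum_smul, hd i]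
  simp only [smul_sub, Finset.sum_sub_distrib]
  rw [h1]
  abel

theorem kerι_inj {G F : SheafOfModules.{u} R} (θ : G ⟶ F) (D : Opens T) :
    Function.Injective ((kernel.ι θ).val.app (op D)).hom :=
  (Groth.Agent.Lib.helper7.KerSections.sections_leftExact_general
    (ShortComplex.mk (kernel.ι θ) θ (kernel.condition _))
    (ShortComplex.exact_of_f_is_kernel _ (kernelIsKernel _)) (op D)).1

theorem kerι_lift {G F : SheafOfModules.{u} R} (θ : G ⟶ F) (D : Opens T) (y : G.val.obj (op D))
    (hy : (θ.val.app (op D)).hom y = 0) :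
    ∃ z : (kernel θ).val.obj (op D), ((kernel.ι θ).val.app (op D)).hom z = y :=
  (Groth.Agent.Lib.helper7.KerSections.sections_leftExact_general
    (ShortComplex.mk (kernel.ι θ) θ (kernel.condition _))
    (ShortComplex.exact_of_f_is_kernel _ (kernelIsKernel _)) (op D)).2 y hy

theorem θ_kerι {G F : SheafOfModules.{u} R} (θ : G ⟶ F) (D : Opens T)
    (z : (kernel θ).val.obj (op D)) :
    (θ.val.app (op D)).hom (((kernel.ι θ).val.app (op D)).hom z) = 0 :=
  congrArg (fun ψ => (ψ.val.app (op D)).hom z) (kernel.condition θ)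

/-- the kernel of an epimorphism from a finite type module onto a finitely presented module is of
finite type -/
theorem isFiniteType_kernel_of_epi {G F : SheafOfModules.{u} R} (θ : G ⟶ F) [Epi θ]
    [SheafOfModules.IsFiniteType (R := R) G] [SheafOfModules.IsFinitePresentation (R := R) F] :
    SheafOfModules.IsFiniteType (R := R) (kernel θ) := by
  classical
  apply isFiniteType_of_locSpan
  intro x
  obtain ⟨U_F, hxF, I, K, hI, hK, f₀, a₀, hf₀, ha₀⟩ := exists_locPres_of_isFinitePresentation F x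
  obtain ⟨U_G, hxG, J, hJ, g₀, hg₀⟩ := exists_locSpan_of_isFiniteType G x
  haveI := Fintype.ofFinite J
  -- Step A: lift the generators of `F`
  obtain ⟨W, hWU, hxW, hW⟩ := exists_common_nhd x (U_F ⊓ U_G) ⟨hxF, hxG⟩
    (fun (i : I) (W : Opens T) => ∃ (hW : W ≤ U_F) (z : G.val.obj (op W)),
      (θ.val.app (op W)).hom z = resM F hW (f₀ i))
    (fun i => by
      obtain ⟨W, hW, hxW, z, hz⟩ := exists_local_preimage θ (U_F ⊓ U_G)
        (resM F inf_le_left (f₀ i)) x ⟨hxF, hxG⟩
      exact ⟨W, hW, hxW, hW.trans inf_le_left, z, hz.trans (resM_resM _ _ _)⟩)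
    (fun i W W' hW' hP => by
      obtain ⟨hW, z, hz⟩ := hP
      exact ⟨hW'.trans hW, resM G hW' z,
        (app_resM θ hW' z).trans (by rw [hz, resM_resM])⟩)
  choose hWF f₁ hf₁ using hW
  have hWF : W ≤ U_F := hWU.trans inf_le_left
  have hWG : W ≤ U_G := hWU.trans inf_le_right
  -- Step B: express the images of the generators of `G`
  obtain ⟨V, hVW, hxV, hV⟩ := exists_common_nhd x W hxW
    (fun (j : J) (V : Opens T) => ∃ (hG : V ≤ U_G) (hF : V ≤ U_F) (b : I → R.obj.obj (op V)),
      (θ.val.app (op V)).hom (resM G hG (g₀ j)) = ∑ i, b i • resM F hF (f₀ i))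
    (fun j => by
      obtain ⟨D', hD', hxD', hy⟩ := hf₀ W hWF ((θ.val.app (op W)).hom (resM G hWG (g₀ j))) x hxW
      obtain ⟨b, hb⟩ := (Submodule.mem_span_range_iff_exists_fun _).mp hy
      refine ⟨D', hD', hxD', hD'.trans hWG, hD'.trans hWF, b, ?_⟩
      rw [hb, ← app_resM, resM_resM])
    (fun j V V' hV' hP => by
      obtain ⟨hG, hF, b, hb⟩ := hP
      refine ⟨hV'.trans hG, hV'.trans hF, fun i => resR hV' (b i), ?_⟩
      have := congrArg (resM F hV') hb
      rw [← app_resM, resM_resM, resM_sum_smul] at this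
      rw [this]
      refine Finset.sum_congr rfl (fun i _ => ?_)
      rw [resM_resM])
  choose hVG hVF b hb using hV
  have hVG : V ≤ U_G := hVW.trans hWG
  have hVF : V ≤ U_F := hVW.trans hWF
  -- the data over `V`
  let g : J → G.val.obj (op V) := fun j => resM G hVG (g₀ j)
  let f : I → F.val.obj (op V) := fun i => resM F hVF (f₀ i)
  let f' : I → G.val.obj (op V) := fun i => resM G hVW (f₁ i)
  let a : K → I → R.obj.obj (op V) := fun k i => resR hVF (a₀ k i)
  have hg : LocSpan G V g := LocSpan.mono hVG (m := g₀) hg₀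
  have ha : LocSyz F V f a := LocSyz.mono hVF (m := f₀) (a := a₀) ha₀
  have hθf' : ∀ i, (θ.val.app (op V)).hom (f' i) = f i := fun i => by
    change (θ.val.app (op V)).hom (resM G hVW (f₁ i)) = _
    rw [app_resM, hf₁, resM_resM]
  have hθg : ∀ j, (θ.val.app (op V)).hom (g j) = ∑ i, b j i • f i := fun j => hb j
  -- the generators of the kernel
  have hk : ∀ j, (θ.val.app (op V)).hom (g j - ∑ i, b j i • f' i) = 0 := fun j => by
    rw [map_sub, hθg, app_sum_smul]
    simp only [hθf', sub_self]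
  have hr : ∀ k, (θ.val.app (op V)).hom (∑ i, a k i • f' i) = 0 := fun k => by
    rw [app_sum_smul]
    simp only [hθf']
    exact ha.1 k
  choose kt hkt using fun j => kerι_lift θ V _ (hk j)
  choose rt hrt using fun k => kerι_lift θ V _ (hr k)
  refine ⟨V, hxV, J ⊕ K, inferInstance, Sum.elim kt rt, ?_⟩
  intro D hD y x' hx'
  obtain ⟨D₁, hD₁, hx'D₁, hy1⟩ := hg D hD (((kernel.ι θ).val.app (op D)).hom y) x' hx'
  obtain ⟨c, hc⟩ := (Submodule.mem_span_range_iff_exists_fun _).mp hy1
  have hd0 : ∑ i, (∑ j, c j * resR (hD₁.trans hD) (b j i)) • resM F (hD₁.trans hD) (f i) = 0 := by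
    have h1 : (θ.val.app (op D₁)).hom (∑ j, c j • resM G (hD₁.trans hD) (g j)) = 0 := by
      rw [hc, app_resM, θ_kerι, resM_zero]
    rw [app_sum_smul] at h1
    refine Eq.trans ?_ h1
    simp only [Finset.sum_smul, app_resM, hθg, resM_sum_smul, Finset.smul_sum, smul_smul]
    exact Finset.sum_comm
  obtain ⟨D₂, hD₂, hx'D₂, e, he⟩ := ha.2 D₁ (hD₁.trans hD) _ hd0 x' hx'D₁
  refine ⟨D₂, hD₂.trans hD₁, hx'D₂, ?_⟩
  have hV₂ : D₂ ≤ V := (hD₂.trans hD₁).trans hD
  have hcore := core_ker (fun j => resM G hV₂ (g j)) (fun i => resM G hV₂ (f' i))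
    (fun j i => resR hV₂ (b j i)) (fun k i => resR hV₂ (a k i)) (fun j => resR hD₂ (c j)) e
    (fun i => by
      refine Eq.trans ?_ (he i)
      rw [resR_sum]
      refine Finset.sum_congr rfl (fun j _ => ?_)
      rw [resR_mul, resR_resR])
  have hy2 : ((kernel.ι θ).val.app (op D₂)).hom (resM (kernel θ) (hD₂.trans hD₁) y) =
      ∑ j, resR hD₂ (c j) • resM G hV₂ (g j) := by
    rw [app_resM, ← resM_resM hD₁ hD₂, ← hc, resM_sum_smul]
    refine Finset.sum_congr rfl (fun j _ => ?_)
    rw [resM_resM]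
  have hkt' : ∀ j, ((kernel.ι θ).val.app (op D₂)).hom (resM (kernel θ) hV₂ (kt j)) =
      resM G hV₂ (g j) - ∑ i, resR hV₂ (b j i) • resM G hV₂ (f' i) := fun j => by
    rw [app_resM, hkt, ← resM_sum_smul]
    exact map_sub _ _ _
  have hrt' : ∀ k, ((kernel.ι θ).val.app (op D₂)).hom (resM (kernel θ) hV₂ (rt k)) =
      ∑ i, resR hV₂ (a k i) • resM G hV₂ (f' i) := fun k => by
    rw [app_resM, hrt, ← resM_sum_smul]
  have hy3 : resM (kernel θ) (hD₂.trans hD₁) y =
      ∑ j, resR hD₂ (c j) • resM (kernel θ) hV₂ (kt j) + ∑ k, e k • resM (kernel θ) hV₂ (rt k) := by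
    apply kerι_inj θ D₂
    rw [hy2, hcore, map_add, app_sum_smul, app_sum_smul]
    simp only [hkt', hrt']
  rw [hy3]
  refine Submodule.add_mem _ (Submodule.sum_mem _ (fun j _ => Submodule.smul_mem _ _
    (Submodule.subset_span ⟨Sum.inl j, rfl⟩))) (Submodule.sum_mem _ (fun k _ =>
    Submodule.smul_mem _ _ (Submodule.subset_span ⟨Sum.inr k, rfl⟩)))

end Groth.Agent.Lib.helper11.LocKer
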