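import Groth.Agent.Lib.Helper11.LocGen

/-!
# Local presentations of sheaves of modules on a ringed space (helper11)

`LocSyz M U m a`: the rows `a k` are relations among the sections `m l ∈ M(U)`, and locally every
relation is a combination of them.  `IsFinitePresentation M` is equivalent to the existence, near
every point, of a finite family `m` with `LocSpan M U m` and a finite family `a` with
`LocSyz M U m a`.
-/

set_option autoImplicit false
universe u
open CategoryTheory CategoryTheory.Limits TopologicalSpace Opposite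

namespace Groth.Agent.Lib.helper11.LocPres

open Groth.Agent.Lib.helper11.OverGen Groth.Agent.Lib.helper11.FreeSec
  Groth.Agent.Lib.helper11.EpiLocSurj Groth.Agent.Lib.helper11.LocGen
  Groth.Agent.Lib.helper11.OverPres

variable {T : TopCat.{u}} {R : Sheaf (Opens.grothendieckTopology T) RingCat.{u}}

/-- restriction of sections of the structure sheaf -/
noncomputable def resR {U D : Opens T} (hD : D ≤ U) (r : R.obj.obj (op U)) : R.obj.obj (op D) :=
  (R.obj.map (homOfLE hD).op).hom r

theorem resR_resR {U D D' : Opens T} (hD : D ≤ U) (hD' : D' ≤ D) (r : R.obj.obj (op U)) :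
    resR hD' (resR hD r) = resR (hD'.trans hD) r := by
  unfold resR
  have h := congrArg (fun φ => φ.hom r) (R.obj.map_comp (homOfLE hD).op (homOfLE hD').op)
  exact h.symm

theorem resR_mul {U D : Opens T} (hD : D ≤ U) (r s : R.obj.obj (op U)) :
    resR hD (r * s) = resR hD r * resR hD s := map_mul _ _ _

theorem resR_sum {U D : Opens T} (hD : D ≤ U) {ι : Type*} (s : Finset ι)
    (f : ι → R.obj.obj (op U)) : resR hD (∑ i ∈ s, f i) = ∑ i ∈ s, resR hD (f i) := map_sum _ _ _

variable (M : SheafOfModules.{u} R)

theorem resM_smul' {U D : Opens T} (hD : D ≤ U) (r : R.obj.obj (op U)) (m : M.val.obj (op U)) :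
    resM M hD (r • m) = resR hD r • resM M hD m := resM_smul hD r m

/-- the rows `a k` are relations among the `m l`, and locally generate all relations -/
def LocSyz {I K : Type u} [Fintype I] [Fintype K] (U : Opens T) (m : I → M.val.obj (op U))
    (a : K → I → R.obj.obj (op U)) : Prop :=
  (∀ k, ∑ l, a k l • m l = 0) ∧
  ∀ (D : Opens T) (hD : D ≤ U) (c : I → R.obj.obj (op D)), ∑ l, c l • resM M hD (m l) = 0 →
    ∀ x ∈ D, ∃ (D' : Opens T) (hD' : D' ≤ D), x ∈ D' ∧ ∃ e : K → R.obj.obj (op D'),
      ∀ l, resR hD' (c l) = ∑ k, e k * resR (hD'.trans hD) (a k l)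

variable {M}
variable {I K : Type u} [Fintype I] [Fintype K]
  (W : Opens T) (m : I → M.val.obj (op W)) (a : K → I → R.obj.obj (op W))
  (hrel : ∀ k, ∑ i, a k i • m i = 0)

theorem exists_preimage_rel' [DecidableEq I] (D : Opens T) (hD : D ≤ W)
    (y : (kernel (πW W m)).val.obj (op (Over.mk (homOfLE hD)))) (e : K → R.obj.obj (op D))
    (he : ∀ i, (show R.obj.obj (op D) from
      ((coord (R := R.over W) i).val.app (op (Over.mk (homOfLE hD)))).hom
        (((kernel.ι (πW W m)).val.app (op (Over.mk (homOfLE hD)))).hom y)) =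
      ∑ k, e k * (R.obj.map (homOfLE hD).op).hom (a k i)) :
    ∃ x : (SheafOfModules.free (R := R.over W) K).val.obj (op (Over.mk (homOfLE hD))),
      (((kernel (πW W m)).freeHomEquiv.symm (rs W m a hrel)).val.app
        (op (Over.mk (homOfLE hD)))).hom x = y := by
  obtain ⟨z, hz⟩ : ∃ z, z = ((kernel.ι (πW W m)).val.app (op (Over.mk (homOfLE hD)))).hom y :=
    ⟨_, rfl⟩
  refine ⟨ofCoord (R := R.over W) (op (Over.mk (homOfLE hD))) e, ?_⟩
  apply kerι_injective W m (op (Over.mk (homOfLE hD)))
  rw [π_ofCoord, map_sum]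
  apply ext_coord
  intro j
  rw [map_sum]
  refine Eq.trans ?_ (he j).symm
  refine Finset.sum_congr rfl (fun k _ => ?_)
  rw [map_smul, ι_rs, map_smul, coord_ofCoord]
  rfl

theorem sum_coord_kerι [DecidableEq I] (X : Over W) (y : (kernel (πW W m)).val.obj (op X)) :
    ∑ l, (show R.obj.obj (op X.left) from ((coord (R := R.over W) l).val.app (op X)).hom
      (((kernel.ι (πW W m)).val.app (op X)).hom y)) • resM M X.hom.le (m l) = 0 := by
  have hz0 : ((πW W m).val.app (op X)).hom (((kernel.ι (πW W m)).val.app (op X)).hom y) = 0 :=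
    πW_kerι W m _ y
  rw [π_apply] at hz0
  exact hz0

theorem rel_local
    (hsyz : ∀ (D : Opens T) (hD : D ≤ W) (c : I → R.obj.obj (op D)),
      ∑ l, c l • resM M hD (m l) = 0 →
      ∀ x ∈ D, ∃ (D' : Opens T) (hD' : D' ≤ D), x ∈ D' ∧ ∃ e : K → R.obj.obj (op D'),
        ∀ l, resR hD' (c l) = ∑ k, e k * resR (hD'.trans hD) (a k l))
    (X : Over W) (y : (kernel (πW W m)).val.obj (op X)) (x : T) (hx : x ∈ X.left) :
    ∃ (D' : Opens T) (hD' : D' ≤ X.left), x ∈ D' ∧
      ∃ x' : (SheafOfModules.free (R := R.over W) K).val.obj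
          (op (Over.mk (homOfLE (hD'.trans X.hom.le)))),
        (((kernel (πW W m)).freeHomEquiv.symm (rs W m a hrel)).val.app
          (op (Over.mk (homOfLE (hD'.trans X.hom.le))))).hom x' =
        ((kernel (πW W m)).val.map (Over.homMk (homOfLE hD') (Subsingleton.elim _ _) :
          Over.mk (homOfLE (hD'.trans X.hom.le)) ⟶ X).op).hom y := by
  classical
  have hXW : X.left ≤ W := X.hom.le
  obtain ⟨D', hD', hxD', e, he⟩ := hsyz X.left hXW _ (sum_coord_kerι W m X y) x hx
  refine ⟨D', hD', hxD', ?_⟩
  let g : Over.mk (homOfLE (hD'.trans hXW)) ⟶ X := Over.homMk (homOfLE hD') (Subsingleton.elim _ _)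
  exact exists_preimage_rel' W m a hrel D' (hD'.trans hXW)
      (((kernel (πW W m)).val.map g.op).hom y) e (fun i => by
        refine Eq.trans ?_ (he i)
        have h1 := PresheafOfModules.naturality_apply (kernel.ι (πW W m)).val g.op y
        have h2 := PresheafOfModules.naturality_apply (coord (R := R.over W) i).val g.op
          (((kernel.ι (πW W m)).val.app (op X)).hom y)
        exact (congrArg _ h1).trans h2)

/-- the sieve of arrows over which a section lifts along a morphism of sheaves of modules -/
def imgSieve {C : Type*} [Category C] {J : GrothendieckTopology C} {R : Sheaf J RingCat.{u}}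
    {F G : SheafOfModules.{u} R} (p : F ⟶ G) (X : C) (y : G.val.obj (op X)) : Sieve X where
  arrows Y f := ∃ x : F.val.obj (op Y), (p.val.app (op Y)).hom x = (G.val.map f.op).hom y
  downward_closed := by
    rintro Y Z f ⟨x, hx⟩ g
    refine ⟨(F.val.map g.op).hom x, ?_⟩
    have hn := PresheafOfModules.naturality_apply p.val g.op x
    refine hn.trans ?_
    rw [hx]
    exact (PresheafOfModules.map_comp_apply G.val f.op g.op y).symm

theorem epi_of_imgSieve_mem {C : Type*} [Category C] {J : GrothendieckTopology C}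
    {R : Sheaf J RingCat.{u}} {F G : SheafOfModules.{u} R} (p : F ⟶ G)
    (h : ∀ (X : C) (y : G.val.obj (op X)), imgSieve p X y ∈ J X) : Epi p :=
  epi_of_locally_surjective p (fun X y => ⟨imgSieve p X y, h X y, fun _ _ hf => hf⟩)

theorem epi_rel_loc
    (hsyz : ∀ (D : Opens T) (hD : D ≤ W) (c : I → R.obj.obj (op D)),
      ∑ l, c l • resM M hD (m l) = 0 →
      ∀ x ∈ D, ∃ (D' : Opens T) (hD' : D' ≤ D), x ∈ D' ∧ ∃ e : K → R.obj.obj (op D'),
        ∀ l, resR hD' (c l) = ∑ k, e k * resR (hD'.trans hD) (a k l)) :
    Epi ((kernel (πW W m)).freeHomEquiv.symm (rs W m a hrel)) := by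
  apply epi_of_imgSieve_mem
  intro X y
  rw [GrothendieckTopology.mem_over_iff]
  intro x hx
  obtain ⟨D', hD', hxD', x', hx'⟩ := rel_local W m a hrel hsyz X y x hx
  refine ⟨D', homOfLE hD', ?_, hxD'⟩
  rw [Sieve.overEquiv_iff]
  exact ⟨x', hx'⟩

/-- a finite presentation of `M|_W` from local generators and relations -/
noncomputable def presentationLoc (hgen : LocSpan M W m) (hsyz : LocSyz M W m a) :
    (M.over W).Presentation where
  generators :=
    { I := I
      s := gs W m
      epi := epi_of_locSpan W m hgen }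
  relations :=
    { I := K
      s := rs W m a hsyz.1
      epi := epi_rel_loc W m a hsyz.1 hsyz.2 }

omit [Fintype I] [Fintype K] in
/-- finite presentation from local generators and relations -/
theorem isFinitePresentation_of_locPres (M : SheafOfModules.{u} R)
    (h : ∀ x : T, ∃ (U : Opens T), x ∈ U ∧ ∃ (I K : Type u) (_ : Fintype I) (_ : Fintype K)
      (m : I → M.val.obj (op U)) (a : K → I → R.obj.obj (op U)),
      LocSpan M U m ∧ LocSyz M U m a) :
    SheafOfModules.IsFinitePresentation (R := R) M := by
  choose W hxW I K hI hK m a hm ha using h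
  let σ : SheafOfModules.QuasicoherentData.{u, u, u, u} (R := R) M :=
    { I := T
      X := W
      coversTop := (Opens.coversTop_iff _ _).mpr (by
        apply top_unique
        intro x _
        exact Opens.mem_iSup.mpr ⟨x, hxW x⟩)
      presentation := fun x => presentationLoc (W x) (m x) (a x) (hm x) (ha x) }
  have h : σ.IsFinitePresentation :=
    { isFinite_presentation := fun x =>
        { isFiniteType_generators := ⟨inferInstanceAs (Finite (I x))⟩
          isFiniteType_relations := ⟨inferInstanceAs (Finite (K x))⟩ } }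
  exact SheafOfModules.IsFinitePresentation.mk (R := R) (M := M) ⟨σ, h⟩

end Groth.Agent.Lib.helper11.LocPres
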