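import Groth.Agent.Lib.Helper11.LocRetract
import Groth.Agent.Lib.Helper11.LocPres2

/-!
# The rank of a locally free module on a ringed space is well defined (helper11)
-/

set_option autoImplicit false
universe u
open CategoryTheory CategoryTheory.Limits TopologicalSpace Opposite

namespace Groth.Agent.Lib.helper11.LocRank

open Groth.Agent.Lib.helper11.OverGen Groth.Agent.Lib.helper11.FreeSec
  Groth.Agent.Lib.helper11.LocGen Groth.Agent.Lib.helper11.LocPres
  Groth.Agent.Lib.helper11.LocGenExt Groth.Agent.Lib.helper11.LocKer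
  Groth.Agent.Lib.helper11.OverPres Groth.Agent.Lib.helper11.LocFree

theorem card_le_of_matrix {A : Type*} [CommRing A] [Nontrivial A] {m n : Type*} [Fintype m]
    [Fintype n] [DecidableEq m] [DecidableEq n] (C : Matrix m n A) (B : Matrix n m A)
    (h : C * B = 1) : Fintype.card m ≤ Fintype.card n := by
  refine card_le_of_injective A (Matrix.mulVecLin B) ?_
  intro v w hvw
  have h1 := congrArg (Matrix.mulVecLin C) hvw
  simp only [Matrix.mulVecLin_apply, Matrix.mulVec_mulVec, h, Matrix.one_mulVec] at h1
  exact h1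

variable {T : TopCat.{u}} {R : Sheaf (Opens.grothendieckTopology T) RingCat.{u}}

/-- if `M` is free on `I` over `U` and has a local basis indexed by the finite type `I'` over
`U'`, with `x ∈ U ∩ U'` and all rings of sections near `x` nontrivial and commutative, then every
finite subset of `I` has at most `card I'` elements -/
theorem card_le_of_iso_free_of_locBasis
    (hcomm : ∀ (U : Opens T) (a b : R.obj.obj (op U)), a * b = b * a)
    (M : SheafOfModules.{u} R) {I : Type u} (U : Opens T)
    (e : M.over U ≅ SheafOfModules.free (R := R.over U) I)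
    {I' : Type u} [Fintype I'] (U' : Opens T) (b' : I' → M.val.obj (op U'))
    (hb' : LocBasis M U' b') (x : T) (hxU : x ∈ U) (hxU' : x ∈ U')
    (hnt : ∀ W : Opens T, x ∈ W → Nontrivial (R.obj.obj (op W)))
    (S : Finset I) : S.card ≤ Fintype.card I' := by
  classical
  let W₀ : Opens T := U ⊓ U'
  have hW₀U : W₀ ≤ U := inf_le_left
  have hW₀U' : W₀ ≤ U' := inf_le_right
  let β : ∀ (D : Opens T) (_ : D ≤ U), I → M.val.obj (op D) := fun D hD i =>
    (e.inv.val.app (op (Over.mk (homOfLE hD)))).hom
      (secVal (SheafOfModules.freeSection (R := R.over U) i) (op (Over.mk (homOfLE hD))))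
  have hβ : ∀ (D D' : Opens T) (hD : D ≤ U) (hD' : D' ≤ D) (i : I),
      resM M hD' (β D hD i) = β D' (hD'.trans hD) i := by
    intro D D' hD hD' i
    let g : Over.mk (homOfLE (hD'.trans hD)) ⟶ Over.mk (homOfLE hD) :=
      Over.homMk (homOfLE hD') (Subsingleton.elim _ _)
    have h1 := PresheafOfModules.naturality_apply e.inv.val g.op
      (secVal (SheafOfModules.freeSection (R := R.over U) i) (op (Over.mk (homOfLE hD))))
    have h2 : ((SheafOfModules.free (R := R.over U) I).val.map g.op).hom
        (secVal (SheafOfModules.freeSection (R := R.over U) i) (op (Over.mk (homOfLE hD)))) =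
        secVal (SheafOfModules.freeSection (R := R.over U) i)
          (op (Over.mk (homOfLE (hD'.trans hD)))) :=
      PresheafOfModules.sections_property _ g.op
    rw [h2] at h1
    exact h1.symm
  let χ : ∀ (D : Opens T) (_ : D ≤ U), I → M.val.obj (op D) → R.obj.obj (op D) :=
    fun D hD j s => ((coord (R := R.over U) j).val.app (op (Over.mk (homOfLE hD)))).hom
      ((e.hom.val.app (op (Over.mk (homOfLE hD)))).hom s)
  have hχβ : ∀ (D : Opens T) (hD : D ≤ U) (i j : I),
      χ D hD j (β D hD i) = if i = j then 1 else 0 := by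
    intro D hD i j
    have h1 : (e.hom.val.app (op (Over.mk (homOfLE hD)))).hom (β D hD i) =
        secVal (SheafOfModules.freeSection (R := R.over U) i) (op (Over.mk (homOfLE hD))) :=
      congrArg (fun ψ : SheafOfModules.free (R := R.over U) I ⟶ SheafOfModules.free I =>
        (ψ.val.app (op (Over.mk (homOfLE hD)))).hom
          (secVal (SheafOfModules.freeSection (R := R.over U) i) (op (Over.mk (homOfLE hD)))))
        e.inv_hom_id
    change ((coord (R := R.over U) j).val.app (op (Over.mk (homOfLE hD)))).hom
      ((e.hom.val.app (op (Over.mk (homOfLE hD)))).hom (β D hD i)) = _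
    rw [h1]
    exact coord_freeSection (R := R.over U) j i (op (Over.mk (homOfLE hD)))
  have hχlin : ∀ (D : Opens T) (hD : D ≤ U) (j : I) (c : I' → R.obj.obj (op D))
      (m : I' → M.val.obj (op D)),
      χ D hD j (∑ k, c k • m k) = ∑ k, c k * χ D hD j (m k) := by
    intro D hD j c m
    change ((coord (R := R.over U) j).val.app (op (Over.mk (homOfLE hD)))).hom
      ((e.hom.val.app (op (Over.mk (homOfLE hD)))).hom (∑ k, c k • m k)) = _
    rw [map_sum, map_sum]
    refine Finset.sum_congr rfl (fun k _ => ?_)
    let c' : (R.over U).obj.obj (op (Over.mk (homOfLE hD))) := c k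
    let m' : (M.over U).val.obj (op (Over.mk (homOfLE hD))) := m k
    have h1 : (e.hom.val.app (op (Over.mk (homOfLE hD)))).hom (c' • m') =
        c' • (e.hom.val.app (op (Over.mk (homOfLE hD)))).hom m' := map_smul _ _ _
    have h2 : ((coord (R := R.over U) j).val.app (op (Over.mk (homOfLE hD)))).hom
        (c' • (e.hom.val.app (op (Over.mk (homOfLE hD)))).hom m') =
        c' • ((coord (R := R.over U) j).val.app (op (Over.mk (homOfLE hD)))).hom
          ((e.hom.val.app (op (Over.mk (homOfLE hD)))).hom m') := map_smul _ _ _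
    exact (congrArg _ h1).trans h2
  -- common neighbourhood on which the `β i`, `i ∈ S`, are combinations of the `b'`
  obtain ⟨W, hWW₀, hxW, hW⟩ := exists_common_nhd x W₀ ⟨hxU, hxU'⟩
    (fun (i : S) (W : Opens T) => ∃ (hW : W ≤ W₀) (c : I' → R.obj.obj (op W)),
      β W (hW.trans hW₀U) i = ∑ k, c k • resM M (hW.trans hW₀U') (b' k))
    (fun i => by
      obtain ⟨D', hD', hxD', hmem⟩ := hb'.1 W₀ hW₀U' (β W₀ hW₀U i) x ⟨hxU, hxU'⟩
      obtain ⟨c, hc⟩ := (Submodule.mem_span_range_iff_exists_fun _).mp hmem
      refine ⟨D', hD', hxD', hD', c, ?_⟩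
      rw [hc, hβ])
    (fun i W W' hW' hP => by
      obtain ⟨hW, c, hc⟩ := hP
      refine ⟨hW'.trans hW, fun k => resR hW' (c k), ?_⟩
      rw [← hβ W W' (hW.trans hW₀U) hW' i, hc, resM_sum_smul]
      refine Finset.sum_congr rfl (fun k _ => ?_)
      rw [resM_resM])
  choose hW' c hc using hW
  have hWU : W ≤ U := hWW₀.trans hW₀U
  have hWU' : W ≤ U' := hWW₀.trans hW₀U'
  letI : CommRing (R.obj.obj (op W)) :=
    { (inferInstance : Ring (R.obj.obj (op W))) with mul_comm := hcomm W }
  haveI : Nontrivial (R.obj.obj (op W)) := hnt W hxW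
  let Cm : Matrix S I' (R.obj.obj (op W)) := Matrix.of fun i k => c i k
  let Bm : Matrix I' S (R.obj.obj (op W)) :=
    Matrix.of fun k j => χ W hWU j (resM M hWU' (b' k))
  have hCB : Cm * Bm = 1 := by
    ext i j
    rw [Matrix.mul_apply, Matrix.one_apply]
    change ∑ k, c i k * χ W hWU j (resM M hWU' (b' k)) = _
    rw [← hχlin, ← hc, hχβ]
    by_cases hij : i = j
    · rw [if_pos hij, if_pos (congrArg Subtype.val hij)]
    · rw [if_neg hij, if_neg (fun h => hij (Subtype.ext h))]
  have := card_le_of_matrix Cm Bm hCB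
  rwa [Fintype.card_coe] at this

/-- two trivializations of `M` near a point with nontrivial commutative rings of sections have
index types of the same (extended natural) cardinality -/
theorem enatCard_eq_of_iso_free
    (hcomm : ∀ (U : Opens T) (a b : R.obj.obj (op U)), a * b = b * a)
    (M : SheafOfModules.{u} R) {I I' : Type u} (U U' : Opens T)
    (e : M.over U ≅ SheafOfModules.free (R := R.over U) I)
    (e' : M.over U' ≅ SheafOfModules.free (R := R.over U') I')
    (x : T) (hxU : x ∈ U) (hxU' : x ∈ U')
    (hnt : ∀ W : Opens T, x ∈ W → Nontrivial (R.obj.obj (op W))) :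
    ENat.card I = ENat.card I' := by
  classical
  have key : ∀ {I I' : Type u} (U U' : Opens T)
      (e : M.over U ≅ SheafOfModules.free (R := R.over U) I)
      (e' : M.over U' ≅ SheafOfModules.free (R := R.over U') I') (_ : x ∈ U) (_ : x ∈ U'),
      Finite I' → Finite I ∧ Nat.card I ≤ Nat.card I' := by
    intro I I' U U' e e' hxU hxU' hfin
    haveI := Fintype.ofFinite I'
    obtain ⟨b', hb'⟩ := exists_locBasis_of_iso M U' e'
    have hK := fun S => card_le_of_iso_free_of_locBasis hcomm M U e U' b' hb' x hxU hxU' hnt S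
    have hfinI : Finite I := by
      by_contra hinf
      rw [not_finite_iff_infinite] at hinf
      obtain ⟨S, hS⟩ := Infinite.exists_subset_card_eq I (Fintype.card I' + 1)
      have := hK S
      omega
    refine ⟨hfinI, ?_⟩
    haveI := Fintype.ofFinite I
    have := hK Finset.univ
    rw [Finset.card_univ] at this
    rwa [Nat.card_eq_fintype_card, Nat.card_eq_fintype_card]
  by_cases hI : Finite I
  · obtain ⟨hI', h1⟩ := key U' U e' e hxU' hxU hI
    obtain ⟨-, h2⟩ := key U U' e e' hxU hxU' hI'
    rw [ENat.card_eq_coe_natCard, ENat.card_eq_coe_natCard]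
    exact_mod_cast le_antisymm h2 h1
  · have hI' : ¬ Finite I' := fun h => hI (key U U' e e' hxU hxU' h).1
    rw [not_finite_iff_infinite] at hI hI'
    rw [ENat.card_eq_top_of_infinite, ENat.card_eq_top_of_infinite]

end Groth.Agent.Lib.helper11.LocRank
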