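import Groth.Prelude.Def_ModSite2
import Groth.Agent.Lib.Helper11.LocCoker

/-!
# Stalks and local surjectivity on ringed spaces (helper11)
-/

set_option autoImplicit false
universe u
open CategoryTheory CategoryTheory.Limits TopologicalSpace Opposite

namespace Groth.Agent.Lib.helper11.LocStalk

open Groth.Agent.Lib.helper11.OverGen Groth.Agent.Lib.helper11.LocGen
  Groth.Agent.Lib.helper11.LocPres Groth.Agent.Lib.helper11.LocGenExt
  Groth.Agent.Lib.helper11.LocKer

variable {T : TopCat.{u}} {R : Sheaf (Opens.grothendieckTopology T) RingCat.{u}}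

/-- a morphism which is locally surjective over `W` restricts to an epimorphism over `W` -/
theorem epi_over_of_locally_surjective {G F : SheafOfModules.{u} R} (φ : G ⟶ F) (W : Opens T)
    (h : ∀ (D : Opens T) (hD : D ≤ W) (y : F.val.obj (op D)) (x : T), x ∈ D →
      ∃ (D' : Opens T) (hD' : D' ≤ D), x ∈ D' ∧ ∃ z : G.val.obj (op D'),
        (φ.val.app (op D')).hom z = resM F hD' y) :
    Epi ((SheafOfModules.overFunctor R W).map φ) := by
  apply epi_of_imgSieve_mem
  intro Y y
  rw [GrothendieckTopology.mem_over_iff]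
  intro x hx
  obtain ⟨D', hD', hxD', z, hz⟩ := h Y.left Y.hom.le y x hx
  refine ⟨D', homOfLE hD', ?_, hxD'⟩
  rw [Sieve.overEquiv_iff]
  exact ⟨z, hz⟩

section Stalk

variable {X : TopCat.{u}} {O : TopCat.Sheaf CommRingCat.{u} X}

/-- a section whose germ at `x` is in the image of the stalk map lifts on a neighbourhood of `x` -/
theorem exists_local_preimage_of_stalk {G F : ModSite.Mod O} (φ : G ⟶ F) (x : X)
    (hx : Function.Surjective (ModSite.stalkMap (Opens.pointGrothendieckTopology x) φ).hom)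
    (U : Opens X) (hxU : x ∈ U) (m : F.val.obj (op U)) :
    ∃ (W : Opens X) (hW : W ≤ U), x ∈ W ∧ ∃ g : G.val.obj (op W),
      (φ.val.app (op W)).hom g = resM F hW m := by
  let p := Opens.pointGrothendieckTopology x
  obtain ⟨γ, hγ⟩ := hx (ModSite.germ p F U ⟨⟨hxU⟩⟩ m)
  obtain ⟨V, v, g, rfl⟩ := p.toPresheafFiber_jointly_surjective (P := (ModSite.toAb G).obj) γ
  have hxV : x ∈ V := v.down.down
  have nat : (ModSite.stalkMap p φ).hom (ModSite.germ p G V v g) =
      ModSite.germ p F V v ((φ.val.app (op V)).hom g) :=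
    p.toPresheafFiber_naturality_apply ((SheafOfModules.toSheaf (ModSite.ringSh O)).map φ).hom V v g
  have hγ' : ModSite.germ p F V v ((φ.val.app (op V)).hom g) = ModSite.germ p F U ⟨⟨hxU⟩⟩ m :=
    nat.symm.trans hγ
  -- move both germs to `V ⊓ U`
  let W₀ : Opens X := V ⊓ U
  let w₀ : p.fiber.obj W₀ := ⟨⟨⟨hxV, hxU⟩⟩⟩
  have h1 : ModSite.germ p F V v ((φ.val.app (op V)).hom g) =
      ModSite.germ p F W₀ w₀ (resM F (inf_le_left : W₀ ≤ V) ((φ.val.app (op V)).hom g)) :=
    (p.toPresheafFiber_w_apply (homOfLE (inf_le_left : W₀ ≤ V)) w₀ (ModSite.toAb F).obj _).symm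
  have h2 : ModSite.germ p F U ⟨⟨hxU⟩⟩ m =
      ModSite.germ p F W₀ w₀ (resM F (inf_le_right : W₀ ≤ U) m) :=
    (p.toPresheafFiber_w_apply (homOfLE (inf_le_right : W₀ ≤ U)) w₀ (ModSite.toAb F).obj _).symm
  rw [h1, h2] at hγ'
  obtain ⟨Y, f, y, -, hY⟩ := (p.toPresheafFiber_eq_iff' W₀ w₀ _ _).mp hγ'
  have hYW : Y ≤ W₀ := f.le
  refine ⟨Y, hYW.trans inf_le_right, y.down.down, resM G (hYW.trans inf_le_left) g, ?_⟩
  rw [app_resM, ← resM_resM (inf_le_left : W₀ ≤ V) hYW, ← resM_resM (inf_le_right : W₀ ≤ U) hYW]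
  exact hY

/-- if the stalk map at `x` is surjective and the target is of finite type, the morphism is an
epimorphism on a neighbourhood of `x` -/
theorem exists_epi_restr_of_stalkMap_surjective {G F : ModSite.Mod O} (φ : G ⟶ F)
    [SheafOfModules.IsFiniteType (R := ModSite.ringSh O) F] (x : X)
    (hx : Function.Surjective (ModSite.stalkMap (Opens.pointGrothendieckTopology x) φ).hom) :
    ∃ U : Opens X, x ∈ U ∧ Epi ((SheafOfModules.overFunctor (ModSite.ringSh O) U).map φ) := by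
  classical
  obtain ⟨U₀, hxU₀, ι, hι, m, hm⟩ := exists_locSpan_of_isFiniteType (R := ModSite.ringSh O) F x
  haveI := Fintype.ofFinite ι
  obtain ⟨W, hWU, hxW, hW⟩ := exists_common_nhd x U₀ hxU₀
    (fun (i : ι) (W : Opens X) => ∃ (hW : W ≤ U₀) (g : G.val.obj (op W)),
      (φ.val.app (op W)).hom g = resM F hW (m i))
    (fun i => by
      obtain ⟨W, hW, hxW, g, hg⟩ := exists_local_preimage_of_stalk φ x hx U₀ hxU₀ (m i)
      exact ⟨W, hW, hxW, hW, g, hg⟩)
    (fun i W W' hW' hP => by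
      obtain ⟨hW, g, hg⟩ := hP
      exact ⟨hW'.trans hW, resM G hW' g, (app_resM φ hW' g).trans (by rw [hg, resM_resM])⟩)
  choose hW' g hg using hW
  refine ⟨W, hxW, epi_over_of_locally_surjective φ W ?_⟩
  intro D hD y x' hx'
  obtain ⟨D', hD', hx'D', hy⟩ := hm D (hD.trans hWU) y x' hx'
  obtain ⟨c, hc⟩ := (Submodule.mem_span_range_iff_exists_fun _).mp hy
  refine ⟨D', hD', hx'D', ∑ i, c i • resM G (hD'.trans hD) (g i), ?_⟩
  rw [app_sum_smul, ← hc]
  refine Finset.sum_congr rfl (fun i _ => ?_)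
  rw [app_resM, hg, resM_resM]

end Stalk

end Groth.Agent.Lib.helper11.LocStalk
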