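import Groth.Agent.Lib.Helper11.LocGerm
import Groth.Agent.Lib.Helper11.LocRetract

/-!
# The stalk of a module with a local basis; local presentation of a retract (helper11)
-/

set_option autoImplicit false
universe u
open CategoryTheory CategoryTheory.Limits TopologicalSpace Opposite

namespace Groth.Agent.Lib.helper11.LocStalkBasis

open Groth.Agent.Lib.helper11.OverGen Groth.Agent.Lib.helper11.FreeSec
  Groth.Agent.Lib.helper11.LocGen Groth.Agent.Lib.helper11.LocPres
  Groth.Agent.Lib.helper11.LocGenExt Groth.Agent.Lib.helper11.LocKer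
  Groth.Agent.Lib.helper11.OverPres Groth.Agent.Lib.helper11.LocFree
  Groth.Agent.Lib.helper11.LocGerm

section Stalk

variable {X : TopCat.{u}} {O : TopCat.Sheaf CommRingCat.{u} X}

/-- the stalk at `x` of a module with a local basis indexed by `J` near `x` is free on `J` -/
theorem nonempty_stalk_equiv_of_locBasis (F : ModSite.Mod O) {J : Type u} [Fintype J]
    [DecidableEq J] {U : Opens X} {x : X} (hxU : x ∈ U) (b : J → F.val.obj (op U))
    (hb : LocBasis F U b) :
    Nonempty (ModSite.stalkMod (Opens.pointGrothendieckTopology x) F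
      ≃ₗ[ModSite.stalkRing (Opens.pointGrothendieckTopology x) O]
        (J → ModSite.stalkRing (Opens.pointGrothendieckTopology x) O)) := by
  classical
  let v : J → ModSite.stalkMod (Opens.pointGrothendieckTopology x) F := fun j => gM x F hxU (b j)
  let Tm : (J → ModSite.stalkRing (Opens.pointGrothendieckTopology x) O)
      →ₗ[ModSite.stalkRing (Opens.pointGrothendieckTopology x) O]
        ModSite.stalkMod (Opens.pointGrothendieckTopology x) F :=
    Fintype.linearCombination (ModSite.stalkRing (Opens.pointGrothendieckTopology x) O) v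
  have hT : ∀ γ, Tm γ = ∑ j, γ j • v j := fun γ => Fintype.linearCombination_apply _ _ _
  have hsurj : Function.Surjective Tm := by
    intro γ
    obtain ⟨W, hW, hxW, s, rfl⟩ := exists_gM_eq (F := F) γ U hxU
    obtain ⟨D', hD', hxD', hmem⟩ := hb.1 W hW s x hxW
    obtain ⟨c, hc⟩ := (Submodule.mem_span_range_iff_exists_fun _).mp hmem
    refine ⟨fun j => gR x hxD' (c j), ?_⟩
    rw [hT, ← gM_res hD' hxD' s, ← hc, gM_sum]
    refine Finset.sum_congr rfl (fun j _ => ?_)
    rw [gM_smul, gM_res]
  have hinj : Function.Injective Tm := by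
    rw [injective_iff_map_eq_zero]
    intro γ hγ
    rw [hT] at hγ
    obtain ⟨W, hWU, hxW, c, hc⟩ := exists_common_gR (O := O) γ U hxU
    have h1 : gM x F hxW (∑ j, c j • resM F hWU (b j)) = gM x F hxW 0 := by
      rw [gM_sum, gM_zero, ← hγ]
      refine Finset.sum_congr rfl (fun j _ => ?_)
      rw [gM_smul, gM_res, hc]
    obtain ⟨W', hW', hxW', h2⟩ := exists_res_eq_of_gM_eq hxW _ _ h1
    rw [resM_sum_smul, resM_zero] at h2
    have h3 : ∑ j, resR (R := ModSite.ringSh O) hW' (c j) • resM F (hW'.trans hWU) (b j) = 0 := by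
      refine Eq.trans ?_ h2
      refine Finset.sum_congr rfl (fun j _ => ?_)
      rw [resM_resM]
    have h4 := hb.2 W' (hW'.trans hWU) _ h3
    funext j
    rw [← hc j, ← gR_res hW' hxW' (c j)]
    have h5 := congrFun h4 j
    change resR (R := ModSite.ringSh O) hW' (c j) = 0 at h5
    rw [h5, gR_zero]
    rfl
  exact ⟨(LinearEquiv.ofBijective Tm ⟨hinj, hsurj⟩).symm⟩

end Stalk

section Retract

variable {T : TopCat.{u}} {R : Sheaf (Opens.grothendieckTopology T) RingCat.{u}}

/-- a retract of a module with a finite local basis near `x` has a local presentation near `x` -/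
theorem exists_locPres_of_retract {F H : SheafOfModules.{u} R} (i : F ⟶ H) (p : H ⟶ F)
    (hip : i ≫ p = 𝟙 F) {J : Type u} [Fintype J] [DecidableEq J] {U : Opens T}
    (h : J → H.val.obj (op U)) (hh : LocBasis H U h) (x : T) (hxU : x ∈ U) :
    ∃ (V : Opens T), x ∈ V ∧ ∃ (I K : Type u) (_ : Fintype I) (_ : Fintype K)
      (m : I → F.val.obj (op V)) (a : K → I → R.obj.obj (op V)),
      LocSpan F V m ∧ LocSyz F V m a := by
  classical
  have hpi : ∀ (D : Opens T) (y : F.val.obj (op D)),
      (p.val.app (op D)).hom ((i.val.app (op D)).hom y) = y := fun D y =>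
    congrArg (fun ψ : F ⟶ F => (ψ.val.app (op D)).hom y) hip
  -- the matrix of the idempotent `e = p ≫ i`
  obtain ⟨V, hVU, hxV, hV⟩ := exists_common_nhd x U hxU
    (fun (j : J) (V : Opens T) => ∃ (hV : V ≤ U) (Ej : J → R.obj.obj (op V)),
      (i.val.app (op V)).hom ((p.val.app (op V)).hom (resM H hV (h j))) =
        ∑ k, Ej k • resM H hV (h k))
    (fun j => by
      obtain ⟨D', hD', hxD', hmem⟩ := hh.1 U le_rfl
        ((i.val.app (op U)).hom ((p.val.app (op U)).hom (h j))) x hxU
      obtain ⟨Ej, hEj⟩ := (Submodule.mem_span_range_iff_exists_fun _).mp hmem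
      refine ⟨D', hD', hxD', hD', Ej, ?_⟩
      rw [hEj, ← app_resM, ← app_resM])
    (fun j V V' hV' hP => by
      obtain ⟨hV, Ej, hEj⟩ := hP
      refine ⟨hV'.trans hV, fun k => resR hV' (Ej k), ?_⟩
      have := congrArg (resM H hV') hEj
      rw [← app_resM, ← app_resM, resM_resM, resM_sum_smul] at this
      rw [this]
      refine Finset.sum_congr rfl (fun k _ => ?_)
      rw [resM_resM])
  choose hV' E hE using hV
  let m : J → F.val.obj (op V) := fun j => (p.val.app (op V)).hom (resM H hVU (h j))
  let a : J → J → R.obj.obj (op V) := fun j k => (if j = k then 1 else 0) - E j k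
  refine ⟨V, hxV, J, J, inferInstance, inferInstance, m, a, ?_, ?_, ?_⟩
  · -- LocSpan
    intro D hD y x' hx'
    obtain ⟨D', hD', hxD', hmem⟩ := hh.1 D (hD.trans hVU) ((i.val.app (op D)).hom y) x' hx'
    obtain ⟨c, hc⟩ := (Submodule.mem_span_range_iff_exists_fun _).mp hmem
    refine ⟨D', hD', hxD', (Submodule.mem_span_range_iff_exists_fun _).mpr ⟨c, ?_⟩⟩
    have h1 := congrArg (p.val.app (op D')).hom hc
    rw [app_sum_smul, ← app_resM, hpi] at h1
    rw [← h1]
    refine Finset.sum_congr rfl (fun k _ => ?_)
    rw [← app_resM, resM_resM]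
  · -- the relations hold
    intro j
    simp only [a, sub_smul, Finset.sum_sub_distrib, ite_smul, one_smul, zero_smul,
      Finset.sum_ite_eq, Finset.mem_univ, if_true]
    rw [sub_eq_zero]
    have h1 := congrArg (p.val.app (op V)).hom (hE j)
    rw [hpi, app_sum_smul] at h1
    exact h1
  · -- the relations generate the syzygies
    intro D hD c hc x' hx'
    refine ⟨D, le_rfl, hx', c, fun l => ?_⟩
    have hDU : D ≤ U := hD.trans hVU
    -- `p v = 0` for `v = Σ c_k h_k`
    have h1 : (p.val.app (op D)).hom (∑ k, c k • resM H hDU (h k)) = 0 := by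
      rw [app_sum_smul]
      refine Eq.trans ?_ hc
      refine Finset.sum_congr rfl (fun k _ => ?_)
      rw [← app_resM, resM_resM]
    have h2 : (i.val.app (op D)).hom ((p.val.app (op D)).hom (∑ k, c k • resM H hDU (h k))) = 0 := by
      rw [h1, map_zero]
    have h3 : ∑ l, (∑ k, c k * resR hD (E k l)) • resM H hDU (h l) = 0 := by
      refine Eq.trans ?_ h2
      rw [app_sum_smul, app_sum_smul]
      have h4 : ∀ k, (i.val.app (op D)).hom ((p.val.app (op D)).hom (resM H hDU (h k))) =
          ∑ l, resR hD (E k l) • resM H hDU (h l) := fun k => by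
        have := congrArg (resM H hD) (hE k)
        rw [← app_resM, ← app_resM, resM_resM, resM_sum_smul] at this
        rw [this]
        refine Finset.sum_congr rfl (fun l _ => ?_)
        rw [resM_resM]
      simp only [h4, Finset.smul_sum, smul_smul, Finset.sum_smul]
      exact Finset.sum_comm
    have h5 := congrFun (hh.2 D hDU _ h3) l
    change ∑ k, c k * resR hD (E k l) = 0 at h5
    simp only [a]
    have h6 : ∀ k, resR (R := R) hD ((if k = l then 1 else 0) - E k l) =
        (if k = l then 1 else 0) - resR hD (E k l) := fun k => by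
      rw [Groth.Agent.Lib.helper11.LocCoker.resR_sub, resR_ite]
    have h7 : resR (R := R) (le_refl D) (c l) = c l := by
      unfold resR
      have : (homOfLE (le_refl D)).op = 𝟙 (op D) := rfl
      rw [this, R.obj.map_id]
      rfl
    rw [h7]
    simp only [h6, mul_sub, Finset.sum_sub_distrib, h5, sub_zero, mul_ite, mul_one, mul_zero,
      Finset.sum_ite_eq', Finset.mem_univ, if_true]

end Retract

end Groth.Agent.Lib.helper11.LocStalkBasis
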