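import Groth.Agent.Lib.Helper11.LocGerm
import Groth.Agent.Lib.Helper11.LocRetract

/-!
# Finite presentation with free stalk is locally free (helper11)
-/

set_option autoImplicit false
universe u
open CategoryTheory CategoryTheory.Limits TopologicalSpace Opposite

namespace Groth.Agent.Lib.helper11.LocStalkFree

open Groth.Agent.Lib.helper11.OverGen Groth.Agent.Lib.helper11.FreeSec
  Groth.Agent.Lib.helper11.LocGen Groth.Agent.Lib.helper11.LocPres
  Groth.Agent.Lib.helper11.LocGenExt Groth.Agent.Lib.helper11.LocKer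
  Groth.Agent.Lib.helper11.OverPres Groth.Agent.Lib.helper11.LocFree
  Groth.Agent.Lib.helper11.LocGerm

variable {X : TopCat.{u}} {O : TopCat.Sheaf CommRingCat.{u} X}

/-- a module of finite presentation whose stalk at `x` is free on `J` has a local basis indexed
by `J` on a neighbourhood of `x` -/
theorem exists_locBasis_of_stalk_free (F : ModSite.Mod O)
    [SheafOfModules.IsFinitePresentation (R := ModSite.ringSh O) F] (x : X)
    {J : Type u} [Fintype J] [DecidableEq J]
    (Λ : ModSite.stalkMod (Opens.pointGrothendieckTopology x) F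
      ≃ₗ[ModSite.stalkRing (Opens.pointGrothendieckTopology x) O]
        (J → ModSite.stalkRing (Opens.pointGrothendieckTopology x) O)) :
    ∃ (U : Opens X), x ∈ U ∧ ∃ b : J → F.val.obj (op U), LocBasis F U b := by
  classical
  obtain ⟨U₀, hxU₀, I, K, hI, hK, m, a, hm, ha⟩ :=
    exists_locPres_of_isFinitePresentation (R := ModSite.ringSh O) F x
  -- germ-level data
  let g : I → ModSite.stalkMod (Opens.pointGrothendieckTopology x) F :=
    fun i => gM x F hxU₀ (m i)
  let α : K → I → ModSite.stalkRing (Opens.pointGrothendieckTopology x) O :=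
    fun k i => gR x hxU₀ (a k i)
  have hrel : ∀ k, ∑ i, α k i • g i = 0 := by
    intro k
    have h1 := congrArg (gM x F hxU₀) (ha.1 k)
    rw [gM_sum, gM_zero] at h1
    refine Eq.trans ?_ h1
    refine Finset.sum_congr rfl (fun i _ => ?_)
    exact (gM_smul hxU₀ (a k i) (m i)).symm
  have hspan : ∀ γ : ModSite.stalkMod (Opens.pointGrothendieckTopology x) F,
      ∃ π : I → ModSite.stalkRing (Opens.pointGrothendieckTopology x) O, γ = ∑ i, π i • g i := by
    intro γ
    obtain ⟨W, hW, hxW, s, rfl⟩ := exists_gM_eq (F := F) γ U₀ hxU₀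
    obtain ⟨D', hD', hxD', hmem⟩ := hm W hW s x hxW
    obtain ⟨c, hc⟩ := (Submodule.mem_span_range_iff_exists_fun _).mp hmem
    refine ⟨fun i => gR x hxD' (c i), ?_⟩
    rw [← gM_res hD' hxD' s, ← hc, gM_sum]
    refine Finset.sum_congr rfl (fun i _ => ?_)
    rw [gM_smul, gM_res]
  let q : I → J → ModSite.stalkRing (Opens.pointGrothendieckTopology x) O := fun i j => Λ (g i) j
  let f : J → ModSite.stalkMod (Opens.pointGrothendieckTopology x) F :=
    fun j => Λ.symm (Pi.single j 1)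
  choose π hπ using fun j => hspan (f j)
  have hC : ∀ i, g i = ∑ j, q i j • f j := by
    intro i
    apply Λ.injective
    rw [map_sum]
    simp only [map_smul, f, LinearEquiv.apply_symm_apply]
    funext j'
    simp [Finset.sum_apply, Pi.single_apply, q]
  have h3 : ∀ j j', ∑ i, π j i * q i j' = if j = j' then 1 else 0 := by
    intro j j'
    have h1 := congrArg (fun v => Λ v j') (hπ j)
    simp only [f, LinearEquiv.apply_symm_apply, map_sum, map_smul, Finset.sum_apply,
      Pi.smul_apply, smul_eq_mul, Pi.single_apply] at h1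
    rw [← h1]
    simp only [eq_comm]
  have h4 : ∀ k j', ∑ i, α k i * q i j' = 0 := by
    intro k j'
    have h1 := congrArg (fun v => Λ v j') (hrel k)
    simpa only [map_sum, map_smul, Finset.sum_apply, Pi.smul_apply, smul_eq_mul, map_zero,
      Pi.zero_apply] using h1
  -- representatives on a common neighbourhood
  obtain ⟨W₁, hW₁, hxW₁, b₁, hb₁⟩ := exists_common_gM (F := F) f U₀ hxU₀
  obtain ⟨W₂, hW₂, hxW₂, Q₂, hQ₂⟩ := exists_common_gR (O := O)
    (fun ij : I × J => q ij.1 ij.2) W₁ hxW₁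
  obtain ⟨W, hW₃, hxW, P₃, hP₃⟩ := exists_common_gR (O := O)
    (fun ji : J × I => π ji.1 ji.2) W₂ hxW₂
  have hWW₁ : W ≤ W₁ := hW₃.trans hW₂
  have hWU₀ : W ≤ U₀ := hWW₁.trans hW₁
  let m' : I → F.val.obj (op W) := fun i => resM F hWU₀ (m i)
  let a' : K → I → (ModSite.ringSh O).obj.obj (op W) :=
    fun k i => resR (R := ModSite.ringSh O) hWU₀ (a k i)
  let b' : J → F.val.obj (op W) := fun j => resM F hWW₁ (b₁ j)
  let Q' : I → J → (ModSite.ringSh O).obj.obj (op W) :=
    fun i j => resR (R := ModSite.ringSh O) hW₃ (Q₂ (i, j))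
  let P' : J → I → (ModSite.ringSh O).obj.obj (op W) := fun j i => P₃ (j, i)
  have hm' : LocSpan F W m' := LocSpan.mono hWU₀ (m := m) hm
  have ha' : LocSyz F W m' a' := LocSyz.mono hWU₀ (m := m) (a := a) ha
  have gm' : ∀ i, gM x F hxW (m' i) = g i := fun i => gM_res hWU₀ hxW (m i)
  have ga' : ∀ k i, gR x hxW (a' k i) = α k i := fun k i => gR_res hWU₀ hxW (a k i)
  have gb' : ∀ j, gM x F hxW (b' j) = f j := fun j => (gM_res hWW₁ hxW (b₁ j)).trans (hb₁ j)
  have gQ' : ∀ i j, gR x hxW (Q' i j) = q i j :=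
    fun i j => (gR_res hW₃ hxW (Q₂ (i, j))).trans (hQ₂ (i, j))
  have gP' : ∀ j i, gR x hxW (P' j i) = π j i := fun j i => hP₃ (j, i)
  -- the four families of identities hold on a common neighbourhood
  obtain ⟨V₁, hV₁, hxV₁, e₁⟩ := exists_common_res_eq_gM (F := F) hxW
    (fun i : I => m' i) (fun i => ∑ j, Q' i j • b' j) (fun i => by
      rw [gM_sum, gm', hC i]
      refine Finset.sum_congr rfl (fun j _ => ?_)
      rw [gM_smul, gQ', gb'])
  obtain ⟨V₂, hV₂, hxV₂, e₂⟩ := exists_common_res_eq_gM (F := F) hxW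
    (fun j : J => b' j) (fun j => ∑ i, P' j i • m' i) (fun j => by
      rw [gM_sum, gb', hπ j]
      refine Finset.sum_congr rfl (fun i _ => ?_)
      rw [gM_smul, gP', gm'])
  obtain ⟨V₃, hV₃, hxV₃, e₃⟩ := exists_common_res_eq_gR (O := O) hxW
    (fun jj : J × J => ∑ i, P' jj.1 i * Q' i jj.2)
    (fun jj => if jj.1 = jj.2 then 1 else 0) (fun jj => by
      rw [gR_sum, gR_ite, ← h3 jj.1 jj.2]
      refine Finset.sum_congr rfl (fun i _ => ?_)
      rw [gR_mul, gP', gQ'])
  obtain ⟨V₄, hV₄, hxV₄, e₄⟩ := exists_common_res_eq_gR (O := O) hxW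
    (fun kj : K × J => ∑ i, a' kj.1 i * Q' i kj.2)
    (fun _ => 0) (fun kj => by
      rw [gR_sum, gR_zero, ← h4 kj.1 kj.2]
      refine Finset.sum_congr rfl (fun i _ => ?_)
      rw [gR_mul, ga', gQ'])
  let V : Opens X := V₁ ⊓ V₂ ⊓ V₃ ⊓ V₄
  have hxV : x ∈ V := ⟨⟨⟨hxV₁, hxV₂⟩, hxV₃⟩, hxV₄⟩
  have hVV₁ : V ≤ V₁ := inf_le_left.trans (inf_le_left.trans inf_le_left)
  have hVV₂ : V ≤ V₂ := inf_le_left.trans (inf_le_left.trans inf_le_right)
  have hVV₃ : V ≤ V₃ := inf_le_left.trans inf_le_right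
  have hVV₄ : V ≤ V₄ := inf_le_right
  have hVW : V ≤ W := hVV₁.trans hV₁
  refine ⟨V, hxV, fun j => resM F hVW (b' j), ?_⟩
  refine locBasis_of_retract V (fun i => resM F hVW (m' i))
    (fun k i => resR (R := ModSite.ringSh O) hVW (a' k i))
    (LocSpan.mono hVW (m := m') hm') (LocSyz.mono hVW (m := m') (a := a') ha')
    (fun j => resM F hVW (b' j))
    (fun i j => resR (R := ModSite.ringSh O) hVW (Q' i j))
    (fun j i => resR (R := ModSite.ringSh O) hVW (P' j i)) ?_ ?_ ?_ ?_
  · intro i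
    have h := congrArg (resM F hVV₁) (e₁ i)
    rw [resM_resM hV₁ hVV₁, resM_resM hV₁ hVV₁, resM_sum_smul] at h
    exact h
  · intro j
    have h := congrArg (resM F hVV₂) (e₂ j)
    rw [resM_resM hV₂ hVV₂, resM_resM hV₂ hVV₂, resM_sum_smul] at h
    exact h
  · intro j j'
    have h := congrArg (resR (R := ModSite.ringSh O) hVV₃) (e₃ (j, j'))
    rw [resR_resR hV₃ hVV₃, resR_resR hV₃ hVV₃, resR_sum, resR_ite] at h
    refine Eq.trans ?_ h
    refine Finset.sum_congr rfl (fun i _ => ?_)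
    rw [resR_mul]
  · intro k j'
    have h := congrArg (resR (R := ModSite.ringSh O) hVV₄) (e₄ (k, j'))
    rw [resR_resR hV₄ hVV₄, resR_resR hV₄ hVV₄, resR_sum, resR_zero] at h
    refine Eq.trans ?_ h
    refine Finset.sum_congr rfl (fun i _ => ?_)
    rw [resR_mul]

end Groth.Agent.Lib.helper11.LocStalkFree
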