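import Mathlib
import Groth.Agent.Lib.Helper11.LimPresMain2
import Groth.Agent.Lib.Helper11.KerFP
import Groth.Agent.Lib.Helper25.StalkExact
import Groth.Agent.Lib.Helper11.InjFlatOpen

/-!
# Monomorphisms with flat cokernel under base change and in limits (helper11)

* `mono_of_injective_cover`: a morphism of quasi-coherent modules injective on sections over an
  affine cover is a monomorphism.
* `pull_mono_iff`: chart criterion for `g'^* u` to be a monomorphism (affine bases).
* `lTensor_injective_iff_of_flat`, `ringLP_injective_of_flat`, `ringMono_injective_of_flat`: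
  ring-level limit preservation for "injective with flat cokernel".
-/

set_option autoImplicit false
set_option linter.style.haveILetI false
universe u
open CategoryTheory CategoryTheory.Limits AlgebraicGeometry TopologicalSpace Opposite TensorProduct

namespace Groth.Agent.Lib.helper11.MonoFlatBC

open Scheme.Modules Groth.Agent.Lib.helper17.FlatOver1 Groth.Agent.Lib.helper11.LimPresChart
  Groth.Agent.Lib.helper11.LimPresCover Groth.Agent.Lib.helper11.LimPresFW
  Groth.Agent.Lib.helper11.LimPresRing Groth.Agent.Lib.helper11.LimPresMain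

section Mono

/-- a morphism of quasi-coherent modules injective on sections over an affine cover is mono -/
theorem mono_of_injective_cover {Y : Scheme.{u}} {A B : Y.Modules} [A.IsQuasicoherent]
    [B.IsQuasicoherent] (φ : A ⟶ B) {ι : Type*} (𝒰 : ι → Y.Opens)
    (h𝒰 : ∀ i, IsAffineOpen (𝒰 i)) (hcov : ∀ y : Y, ∃ i, y ∈ 𝒰 i)
    (h : ∀ i, Function.Injective (φ.app (𝒰 i)).hom) : Mono φ := by
  haveI : (kernel φ).IsQuasicoherent := Groth.Agent.Lib.helper7.CohKer.isQuasicoherent_kernel φ
  apply Abelian.mono_of_kernel_ι_eq_zero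
  refine eq_zero_of_cover _ 𝒰 h𝒰 hcov (fun i s => ?_)
  apply h i
  rw [map_zero]
  have h1 : kernel.ι φ ≫ φ = 0 := kernel.condition φ
  exact congrArg (fun ψ => (Scheme.Modules.Hom.app ψ (𝒰 i)).hom s) h1

end Mono

section Square

variable {X S X' S' : Scheme.{u}} {f : X ⟶ S} {f' : X' ⟶ S'} {g' : X' ⟶ X} {g : S' ⟶ S}
  (hc : IsPullback g' f' f g) [IsAffine S] [IsAffine S'] {K : Type*} (W : K → X.Opens)
  (hW : ∀ w, IsAffineOpen (W w)) (hcov : ∀ x : X, ∃ w, x ∈ W w) {F G : X.Modules}
  [F.IsQuasicoherent] [G.IsQuasicoherent] (u : F ⟶ G)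
  (φ : Γ(S, ⊤) ⟶ Γ(S', ⊤)) (hφ : φ = g.appLE ⊤ ⊤ le_top)

include hc hW hcov hφ in
theorem pull_mono_iff :
    letI := φ.hom.toAlgebra
    Mono ((Scheme.Modules.pullback g').map u) ↔
      ∀ w, Function.Injective (tensorApp f u (UX := W w) (US := ⊤) le_top Γ(S', ⊤)) := by
  letI := φ.hom.toAlgebra
  haveI := Groth.Agent.Lib.helper16.QCohPullback.isQuasicoherent_pullback g' F
  haveI := Groth.Agent.Lib.helper16.QCohPullback.isQuasicoherent_pullback g' G
  constructor
  · intro h w
    obtain ⟨eF, eG, hsq⟩ := chart_square hc u (le_top : (⊤ : S'.Opens) ≤ g ⁻¹ᵁ ⊤)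
      (le_top : W w ≤ f ⁻¹ᵁ ⊤) (isAffineOpen_top S) (isAffineOpen_top S') (hW w) φ hφ
    intro x y hxy
    apply eF.injective
    apply Groth.Agent.Lib.Helper25.StalkExact.app_injective_of_mono
      ((Scheme.Modules.pullback g').map u) (g' ⁻¹ᵁ (W w) ⊓ f' ⁻¹ᵁ ⊤)
    exact (hsq x).trans ((congrArg eG hxy).trans (hsq y).symm)
  · intro h
    refine mono_of_injective_cover _ (fun w => g' ⁻¹ᵁ (W w) ⊓ f' ⁻¹ᵁ ⊤)
      (isAffineOpen_chart hc W hW) (chart_cover W hcov) (fun w => ?_)
    obtain ⟨eF, eG, hsq⟩ := chart_square hc u (le_top : (⊤ : S'.Opens) ≤ g ⁻¹ᵁ ⊤)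
      (le_top : W w ≤ f ⁻¹ᵁ ⊤) (isAffineOpen_top S) (isAffineOpen_top S') (hW w) φ hφ
    intro s t hst
    obtain ⟨x, rfl⟩ := eF.surjective s
    obtain ⟨y, rfl⟩ := eF.surjective t
    rw [hsq x, hsq y] at hst
    rw [h w (eG.injective hst)]

end Square

section Ring

variable {R : Type u} [CommRing R] {B : Type u} [CommRing B] [Algebra R B]
  {M N C : Type u} [AddCommGroup M] [Module B M] [Module R M] [IsScalarTower R B M]
  [AddCommGroup N] [Module B N] [Module R N] [IsScalarTower R B N]
  [AddCommGroup C] [Module B C] [Module R C] [IsScalarTower R B C]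
  (φ : M →ₗ[B] N) (p : N →ₗ[B] C) (hp : Function.Surjective p) (hex : Function.Exact φ p)

include hp hex in
/-- with `C = coker φ` flat over `R`: `A' ⊗ φ` is injective iff `A' ⊗ (ker φ → M)` vanishes -/
theorem lTensor_injective_iff_of_flat [Module.Flat R C] (A' : Type u) [CommRing A']
    [Algebra R A'] :
    Function.Injective (LinearMap.lTensor A' (φ.restrictScalars R)) ↔
      LinearMap.lTensor A' ((LinearMap.ker φ).subtype.restrictScalars R) = 0 := by
  have hmem : ∀ m, φ m ∈ LinearMap.ker p := fun m => hex.apply_apply_eq_zero m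
  let ψ : M →ₗ[B] LinearMap.ker p := φ.codRestrict (LinearMap.ker p) hmem
  have hψ : Function.Surjective ψ := by
    rintro ⟨n, hn⟩
    obtain ⟨m, rfl⟩ := (hex n).mp hn
    exact ⟨m, rfl⟩
  have hι : Function.Injective
      (LinearMap.lTensor A' ((LinearMap.ker p).subtype.restrictScalars R)) :=
    LinearMap.lTensor_injective_of_exact_of_flat (p.restrictScalars R) hp
      ((LinearMap.ker p).subtype.restrictScalars R) Subtype.val_injective
      (LinearMap.exact_subtype_ker_map p) A'
  have hcomp : LinearMap.lTensor A' (φ.restrictScalars R) =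
      LinearMap.lTensor A' ((LinearMap.ker p).subtype.restrictScalars R) ∘ₗ
        LinearMap.lTensor A' (ψ.restrictScalars R) := by
    rw [← LinearMap.lTensor_comp]
    rfl
  have h1 : Function.Injective (LinearMap.lTensor A' (φ.restrictScalars R)) ↔
      Function.Injective (LinearMap.lTensor A' (ψ.restrictScalars R)) := by
    rw [hcomp, LinearMap.coe_comp]
    exact ⟨fun h => Function.Injective.of_comp h, fun h => hι.comp h⟩
  rw [h1, lTensor_injective_iff' A' ψ hψ, lTensor_eq_zero_iff, lTensor_eq_zero_iff]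
  have e : LinearMap.ker ψ = LinearMap.ker φ := LinearMap.ker_codRestrict _ _ _
  constructor
  · rintro h ⟨m, hm⟩
    exact h ⟨m, e ▸ hm⟩
  · rintro h ⟨m, hm⟩
    exact h ⟨m, e.symm ▸ hm⟩

include hp hex in
theorem ringLP_injective_of_flat [Algebra.FinitePresentation R B] [Module.Finite B M]
    [Module.FinitePresentation B N] [Module.FinitePresentation B C] [Module.Flat R C] :
    RingLP (R := R)
      (fun A' _ _ => Function.Injective (LinearMap.lTensor A' (φ.restrictScalars R))) := by
  refine ⟨?_⟩
  intro ι _ G _ _ g A _ _ _ _ hcolim h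
  rw [lTensor_injective_iff_of_flat φ p hp hex] at h
  haveI : Module.FinitePresentation B (LinearMap.ker p) :=
    Groth.Agent.Lib.helper11.KerFP.fp_ker_of_flat (A := R) p hp
  have hmem : ∀ m, φ m ∈ LinearMap.ker p := fun m => hex.apply_apply_eq_zero m
  let ψ : M →ₗ[B] LinearMap.ker p := φ.codRestrict (LinearMap.ker p) hmem
  have hψ : Function.Surjective ψ := by
    rintro ⟨n, hn⟩
    obtain ⟨m, rfl⟩ := (hex n).mp hn
    exact ⟨m, rfl⟩
  haveI : Module.Finite B (LinearMap.ker φ) := by
    have h2 := Module.FinitePresentation.fg_ker ψ hψ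
    rw [LinearMap.ker_codRestrict] at h2
    exact Module.Finite.iff_fg.mpr h2
  obtain ⟨j, hj⟩ := lTensor_eq_zero_of_colim G g A hcolim (LinearMap.ker φ).subtype h
  exact ⟨j, (lTensor_injective_iff_of_flat φ p hp hex (G j)).mpr hj⟩

include hp hex in
theorem ringMono_injective_of_flat [Module.Flat R C] :
    RingMono (R := R)
      (fun A' _ _ => Function.Injective (LinearMap.lTensor A' (φ.restrictScalars R))) := by
  refine ⟨?_⟩
  intro A' A'' _ _ _ _ h hA'
  rw [lTensor_injective_iff_of_flat φ p hp hex] at hA' ⊢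
  exact lTensor_eq_zero_of_algHom h _ hA'

include hp hex in
/-- base change of an injection with flat cokernel is injective -/
theorem lTensor_injective_of_flat_coker [Module.Flat R C] (hφ : Function.Injective φ)
    (A' : Type u) [CommRing A'] [Algebra R A'] :
    Function.Injective (LinearMap.lTensor A' (φ.restrictScalars R)) :=
  LinearMap.lTensor_injective_of_exact_of_flat (p.restrictScalars R) hp
    (φ.restrictScalars R) hφ hex A'

end Ring

section Bridge

variable {X S : Scheme.{u}} (f : X ⟶ S) {F G C : X.Modules} (u : F ⟶ G) (p : G ⟶ C)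
  {UX : X.Opens} {US : S.Opens} (hUSX : UX ≤ f ⁻¹ᵁ US)

theorem ringLP_tensorApp_injective_of_flat
    (hp : Function.Surjective (p.app UX).hom)
    (hex : Function.Exact (u.app UX).hom (p.app UX).hom)
    (hfp : (f.appLE US UX hUSX).hom.FinitePresentation)
    (hF : Module.Finite Γ(X, UX) Γ(F, UX)) (hG : Module.FinitePresentation Γ(X, UX) Γ(G, UX))
    (hC : Module.FinitePresentation Γ(X, UX) Γ(C, UX))
    (hfl : @Module.Flat Γ(S, US) Γ(C, UX) _ _ (modSecBase f C hUSX)) :
    RingLP (R := Γ(S, US)) (fun A' _ _ => Function.Injective (tensorApp f u hUSX A')) := by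
  letI := (f.appLE US UX hUSX).hom.toAlgebra
  letI := modSecBase f F hUSX
  letI := modSecBase f G hUSX
  letI := modSecBase f C hUSX
  haveI := isScalarTower_sections f F hUSX
  haveI := isScalarTower_sections f G hUSX
  haveI := isScalarTower_sections f C hUSX
  haveI : Algebra.FinitePresentation Γ(S, US) Γ(X, UX) := hfp
  exact ringLP_injective_of_flat (R := Γ(S, US)) (appLin u (UX := UX)) (appLin p (UX := UX)) hp hex

theorem ringMono_tensorApp_injective_of_flat
    (hp : Function.Surjective (p.app UX).hom)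
    (hex : Function.Exact (u.app UX).hom (p.app UX).hom)
    (hfl : @Module.Flat Γ(S, US) Γ(C, UX) _ _ (modSecBase f C hUSX)) :
    RingMono (R := Γ(S, US)) (fun A' _ _ => Function.Injective (tensorApp f u hUSX A')) := by
  letI := (f.appLE US UX hUSX).hom.toAlgebra
  letI := modSecBase f F hUSX
  letI := modSecBase f G hUSX
  letI := modSecBase f C hUSX
  haveI := isScalarTower_sections f F hUSX
  haveI := isScalarTower_sections f G hUSX
  haveI := isScalarTower_sections f C hUSX
  exact ringMono_injective_of_flat (R := Γ(S, US)) (appLin u (UX := UX)) (appLin p (UX := UX))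
    hp hex

theorem tensorApp_injective_of_flat_coker
    (hp : Function.Surjective (p.app UX).hom)
    (hex : Function.Exact (u.app UX).hom (p.app UX).hom)
    (hinj : Function.Injective (u.app UX).hom)
    (hfl : @Module.Flat Γ(S, US) Γ(C, UX) _ _ (modSecBase f C hUSX))
    (A' : Type u) [CommRing A'] [Algebra Γ(S, US) A'] :
    Function.Injective (tensorApp f u hUSX A') := by
  letI := (f.appLE US UX hUSX).hom.toAlgebra
  letI := modSecBase f F hUSX
  letI := modSecBase f G hUSX
  letI := modSecBase f C hUSX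
  haveI := isScalarTower_sections f F hUSX
  haveI := isScalarTower_sections f G hUSX
  haveI := isScalarTower_sections f C hUSX
  exact lTensor_injective_of_flat_coker (R := Γ(S, US)) (appLin u (UX := UX))
    (appLin p (UX := UX)) hp hex hinj A'

end Bridge

section Sections

variable {X : Scheme.{u}} {F G C : X.Modules} [F.IsQuasicoherent] [G.IsQuasicoherent]
  [C.IsQuasicoherent] (u : F ⟶ G) (p : G ⟶ C)

omit [C.IsQuasicoherent] in
/-- sections over an affine open of a right exact sequence of quasi-coherent modules -/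
theorem exact_app_of_exact (w : u ≫ p = 0) (hex : (ShortComplex.mk u p w).Exact)
    {U : X.Opens} (hU : IsAffineOpen U) : Function.Exact (u.app U).hom (p.app U).hom := by
  intro s
  constructor
  · intro hs
    haveI : Mono (cokernel.desc u p w) :=
      (ShortComplex.mk u p w).exact_iff_mono_cokernel_desc.mp hex
    have h1 : ((cokernel.desc u p w).app U).hom (((cokernel.π u).app U).hom s) = 0 := by
      have h2 : cokernel.π u ≫ cokernel.desc u p w = p := cokernel.π_desc u p w
      have h3 := congrArg (fun ψ => (Scheme.Modules.Hom.app ψ U).hom s) h2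
      exact h3.trans hs
    have h4 : ((cokernel.π u).app U).hom s = 0 := by
      apply Groth.Agent.Lib.Helper25.StalkExact.app_injective_of_mono (cokernel.desc u p w) U
      exact h1.trans (map_zero _).symm
    obtain ⟨t, ht⟩ := Groth.Agent.Lib.helper11.InjFlatOpen.exists_app_eq_of_π_eq_zero u hU s h4
    exact ⟨t, ht⟩
  · rintro ⟨t, rfl⟩
    exact congrArg (fun ψ => (Scheme.Modules.Hom.app ψ U).hom t) w

end Sections

section BaseChange

variable {X S X' S' : Scheme.{u}} {f : X ⟶ S} {f' : X' ⟶ S'} {g' : X' ⟶ X} {g : S' ⟶ S}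
  (hc : IsPullback g' f' f g) [IsAffine S] [IsAffine S'] {F G C : X.Modules}
  [F.IsQuasicoherent] [G.IsQuasicoherent] [C.IsQuasicoherent] (u : F ⟶ G) (p : G ⟶ C)

include hc in
/-- **base change of a monomorphism with flat cokernel is a monomorphism** (affine bases) -/
theorem mono_pullback_of_flat_coker (w : u ≫ p = 0) (hex : (ShortComplex.mk u p w).Exact)
    [Epi p] [Mono u] (hfl : FlatMod.IsFlatOver f C) :
    Mono ((Scheme.Modules.pullback g').map u) := by
  have hcov : ∀ x : X, ∃ W : X.affineOpens, x ∈ W.1 := fun x => by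
    obtain ⟨_, ⟨W, hW : IsAffineOpen W, rfl⟩, hxW, -⟩ :=
      X.isBasis_affineOpens.exists_subset_of_mem_open (Set.mem_univ x) isOpen_univ
    exact ⟨⟨W, hW⟩, hxW⟩
  refine (pull_mono_iff hc (fun W : X.affineOpens => W.1) (fun W => W.2) hcov u
    (g.appLE ⊤ ⊤ le_top) rfl).mpr (fun W => ?_)
  letI := (g.appLE ⊤ ⊤ le_top).hom.toAlgebra
  refine tensorApp_injective_of_flat_coker f u p (le_top : W.1 ≤ f ⁻¹ᵁ ⊤)
    (Groth.Agent.Lib.helper16.QCohEpi.surjective_app_of_epi p W.2)
    (exact_app_of_exact u p w hex W.2)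
    (Groth.Agent.Lib.Helper25.StalkExact.app_injective_of_mono u W.1)
    ((isFlatOver_iff_forall_affine f C).mp hfl W.1 ⊤ le_top W.2 (isAffineOpen_top S)) Γ(S', ⊤)

end BaseChange

end Groth.Agent.Lib.helper11.MonoFlatBC
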