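import Mathlib
import Groth.Agent.Lib.Helper11.MonoFlatBC
import Groth.Agent.Lib.Helper11.LimPresFlat
import Groth.Agent.Lib.Helper11.LimStageRExact
import Groth.Agent.Lib.Helper11.LimStageGen

/-!
# "Monomorphism with flat cokernel" descends to a stage of a limit (helper11)

For `f : X ⟶ S` quasi-compact locally of finite presentation and a right exact sequence
`F →u G →p C → 0` of finitely presented quasi-coherent modules on `X`, the predicate
`P' T := Mono (u_T) ∧ C_T flat over T` on `Over S` is stable under base change (affine `T`) and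
descends to a stage of an affine cofiltered limit.
-/

set_option autoImplicit false
set_option linter.style.haveILetI false
universe u
open CategoryTheory CategoryTheory.Limits AlgebraicGeometry TopologicalSpace Opposite TensorProduct

namespace Groth.Agent.Lib.helper11.MonoFlatStage

open Scheme.Modules Groth.Agent.Lib.helper17.FlatOver1 Groth.Agent.Lib.helper11.LimPresChart
  Groth.Agent.Lib.helper11.LimPresCover Groth.Agent.Lib.helper11.LimPresFW
  Groth.Agent.Lib.helper11.LimPresRing Groth.Agent.Lib.helper11.LimPresMain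
  Groth.Agent.Lib.helper11.MonoFlatBC

section NatIso

variable {C D : Type*} [Category C] [Category D] {G₁ G₂ : C ⥤ D} {A B : C}

theorem mono_map_iff (η : G₁ ≅ G₂) (u : A ⟶ B) : Mono (G₂.map u) ↔ Mono (G₁.map u) := by
  constructor
  · intro h
    rw [map_eq_conj η.symm u]
    infer_instance
  · intro h
    rw [map_eq_conj η u]
    infer_instance

end NatIso

variable {X S : Scheme.{u}} (f : X ⟶ S) {F G C : X.Modules} [F.IsQuasicoherent]
  [G.IsQuasicoherent] [C.IsQuasicoherent] (u : F ⟶ G) (p : G ⟶ C)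

/-- the predicate: `u_T` is a monomorphism and `C_T` is flat over `T` -/
def P' {F G : X.Modules} (u : F ⟶ G) (C : X.Modules) (T : Over S) : Prop :=
  Mono ((Scheme.Modules.pullback (pullback.fst f T.hom)).map u) ∧
    FlatMod.IsFlatOver (PicF.XTproj f T) (FGA.ET f C T)

omit [F.IsQuasicoherent] [G.IsQuasicoherent] [C.IsQuasicoherent] in
theorem rexact_T (w : u ≫ p = 0) (hex : (ShortComplex.mk u p w).Exact) [Epi p] (T : Over S) :
    ∃ w' : (Scheme.Modules.pullback (pullback.fst f T.hom)).map u ≫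
        (Scheme.Modules.pullback (pullback.fst f T.hom)).map p = 0,
      (ShortComplex.mk _ _ w').Exact ∧
        Epi ((Scheme.Modules.pullback (pullback.fst f T.hom)).map p) := by
  haveI : PreservesColimitsOfSize.{0, 0} (Scheme.Modules.pullback (pullback.fst f T.hom)) :=
    (Scheme.Modules.pullbackPushforwardAdjunction _).leftAdjoint_preservesColimits
  exact Groth.Agent.Lib.helper11.LimStageRExact.rexact_map _ u p ⟨w, hex, inferInstance⟩

theorem stable (w : u ≫ p = 0) (hex : (ShortComplex.mk u p w).Exact) [Epi p] {T T₀ : Over S}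
    [IsAffine T.left] [IsAffine T₀.left] (k : T ⟶ T₀) (h : P' f u C T₀) : P' f u C T := by
  obtain ⟨hm, hfl⟩ := h
  refine ⟨?_, Groth.Agent.Lib.helper11.LimPresFlat.flat_stable f C k hfl⟩
  rw [mono_map_iff (ηT f k) u]
  change Mono ((Scheme.Modules.pullback (PicF.XTmap f k)).map
    ((Scheme.Modules.pullback (pullback.fst f T₀.hom)).map u))
  obtain ⟨w', hex', hepi⟩ := rexact_T f u p w hex T₀
  haveI := hm
  haveI := hepi
  haveI := Groth.Agent.Lib.helper16.QCohPullback.isQuasicoherent_pullback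
    (pullback.fst f T₀.hom) F
  haveI := Groth.Agent.Lib.helper16.QCohPullback.isQuasicoherent_pullback
    (pullback.fst f T₀.hom) G
  haveI := Groth.Agent.Lib.helper16.QCohPullback.isQuasicoherent_pullback
    (pullback.fst f T₀.hom) C
  exact mono_pullback_of_flat_coker (Groth.Agent.Lib.Helper14.HilbSep.isPullback_XTmap f k) _ _
    w' hex' hfl

section Stage

variable [QuasiCompact f] [LocallyOfFinitePresentation f]
  {I : Type u} [SmallCategory I] [IsCofiltered I] (D : I ⥤ Over S) (c : Cone D)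
  (hc : IsLimit ((Over.forget S).mapCone c)) (hD : ∀ i, IsAffine (D.obj i).left)
  (hT : IsAffine c.pt.left)

include hc hD hT in
theorem exists_stage (w : u ≫ p = 0) (hex : (ShortComplex.mk u p w).Exact) [Epi p]
    (hF : CohB1.IsFP F) (hG : CohB1.IsFP G) (hC : CohB1.IsFP C) (h : P' f u C c.pt) :
    ∃ i, P' f u C (D.obj i) := by
  obtain ⟨hm, hfl⟩ := h
  obtain ⟨i₁, hi₁⟩ := Groth.Agent.Lib.helper11.LimPresFlat.exists_stage_flat f C D c hc hD hT hC hfl
  haveI : IsAffine (D.obj i₁).left := hD i₁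
  haveI : CompactSpace (PicF.XT f (D.obj i₁)) :=
    QuasiCompact.compactSpace_of_compactSpace (pullback.snd f (D.obj i₁).hom)
  obtain ⟨s, hs⟩ := Groth.Agent.Lib.helper11.FlatIdealMain.exists_finite_affine_cover
    (PicF.XT f (D.obj i₁))
  let W : s → (PicF.XT f (D.obj i₁)).Opens := fun w => w.1.1
  have hW : ∀ w, IsAffineOpen (W w) := fun w => w.1.2
  have hcov : ∀ x, ∃ w, x ∈ W w := fun x => by
    obtain ⟨U, hU, hx⟩ := hs x
    exact ⟨⟨U, hU⟩, hx⟩
  haveI := Groth.Agent.Lib.helper16.QCohPullback.isQuasicoherent_pullback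
    (pullback.fst f (D.obj i₁).hom) F
  haveI := Groth.Agent.Lib.helper16.QCohPullback.isQuasicoherent_pullback
    (pullback.fst f (D.obj i₁).hom) G
  haveI := Groth.Agent.Lib.helper16.QCohPullback.isQuasicoherent_pullback
    (pullback.fst f (D.obj i₁).hom) C
  have hF₁ := Groth.Agent.Lib.helper16.QCohPullback2.isFinitePresentation_pullback
    (pullback.fst f (D.obj i₁).hom) F hF
  have hG₁ := Groth.Agent.Lib.helper16.QCohPullback2.isFinitePresentation_pullback
    (pullback.fst f (D.obj i₁).hom) G hG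
  have hC₁ := Groth.Agent.Lib.helper16.QCohPullback2.isFinitePresentation_pullback
    (pullback.fst f (D.obj i₁).hom) C hC
  obtain ⟨w₁, hex₁, hepi₁⟩ := rexact_T f u p w hex (D.obj i₁)
  haveI := hepi₁
  have hsurj : ∀ w, Function.Surjective
      (((Scheme.Modules.pullback (pullback.fst f (D.obj i₁).hom)).map p).app (W w)).hom :=
    fun w => Groth.Agent.Lib.helper16.QCohEpi.surjective_app_of_epi _ (hW w)
  have hexs : ∀ w, Function.Exact
      (((Scheme.Modules.pullback (pullback.fst f (D.obj i₁).hom)).map u).app (W w)).hom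
      (((Scheme.Modules.pullback (pullback.fst f (D.obj i₁).hom)).map p).app (W w)).hom :=
    fun w => exact_app_of_exact _ _ w₁ hex₁ (hW w)
  have hfls : ∀ w, @Module.Flat Γ((D.obj i₁).left, ⊤) Γ(FGA.ET f C (D.obj i₁), W w) _ _
      (modSecBase (PicF.XTproj f (D.obj i₁)) (FGA.ET f C (D.obj i₁))
        (show W w ≤ (PicF.XTproj f (D.obj i₁)) ⁻¹ᵁ ⊤ from le_top)) :=
    fun w => (isFlatOver_iff_forall_affine (PicF.XTproj f (D.obj i₁))
      (FGA.ET f C (D.obj i₁))).mp hi₁ (W w) ⊤ le_top (hW w) (isAffineOpen_top _)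
  refine exists_stage_of_charts (P' f u C) D c hc hD hT i₁
    (fun w A' _ _ => Function.Injective (tensorApp (PicF.XTproj f (D.obj i₁))
      ((Scheme.Modules.pullback (pullback.fst f (D.obj i₁).hom)).map u)
      (UX := W w) (US := ⊤) le_top A')) ?_ ?_ ?_ ⟨hm, hfl⟩
  · intro w
    haveI : Module.FinitePresentation Γ(PicF.XT f (D.obj i₁), W w)
        Γ(FGA.ET f F (D.obj i₁), W w) :=
      Groth.Agent.Lib.helper16.CohFP.fp_sections_of_isFinitePresentation _ hF₁ (hW w)
    exact ringLP_tensorApp_injective_of_flat (PicF.XTproj f (D.obj i₁)) _ _ le_top (hsurj w)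
      (hexs w)
      ((PicF.XTproj f (D.obj i₁)).finitePresentation_appLE (isAffineOpen_top _) (hW w) le_top)
      inferInstance
      (Groth.Agent.Lib.helper16.CohFP.fp_sections_of_isFinitePresentation _ hG₁ (hW w))
      (Groth.Agent.Lib.helper16.CohFP.fp_sections_of_isFinitePresentation _ hC₁ (hW w))
      (hfls w)
  · intro w
    exact ringMono_tensorApp_injective_of_flat (PicF.XTproj f (D.obj i₁)) _ _ le_top (hsurj w)
      (hexs w) (hfls w)
  · intro T' k hT'
    haveI := hT'
    have hpm := pull_mono_iff (Groth.Agent.Lib.Helper14.HilbSep.isPullback_XTmap f k) W hW hcov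
      ((Scheme.Modules.pullback (pullback.fst f (D.obj i₁).hom)).map u) k.left.appTop
      (appTop_eq_appLE _)
    constructor
    · rintro ⟨hm', -⟩
      rw [mono_map_iff (ηT f k) u] at hm'
      exact hpm.mp hm'
    · intro h
      refine ⟨?_, Groth.Agent.Lib.helper11.LimPresFlat.flat_stable f C k hi₁⟩
      rw [mono_map_iff (ηT f k) u]
      exact hpm.mpr h

end Stage

section BC

open Groth.Agent.Lib.helper9 Groth.Agent.Lib.helper11.LimFlatSch

variable {I : Type u} [SmallCategory I] [IsCofiltered I] (D : I ⥤ Scheme.{u}) (c : Cone D)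
  (hc : IsLimit c) [hD : ∀ (i j : I) (φ : i ⟶ j), IsAffineHom (D.map φ)] (i₀ : I)
  {X₁ V : Scheme.{u}} [IsAffine V] (f₁ : X₁ ⟶ V) (g₁ : V ⟶ D.obj i₀)
  [QuasiCompact f₁] [LocallyOfFinitePresentation f₁]
  {F G C : X₁.Modules} [F.IsQuasicoherent] [G.IsQuasicoherent] [C.IsQuasicoherent]
  (u : F ⟶ G) (p : G ⟶ C)

include hc in
/-- descent to a stage for the base change of `D` along `g₁ : V ⟶ D.obj i₀`, `V` affine -/
theorem exists_stage_bc (w : u ≫ p = 0) (hex : (ShortComplex.mk u p w).Exact) [Epi p]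
    (hF : CohB1.IsFP F) (hG : CohB1.IsFP G) (hC : CohB1.IsFP C)
    (h : P' f₁ u C (Over.mk (pullback.snd (c.π.app i₀) g₁))) :
    ∃ j : Over i₀, P' f₁ u C (Over.mk (pullback.snd (D.map j.hom) g₁)) := by
  haveI : ∀ {i j : I} (φ : i ⟶ j), IsAffineHom (D.map φ) := fun φ => hD _ _ φ
  haveI := isAffineHom_π_app D c hc i₀
  have hAffObj : ∀ j, IsAffine ((DV D i₀ g₁ (𝟙 V)).obj j).left := by
    intro j
    show IsAffine (pullback (D.map j.hom) (𝟙 V ≫ g₁))
    haveI : IsAffineHom (D.map j.hom) := hD _ _ _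
    exact isAffine_of_isAffineHom (pullback.snd (D.map j.hom) (𝟙 V ≫ g₁))
  have hAffPt : IsAffine (cV D c i₀ g₁ (𝟙 V)).pt.left := by
    show IsAffine (pullback (c.π.app i₀) (𝟙 V ≫ g₁))
    exact isAffine_of_isAffineHom (pullback.snd _ _)
  haveI := hAffPt
  haveI : IsAffine (Over.mk (pullback.snd (c.π.app i₀) g₁)).left := by
    show IsAffine (pullback (c.π.app i₀) g₁)
    exact isAffine_of_isAffineHom (pullback.snd _ _)
  have h' : P' f₁ u C (cV D c i₀ g₁ (𝟙 V)).pt := by
    refine stable f₁ u p w hex (T := (cV D c i₀ g₁ (𝟙 V)).pt)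
      (T₀ := Over.mk (pullback.snd (c.π.app i₀) g₁))
      (Over.homMk (pullback.map _ _ _ _ (𝟙 _) (𝟙 V) (𝟙 _) (by simp) (by simp)) ?_) h
    exact pullback.lift_snd _ _ _
  obtain ⟨j, hj⟩ := exists_stage f₁ u p (DV D i₀ g₁ (𝟙 V)) (cV D c i₀ g₁ (𝟙 V))
    (isLimitBcCone D c i₀ (𝟙 V ≫ g₁) hc) hAffObj hAffPt w hex hF hG hC h'
  refine ⟨j, ?_⟩
  haveI := hAffObj j
  haveI : IsAffine (Over.mk (pullback.snd (D.map j.hom) g₁)).left := by
    show IsAffine (pullback (D.map j.hom) g₁)
    haveI : IsAffineHom (D.map j.hom) := hD _ _ _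
    exact isAffine_of_isAffineHom (pullback.snd _ _)
  refine stable f₁ u p w hex (T := Over.mk (pullback.snd (D.map j.hom) g₁))
    (T₀ := (DV D i₀ g₁ (𝟙 V)).obj j)
    (Over.homMk (pullback.map _ _ _ _ (𝟙 _) (𝟙 V) (𝟙 _) (by simp) (by simp)) ?_) hj
  change pullback.map _ _ _ _ (𝟙 _) (𝟙 V) (𝟙 _) _ _ ≫
    pullback.snd (D.map j.hom) (𝟙 V ≫ g₁) ≫ 𝟙 V = pullback.snd (D.map j.hom) g₁
  exact ((Category.assoc _ _ _).symm.trans (Category.comp_id _)).trans
    ((pullback.lift_snd _ _ _).trans (Category.comp_id _))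

end BC

end Groth.Agent.Lib.helper11.MonoFlatStage
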