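import Mathlib
import Groth.Agent.Lib.Helper11.MonoFlatStage
import Groth.Agent.Lib.Helper11.LimFlatPt
import Groth.Agent.Lib.Helper25.PullFlatExact

/-!
# Pointwise "injective with flat cokernel": transfer to local data (helper11)
-/

set_option autoImplicit false
set_option linter.style.haveILetI false
universe u
open CategoryTheory CategoryTheory.Limits AlgebraicGeometry

namespace Groth.Agent.Lib.helper11.MonoFlatPt

open Groth.Agent.Lib.helper9 Groth.Agent.Lib.helper11.LimStageMod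
  Groth.Agent.Lib.helper11.MonoFlatStage Groth.Agent.Lib.helper11.LimFlatPt

section Stalk

/-- the stalk functor to abelian groups -/
noncomputable abbrev stalkAb (X : Scheme.{u}) (x : X) : X.Modules ⥤ Ab.{u} :=
  Scheme.Modules.toPresheaf X ⋙ TopCat.Presheaf.stalkFunctor Ab.{u} x

/-- the stalk map of `u` at `x` is injective -/
def InjAt {X : Scheme.{u}} {F G : X.Modules} (u : F ⟶ G) (x : X) : Prop :=
  Function.Injective ((TopCat.Presheaf.stalkFunctor Ab x).map (Scheme.Modules.Hom.mapPresheaf u))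

theorem injective_map_iff {C : Type*} [Category C] {Φ Ψ : C ⥤ Ab.{u}} (η : Φ ≅ Ψ) {A B : C}
    (v : A ⟶ B) : Function.Injective (Ψ.map v) ↔ Function.Injective (Φ.map v) := by
  rw [← AddCommGrpCat.mono_iff_injective, ← AddCommGrpCat.mono_iff_injective]
  exact mono_map_iff η v

/-- stalks of the pullback along an open immersion -/
noncomputable def stalkPullOpenIso {U X : Scheme.{u}} (a : U ⟶ X) [IsOpenImmersion a] (ξ : U) :
    Scheme.Modules.pullback a ⋙ stalkAb U ξ ≅ stalkAb X (a ξ) :=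
  Functor.isoWhiskerRight (Scheme.Modules.restrictFunctorIsoPullback a).symm (stalkAb U ξ) ≪≫
    Scheme.Modules.restrictStalkNatIso a ξ

theorem injAt_pullback_openImmersion_iff {U X : Scheme.{u}} (a : U ⟶ X) [IsOpenImmersion a]
    {F G : X.Modules} (v : F ⟶ G) (ξ : U) :
    InjAt ((Scheme.Modules.pullback a).map v) ξ ↔ InjAt v (a ξ) := by
  unfold InjAt
  exact (injective_map_iff (stalkPullOpenIso a ξ) v).symm

theorem mono_iff_forall_injAt {X : Scheme.{u}} {F G : X.Modules} (v : F ⟶ G) :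
    Mono v ↔ ∀ x : X, InjAt v x := by
  constructor
  · intro h x
    have h1 : Mono ((DerSch.stalkFunctor X x).map v) := inferInstance
    exact (ModuleCat.mono_iff_injective _).1 h1
  · intro h
    apply Groth.Agent.Lib.Helper25.StalkExact.mono_of_forall_stalk
    intro x
    rw [ModuleCat.mono_iff_injective]
    exact h x

theorem injAt_iff_of_natIso {X Y : Scheme.{u}} {Φ Ψ : Y.Modules ⥤ X.Modules} (η : Φ ≅ Ψ)
    {F G : Y.Modules} (v : F ⟶ G) (x : X) : InjAt (Ψ.map v) x ↔ InjAt (Φ.map v) x := by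
  unfold InjAt
  exact injective_map_iff (Functor.isoWhiskerRight η (stalkAb X x)) v

end Stalk

section IsoPull

theorem mono_pullback_iso_iff {Y Z : Scheme.{u}} (α : Y ⟶ Z) [IsIso α] {A B : Z.Modules}
    (v : A ⟶ B) : Mono ((Scheme.Modules.pullback α).map v) ↔ Mono v := by
  constructor
  · intro h
    have η : Scheme.Modules.pullback α ⋙ Scheme.Modules.pullback (inv α) ≅ 𝟭 _ :=
      ηcomp (inv α) α (𝟙 Z) (IsIso.inv_hom_id α) ≪≫ Scheme.Modules.pullbackId Z
    have h2 : Mono ((Scheme.Modules.pullback α ⋙ Scheme.Modules.pullback (inv α)).map v) := by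
      change Mono ((Scheme.Modules.pullback (inv α)).map ((Scheme.Modules.pullback α).map v))
      infer_instance
    exact (mono_map_iff η v).mpr h2
  · intro h
    infer_instance

end IsoPull

section Transfer

variable {S' Sj Xt T X₀ X' Y' : Scheme.{u}} (π : S' ⟶ Sj)
  (ft : Xt ⟶ T) (gT : T ⟶ Sj) (qq : Xt ⟶ X₀) {F₀ G₀ : X₀.Modules} (h₀ : F₀ ⟶ G₀)
  (V : T.Opens) (W : Xt.Opens) (hWV : W ≤ ft ⁻¹ᵁ V)
  (f' : X' ⟶ Y') (g' : Y' ⟶ S') (vY : Y' ⟶ T) (vX : X' ⟶ Xt)

set_option maxHeartbeats 1600000 in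
/-- **Transfer** (mono part): injectivity on the stalks at the points of the preimage of `W` in a
stage `X' ⟶ Y'` is the `Mono` predicate for the local data `W ⟶ V` -/
theorem transferMono (hY' : IsPullback vY g' gT π) (hX' : IsPullback vX f' ft vY) :
    (∀ ξ ∈ vX ⁻¹ᵁ W, InjAt ((Scheme.Modules.pullback (vX ≫ qq)).map h₀) ξ) ↔
      Mono ((Scheme.Modules.pullback
        (pullback.fst (ft.resLE V W hWV) (pullback.snd π (V.ι ≫ gT)))).map
          ((Scheme.Modules.pullback (W.ι ≫ qq)).map h₀)) := by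
  set V' : Y'.Opens := vY ⁻¹ᵁ V with hV'
  set W' : X'.Opens := vX ⁻¹ᵁ W ⊓ f' ⁻¹ᵁ V' with hW'
  have hW'eq : W' = vX ⁻¹ᵁ W := le_aux ft V W hWV f' vY vX hX'.w
  set f₁ := ft.resLE V W hWV with hf₁
  set g₁ := V.ι ≫ gT with hg₁
  have hsqV := sqV π gT V g' vY hY'
  have hsqW : IsPullback (vX.resLE W W' (by rw [hW'eq])) (f'.resLE V' W' (by rw [hW']; exact inf_le_right))
      f₁ (vY.resLE V V' le_rfl) := Scheme.Hom.isPullback_resLE hX' le_rfl hWV rfl
  set vXr := vX.resLE W W' (by rw [hW'eq]) with hvXr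
  set f'r := f'.resLE V' W' (by rw [hW']; exact inf_le_right) with hf'r
  let β : (V' : Scheme.{u}) ≅ pullback π g₁ := hsqV.flip.isoPullback
  have hβ2 : β.hom ≫ pullback.snd π g₁ = vY.resLE V V' le_rfl := hsqV.flip.isoPullback_hom_snd
  let α : (W' : Scheme.{u}) ⟶ pullback f₁ (pullback.snd π g₁) :=
    pullback.lift vXr (f'r ≫ β.hom) (by rw [Category.assoc, hβ2]; exact hsqW.w)
  have hα1 : α ≫ pullback.fst f₁ (pullback.snd π g₁) = vXr := pullback.lift_fst _ _ _
  have hα2 : α ≫ pullback.snd f₁ (pullback.snd π g₁) = f'r ≫ β.hom := pullback.lift_snd _ _ _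
  have hsq : IsPullback α f'r (pullback.snd f₁ (pullback.snd π g₁)) β.hom := by
    refine IsPullback.of_right ?_ hα2 (IsPullback.of_hasPullback f₁ (pullback.snd π g₁))
    rw [hα1, hβ2]
    exact hsqW
  haveI : IsIso α := hsq.isIso_fst_of_isIso
  set r : (W' : Scheme.{u}) ⟶ X₀ := W'.ι ≫ vX ≫ qq with hr
  have hr2 : vXr ≫ W.ι ≫ qq = r := by
    rw [hr, hvXr, Scheme.Hom.resLE_comp_ι_assoc]
  set u₁ := (Scheme.Modules.pullback (W.ι ≫ qq)).map h₀ with hu₁
  set u' := (Scheme.Modules.pullback (vX ≫ qq)).map h₀ with hu'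
  -- chain of equivalences
  have e1 : Mono ((Scheme.Modules.pullback (pullback.fst f₁ (pullback.snd π g₁))).map u₁) ↔
      Mono ((Scheme.Modules.pullback vXr).map u₁) := by
    rw [← mono_pullback_iso_iff α]
    exact (mono_map_iff (ηcomp α (pullback.fst f₁ (pullback.snd π g₁)) vXr hα1) u₁).symm
  have e2 : Mono ((Scheme.Modules.pullback vXr).map u₁) ↔
      Mono ((Scheme.Modules.pullback r).map h₀) :=
    (mono_map_iff (ηcomp vXr (W.ι ≫ qq) r hr2) h₀).symm
  have e3 : Mono ((Scheme.Modules.pullback r).map h₀) ↔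
      Mono ((Scheme.Modules.pullback W'.ι).map u') :=
    mono_map_iff (ηcomp W'.ι (vX ≫ qq) r rfl) h₀
  rw [e1, e2, e3, mono_iff_forall_injAt]
  constructor
  · intro h ξ'
    rw [injAt_pullback_openImmersion_iff]
    exact h _ (hW'eq.le ξ'.2)
  · intro h ξ hξ
    have hξ' : ξ ∈ W' := by rw [hW'eq]; exact hξ
    have := (injAt_pullback_openImmersion_iff W'.ι u' ⟨ξ, hξ'⟩).mp (h ⟨ξ, hξ'⟩)
    exact this

end Transfer

end Groth.Agent.Lib.helper11.MonoFlatPt
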