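import Mathlib
import Groth.Agent.Lib.Helper11.MonoFlatPt
import Groth.Agent.Lib.Helper11.LocCoker
import Groth.Agent.S4851

/-!
# EGA IV 11.2.6 (pointwise, with a homomorphism): `h_x` injective and `Coker h` flat at `x`
descends to a stage of a limit (helper11)
-/

set_option autoImplicit false
set_option linter.style.haveILetI false
universe u
open CategoryTheory CategoryTheory.Limits AlgebraicGeometry

namespace Groth.Agent.Lib.helper11.MonoFlatMain

open Groth.Agent.Lib.helper9 Groth.Agent.Lib.helper11.LimStageMod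
  Groth.Agent.Lib.helper11.MonoFlatStage Groth.Agent.Lib.helper11.LimFlatPt
  Groth.Agent.Lib.helper11.MonoFlatPt

section Coker

variable {X₀ X : Scheme.{u}} {F₀ G₀ : X₀.Modules} (h₀ : F₀ ⟶ G₀)

/-- pullback commutes with cokernels -/
noncomputable def cokerIso (q : X ⟶ X₀) :
    (Scheme.Modules.pullback q).obj (cokernel h₀) ≅ cokernel ((Scheme.Modules.pullback q).map h₀) :=
  haveI : PreservesColimitsOfSize.{0, 0} (Scheme.Modules.pullback q) :=
    (Scheme.Modules.pullbackPushforwardAdjunction _).leftAdjoint_preservesColimits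
  PreservesCokernel.iso (Scheme.Modules.pullback q) h₀

theorem isFlatOverAt_coker_iff {Y : Scheme.{u}} (f : X ⟶ Y) (q : X ⟶ X₀) (x : X) :
    FlatMod.IsFlatOverAt f (cokernel ((Scheme.Modules.pullback q).map h₀)) x ↔
      FlatMod.IsFlatOverAt f ((Scheme.Modules.pullback q).obj (cokernel h₀)) x :=
  (Groth.Agent.Lib.helper17.FlatOver7.isFlatOverAt_iff_of_iso f (cokerIso h₀ q) x).symm

theorem rexact_pull (q : X ⟶ X₀) :
    ∃ w' : (Scheme.Modules.pullback q).map h₀ ≫ (Scheme.Modules.pullback q).map (cokernel.π h₀) = 0,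
      (ShortComplex.mk _ _ w').Exact ∧ Epi ((Scheme.Modules.pullback q).map (cokernel.π h₀)) := by
  haveI : PreservesColimitsOfSize.{0, 0} (Scheme.Modules.pullback q) :=
    (Scheme.Modules.pullbackPushforwardAdjunction _).leftAdjoint_preservesColimits
  exact Groth.Agent.Lib.helper11.LimStageRExact.rexact_map _ h₀ (cokernel.π h₀)
    ⟨cokernel.condition h₀, ShortComplex.cokernelSequence_exact h₀, inferInstance⟩

end Coker

section Main

variable {I : Type u} [SmallCategory I] [IsCofiltered I] (D : I ⥤ Scheme.{u}) (c : Cone D)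
  (hc : IsLimit c) [hD : ∀ (i j : I) (φ : i ⟶ j), IsAffineHom (D.map φ)] (i₀ : I)
  {X₀ Y₀ : Scheme.{u}} (f₀ : X₀ ⟶ Y₀) (g₀ : Y₀ ⟶ D.obj i₀)
  [LocallyOfFinitePresentation f₀]
  (F₀ G₀ : X₀.Modules) [F₀.IsQuasicoherent] [G₀.IsQuasicoherent] (hF₀ : CohB1.IsFP F₀)
  (hG₀ : CohB1.IsFP G₀) (h₀ : F₀ ⟶ G₀)
  {X Y : Scheme.{u}} (f : X ⟶ Y) (g : Y ⟶ c.pt) (qY : Y ⟶ Y₀) (qX : X ⟶ X₀)
  (hY : IsPullback qY g g₀ (c.π.app i₀)) (hX : IsPullback qX f f₀ qY) (x : X)

include hc hF₀ hG₀ hY hX in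
set_option maxHeartbeats 1600000 in
theorem of_stage {i : I} (φ : i ⟶ i₀) {Xi Yi : Scheme.{u}} (fi : Xi ⟶ Yi) (gi : Yi ⟶ D.obj i)
    (pY : Yi ⟶ Y₀) (pX : Xi ⟶ X₀) (vY : Y ⟶ Yi) (vX : X ⟶ Xi)
    (hYi : IsPullback pY gi g₀ (D.map φ)) (hXi : IsPullback pX fi f₀ pY)
    (e1 : vY ≫ pY = qY) (e2 : vY ≫ gi = g ≫ c.π.app i) (e3 : vX ≫ pX = qX)
    (e4 : vX ≫ fi = f ≫ vY)
    (hinj : InjAt ((Scheme.Modules.pullback pX).map h₀) (vX x))
    (hfl : FlatMod.IsFlatOverAt fi (cokernel ((Scheme.Modules.pullback pX).map h₀)) (vX x)) :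
    InjAt ((Scheme.Modules.pullback qX).map h₀) x ∧
      FlatMod.IsFlatOverAt f (cokernel ((Scheme.Modules.pullback qX).map h₀)) x := by
  classical
  haveI : ∀ {i j : I} (φ : i ⟶ j), IsAffineHom (D.map φ) := fun φ => hD _ _ φ
  haveI := isAffineHom_π_app D c hc i
  haveI : LocallyOfFinitePresentation fi := MorphismProperty.of_isPullback hXi inferInstance
  haveI hFq := Groth.Agent.Lib.helper16.QCohPullback.isQuasicoherent_pullback pX F₀
  haveI hGq := Groth.Agent.Lib.helper16.QCohPullback.isQuasicoherent_pullback pX G₀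
  have hFfp := Groth.Agent.Lib.helper16.QCohPullback2.isFinitePresentation_pullback pX F₀ hF₀
  have hGfp := Groth.Agent.Lib.helper16.QCohPullback2.isFinitePresentation_pullback pX G₀ hG₀
  have hΩ := Groth.Agent.S4851.result fi _ _ hGfp hFfp ((Scheme.Modules.pullback pX).map h₀)
  haveI : (cokernel h₀).IsQuasicoherent :=
    Groth.Agent.Lib.helper7.CohKer.isQuasicoherent_cokernel h₀
  -- affine opens
  obtain ⟨V, hV, htV⟩ : ∃ V : Yi.Opens, IsAffineOpen V ∧ fi (vX x) ∈ V := by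
    obtain ⟨_, ⟨V, hV : IsAffineOpen V, rfl⟩, htV, -⟩ :=
      Yi.isBasis_affineOpens.exists_subset_of_mem_open (Set.mem_univ (fi (vX x))) isOpen_univ
    exact ⟨V, hV, htV⟩
  obtain ⟨W, hW, hpW, hWΩ, hWV⟩ : ∃ W : Xi.Opens, IsAffineOpen W ∧ vX x ∈ W ∧
      (∀ ξ ∈ W, InjAt ((Scheme.Modules.pullback pX).map h₀) ξ ∧
        FlatMod.IsFlatOverAt fi (cokernel ((Scheme.Modules.pullback pX).map h₀)) ξ) ∧
      W ≤ fi ⁻¹ᵁ V := by
    obtain ⟨_, ⟨W, hW : IsAffineOpen W, rfl⟩, hpW, hWsub⟩ :=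
      Xi.isBasis_affineOpens.exists_subset_of_mem_open
        (show vX x ∈ {x' : Xi | InjAt ((Scheme.Modules.pullback pX).map h₀) x' ∧
          FlatMod.IsFlatOverAt fi (cokernel ((Scheme.Modules.pullback pX).map h₀)) x'} ∩
            (fi ⁻¹ᵁ V : Set Xi) from ⟨⟨hinj, hfl⟩, htV⟩) (hΩ.inter (fi ⁻¹ᵁ V).2)
    exact ⟨W, hW, hpW, fun z hz => (hWsub hz).1, fun z hz => (hWsub hz).2⟩
  -- the local data
  set f₁ := fi.resLE V W hWV with hf₁
  set g₁ := V.ι ≫ gi with hg₁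
  haveI : IsAffine (V : Scheme.{u}) := hV
  haveI : IsAffine (W : Scheme.{u}) := hW
  haveI := Groth.Agent.Lib.helper16.QCohPullback.isQuasicoherent_pullback (W.ι ≫ pX) F₀
  haveI := Groth.Agent.Lib.helper16.QCohPullback.isQuasicoherent_pullback (W.ι ≫ pX) G₀
  haveI := Groth.Agent.Lib.helper16.QCohPullback.isQuasicoherent_pullback (W.ι ≫ pX)
    (cokernel h₀)
  obtain ⟨w₁, hex₁, hepi₁⟩ := rexact_pull h₀ (W.ι ≫ pX)
  haveI := hepi₁
  -- the squares
  have hsqY : IsPullback vY g gi (c.π.app i) :=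
    IsPullback.of_right (by rw [e1, c.w φ]; exact hY) e2 hYi
  have hsqX : IsPullback vX f fi vY :=
    IsPullback.of_right (by rw [e3, e1]; exact hX) e4 hXi
  -- the predicate at the stage
  have hP₀ : P' f₁ ((Scheme.Modules.pullback (W.ι ≫ pX)).map h₀)
      ((Scheme.Modules.pullback (W.ι ≫ pX)).obj (cokernel h₀))
      (Over.mk (pullback.snd (𝟙 (D.obj i)) g₁)) := by
    constructor
    · refine (transferMono (𝟙 (D.obj i)) fi gi pX h₀ V W hWV fi gi (𝟙 Yi) (𝟙 Xi)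
        (IsPullback.id_horiz gi) (IsPullback.id_horiz fi)).mp ?_
      intro ξ hξ
      rw [Category.id_comp]
      exact (hWΩ ξ hξ).1
    · refine (transfer (𝟙 (D.obj i)) fi gi pX (cokernel h₀) V W hWV fi gi (𝟙 Yi) (𝟙 Xi)
        (IsPullback.id_horiz gi) (IsPullback.id_horiz fi)).mp ?_
      intro ξ hξ
      rw [Category.id_comp]
      exact (isFlatOverAt_coker_iff h₀ fi pX ξ).mp (hWΩ ξ hξ).2
  -- base change to the limit
  haveI : IsAffine (Over.mk (pullback.snd (𝟙 (D.obj i)) g₁)).left := by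
    show IsAffine (pullback (𝟙 (D.obj i)) g₁)
    exact isAffine_of_isAffineHom (pullback.snd _ _)
  haveI : IsAffine (Over.mk (pullback.snd (c.π.app i) g₁)).left := by
    show IsAffine (pullback (c.π.app i) g₁)
    exact isAffine_of_isAffineHom (pullback.snd _ _)
  have hP : P' f₁ ((Scheme.Modules.pullback (W.ι ≫ pX)).map h₀)
      ((Scheme.Modules.pullback (W.ι ≫ pX)).obj (cokernel h₀))
      (Over.mk (pullback.snd (c.π.app i) g₁)) := by
    refine stable f₁ _ _ w₁ hex₁ (T := Over.mk (pullback.snd (c.π.app i) g₁))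
      (T₀ := Over.mk (pullback.snd (𝟙 (D.obj i)) g₁))
      (Over.homMk (pullback.map _ _ _ _ (c.π.app i) (𝟙 _) (𝟙 _) (by simp) (by simp)) ?_) hP₀
    exact (pullback.lift_snd _ _ _).trans (Category.comp_id _)
  have hxW : x ∈ vX ⁻¹ᵁ W := hpW
  constructor
  · have h1 := (transferMono (c.π.app i) fi gi pX h₀ V W hWV f g vY vX hsqY hsqX).mpr hP.1 x hxW
    rw [e3] at h1
    exact h1
  · have h2 := (transfer (c.π.app i) fi gi pX (cokernel h₀) V W hWV f g vY vX hsqY hsqX).mpr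
      hP.2 x hxW
    rw [e3] at h2
    exact (isFlatOverAt_coker_iff h₀ f qX x).mpr h2

include hc hF₀ hG₀ hY hX in
set_option maxHeartbeats 3200000 in
theorem exists_stage_pt
    (hinj : InjAt ((Scheme.Modules.pullback qX).map h₀) x)
    (hfl : FlatMod.IsFlatOverAt f (cokernel ((Scheme.Modules.pullback qX).map h₀)) x) :
    ∃ (i : I) (φ : i ⟶ i₀) (Xi Yi : Scheme.{u}) (fi : Xi ⟶ Yi) (gi : Yi ⟶ D.obj i)
      (pY : Yi ⟶ Y₀) (pX : Xi ⟶ X₀) (vY : Y ⟶ Yi) (vX : X ⟶ Xi),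
      IsPullback pY gi g₀ (D.map φ) ∧ IsPullback pX fi f₀ pY ∧
        vY ≫ pY = qY ∧ vY ≫ gi = g ≫ c.π.app i ∧ vX ≫ pX = qX ∧ vX ≫ fi = f ≫ vY ∧
        InjAt ((Scheme.Modules.pullback pX).map h₀) (vX x) ∧
        FlatMod.IsFlatOverAt fi (cokernel ((Scheme.Modules.pullback pX).map h₀)) (vX x) := by
  classical
  haveI : LocallyOfFinitePresentation f := MorphismProperty.of_isPullback hX inferInstance
  haveI hFq := Groth.Agent.Lib.helper16.QCohPullback.isQuasicoherent_pullback qX F₀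
  haveI hGq := Groth.Agent.Lib.helper16.QCohPullback.isQuasicoherent_pullback qX G₀
  have hFfp := Groth.Agent.Lib.helper16.QCohPullback2.isFinitePresentation_pullback qX F₀ hF₀
  have hGfp := Groth.Agent.Lib.helper16.QCohPullback2.isFinitePresentation_pullback qX G₀ hG₀
  have hΩ := Groth.Agent.S4851.result f _ _ hGfp hFfp ((Scheme.Modules.pullback qX).map h₀)
  haveI : (cokernel h₀).IsQuasicoherent :=
    Groth.Agent.Lib.helper7.CohKer.isQuasicoherent_cokernel h₀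
  have hC₀ : CohB1.IsFP (cokernel h₀) := by
    haveI : SheafOfModules.IsFinitePresentation (R := X₀.ringCatSheaf) F₀ := hF₀
    haveI : SheafOfModules.IsFinitePresentation (R := X₀.ringCatSheaf) G₀ := hG₀
    haveI : SheafOfModules.IsFiniteType (R := X₀.ringCatSheaf) F₀ := inferInstance
    exact Groth.Agent.Lib.helper11.LocCoker.isFinitePresentation_cokernel h₀
  -- `X` as the limit of the base-changed system
  have hXY : IsPullback qX (f ≫ g) (f₀ ≫ g₀) (c.π.app i₀) := hX.paste_vert hY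
  let e : X ≅ pullback (c.π.app i₀) (f₀ ≫ g₀) := hXY.flip.isoPullback
  have he1 : e.hom ≫ pullback.fst (c.π.app i₀) (f₀ ≫ g₀) = f ≫ g := hXY.flip.isoPullback_hom_fst
  have he2 : e.hom ≫ pullback.snd (c.π.app i₀) (f₀ ≫ g₀) = qX := hXY.flip.isoPullback_hom_snd
  let Ωt : (pullback (c.π.app i₀) (f₀ ≫ g₀)).Opens := e.inv ⁻¹ᵁ ⟨_, hΩ⟩
  have hinv : ∀ ξ : X, e.inv (e.hom ξ) = ξ := fun ξ => by
    rw [← Scheme.Hom.comp_apply, Iso.hom_inv_id]; rfl
  have hxΩ : e.hom x ∈ Ωt := by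
    change e.inv (e.hom x) ∈ {x' : X | InjAt ((Scheme.Modules.pullback qX).map h₀) x' ∧
      FlatMod.IsFlatOverAt f (cokernel ((Scheme.Modules.pullback qX).map h₀)) x'}
    rw [hinv]
    exact ⟨hinj, hfl⟩
  have B := isBasis_preimage_isAffineOpen (bcDiagram D i₀ (f₀ ≫ g₀)) (bcCone D c i₀ (f₀ ≫ g₀))
    (isLimitBcCone D c i₀ (f₀ ≫ g₀) hc)
  obtain ⟨_, ⟨j, W₀, hW₀, rfl⟩, hxW₀, hW₀Ω⟩ := TopologicalSpace.Opens.isBasis_iff_nbhd.mp B hxΩ
  -- the stage `j`
  have hπ : c.π.app j.left ≫ D.map j.hom = c.π.app i₀ := c.w j.hom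
  set d := D.map j.hom with hd
  set vXj := vX d f₀ g₀ (c.π.app j.left) (c.π.app i₀) hπ f g qY qX hY hX with hvXj
  set vYj := vY d g₀ (c.π.app j.left) (c.π.app i₀) hπ g qY hY with hvYj
  have hb1 : (bcCone D c i₀ (f₀ ≫ g₀)).π.app j ≫ pullback.fst d (f₀ ≫ g₀) =
      pullback.fst (c.π.app i₀) (f₀ ≫ g₀) ≫ c.π.app j.left := pullback.lift_fst _ _ _
  have hb2 : (bcCone D c i₀ (f₀ ≫ g₀)).π.app j ≫ pullback.snd d (f₀ ≫ g₀) =
      pullback.snd (c.π.app i₀) (f₀ ≫ g₀) ≫ 𝟙 _ := pullback.lift_snd _ _ _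
  have hevX : e.hom ≫ (bcCone D c i₀ (f₀ ≫ g₀)).π.app j = vXj := by
    apply pullback.hom_ext
    · rw [hvXj, vX_fst]
      exact ((Category.assoc _ _ _).trans (congrArg (e.hom ≫ ·) hb1)).trans
        (by rw [reassoc_of% he1])
    · rw [hvXj, vX_snd]
      exact ((Category.assoc _ _ _).trans (congrArg (e.hom ≫ ·) hb2)).trans
        (by rw [Category.comp_id, he2])
  have hevX' : ∀ ξ : X, (bcCone D c i₀ (f₀ ≫ g₀)).π.app j (e.hom ξ) = vXj ξ := fun ξ => by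
    rw [← hevX]; rfl
  have hpW₀ : vXj x ∈ W₀ := by
    rw [← hevX']
    exact hxW₀
  -- affine opens `W ≤ ft⁻¹ V`
  obtain ⟨V, hV, htV⟩ : ∃ V : (pullback d g₀).Opens, IsAffineOpen V ∧
      ft d f₀ g₀ (vXj x) ∈ V := by
    obtain ⟨_, ⟨V, hV : IsAffineOpen V, rfl⟩, htV, -⟩ :=
      (pullback d g₀).isBasis_affineOpens.exists_subset_of_mem_open
        (Set.mem_univ (ft d f₀ g₀ (vXj x))) isOpen_univ
    exact ⟨V, hV, htV⟩
  obtain ⟨W, hW, hpW, hWW₀, hWV⟩ : ∃ W : (pullback d (f₀ ≫ g₀)).Opens, IsAffineOpen W ∧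
      vXj x ∈ W ∧ W ≤ W₀ ∧ W ≤ ft d f₀ g₀ ⁻¹ᵁ V := by
    obtain ⟨_, ⟨W, hW : IsAffineOpen W, rfl⟩, hpW, hWsub⟩ :=
      (pullback d (f₀ ≫ g₀)).isBasis_affineOpens.exists_subset_of_mem_open
        (show vXj x ∈ ((W₀ ⊓ ft d f₀ g₀ ⁻¹ᵁ V : (pullback d (f₀ ≫ g₀)).Opens) : Set _) from
          ⟨hpW₀, htV⟩) (W₀ ⊓ ft d f₀ g₀ ⁻¹ᵁ V).2
    exact ⟨W, hW, hpW, fun z hz => (hWsub hz).1, fun z hz => (hWsub hz).2⟩
  -- the local data
  set qq := pullback.snd d (f₀ ≫ g₀) with hqq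
  set f₁ := (ft d f₀ g₀).resLE V W hWV with hf₁
  set g₁ := V.ι ≫ pullback.fst d g₀ with hg₁
  haveI := Groth.Agent.Lib.helper16.QCohPullback.isQuasicoherent_pullback (W.ι ≫ qq) F₀
  haveI := Groth.Agent.Lib.helper16.QCohPullback.isQuasicoherent_pullback (W.ι ≫ qq) G₀
  haveI := Groth.Agent.Lib.helper16.QCohPullback.isQuasicoherent_pullback (W.ι ≫ qq)
    (cokernel h₀)
  have hF₁fp := Groth.Agent.Lib.helper16.QCohPullback2.isFinitePresentation_pullback
    (W.ι ≫ qq) F₀ hF₀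
  have hG₁fp := Groth.Agent.Lib.helper16.QCohPullback2.isFinitePresentation_pullback
    (W.ι ≫ qq) G₀ hG₀
  have hC₁fp := Groth.Agent.Lib.helper16.QCohPullback2.isFinitePresentation_pullback
    (W.ι ≫ qq) (cokernel h₀) hC₀
  obtain ⟨w₁, hex₁, hepi₁⟩ := rexact_pull h₀ (W.ι ≫ qq)
  haveI := hepi₁
  haveI : IsAffine (V : Scheme.{u}) := hV
  haveI : IsAffine (W : Scheme.{u}) := hW
  haveI : QuasiCompact f₁ := inferInstance
  haveI : LocallyOfFinitePresentation (ft d f₀ g₀) :=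
    MorphismProperty.of_isPullback (isPullback_ft d f₀ g₀) inferInstance
  haveI : LocallyOfFinitePresentation f₁ := IsZariskiLocalAtSource.resLE hWV inferInstance
  -- points of the preimage of `W` lie in `Ω`
  have hmemΩ : ∀ ξ ∈ vXj ⁻¹ᵁ W, InjAt ((Scheme.Modules.pullback qX).map h₀) ξ ∧
      FlatMod.IsFlatOverAt f (cokernel ((Scheme.Modules.pullback qX).map h₀)) ξ := by
    intro ξ hξ
    have h1 : e.hom ξ ∈ Ωt := by
      apply hW₀Ω
      change (bcCone D c i₀ (f₀ ≫ g₀)).π.app j (e.hom ξ) ∈ W₀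
      rw [hevX']
      exact hWW₀ hξ
    have h2 : e.inv (e.hom ξ) ∈ {x' : X | InjAt ((Scheme.Modules.pullback qX).map h₀) x' ∧
      FlatMod.IsFlatOverAt f (cokernel ((Scheme.Modules.pullback qX).map h₀)) x'} := h1
    rw [hinv] at h2
    exact h2
  -- transfer at the limit
  have hvq : vXj ≫ qq = qX := by rw [hvXj, hqq, vX_snd]
  have hP : P' f₁ ((Scheme.Modules.pullback (W.ι ≫ qq)).map h₀)
      ((Scheme.Modules.pullback (W.ι ≫ qq)).obj (cokernel h₀))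
      (Over.mk (pullback.snd (c.π.app j.left) g₁)) := by
    constructor
    · refine (transferMono (c.π.app j.left) (ft d f₀ g₀) (pullback.fst d g₀) qq h₀ V W hWV
        f g vYj vXj (isPullback_vY d g₀ _ _ hπ g qY hY)
        (isPullback_vX d f₀ g₀ _ _ hπ f g qY qX hY hX)).mp ?_
      intro ξ hξ
      rw [hvq]
      exact (hmemΩ ξ hξ).1
    · refine (transfer (c.π.app j.left) (ft d f₀ g₀) (pullback.fst d g₀) qq (cokernel h₀) V W hWV
        f g vYj vXj (isPullback_vY d g₀ _ _ hπ g qY hY)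
        (isPullback_vX d f₀ g₀ _ _ hπ f g qY qX hY hX)).mp ?_
      intro ξ hξ
      rw [hvq]
      exact (isFlatOverAt_coker_iff h₀ f qX ξ).mp (hmemΩ ξ hξ).2
  obtain ⟨k, hk⟩ := exists_stage_bc D c hc j.left f₁ g₁ _ _ w₁ hex₁ hF₁fp hG₁fp hC₁fp hP
  -- the stage `k`
  have hπ' : D.map k.hom ≫ d = D.map (k.hom ≫ j.hom) := (D.map_comp _ _).symm
  set d' := D.map (k.hom ≫ j.hom) with hd'
  have hYi : IsPullback (pullback.snd d' g₀) (pullback.fst d' g₀) g₀ d' :=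
    (IsPullback.of_hasPullback d' g₀).flip
  have hXi : IsPullback (pullback.fst f₀ (pullback.snd d' g₀)) (pullback.snd f₀ (pullback.snd d' g₀))
      f₀ (pullback.snd d' g₀) := IsPullback.of_hasPullback _ _
  set vXk := vX d f₀ g₀ (D.map k.hom) d' hπ' _ _ _ _ hYi hXi with hvXk
  set vYk := vY d g₀ (D.map k.hom) d' hπ' _ _ hYi with hvYk
  have hvkq : vXk ≫ qq = pullback.fst f₀ (pullback.snd d' g₀) := by rw [hvXk, hqq, vX_snd]
  have hmonok := (transferMono (D.map k.hom) (ft d f₀ g₀) (pullback.fst d g₀) qq h₀ V W hWV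
      _ _ vYk vXk (isPullback_vY d g₀ _ _ hπ' _ _ hYi)
      (isPullback_vX d f₀ g₀ _ _ hπ' _ _ _ _ hYi hXi)).mpr hk.1
  have hflk := (transfer (D.map k.hom) (ft d f₀ g₀) (pullback.fst d g₀) qq (cokernel h₀) V W hWV
      _ _ vYk vXk (isPullback_vY d g₀ _ _ hπ' _ _ hYi)
      (isPullback_vX d f₀ g₀ _ _ hπ' _ _ _ _ hYi hXi)).mpr hk.2
  -- the comparison maps
  let vYf : Y ⟶ pullback d' g₀ := pullback.lift (g ≫ c.π.app k.left) qY (by
    rw [Category.assoc, hd', c.w, hY.w])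
  have hvYf1 : vYf ≫ pullback.fst d' g₀ = g ≫ c.π.app k.left := pullback.lift_fst _ _ _
  have hvYf2 : vYf ≫ pullback.snd d' g₀ = qY := pullback.lift_snd _ _ _
  let vXf : X ⟶ pullback f₀ (pullback.snd d' g₀) := pullback.lift qX (f ≫ vYf) (by
    rw [Category.assoc, hvYf2, hX.w])
  have hvXf1 : vXf ≫ pullback.fst f₀ (pullback.snd d' g₀) = qX := pullback.lift_fst _ _ _
  have hvXf2 : vXf ≫ pullback.snd f₀ (pullback.snd d' g₀) = f ≫ vYf := pullback.lift_snd _ _ _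
  have hcomp : vXf ≫ vXk = vXj := by
    apply pullback.hom_ext
    · rw [Category.assoc, hvXk, vX_fst, hvXj, vX_fst, reassoc_of% hvXf2, reassoc_of% hvYf1,
        c.w]
    · rw [Category.assoc, hvXk, vX_snd, hvXj, vX_snd, hvXf1]
  refine ⟨k.left, k.hom ≫ j.hom, _, _, pullback.snd f₀ (pullback.snd d' g₀), pullback.fst d' g₀,
    pullback.snd d' g₀, pullback.fst f₀ (pullback.snd d' g₀), vYf, vXf, hYi, hXi, hvYf2, hvYf1,
    hvXf1, hvXf2, ?_, ?_⟩
  · have h3 := hmonok (vXf x) (by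
      change vXk (vXf x) ∈ W
      rw [← Scheme.Hom.comp_apply, hcomp]
      exact hpW)
    rw [hvkq] at h3
    exact h3
  · have h3 := hflk (vXf x) (by
      change vXk (vXf x) ∈ W
      rw [← Scheme.Hom.comp_apply, hcomp]
      exact hpW)
    rw [hvkq] at h3
    exact (isFlatOverAt_coker_iff h₀ _ _ _).mpr h3

end Main

end Groth.Agent.Lib.helper11.MonoFlatMain
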