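import Mathlib.RingTheory.Ideal.Span
import Mathlib.Algebra.Ring.GeomSum
import Mathlib.Tactic

/-! Generic monomial congruences used in the cluster `W4c2invhilbsl2` (helper11). -/

set_option autoImplicit false

namespace Groth.Agent.Lib.helper11.Mono

variable {R : Type*} [CommRing R] (x0 x1 x2 : R) {p q : ℕ}

/-- same `n`, same `c`: the two monomials are congruent modulo `x0^(q-p) - x1 x2`. -/
lemma lemA_aux (hpq : p ≤ q) {d0 d1 d2 e0 e1 e2 : ℕ}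
    (hn : (e0 : ℤ) - (p : ℤ) * e1 + (q : ℤ) * e2 = (d0 : ℤ) - (p : ℤ) * d1 + (q : ℤ) * d2)
    (hc : (d1 : ℤ) - d2 = (e1 : ℤ) - e2) (hle : d2 ≤ e2) :
    x0 ^ d0 * x1 ^ d1 * x2 ^ d2 - x0 ^ e0 * x1 ^ e1 * x2 ^ e2 ∈
      Ideal.span {x0 ^ (q - p) - x1 * x2} := by
  obtain ⟨j, rfl⟩ := Nat.exists_eq_add_of_le hle
  have h1 : e1 = d1 + j := by push_cast at hc; omega
  subst h1
  have h2 : d0 = e0 + (q - p) * j := by
    have hd : ((q - p : ℕ) : ℤ) = (q : ℤ) - p := Nat.cast_sub hpq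
    have : (d0 : ℤ) = e0 + ((q - p : ℕ) : ℤ) * j := by
      rw [hd]; push_cast at hn; linarith
    exact_mod_cast this
  subst h2
  rw [Ideal.mem_span_singleton]
  have h3 : x0 ^ (e0 + (q - p) * j) * x1 ^ d1 * x2 ^ d2 - x0 ^ e0 * x1 ^ (d1 + j) * x2 ^ (d2 + j) =
      x0 ^ e0 * x1 ^ d1 * x2 ^ d2 * ((x0 ^ (q - p)) ^ j - (x1 * x2) ^ j) := by
    rw [pow_add, pow_add, pow_add, pow_mul, mul_pow]
    ring
  rw [h3]
  exact Dvd.dvd.mul_left (sub_dvd_pow_sub_pow _ _ j) _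

lemma lemA (hpq : p ≤ q) {d0 d1 d2 e0 e1 e2 : ℕ}
    (hn : (e0 : ℤ) - (p : ℤ) * e1 + (q : ℤ) * e2 = (d0 : ℤ) - (p : ℤ) * d1 + (q : ℤ) * d2)
    (hc : (d1 : ℤ) - d2 = (e1 : ℤ) - e2) :
    x0 ^ d0 * x1 ^ d1 * x2 ^ d2 - x0 ^ e0 * x1 ^ e1 * x2 ^ e2 ∈
      Ideal.span {x0 ^ (q - p) - x1 * x2} := by
  rcases le_total d2 e2 with h | h
  · exact lemA_aux x0 x1 x2 hpq hn hc h
  · have := lemA_aux x0 x1 x2 hpq hn.symm hc.symm h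
    rw [← Ideal.neg_mem_iff] at this
    rwa [neg_sub] at this

/-- same `n`, `c = c' + m j`: `x^d ≡ x^e * (x0^(mp) x1^m)^j`. -/
lemma lemB (hpq : p ≤ q) (m j : ℕ) {d0 d1 d2 e0 e1 e2 : ℕ}
    (hn : (e0 : ℤ) - (p : ℤ) * e1 + (q : ℤ) * e2 = (d0 : ℤ) - (p : ℤ) * d1 + (q : ℤ) * d2)
    (hc : (d1 : ℤ) - d2 = (e1 : ℤ) - e2 + (m : ℤ) * j) :
    x0 ^ d0 * x1 ^ d1 * x2 ^ d2 - x0 ^ e0 * x1 ^ e1 * x2 ^ e2 * (x0 ^ (m * p) * x1 ^ m) ^ j ∈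
      Ideal.span {x0 ^ (q - p) - x1 * x2} := by
  have h1 : x0 ^ e0 * x1 ^ e1 * x2 ^ e2 * (x0 ^ (m * p) * x1 ^ m) ^ j =
      x0 ^ (e0 + m * p * j) * x1 ^ (e1 + m * j) * x2 ^ e2 := by
    rw [pow_add, pow_add, mul_pow, ← pow_mul, ← pow_mul]
    ring
  rw [h1]
  apply lemA x0 x1 x2 hpq
  · push_cast; linarith
  · push_cast; linarith


lemma span_left_le (a b : R) : Ideal.span {a} ≤ Ideal.span {a, b} :=
  Ideal.span_mono (by simp)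

lemma span_right_le (a b : R) : Ideal.span {b} ≤ Ideal.span {a, b} :=
  Ideal.span_mono (by simp)

/-- `c' < c`, `m ∣ c - c'`: the monomial lies in `(x0^(q-p) - x1 x2, x0^(mp) x1^m)`. -/
lemma lemB_mem (hpq : p ≤ q) (m : ℕ) {d0 d1 d2 e0 e1 e2 : ℕ}
    (hn : (e0 : ℤ) - (p : ℤ) * e1 + (q : ℤ) * e2 = (d0 : ℤ) - (p : ℤ) * d1 + (q : ℤ) * d2)
    (hc : (m : ℤ) ∣ ((d1 : ℤ) - d2) - ((e1 : ℤ) - e2))
    (hlt : (e1 : ℤ) - e2 < (d1 : ℤ) - d2) :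
    x0 ^ d0 * x1 ^ d1 * x2 ^ d2 ∈
      Ideal.span {x0 ^ (q - p) - x1 * x2, x0 ^ (m * p) * x1 ^ m} := by
  obtain ⟨z, hz⟩ := hc
  have hz0 : 0 < z := by
    by_contra h
    push Not at h
    have : (m : ℤ) * z ≤ 0 := mul_nonpos_of_nonneg_of_nonpos (by positivity) h
    linarith
  obtain ⟨j, rfl⟩ := Int.eq_ofNat_of_zero_le hz0.le
  have hj : 1 ≤ j := by exact_mod_cast hz0
  have h1 := lemB x0 x1 x2 hpq m j hn (by linarith)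
  have h2 : x0 ^ e0 * x1 ^ e1 * x2 ^ e2 * (x0 ^ (m * p) * x1 ^ m) ^ j ∈
      Ideal.span {x0 ^ (q - p) - x1 * x2, x0 ^ (m * p) * x1 ^ m} := by
    apply span_right_le
    rw [Ideal.mem_span_singleton]
    exact Dvd.dvd.mul_left (dvd_pow_self _ (by omega)) _
  have h3 := add_mem (span_left_le _ _ h1) h2
  simpa using h3

/-- `m ∣ c - c'`: the difference lies in `(x0^(q-p) - x1 x2, 1 - x0^(mp) x1^m)`. -/
lemma lemC_aux (hpq : p ≤ q) (m : ℕ) {d0 d1 d2 e0 e1 e2 : ℕ}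
    (hn : (e0 : ℤ) - (p : ℤ) * e1 + (q : ℤ) * e2 = (d0 : ℤ) - (p : ℤ) * d1 + (q : ℤ) * d2)
    (hc : (m : ℤ) ∣ ((d1 : ℤ) - d2) - ((e1 : ℤ) - e2))
    (hle : (e1 : ℤ) - e2 ≤ (d1 : ℤ) - d2) :
    x0 ^ d0 * x1 ^ d1 * x2 ^ d2 - x0 ^ e0 * x1 ^ e1 * x2 ^ e2 ∈
      Ideal.span {x0 ^ (q - p) - x1 * x2, 1 - x0 ^ (m * p) * x1 ^ m} := by
  obtain ⟨j, hj⟩ : ∃ j : ℕ, ((d1 : ℤ) - d2) - ((e1 : ℤ) - e2) = (m : ℤ) * j := by
    obtain ⟨z, hz⟩ := hc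
    rcases Nat.eq_zero_or_pos m with hm | hm
    · exact ⟨0, by subst hm; simpa using hz⟩
    · have hz0 : 0 ≤ z := by
        by_contra h
        push Not at h
        have : (m : ℤ) * z < 0 := mul_neg_of_pos_of_neg (by exact_mod_cast hm) h
        linarith
      obtain ⟨j, rfl⟩ := Int.eq_ofNat_of_zero_le hz0
      exact ⟨j, hz⟩
  have h1 := lemB x0 x1 x2 hpq m j hn (by linarith)
  have h2 : x0 ^ e0 * x1 ^ e1 * x2 ^ e2 * ((x0 ^ (m * p) * x1 ^ m) ^ j - 1) ∈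
      Ideal.span {x0 ^ (q - p) - x1 * x2, 1 - x0 ^ (m * p) * x1 ^ m} := by
    apply span_right_le
    rw [Ideal.mem_span_singleton]
    apply Dvd.dvd.mul_left
    have := sub_dvd_pow_sub_pow (x0 ^ (m * p) * x1 ^ m) 1 j
    rw [one_pow] at this
    rw [← neg_sub, neg_dvd]
    exact this
  have h3 := add_mem (span_left_le _ _ h1) h2
  convert h3 using 1
  ring

lemma lemC (hpq : p ≤ q) (m : ℕ) {d0 d1 d2 e0 e1 e2 : ℕ}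
    (hn : (e0 : ℤ) - (p : ℤ) * e1 + (q : ℤ) * e2 = (d0 : ℤ) - (p : ℤ) * d1 + (q : ℤ) * d2)
    (hc : (m : ℤ) ∣ ((d1 : ℤ) - d2) - ((e1 : ℤ) - e2)) :
    x0 ^ d0 * x1 ^ d1 * x2 ^ d2 - x0 ^ e0 * x1 ^ e1 * x2 ^ e2 ∈
      Ideal.span {x0 ^ (q - p) - x1 * x2, 1 - x0 ^ (m * p) * x1 ^ m} := by
  rcases le_total ((e1 : ℤ) - e2) ((d1 : ℤ) - d2) with h | h
  · exact lemC_aux x0 x1 x2 hpq m hn hc h
  · have hc' : (m : ℤ) ∣ ((e1 : ℤ) - e2) - ((d1 : ℤ) - d2) := by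
      rw [← neg_sub]; exact (dvd_neg).2 hc
    have := lemC_aux x0 x1 x2 hpq m hn.symm hc' h
    rw [← Ideal.neg_mem_iff] at this
    rwa [neg_sub] at this

end Groth.Agent.Lib.helper11.Mono
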