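import Mathlib
import Groth.Prelude.Def_ega3

/-!
# helper11: reindexing cochain complexes as chain complexes (`i ↦ -i`)
-/

set_option autoImplicit false
universe v u
open CategoryTheory CategoryTheory.Limits

namespace Groth.Agent.Lib.helper11.NegCx

section General

variable {C : Type*} [Category C] [HasZeroMorphisms C]

/-- the chain complex `i ↦ K^{-i}`. -/
def neg (K : CochainComplex C ℤ) : ChainComplex C ℤ where
  X i := K.X (-i)
  d i j := K.d (-i) (-j)
  shape i j h := K.shape _ _ (by
    intro h'
    apply h
    simp only [ComplexShape.up_Rel] at h'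
    simp only [ComplexShape.down_Rel]
    omega)
  d_comp_d' i j k _ _ := K.d_comp_d _ _ _

@[simp] lemma neg_X (K : CochainComplex C ℤ) (i : ℤ) : (neg K).X i = K.X (-i) := rfl
@[simp] lemma neg_d (K : CochainComplex C ℤ) (i j : ℤ) : (neg K).d i j = K.d (-i) (-j) := rfl

/-- functoriality -/
def negMap {K L : CochainComplex C ℤ} (f : K ⟶ L) : neg K ⟶ neg L where
  f i := f.f (-i)
  comm' _ _ _ := f.comm _ _

@[simp] lemma negMap_f {K L : CochainComplex C ℤ} (f : K ⟶ L) (i : ℤ) :
    (negMap f).f i = f.f (-i) := rfl

variable (C) in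
/-- the reindexing functor. -/
def negFunctor : CochainComplex C ℤ ⥤ ChainComplex C ℤ where
  obj := neg
  map := negMap

end General

section Homology

variable {C : Type*} [Category C] [Abelian C]

/-- the short complexes agree. -/
def negSc'Iso (K : CochainComplex C ℤ) (i j k : ℤ) :
    (neg K).sc' i j k ≅ K.sc' (-i) (-j) (-k) := Iso.refl _

lemma negSc'Iso_hom_naturality {K L : CochainComplex C ℤ} (f : K ⟶ L) (i j k : ℤ) :
    (HomologicalComplex.shortComplexFunctor' C (ComplexShape.down ℤ) i j k).map (negMap f) ≫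
      (negSc'Iso L i j k).hom =
    (negSc'Iso K i j k).hom ≫
      (HomologicalComplex.shortComplexFunctor' C (ComplexShape.up ℤ) (-i) (-j) (-k)).map f := by
  unfold negSc'Iso
  erw [Category.comp_id, Category.id_comp]
  rfl

/-- the homology of the reindexed complex. -/
noncomputable def negHomologyIso (K : CochainComplex C ℤ) (j : ℤ) :
    (neg K).homology j ≅ K.homology (-j) :=
  (neg K).homologyIsoSc' (j + 1) j (j - 1) (by simp) (by simp) ≪≫
    ShortComplex.homologyMapIso (negSc'Iso K (j + 1) j (j - 1)) ≪≫
    (K.homologyIsoSc' (-(j + 1)) (-j) (-(j - 1)) (by simp; omega) (by simp; omega)).symm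

set_option backward.defeqAttrib.useBackward true in
set_option backward.isDefEq.respectTransparency false in
lemma homologyIsoSc'_hom_naturality {ι : Type*} {c : ComplexShape ι}
    {K L : HomologicalComplex C c} (f : K ⟶ L) (i j k : ι) (hi : c.prev j = i) (hk : c.next j = k) :
    HomologicalComplex.homologyMap f j ≫ (L.homologyIsoSc' i j k hi hk).hom =
      (K.homologyIsoSc' i j k hi hk).hom ≫
        ShortComplex.homologyMap ((HomologicalComplex.shortComplexFunctor' C c i j k).map f) := by
  subst hi hk
  dsimp [HomologicalComplex.homologyIsoSc', HomologicalComplex.homologyMap]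
  rw [← ShortComplex.homologyMap_comp, ← ShortComplex.homologyMap_comp]
  congr 1
  exact (HomologicalComplex.natIsoSc' C c _ j _ rfl rfl).hom.naturality f

lemma negHomologyIso_hom_naturality {K L : CochainComplex C ℤ} (f : K ⟶ L) (j : ℤ) :
    HomologicalComplex.homologyMap (negMap f) j ≫ (negHomologyIso L j).hom =
      (negHomologyIso K j).hom ≫ HomologicalComplex.homologyMap f (-j) := by
  have h1 := homologyIsoSc'_hom_naturality (negMap f) (j + 1) j (j - 1) (by simp) (by simp)
  have h2 := homologyIsoSc'_hom_naturality f (-(j + 1)) (-j) (-(j - 1)) (by simp; omega)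
    (by simp; omega)
  have h3 : ShortComplex.homologyMap ((HomologicalComplex.shortComplexFunctor' C
        (ComplexShape.down ℤ) (j + 1) j (j - 1)).map (negMap f)) ≫
      ShortComplex.homologyMap (negSc'Iso L (j + 1) j (j - 1)).hom =
      ShortComplex.homologyMap (negSc'Iso K (j + 1) j (j - 1)).hom ≫
      ShortComplex.homologyMap ((HomologicalComplex.shortComplexFunctor' C
        (ComplexShape.up ℤ) (-(j + 1)) (-j) (-(j - 1))).map f) := by
    rw [← ShortComplex.homologyMap_comp, ← ShortComplex.homologyMap_comp,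
      negSc'Iso_hom_naturality]
  rw [← cancel_mono (L.homologyIsoSc' (-(j + 1)) (-j) (-(j - 1)) (by simp; omega)
    (by simp; omega)).hom]
  simp only [Category.assoc]
  rw [h2]
  unfold negHomologyIso
  simp only [Iso.trans_hom, Iso.symm_hom, ShortComplex.homologyMapIso_hom, Category.assoc,
    Iso.inv_hom_id, Category.comp_id, Iso.inv_hom_id_assoc]
  rw [reassoc_of% h1, h3]

end Homology

end Groth.Agent.Lib.helper11.NegCx

namespace Groth.Agent.Lib.helper11.NegCx

section Functor

variable {C D : Type*} [Category C] [Category D] [HasZeroMorphisms C] [HasZeroMorphisms D]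

lemma map_neg (F : C ⥤ D) [F.PreservesZeroMorphisms] (K : CochainComplex C ℤ) :
    (F.mapHomologicalComplex (ComplexShape.down ℤ)).obj (neg K) =
      neg ((F.mapHomologicalComplex (ComplexShape.up ℤ)).obj K) := rfl

lemma map_negMap (F : C ⥤ D) [F.PreservesZeroMorphisms] {K L : CochainComplex C ℤ} (f : K ⟶ L) :
    (F.mapHomologicalComplex (ComplexShape.down ℤ)).map (negMap f) =
      negMap ((F.mapHomologicalComplex (ComplexShape.up ℤ)).map f) := rfl

lemma natTrans_neg {F G : C ⥤ D} [F.PreservesZeroMorphisms] [G.PreservesZeroMorphisms]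
    (α : F ⟶ G) (K : CochainComplex C ℤ) :
    (NatTrans.mapHomologicalComplex α (ComplexShape.down ℤ)).app (neg K) =
      negMap ((NatTrans.mapHomologicalComplex α (ComplexShape.up ℤ)).app K) := rfl

end Functor

section CohIII

open Groth

variable {A : Type u} [CommRing A]

lemma tensorObj_neg (L : CochainComplex (ModuleCat.{u} A) ℤ) (M : ModuleCat.{u} A) :
    CohIII.tensorObj (neg L) M = neg (CohIII.tensorObj L M) := rfl

lemma tensorMap_neg (L : CochainComplex (ModuleCat.{u} A) ℤ) {M N : ModuleCat.{u} A} (g : M ⟶ N) :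
    CohIII.tensorMap (neg L) g = negMap (CohIII.tensorMap L g) := rfl

lemma bcCx_neg {B : Type u} [CommRing B] (φ : A →+* B) (L : CochainComplex (ModuleCat.{u} A) ℤ) :
    CohIII.bcCx φ (neg L) = neg (CohIII.bcCx φ L) := rfl

/-- `T_j` of the reindexed complex. -/
noncomputable def TIso (L : CochainComplex (ModuleCat.{u} A) ℤ) (j : ℤ) (M : ModuleCat.{u} A) :
    CohIII.T (neg L) j M ≅ CohIII.T L (-j) M :=
  negHomologyIso (CohIII.tensorObj L M) j

/-- `TFun` of the reindexed complex. -/
noncomputable def TFunIso (L : CochainComplex (ModuleCat.{u} A) ℤ) (j : ℤ) :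
    CohIII.TFun (neg L) j ≅ CohIII.TFun L (-j) :=
  NatIso.ofComponents (fun M => TIso L j M) (fun {M N} g => by
    exact negHomologyIso_hom_naturality (CohIII.tensorMap L g) j)

lemma dRank_neg (L : CochainComplex (ModuleCat.{u} A) ℤ) (j : ℤ) (x : PrimeSpectrum A) :
    CohIII.dRank (neg L) j x = CohIII.dRank L (-j) x := by
  unfold CohIII.dRank
  exact LinearEquiv.finrank_eq
    (negHomologyIso (CohIII.bcCx (algebraMap A x.asIdeal.ResidueField) L) j).toLinearEquiv

end CohIII

end Groth.Agent.Lib.helper11.NegCx
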