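import Groth.Prelude.Def_Hens2

/-!
# Elementary consequences of the universal property of a henselization of a pair (helper11)

`Hens2.IsPairHenselization R J H` implies `H = R + J H` (so `R/J → H/JH` is surjective).
-/

set_option autoImplicit false
universe u

namespace Groth.Agent.Lib.helper11

open Polynomial

section

variable {R H : Type u} [CommRing R] [CommRing H] [Algebra R H] (J : Ideal R)

/-- The subring `R + J H` of `H`. -/
def pairSubring : Subring H where
  carrier := {h | ∃ r : R, h - algebraMap R H r ∈ J.map (algebraMap R H)}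
  mul_mem' := by
    rintro a b ⟨r, hr⟩ ⟨s, hs⟩
    refine ⟨r * s, ?_⟩
    have : a * b - algebraMap R H (r * s) =
        a * (b - algebraMap R H s) + (a - algebraMap R H r) * algebraMap R H s := by
      rw [map_mul]; ring
    rw [this]
    exact add_mem (Ideal.mul_mem_left _ _ hs) (Ideal.mul_mem_right _ _ hr)
  one_mem' := ⟨1, by simp⟩
  add_mem' := by
    rintro a b ⟨r, hr⟩ ⟨s, hs⟩
    refine ⟨r + s, ?_⟩
    have : a + b - algebraMap R H (r + s) = (a - algebraMap R H r) + (b - algebraMap R H s) := by
      rw [map_add]; ring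
    rw [this]
    exact add_mem hr hs
  zero_mem' := ⟨0, by simp⟩
  neg_mem' := by
    rintro a ⟨r, hr⟩
    refine ⟨-r, ?_⟩
    have : -a - algebraMap R H (-r) = -(a - algebraMap R H r) := by
      rw [map_neg]; ring
    rw [this]
    exact neg_mem hr

theorem mem_pairSubring_of_mem {h : H} (hh : h ∈ J.map (algebraMap R H)) : h ∈ pairSubring (H := H) J :=
  ⟨0, by simpa using hh⟩

theorem mem_pairSubring_of_sub_mem {a b : H} (hb : b ∈ pairSubring (H := H) J)
    (hab : a - b ∈ J.map (algebraMap R H)) : a ∈ pairSubring (H := H) J := by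
  obtain ⟨r, hr⟩ := hb
  refine ⟨r, ?_⟩
  have : a - algebraMap R H r = (a - b) + (b - algebraMap R H r) := by ring
  rw [this]
  exact add_mem hab hr

/-- `(R + JH, JH)` is a henselian pair when `(H, JH)` is. -/
theorem henselianRing_pairSubring (hH : HenselianRing H (J.map (algebraMap R H))) :
    HenselianRing (pairSubring (H := H) J)
      ((J.map (algebraMap R H)).comap (pairSubring (H := H) J).subtype) where
  jac := by
    intro x hx
    rw [Ideal.mem_jacobson_bot]
    intro y
    have hxH : (x : H) ∈ J.map (algebraMap R H) := hx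
    have hu : IsUnit ((x : H) * (y : H) + 1) := Ideal.mem_jacobson_bot.mp (hH.jac hxH) y
    obtain ⟨u, hu⟩ := hu
    have hinv : ((u⁻¹ : Hˣ) : H) ∈ pairSubring (H := H) J := by
      refine ⟨1, ?_⟩
      have h1 : ((u⁻¹ : Hˣ) : H) * ((x : H) * (y : H) + 1) = 1 := by
        rw [← hu]; exact u.inv_mul
      have : ((u⁻¹ : Hˣ) : H) - algebraMap R H 1 = -(((u⁻¹ : Hˣ) : H) * (y : H) * (x : H)) := by
        rw [map_one]
        linear_combination h1
      rw [this]
      exact neg_mem (Ideal.mul_mem_left _ _ hxH)
    refine isUnit_iff_exists_inv.mpr ⟨⟨_, hinv⟩, ?_⟩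
    apply Subtype.ext
    show ((x : H) * (y : H) + 1) * ((u⁻¹ : Hˣ) : H) = 1
    rw [← hu]
    exact u.mul_inv
  is_henselian := by
    intro f hf a₀ h₁ h₂
    have hfm : (f.map (pairSubring (H := H) J).subtype).Monic := hf.map _
    have h₁' : (f.map (pairSubring (H := H) J).subtype).eval (a₀ : H) ∈ J.map (algebraMap R H) := by
      have : (f.map (pairSubring (H := H) J).subtype).eval ((pairSubring (H := H) J).subtype a₀) =
          (pairSubring (H := H) J).subtype (f.eval a₀) := by
        rw [Polynomial.eval_map, Polynomial.eval₂_at_apply]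
      exact this ▸ h₁
    have h₂' : IsUnit (Ideal.Quotient.mk (J.map (algebraMap R H))
        ((f.map (pairSubring (H := H) J).subtype).derivative.eval (a₀ : H))) := by
      have e : (f.map (pairSubring (H := H) J).subtype).derivative.eval
          ((pairSubring (H := H) J).subtype a₀) =
          (pairSubring (H := H) J).subtype (f.derivative.eval a₀) := by
        rw [Polynomial.derivative_map, Polynomial.eval_map, Polynomial.eval₂_at_apply]
      have e' : Ideal.Quotient.mk (J.map (algebraMap R H))
          ((pairSubring (H := H) J).subtype (f.derivative.eval a₀)) =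
          Ideal.quotientMap (J.map (algebraMap R H)) (pairSubring (H := H) J).subtype le_rfl
            (Ideal.Quotient.mk _ (f.derivative.eval a₀)) := by
        rw [Ideal.quotientMap_mk]
      have e'' : ((a₀ : H)) = (pairSubring (H := H) J).subtype a₀ := rfl
      rw [e'', e, e']
      exact h₂.map _
    obtain ⟨a, ha, haa₀⟩ := hH.is_henselian _ hfm (a₀ : H) h₁' h₂'
    have hamem : a ∈ pairSubring (H := H) J := mem_pairSubring_of_sub_mem J a₀.2 haa₀
    refine ⟨⟨a, hamem⟩, ?_, haa₀⟩
    apply Subtype.ext
    show (pairSubring (H := H) J).subtype (f.eval ⟨a, hamem⟩) = 0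
    rw [← Polynomial.eval₂_at_apply, ← Polynomial.eval_map]
    exact ha

/-- If `H` is a henselization of the pair `(R, J)`, then `H = R + J H`. -/
theorem exists_sub_mem_of_isPairHenselization (hH : Hens2.IsPairHenselization R J H) (h : H) :
    ∃ r : R, h - algebraMap R H r ∈ J.map (algebraMap R H) := by
  let f₀ : R →+* pairSubring (H := H) J :=
    (algebraMap R H).codRestrict (pairSubring (H := H) J) (fun r => ⟨r, by simp⟩)
  have hle : J.map f₀ ≤ (J.map (algebraMap R H)).comap (pairSubring (H := H) J).subtype := by
    rw [Ideal.map_le_iff_le_comap]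
    intro x hx
    exact Ideal.mem_map_of_mem _ hx
  obtain ⟨g, hg, -⟩ := hH.2 _ _ f₀ (henselianRing_pairSubring J hH.1) hle
  obtain ⟨g', -, hg'⟩ := hH.2 H (J.map (algebraMap R H)) (algebraMap R H) hH.1 le_rfl
  have h1 : ((pairSubring (H := H) J).subtype.comp g) = g' := by
    apply hg'
    rw [RingHom.comp_assoc, hg]
    rfl
  have h2 : RingHom.id H = g' := hg' _ (RingHom.id_comp _)
  have h3 : (pairSubring (H := H) J).subtype.comp g = RingHom.id H := h1.trans h2.symm
  have h4 : ((g h : pairSubring (H := H) J) : H) = h := by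
    have := congr($h3 h)
    simpa using this
  rw [← h4]
  exact (g h).2

end

end Groth.Agent.Lib.helper11
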