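import Groth.Agent.Lib.Helper11.ParaFLib2
import Groth.Prelude.Def_FlatMod2

set_option autoImplicit false
universe u
open CategoryTheory CategoryTheory.Limits AlgebraicGeometry TopologicalSpace Opposite
open Scheme.Modules
open Groth.Agent.Lib.helper11.IsoLocus Groth.Agent.Lib.helper11.InvMod
open Groth.Agent.Lib.helper11.GenLocus Groth.Agent.Lib.helper11.InvHom
open Groth.Agent.Lib.helper11.SerreCrit Groth.Agent.Lib.helper11.ParaFLib

namespace Groth.Agent.Lib.helper11.ParaFLib

/-- a natural transformation between additive functors which is an isomorphism on each summand is an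
isomorphism on a finite biproduct -/
theorem isIso_app_biproduct {C D : Type*} [Category C] [Category D] [Preadditive C] [Preadditive D]
    (F G : C ⥤ D) [F.Additive] [G.Additive] (α : F ⟶ G) {ι : Type} [Fintype ι]
    (f : ι → C) [HasBiproduct f] (h : ∀ i, IsIso (α.app (f i))) : IsIso (α.app (⨁ f)) := by
  classical
  refine ⟨∑ i, G.map (biproduct.π f i) ≫ inv (α.app (f i)) ≫ F.map (biproduct.ι f i), ?_, ?_⟩
  · rw [Preadditive.comp_sum]
    have : ∀ i, α.app (⨁ f) ≫ G.map (biproduct.π f i) ≫ inv (α.app (f i)) ≫ F.map (biproduct.ι f i)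
        = F.map (biproduct.π f i ≫ biproduct.ι f i) := by
      intro i
      rw [← Category.assoc, ← α.naturality, Category.assoc, IsIso.hom_inv_id_assoc, F.map_comp]
    simp only [this]
    rw [← F.map_sum, biproduct.total, F.map_id]
  · rw [Preadditive.sum_comp]
    have : ∀ i, (G.map (biproduct.π f i) ≫ inv (α.app (f i)) ≫ F.map (biproduct.ι f i)) ≫ α.app (⨁ f)
        = G.map (biproduct.π f i ≫ biproduct.ι f i) := by
      intro i
      rw [Category.assoc, Category.assoc, α.naturality, IsIso.inv_hom_id_assoc, G.map_comp]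
    simp only [this]
    rw [← G.map_sum, biproduct.total, G.map_id]

theorem isIso_app_of_iso {C D : Type*} [Category C] [Category D] (F G : C ⥤ D) (α : F ⟶ G)
    {A B : C} (e : A ≅ B) (h : IsIso (α.app A)) : IsIso (α.app B) := by
  have : α.app B = F.map e.inv ≫ α.app A ≫ G.map e.hom := by
    rw [α.naturality_assoc, ← G.map_comp, e.inv_hom_id, G.map_id, Category.comp_id]
  rw [this]
  infer_instance

theorem isIso_app_coproduct {C D : Type*} [Category C] [Category D] [Preadditive C] [Preadditive D]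
    [HasFiniteBiproducts C]
    (F G : C ⥤ D) [F.Additive] [G.Additive] (α : F ⟶ G) {ι : Type} [Finite ι]
    (f : ι → C) (h : ∀ i, IsIso (α.app (f i))) : IsIso (α.app (∐ f)) := by
  have := Fintype.ofFinite ι
  exact isIso_app_of_iso F G α (biproduct.isoCoproduct f) (isIso_app_biproduct F G α f h)

variable {X : Scheme.{u}}

/-- the sections functor -/
noncomputable def sectionsFunctor (V : X.Opens) : X.Modules ⥤ Ab.{u} where
  obj M := M.presheaf.obj (op V)
  map φ := φ.app V
  map_id _ := rfl
  map_comp _ _ := rfl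

instance (V : X.Opens) : (sectionsFunctor V).Additive where
  map_add := rfl

/-- restriction of sections as a natural transformation -/
noncomputable def sectionsRes {V B : X.Opens} (i : B ⟶ V) : sectionsFunctor V ⟶ sectionsFunctor B where
  app M := M.presheaf.map i.op
  naturality _ _ φ := (φ.mapPresheaf.naturality i.op).symm

theorem isIso_map_freeMod {V B : X.Opens} (i : B ⟶ V) (n : ℕ)
    (h : Function.Bijective (X.presheaf.map i.op)) :
    IsIso ((FlatMod.freeMod X n).presheaf.map i.op) := by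
  have : HasFiniteBiproducts X.Modules := HasFiniteBiproducts.of_hasFiniteProducts
  have h1 : IsIso ((sectionsRes i).app (Coh.structureModule X)) := by
    rw [ConcreteCategory.isIso_iff_bijective]
    exact h
  exact isIso_app_coproduct _ _ (sectionsRes i) (fun _ : Fin n => Coh.structureModule X) (fun _ => h1)


/-- restriction maps of a module isomorphic on `W` to `N` are bijective where those of `N` are -/
theorem bijective_map_of_restrict_iso (M : X.Modules) (W : X.Opens) (N : (↑W : Scheme.{u}).Modules)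
    (e : M.restrict W.ι ≅ N) (V₁ B₁ : (↑W : Scheme.{u}).Opens)
    (i : B₁ ⟶ V₁)
    (h : Function.Bijective (N.presheaf.map i.op)) :
    Function.Bijective (M.presheaf.map (W.ι.opensFunctor.map i).op) := by
  have hnat := e.hom.mapPresheaf.naturality i.op
  have h1 : IsIso (e.hom.app V₁) := inferInstance
  have h2 : IsIso (e.hom.app B₁) := inferInstance
  have b1 := (ConcreteCategory.isIso_iff_bijective _).mp h1
  have b2 := (ConcreteCategory.isIso_iff_bijective _).mp h2
  have hnat' : ∀ m : Γ(M, W.ι ''ᵁ V₁),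
      (e.hom.app B₁).hom ((M.presheaf.map (W.ι.opensFunctor.map i).op).hom m) =
        (N.presheaf.map i.op).hom ((e.hom.app V₁).hom m) := by
    intro m
    exact ConcreteCategory.congr_hom hnat m
  constructor
  · intro m m' hm
    apply b1.1
    apply h.1
    have := congrArg (e.hom.app B₁).hom hm
    rw [hnat' m, hnat' m'] at this
    exact this
  · intro n
    obtain ⟨b, hb⟩ := h.2 ((e.hom.app B₁).hom n)
    obtain ⟨m, hm⟩ := b1.2 b
    refine ⟨m, ?_⟩
    apply b2.1
    rw [hnat' m, hm]
    exact hb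

theorem bijective_map_of_le_of_restrict_iso_freeMod (M : X.Modules) (W : X.Opens) (n : ℕ)
    (e : M.restrict W.ι ≅ FlatMod.freeMod (↑W : Scheme.{u}) n) (V B : X.Opens) (hVW : V ≤ W)
    (hBV : B ≤ V) (h : Function.Bijective (X.presheaf.map (homOfLE hBV).op)) :
    Function.Bijective (M.presheaf.map (homOfLE hBV).op) := by
  have eV : V = W.ι ''ᵁ (W.ι ⁻¹ᵁ V) := by
    rw [Scheme.Hom.image_preimage_eq_opensRange_inf, Scheme.Opens.opensRange_ι]
    exact (inf_eq_right.mpr hVW).symm
  have eB : B = W.ι ''ᵁ (W.ι ⁻¹ᵁ B) := by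
    rw [Scheme.Hom.image_preimage_eq_opensRange_inf, Scheme.Opens.opensRange_ι]
    exact (inf_eq_right.mpr (hBV.trans hVW)).symm
  obtain ⟨V₁, rfl⟩ : ∃ V₁ : (↑W : Scheme.{u}).Opens, V = W.ι ''ᵁ V₁ := ⟨_, eV⟩
  obtain ⟨B₁, rfl⟩ : ∃ B₁ : (↑W : Scheme.{u}).Opens, B = W.ι ''ᵁ B₁ := ⟨_, eB⟩
  have hB₁ : B₁ ≤ V₁ := (Scheme.Hom.image_le_image_iff W.ι B₁ V₁).mp hBV
  refine bijective_map_of_restrict_iso M W _ e V₁ B₁ (homOfLE hB₁) ?_
  rw [← ConcreteCategory.isIso_iff_bijective]
  exact isIso_map_freeMod (homOfLE hB₁) n h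

theorem isIso_unit_of_isFinLocFree {U V : Scheme.{u}} (j : U ⟶ V) [IsOpenImmersion j]
    (h : ResBij j) (M : V.Modules)
    (hM : FlatMod.IsFinLocFree M) : IsIso ((restrictAdjunction j).unit.app M) := by
  refine isIso_of_forall_restrict _ fun x => ?_
  obtain ⟨W, n, hxW, ⟨e⟩⟩ := hM x
  refine ⟨W, hxW, ?_⟩
  rw [isIso_restrict_iff_app]
  intro V' hVW
  rw [ConcreteCategory.isIso_iff_bijective, restrictAdjunction_unit_app_app]
  exact bijective_map_of_le_of_restrict_iso_freeMod M W n e V' _ hVW
    (j.image_preimage_le V') (h V')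

theorem isFinLocFree_of_iso {M N : X.Modules} (e : M ≅ N) (hM : FlatMod.IsFinLocFree M) :
    FlatMod.IsFinLocFree N := by
  intro x
  obtain ⟨W, n, hxW, ⟨e'⟩⟩ := hM x
  exact ⟨W, n, hxW, ⟨(restrictFunctor W.ι).mapIso e.symm ≪≫ e'⟩⟩

end Groth.Agent.Lib.helper11.ParaFLib
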