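import Groth.Agent.Lib.Helper11.ParaFLib

set_option autoImplicit false
universe u
open CategoryTheory CategoryTheory.Limits AlgebraicGeometry TopologicalSpace Opposite
open Scheme.Modules
open Groth.Agent.Lib.helper11.IsoLocus Groth.Agent.Lib.helper11.InvMod
open Groth.Agent.Lib.helper11.GenLocus Groth.Agent.Lib.helper11.InvHom
open Groth.Agent.Lib.helper11.SerreCrit Groth.Agent.Lib.helper11.ParaFLib

namespace Groth.Agent.Lib.helper11.ParaFLib

variable {X : Scheme.{u}}

theorem image_image_preimage_homOfLE {V V' : X.Opens} (e : V' ≤ V) (W : (↑V : Scheme.{u}).Opens) :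
    V.ι ''ᵁ ((X.homOfLE e) ''ᵁ ((X.homOfLE e) ⁻¹ᵁ W)) = (V.ι ''ᵁ W) ⊓ V' := by
  rw [Scheme.Hom.image_preimage_eq_opensRange_inf, Scheme.opensRange_homOfLE]
  ext x
  constructor
  · rintro ⟨v, ⟨hv1, hv2⟩, rfl⟩
    exact ⟨⟨v, hv2, rfl⟩, hv1⟩
  · rintro ⟨⟨v, hv, rfl⟩, hx⟩
    exact ⟨v, ⟨hx, hv⟩, rfl⟩

/-- transport of bijectivity of restriction maps of the structure sheaf along equalities of opens -/
theorem bijective_presheaf_map_congr {A A' B B' : X.Opens} (hBA : B ≤ A)
    (hBA' : B' ≤ A') (eA : A = A') (eB : B = B')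
    (h : Function.Bijective (X.presheaf.map (homOfLE hBA).op)) :
    Function.Bijective (X.presheaf.map (homOfLE hBA').op) := by
  subst eA eB
  exact h

theorem resBij_homOfLE_of_bijective {V V' : X.Opens} (e : V' ≤ V)
    (h : ∀ A : X.Opens, A ≤ V →
      Function.Bijective (X.presheaf.map (homOfLE (inf_le_left : A ⊓ V' ≤ A)).op)) :
    ResBij (X.homOfLE e) := by
  intro W
  have h1 := h (V.ι ''ᵁ W) (by
    rintro _ ⟨v, -, rfl⟩
    exact v.2)
  have h2 : Function.Bijective (X.presheaf.map (homOfLE (show V.ι ''ᵁ ((X.homOfLE e) ''ᵁ ((X.homOfLE e) ⁻¹ᵁ W)) ≤ V.ι ''ᵁ W from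
      (Scheme.Hom.image_le_image_iff V.ι _ _).mpr ((X.homOfLE e).image_preimage_le W))).op) :=
    bijective_presheaf_map_congr _ _ rfl (image_image_preimage_homOfLE e W).symm h1
  exact h2

theorem bijective_of_resBij_homOfLE {V V' : X.Opens} (e : V' ≤ V) (h : ResBij (X.homOfLE e))
    (A : X.Opens) (hA : A ≤ V) :
    Function.Bijective (X.presheaf.map (homOfLE (inf_le_left : A ⊓ V' ≤ A)).op) := by
  have h1 := h (V.ι ⁻¹ᵁ A)
  have eA : V.ι ''ᵁ (V.ι ⁻¹ᵁ A) = A := by
    rw [Scheme.Hom.image_preimage_eq_opensRange_inf, Scheme.Opens.opensRange_ι]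
    exact inf_eq_right.mpr hA
  have h2 : Function.Bijective (X.presheaf.map (homOfLE (show V.ι ''ᵁ ((X.homOfLE e) ''ᵁ ((X.homOfLE e) ⁻¹ᵁ (V.ι ⁻¹ᵁ A))) ≤ V.ι ''ᵁ (V.ι ⁻¹ᵁ A) from
      (Scheme.Hom.image_le_image_iff V.ι _ _).mpr ((X.homOfLE e).image_preimage_le _))).op) := h1
  refine bijective_presheaf_map_congr _ _ eA ?_ h2
  rw [image_image_preimage_homOfLE, eA]




/-- essential surjectivity via pushforward -/
theorem invRestrictEquiv_of_resBij {U V : Scheme.{u}} (j : U ⟶ V) [IsOpenImmersion j] (h : ResBij j)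
    (hpush : ∀ L₀ : U.Modules, PicF.IsInvertible L₀ → PicF.IsInvertible ((pushforward j).obj L₀)) :
    ParaF.InvRestrictEquiv j := by
  refine ⟨fun L L' _ hL' => bijective_restrict_of_isIso_unit j L L'
    (isIso_unit_of_invertible j h L' hL'), fun L₀ hL₀ => ?_⟩
  exact ⟨(pushforward j).obj L₀, hpush L₀ hL₀, ⟨(restrictFunctorAdjCounitIso j).app L₀⟩⟩

theorem resBij_of_invRestrictEquiv {U V : Scheme.{u}} (j : U ⟶ V) [IsOpenImmersion j]
    (h : ParaF.InvRestrictEquiv j) :
    Function.Bijective (V.presheaf.map (homOfLE (j.image_preimage_le ⊤)).op) := by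
  have h1 := h.1 _ _ (isInvertible_structureModule V) (isInvertible_structureModule V)
  rw [bijective_restrict_iff_comp_unit] at h1
  exact bijective_unit_app_top j _ h1

theorem isInvertible_pushforward_of_invRestrictEquiv {U V : Scheme.{u}} (j : U ⟶ V)
    [IsOpenImmersion j] (hres : ResBij j)
    (h : ParaF.InvRestrictEquiv j) (L₀ : U.Modules) (hL₀ : PicF.IsInvertible L₀) :
    PicF.IsInvertible ((pushforward j).obj L₀) := by
  obtain ⟨L, hL, ⟨e⟩⟩ := h.2 L₀ hL₀
  have := isIso_unit_of_invertible j hres L hL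
  exact isInvertible_of_iso (asIso ((restrictAdjunction j).unit.app L) ≪≫
    (pushforward j).mapIso e) hL


end Groth.Agent.Lib.helper11.ParaFLib
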