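import Groth.Agent.Lib.Helper11.SerreCrit
import Groth.Agent.Lib.Helper11.InvHom
import Groth.Agent.S2825
import Groth.Prelude.Def_ParaF

/-!
# Parafactorial pairs: tools (helper11)

* `sec_top_injective`; `ResBij j` (restriction of functions `W → j(j⁻¹ W)` bijective for all opens `W`);
  `bijective_restrict_iff_comp_unit`, `bijective_restrict_of_isIso_unit`, `isIso_unit_of_invertible`,
  `bijective_map_congr`, `bijective_unit_app_top`.
-/

set_option autoImplicit false
universe u
open CategoryTheory CategoryTheory.Limits AlgebraicGeometry TopologicalSpace Opposite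
open Scheme.Modules
open Groth.Agent.Lib.helper11.IsoLocus Groth.Agent.Lib.helper11.InvMod
open Groth.Agent.Lib.helper11.GenLocus Groth.Agent.Lib.helper11.InvHom
open Groth.Agent.Lib.helper11.SerreCrit

namespace Groth.Agent.Lib.helper11.ParaFLib

variable {X U V : Scheme.{u}}

/-- `φ ↦ sec φ ⊤` is injective -/
theorem sec_top_injective {M : X.Modules} {φ ψ : Coh.structureModule X ⟶ M}
    (h : sec φ ⊤ = sec ψ ⊤) : φ = ψ := by
  have h0 : sec (φ - ψ) ⊤ = 0 := by
    have : sec (φ - ψ) ⊤ = sec φ ⊤ - sec ψ ⊤ := rfl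
    rw [this, h, sub_self]
  have := (isZeroOn_top_iff (φ - ψ)).mp ((isZeroOn_iff_sec (φ - ψ) ⊤).mpr h0)
  exact sub_eq_zero.mp this

/-- the restriction hypothesis for an open immersion `j : U ⟶ V` -/
def ResBij (j : U ⟶ V) [IsOpenImmersion j] : Prop :=
  ∀ W : V.Opens, Function.Bijective (V.presheaf.map (homOfLE (j.image_preimage_le W)).op)

/-- if the unit `L' ⟶ j_* j^* L'` is an isomorphism, restriction of morphisms into `L'` is bijective -/
theorem bijective_restrict_iff_comp_unit (j : U ⟶ V) [IsOpenImmersion j] (L L' : V.Modules) :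
    Function.Bijective (fun φ : L ⟶ L' => (restrictFunctor j).map φ) ↔
      Function.Bijective (fun φ : L ⟶ L' => φ ≫ (restrictAdjunction j).unit.app L') := by
  let adj := restrictAdjunction j
  have key : ∀ φ : L ⟶ L', (adj.homEquiv L ((restrictFunctor j).obj L'))
      ((restrictFunctor j).map φ) = φ ≫ adj.unit.app L' := by
    intro φ
    rw [Adjunction.homEquiv_unit]
    exact (adj.unit.naturality φ).symm
  have e : (fun φ : L ⟶ L' => φ ≫ adj.unit.app L') =
      (adj.homEquiv L ((restrictFunctor j).obj L')) ∘ (fun φ : L ⟶ L' => (restrictFunctor j).map φ) := by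
    funext φ
    exact (key φ).symm
  show _ ↔ Function.Bijective (fun φ : L ⟶ L' => φ ≫ adj.unit.app L')
  rw [e]
  exact (Equiv.comp_bijective _ (adj.homEquiv L ((restrictFunctor j).obj L'))).symm

theorem bijective_restrict_of_isIso_unit (j : U ⟶ V) [IsOpenImmersion j] (L L' : V.Modules)
    (hη : IsIso ((restrictAdjunction j).unit.app L')) :
    Function.Bijective (fun φ : L ⟶ L' => (restrictFunctor j).map φ) := by
  rw [bijective_restrict_iff_comp_unit]
  constructor
  · intro φ ψ h
    exact (cancel_mono _).mp h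
  · intro χ
    exact ⟨χ ≫ inv ((restrictAdjunction j).unit.app L'), by simp⟩

theorem isIso_unit_of_invertible (j : U ⟶ V) [IsOpenImmersion j] (h : ResBij j) (M : V.Modules)
    (hM : PicF.IsInvertible M) : IsIso ((restrictAdjunction j).unit.app M) := by
  refine isIso_of_forall_restrict _ fun x => ?_
  obtain ⟨W, hxW, ⟨e⟩⟩ := hM x
  refine ⟨W, hxW, ?_⟩
  rw [isIso_restrict_iff_app]
  intro V' hVW
  rw [ConcreteCategory.isIso_iff_bijective, restrictAdjunction_unit_app_app]
  exact Groth.Agent.S2825.bijective_map_of_le_of_isTrivOn M W e V' _ hVW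
    (j.image_preimage_le V') (h V')

/-- transport of bijectivity of restriction maps along equalities of opens -/
theorem bijective_map_congr (P : TopCat.Presheaf Ab.{u} X) {A A' B B' : X.Opens} (hBA : B ≤ A)
    (hBA' : B' ≤ A') (eA : A = A') (eB : B = B')
    (h : Function.Bijective (P.map (homOfLE hBA).op)) :
    Function.Bijective (P.map (homOfLE hBA').op) := by
  subst eA eB
  exact h

/-- from bijectivity on `Hom(O, O) → Hom(O, j_* j^* O)` to bijectivity on global sections -/
theorem bijective_unit_app_top (j : U ⟶ V) [IsOpenImmersion j] (M : V.Modules)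
    (h : Function.Bijective (fun φ : Coh.structureModule V ⟶ M =>
      φ ≫ (restrictAdjunction j).unit.app M)) :
    Function.Bijective (((restrictAdjunction j).unit.app M).app ⊤).hom := by
  set η := (restrictAdjunction j).unit.app M with hη
  constructor
  · intro a a' haa'
    have h1 : sec (ofSec M a ≫ η) ⊤ = sec (ofSec M a' ≫ η) ⊤ := by
      rw [sec_comp, sec_comp, sec_ofSec, sec_ofSec]
      have e1 : M.val.map (homOfLE (le_top : (⊤ : V.Opens) ≤ ⊤)).op a = a := by
        have : (homOfLE (le_top : (⊤ : V.Opens) ≤ ⊤)).op = 𝟙 _ := rfl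
        rw [this, M.val.map_id]; rfl
      have e2 : M.val.map (homOfLE (le_top : (⊤ : V.Opens) ≤ ⊤)).op a' = a' := by
        have : (homOfLE (le_top : (⊤ : V.Opens) ≤ ⊤)).op = 𝟙 _ := rfl
        rw [this, M.val.map_id]; rfl
      rw [e1, e2]
      exact haa'
    have h2 : ofSec M a = ofSec M a' := h.1 (sec_top_injective h1)
    have h3 := congrArg (fun φ => sec φ ⊤) h2
    simp only [sec_ofSec] at h3
    have e1 : M.val.map (homOfLE (le_top : (⊤ : V.Opens) ≤ ⊤)).op a = a := by
      have : (homOfLE (le_top : (⊤ : V.Opens) ≤ ⊤)).op = 𝟙 _ := rfl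
      rw [this, M.val.map_id]; rfl
    have e2 : M.val.map (homOfLE (le_top : (⊤ : V.Opens) ≤ ⊤)).op a' = a' := by
      have : (homOfLE (le_top : (⊤ : V.Opens) ≤ ⊤)).op = 𝟙 _ := rfl
      rw [this, M.val.map_id]; rfl
    rw [e1, e2] at h3
    exact h3
  · intro b
    obtain ⟨φ, hφ⟩ := h.2 (ofSec _ b)
    refine ⟨sec φ ⊤, ?_⟩
    have h1 : sec (φ ≫ η) ⊤ = (η.app ⊤).hom (sec φ ⊤) := sec_comp φ η ⊤
    rw [← h1]
    have h2 : φ ≫ η = ofSec _ b := hφ
    rw [h2, sec_ofSec]
    have : (homOfLE (le_top : (⊤ : V.Opens) ≤ ⊤)).op = 𝟙 _ := rfl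
    rw [this, PresheafOfModules.map_id]; rfl

end Groth.Agent.Lib.helper11.ParaFLib
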