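import Mathlib
import Groth.Prelude.Def_Coh
import Groth.Prelude.Def_Formal
import Groth.Prelude.Def_ClSub2
import Groth.Agent.Lib.Helper8.ZConn3

/-!
# π₀ of a proper scheme over a complete base, part A (helper11)

General-ideal versions of helper8's `ZConn1/2` lemmas (there: `A` local, `𝔪`): vanishing of sections of
modules killed by `I^n` off `V(I)`, and the test map `O_X / 𝔞 O_X ⟶ (Spec κ(x) → X)_* O` at points `x`
with `𝔞 ≤ 𝔭_{f x}`.
-/

set_option autoImplicit false
universe u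
open CategoryTheory CategoryTheory.Limits AlgebraicGeometry Opposite TopologicalSpace

namespace Groth.Agent.Lib.helper11.Pi0

open Formal Groth.Agent.Lib.Helper18 Groth.Agent.Lib.helper8.FF Groth.Agent.Lib.helper8.ZConn

variable {A : Type u} [CommRing A] {X : Scheme.{u}} [X.Over (Spec (CommRingCat.of A))]

/-- Sections of a module killed by `I ^ n` vanish on opens disjoint from the preimage of `V(I)`. -/
theorem eq_zero_of_disjoint (I : Ideal A) (M : X.Modules) (n : ℕ)
    (hM : KilledBy (I ^ n) M) (W : X.Opens)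
    (hW : ∀ x ∈ W, ¬ I ≤ ((X ↘ Spec (CommRingCat.of A)) x).asIdeal)
    (t : M.val.obj (op W)) : t = 0 := by
  let U : I → X.Opens := fun a =>
    W ⊓ X.basicOpen (Coh.toGlobal (X ↘ Spec (CommRingCat.of A)) (a : A))
  have hcover : W ≤ iSup U := by
    intro x hx
    have hne := hW x hx
    obtain ⟨a, ha, hax⟩ : ∃ a ∈ I, a ∉ ((X ↘ Spec (CommRingCat.of A)) x).asIdeal := by
      by_contra hcon
      push Not at hcon
      exact hne (fun a ha => hcon a ha)
    have hxa : x ∈ U ⟨a, ha⟩ :=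
      ⟨hx, (mem_basicOpen_toGlobal_iff (X ↘ Spec (CommRingCat.of A)) a x).mpr hax⟩
    exact Opens.mem_iSup.mpr ⟨⟨a, ha⟩, hxa⟩
  refine TopCat.Sheaf.eq_of_locally_eq' (Coh.toAb M) U W (fun a => homOfLE inf_le_left) hcover
    (t : (Coh.toAb M).1.obj (op W)) 0 (fun a => ?_)
  rw [map_zero]
  exact eq_zero_of_killed M (a : A) n (hM _ (Ideal.pow_mem_pow a.2 n)) (U a) inf_le_right _

theorem smulMod_comp_unitToPush' (x : X) (a : A)
    (ha : a ∈ ((X ↘ Spec (CommRingCat.of A)) x).asIdeal) :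
    smulMod A (Coh.structureModule X) a ≫ ClSub.unitToPush (X.fromSpecResidueField x) = 0 := by
  have hr : x ∉ X.basicOpen (Coh.toGlobal (X ↘ Spec (CommRingCat.of A)) a) := by
    rw [mem_basicOpen_toGlobal_iff]
    exact fun h => h ha
  apply SheafOfModules.hom_ext
  apply PresheafOfModules.hom_ext
  intro U
  apply ModuleCat.hom_ext
  apply LinearMap.ext
  intro t
  show ((X.fromSpecResidueField x).app U.unop).hom
    ((X.presheaf.map (homOfLE (le_top : U.unop ≤ ⊤)).op).hom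
      (Coh.toGlobal (X ↘ Spec (CommRingCat.of A)) a) * (id t : Γ(X, U.unop))) = 0
  rw [map_mul, app_resTop_eq_zero x _ hr, zero_mul]

/-- the test map `O_X / 𝔞 O_X ⟶ (Spec κ(x) → X)_* O`, for `𝔞 ≤ 𝔭_{f x}`. -/
noncomputable def testMap' (𝔞 : Ideal A) (x : X)
    (h𝔞 : 𝔞 ≤ ((X ↘ Spec (CommRingCat.of A)) x).asIdeal) :
    Q 𝔞 (Coh.structureModule X) ⟶
      (Scheme.Modules.pushforward (X.fromSpecResidueField x)).obj
        (Coh.structureModule (Spec (X.residueField x))) :=
  cokernel.desc _ (ClSub.unitToPush (X.fromSpecResidueField x))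
    (smulFamily_comp_eq_zero _ (fun a ha => smulMod_comp_unitToPush' x a (h𝔞 ha)))

theorem testMap'_qπ (𝔞 : Ideal A) (x : X)
    (h𝔞 : 𝔞 ≤ ((X ↘ Spec (CommRingCat.of A)) x).asIdeal) (U : X.Opens)
    (t : (Coh.structureModule X).val.obj (op U)) :
    ((testMap' 𝔞 x h𝔞).val.app (op U)).hom
      (((qπ 𝔞 (Coh.structureModule X)).val.app (op U)).hom t) =
      ((ClSub.unitToPush (X.fromSpecResidueField x)).val.app (op U)).hom t := by
  have := cokernel.π_desc (smulFamily 𝔞 (Coh.structureModule X))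
    (ClSub.unitToPush (X.fromSpecResidueField x))
    (smulFamily_comp_eq_zero _ (fun a ha => smulMod_comp_unitToPush' x a (h𝔞 ha)))
  exact congrArg (fun φ => (φ.val.app (op U)).hom t) this

/-- If `π(t) = π(1)` near `x` (with `𝔞 ≤ 𝔭_{f x}`), then `t` does not vanish at `x`. -/
theorem mem_basicOpen_of_qπ_eq_one (𝔞 : Ideal A) (x : X)
    (h𝔞 : 𝔞 ≤ ((X ↘ Spec (CommRingCat.of A)) x).asIdeal) (U : X.Opens) (hxU : x ∈ U)
    (r : Coh.Γtop X)
    (h : ((qπ 𝔞 (Coh.structureModule X)).val.app (op U)).hom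
        ((X.presheaf.map (homOfLE (le_top : U ≤ ⊤)).op).hom r) =
      ((qπ 𝔞 (Coh.structureModule X)).val.app (op U)).hom (one U)) :
    x ∈ X.basicOpen r := by
  by_contra hr
  have h1 := congrArg (fun z => ((testMap' 𝔞 x h𝔞).val.app (op U)).hom z) h
  rw [testMap'_qπ, testMap'_qπ] at h1
  have h2 : ((ClSub.unitToPush (X.fromSpecResidueField x)).val.app (op U)).hom
      ((X.presheaf.map (homOfLE (le_top : U ≤ ⊤)).op).hom r) = 0 :=
    app_resTop_eq_zero x r hr U
  have h3 : @Eq (Γ(Spec (X.residueField x), (X.fromSpecResidueField x) ⁻¹ᵁ U))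
      (((ClSub.unitToPush (X.fromSpecResidueField x)).val.app (op U)).hom (one U)) 1 :=
    map_one ((X.fromSpecResidueField x).app U).hom
  haveI : Nonempty ↥((X.fromSpecResidueField x) ⁻¹ᵁ U) :=
    ⟨⟨IsLocalRing.closedPoint _, by
      show (X.fromSpecResidueField x) _ ∈ U
      rw [Scheme.fromSpecResidueField_apply]
      exact hxU⟩⟩
  exact one_ne_zero (α := Γ(Spec (X.residueField x), (X.fromSpecResidueField x) ⁻¹ᵁ U))
    (h3.symm.trans (h1.symm.trans h2))

/-- If `π(t) = 0` near `x` (with `𝔞 ≤ 𝔭_{f x}`), then `t` vanishes at `x`. -/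
theorem not_mem_basicOpen_of_qπ_eq_zero (𝔞 : Ideal A) (x : X)
    (h𝔞 : 𝔞 ≤ ((X ↘ Spec (CommRingCat.of A)) x).asIdeal) (U : X.Opens) (hxU : x ∈ U)
    (r : Coh.Γtop X)
    (h : ((qπ 𝔞 (Coh.structureModule X)).val.app (op U)).hom
        ((X.presheaf.map (homOfLE (le_top : U ≤ ⊤)).op).hom r) = 0) :
    x ∉ X.basicOpen r := by
  intro hr
  have h1 := congrArg (fun z => ((testMap' 𝔞 x h𝔞).val.app (op U)).hom z) h
  simp only [map_zero] at h1
  rw [testMap'_qπ] at h1
  have h2 : ((X.fromSpecResidueField x).app U).hom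
      ((X.presheaf.map (homOfLE (le_top : U ≤ ⊤)).op).hom r) = 0 := h1
  rw [← basicOpen_eq_bot_iff, ← Scheme.preimage_basicOpen, Scheme.basicOpen_res] at h2
  have h3 : IsLocalRing.closedPoint (X.residueField x) ∈
      (X.fromSpecResidueField x) ⁻¹ᵁ (U ⊓ X.basicOpen r) := by
    show (X.fromSpecResidueField x) _ ∈ U ⊓ X.basicOpen r
    rw [Scheme.fromSpecResidueField_apply]
    exact ⟨hxU, hr⟩
  rw [h2] at h3
  exact h3

end Groth.Agent.Lib.helper11.Pi0
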