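import Mathlib
import Groth.Agent.Lib.Helper11.Pi0A
import Groth.Agent.S0003
import Groth.Agent.Lib.Helper11.AmpleInv

/-!
# π₀ of a proper scheme over a complete base, part B (helper11)

`A` Noetherian, `I`-adically complete, `X` proper over `Spec A`.  If the preimage of `V(I)` is covered by
two disjoint closed sets `T₁`, `T₂`, there is an idempotent global function which is invertible at the
points of `T₁` over `V(I)` and vanishes at the points of `T₂` over `V(I)` (formal functions in degree 0).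
-/

set_option autoImplicit false
universe u
open CategoryTheory CategoryTheory.Limits AlgebraicGeometry Opposite TopologicalSpace

namespace Groth.Agent.Lib.helper11.Pi0

open Formal Groth.Agent.Lib.Helper18 Groth.Agent.Lib.helper8.FF Groth.Agent.Lib.helper8.ZConn

section Sep

variable {X : Scheme.{u}}

/-- two global sections of a module agreeing on two opens covering `X` are equal. -/
theorem eq_of_res_eq₂ (M : X.Modules) (U₁ U₂ : X.Opens) (hU : U₁ ⊔ U₂ = ⊤)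
    (s t : M.val.obj (op ⊤))
    (h₁ : M.val.presheaf.map (homOfLE (le_top : U₁ ≤ ⊤)).op s =
      M.val.presheaf.map (homOfLE (le_top : U₁ ≤ ⊤)).op t)
    (h₂ : M.val.presheaf.map (homOfLE (le_top : U₂ ≤ ⊤)).op s =
      M.val.presheaf.map (homOfLE (le_top : U₂ ≤ ⊤)).op t) : s = t :=
  TopCat.Sheaf.eq_of_locally_eq₂ (Coh.toAb M) (homOfLE (le_top : U₁ ≤ ⊤))
    (homOfLE (le_top : U₂ ≤ ⊤)) (le_of_eq hU.symm) s t h₁ h₂

lemma smulModΓ_app (M : X.Modules) (r : Coh.Γtop X) (W : (Opens X)ᵒᵖ) (t : M.val.obj W) :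
    ((smulModΓ M r).val.app W).hom t = Coh.resTop X W r • t := rfl

lemma smulModΓ_app_top (M : X.Modules) (r : Coh.Γtop X) (t : M.val.obj (op ⊤)) :
    ((smulModΓ M r).val.app (op ⊤)).hom t = r • t := by
  rw [smulModΓ_app, HH.resTop_top]

end Sep

section Main

variable {A : Type u} [CommRing A] [IsNoetherianRing A] {X : Scheme.{u}}
  [X.Over (Spec (CommRingCat.of A))] [IsProper (X ↘ Spec (CommRingCat.of A))]

local notation "𝒪" => Coh.structureModule X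

theorem exists_idempotent (I : Ideal A) [IsAdicComplete I A]
    (T₁ T₂ : Set X) (hT₁ : IsClosed T₁) (hT₂ : IsClosed T₂) (hdisj : Disjoint T₁ T₂)
    (hcov : ∀ x : X, I ≤ ((X ↘ Spec (CommRingCat.of A)) x).asIdeal → x ∈ T₁ ∪ T₂) :
    ∃ ε : Coh.Γtop X, ε * ε = ε ∧
      (∀ x ∈ T₁, I ≤ ((X ↘ Spec (CommRingCat.of A)) x).asIdeal → x ∈ X.basicOpen ε) ∧
      (∀ x ∈ T₂, I ≤ ((X ↘ Spec (CommRingCat.of A)) x).asIdeal → x ∉ X.basicOpen ε) := by
  -- the two opens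
  let U₁ : X.Opens := ⟨T₂ᶜ, hT₂.isOpen_compl⟩
  let U₂ : X.Opens := ⟨T₁ᶜ, hT₁.isOpen_compl⟩
  have hU : U₁ ⊔ U₂ = ⊤ := by
    ext x
    simp only [Opens.coe_sup, Opens.coe_top, Set.mem_univ, iff_true, U₁, U₂, Opens.coe_mk,
      Set.mem_union, Set.mem_compl_iff]
    by_contra hcon
    push Not at hcon
    exact Set.disjoint_left.mp hdisj hcon.2 hcon.1
  have hW : ∀ x ∈ U₁ ⊓ U₂, ¬ I ≤ ((X ↘ Spec (CommRingCat.of A)) x).asIdeal := by
    intro x hx hfx
    rcases hcov x hfx with h | h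
    · exact hx.2 h
    · exact hx.1 h
  -- the glued sections
  have hglue : ∀ n : ℕ, ∃ e : (Q (I ^ (n + 1)) 𝒪).val.obj (op ⊤),
      (Q (I ^ (n + 1)) 𝒪).val.presheaf.map (homOfLE (le_top : U₁ ≤ ⊤)).op e =
        ((qπ (I ^ (n + 1)) 𝒪).val.app (op U₁)).hom (one U₁) ∧
      (Q (I ^ (n + 1)) 𝒪).val.presheaf.map (homOfLE (le_top : U₂ ≤ ⊤)).op e = 0 := by
    intro n
    obtain ⟨e, he₁, he₂⟩ := exists_glue (Coh.toAb (Q (I ^ (n + 1)) 𝒪)) U₁ U₂ hU
      (((qπ (I ^ (n + 1)) 𝒪).val.app (op U₁)).hom (one U₁))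
      (eq_zero_of_disjoint I (Q (I ^ (n + 1)) 𝒪) (n + 1) (fun a ha => smulMod_Q 𝒪 ha)
        (U₁ ⊓ U₂) hW _)
    exact ⟨e, he₁, he₂⟩
  choose e he₁ he₂ using hglue
  -- compatibility
  have hcompat : ∀ n, ((modPowTrans I (n + 1) 𝒪).val.app (op ⊤)).hom (e (n + 1)) = e n := by
    intro n
    apply eq_of_res_eq₂ (Q (I ^ (n + 1)) 𝒪) U₁ U₂ hU
    · refine (app_res (modPowTrans I (n + 1) 𝒪) (le_top : U₁ ≤ ⊤) (e (n + 1))).symm.trans ?_
      refine (congrArg ((modPowTrans I (n + 1) 𝒪).val.app (op U₁)).hom (he₁ (n + 1))).trans ?_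
      refine Eq.trans ?_ (he₁ n).symm
      exact congrArg (fun ψ => (ψ.val.app (op U₁)).hom (one U₁)) (modPowπ_trans I (n + 1) 𝒪)
    · refine (app_res (modPowTrans I (n + 1) 𝒪) (le_top : U₂ ≤ ⊤) (e (n + 1))).symm.trans ?_
      refine (congrArg ((modPowTrans I (n + 1) 𝒪).val.app (op U₂)).hom (he₂ (n + 1))).trans ?_
      exact (map_zero ((modPowTrans I (n + 1) 𝒪).val.app (op U₂)).hom).trans (he₂ n).symm
  -- the element of the limit
  let ξ : HHlim I 𝒪 0 := ⟨fun n => (HH.equiv₀ (modPow I (n + 1) 𝒪)).symm (e n), fun n => by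
    show HH.map (modPowTrans I (n + 1) 𝒪) 0 ((HH.equiv₀ _).symm (e (n + 1))) = _
    rw [HH.equiv₀_symm_naturality, hcompat n]⟩
  obtain ⟨x, hx⟩ := (Groth.Agent.S0003.result A I X 𝒪
    (Groth.Agent.Lib.helper11.AmpleInv.isCoh_structureModule X) 0).2 ξ
  have hxn : ∀ n, HH.map (modPowπ I (n + 1) 𝒪) 0 x =
      (HH.equiv₀ (modPow I (n + 1) 𝒪)).symm (e n) := fun n => congrArg (fun z => z.1 n) hx
  set ε : Coh.Γtop X := HH.equiv₀ 𝒪 x with hεdef
  have hε : ∀ n, ((qπ (I ^ (n + 1)) 𝒪).val.app (op ⊤)).hom ε = e n := by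
    intro n
    have := congrArg (HH.equiv₀ (modPow I (n + 1) 𝒪)) (hxn n)
    rw [HH.equiv₀_naturality, LinearEquiv.apply_symm_apply] at this
    exact this
  -- `ε` fixes `e n`
  have hfix : ∀ n, ε • e n = e n := by
    intro n
    rw [← smulModΓ_app_top]
    apply eq_of_res_eq₂ (Q (I ^ (n + 1)) 𝒪) U₁ U₂ hU
    · refine (app_res (smulModΓ (Q (I ^ (n + 1)) 𝒪) ε) (le_top : U₁ ≤ ⊤) (e n)).symm.trans ?_
      refine (congrArg ((smulModΓ (Q (I ^ (n + 1)) 𝒪) ε).val.app (op U₁)).hom (he₁ n)).trans ?_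
      have hnat := congrArg (fun ψ => (ψ.val.app (op U₁)).hom (one U₁))
        (smulModΓ_naturality (qπ (I ^ (n + 1)) 𝒪) ε)
      refine hnat.symm.trans ?_
      have hμ : ((smulModΓ 𝒪 ε).val.app (op U₁)).hom (one U₁) =
          (Coh.structureModule X).val.presheaf.map (homOfLE (le_top : U₁ ≤ ⊤)).op ε := by
        rw [smulModΓ_app]
        exact mul_one (Coh.resTop X (op U₁) ε)
      refine (congrArg ((qπ (I ^ (n + 1)) 𝒪).val.app (op U₁)).hom hμ).trans ?_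
      refine (app_res (qπ (I ^ (n + 1)) 𝒪) (le_top : U₁ ≤ ⊤) ε).trans ?_
      rw [hε n]
    · refine (app_res (smulModΓ (Q (I ^ (n + 1)) 𝒪) ε) (le_top : U₂ ≤ ⊤) (e n)).symm.trans ?_
      refine (congrArg ((smulModΓ (Q (I ^ (n + 1)) 𝒪) ε).val.app (op U₂)).hom (he₂ n)).trans ?_
      exact (map_zero ((smulModΓ (Q (I ^ (n + 1)) 𝒪) ε).val.app (op U₂)).hom).trans (he₂ n).symm
  have hidem : ε * ε = ε := by
    have hinj := (Groth.Agent.S0003.result A I X 𝒪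
      (Groth.Agent.Lib.helper11.AmpleInv.isCoh_structureModule X) 0).1
    have h1 : toHHlim I 𝒪 0 (ε • x) = toHHlim I 𝒪 0 x := by
      apply Subtype.ext
      funext n
      show HH.map (modPowπ I (n + 1) 𝒪) 0 (ε • x) = HH.map (modPowπ I (n + 1) 𝒪) 0 x
      rw [LinearMap.map_smul, hxn n, ← LinearEquiv.map_smul]
      exact congrArg (HH.equiv₀ (modPow I (n + 1) 𝒪)).symm (hfix n)
    have h2 := hinj h1
    have h3 := congrArg (HH.equiv₀ 𝒪) h2
    rw [LinearEquiv.map_smul] at h3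
    exact h3
  have hI1 : I ^ (0 + 1) = I := by simp
  refine ⟨ε, hidem, ?_, ?_⟩
  · intro p hp₁ hIp
    have hpU : p ∈ U₁ := fun h => Set.disjoint_left.mp hdisj hp₁ h
    apply mem_basicOpen_of_qπ_eq_one (I ^ (0 + 1)) p (hI1.le.trans hIp) U₁ hpU ε
    refine (app_res (qπ (I ^ (0 + 1)) 𝒪) (le_top : U₁ ≤ ⊤) ε).trans ?_
    exact (congrArg _ (hε 0)).trans (he₁ 0)
  · intro p hp₂ hIp
    have hpU : p ∈ U₂ := fun h => Set.disjoint_left.mp hdisj h hp₂
    apply not_mem_basicOpen_of_qπ_eq_zero (I ^ (0 + 1)) p (hI1.le.trans hIp) U₂ hpU ε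
    refine (app_res (qπ (I ^ (0 + 1)) 𝒪) (le_top : U₂ ≤ ⊤) ε).trans ?_
    exact (congrArg _ (hε 0)).trans (he₂ 0)

end Main

end Groth.Agent.Lib.helper11.Pi0
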