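import Mathlib
import Groth.Agent.Lib.Helper11.Pi0B
import Groth.Agent.S2277

/-!
# π₀ of a proper scheme over a complete base, part C (helper11)

`A` Noetherian and `I`-adically complete, `f : X ⟶ Spec A` proper, `X₀ = X ×_A A/I`: the map
`π₀(X₀) → π₀(X)` is bijective.
-/

set_option autoImplicit false
universe u
open CategoryTheory CategoryTheory.Limits AlgebraicGeometry Opposite TopologicalSpace

namespace Groth.Agent.Lib.helper11.Pi0

section Clopen

variable {X : Scheme.{u}}

/-- the non-vanishing locus of an idempotent global function is closed. -/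
theorem isClosed_basicOpen_of_idempotent (ε : Γ(X, ⊤)) (hε : ε * ε = ε) :
    IsClosed (X.basicOpen ε : Set X) := by
  have hcompl : (X.basicOpen ε : Set X)ᶜ = (X.basicOpen (1 - ε) : Set X) := by
    ext x
    simp only [Set.mem_compl_iff, SetLike.mem_coe]
    constructor
    · intro hx
      rw [Scheme.mem_basicOpen_top] at hx ⊢
      have h1 : X.presheaf.germ ⊤ x trivial (1 - ε) = 1 - X.presheaf.germ ⊤ x trivial ε := by
        rw [map_sub, map_one]
      rw [h1]
      exact IsLocalRing.isUnit_one_sub_self_of_mem_nonunits _ hx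
    · intro hx hx'
      have h2 : x ∈ X.basicOpen (ε * (1 - ε)) := by
        rw [Scheme.basicOpen_mul]
        exact ⟨hx', hx⟩
      have h3 : ε * (1 - ε) = 0 := by rw [mul_sub, mul_one, hε, sub_self]
      rw [h3, Scheme.basicOpen_zero] at h2
      exact h2
  rw [← isOpen_compl_iff, hcompl]
  exact (X.basicOpen (1 - ε)).2

end Clopen

section Main

variable (A : Type u) [CommRing A] [IsNoetherianRing A] (I : Ideal A) [IsAdicComplete I A]
  {X : Scheme.{u}} (f : X ⟶ Spec (CommRingCat.of A)) [IsProper f]

omit [IsNoetherianRing A] [IsAdicComplete I A] [IsProper f] in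
/-- the image of `X₀ = X ×_A A/I` in `X` is the preimage of `V(I)`. -/
theorem mem_range_fst_iff (x : X) :
    x ∈ Set.range (pullback.fst f (Spec.map (CommRingCat.ofHom (Ideal.Quotient.mk I)))) ↔
      I ≤ (f x).asIdeal := by
  constructor
  · rintro ⟨y, rfl⟩
    have h1 : f (pullback.fst f (Spec.map (CommRingCat.ofHom (Ideal.Quotient.mk I))) y) =
        (Spec.map (CommRingCat.ofHom (Ideal.Quotient.mk I)))
          (pullback.snd f (Spec.map (CommRingCat.ofHom (Ideal.Quotient.mk I))) y) := by
      rw [← Scheme.Hom.comp_apply, ← Scheme.Hom.comp_apply, pullback.condition]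
    rw [h1]
    intro a ha
    show Ideal.Quotient.mk I a ∈ ((pullback.snd f (Spec.map (CommRingCat.ofHom
      (Ideal.Quotient.mk I)))) y).asIdeal
    rw [Ideal.Quotient.eq_zero_iff_mem.mpr ha]
    exact Ideal.zero_mem _
  · intro hx
    have h2 : f x ∈ Set.range (PrimeSpectrum.comap (Ideal.Quotient.mk I)) := by
      rw [range_comap_of_surjective _ _ Ideal.Quotient.mk_surjective,
        Ideal.mk_ker]
      exact hx
    obtain ⟨q, hq⟩ := h2
    obtain ⟨z, hz, -⟩ := Scheme.Pullback.exists_preimage_pullback
      (f := f) (g := Spec.map (CommRingCat.ofHom (Ideal.Quotient.mk I))) x q hq.symm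
    exact ⟨z, hz⟩

omit [IsNoetherianRing A] in
theorem connectedComponentsMap_surjective :
    Function.Surjective (Continuous.connectedComponentsMap
      (pullback.fst f (Spec.map (CommRingCat.ofHom (Ideal.Quotient.mk I)))).continuous) := by
  intro c
  obtain ⟨x, rfl⟩ := ConnectedComponents.surjective_coe c
  let t : Set (PrimeSpectrum A) := f '' connectedComponent x
  have hcl : IsClosed t := f.isClosedMap _ isClosed_connectedComponent
  have hxt : (f x : PrimeSpectrum A) ∈ t := ⟨x, mem_connectedComponent, rfl⟩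
  have hzl : PrimeSpectrum.zeroLocus (PrimeSpectrum.vanishingIdeal t : Set A) = t := by
    rw [PrimeSpectrum.zeroLocus_vanishingIdeal_eq_closure, hcl.closure_eq]
  have hJne : PrimeSpectrum.vanishingIdeal t ≠ ⊤ := by
    intro h
    have h1 : (f x : PrimeSpectrum A) ∈
        PrimeSpectrum.zeroLocus (PrimeSpectrum.vanishingIdeal t : Set A) := by
      rw [hzl]; exact hxt
    rw [h] at h1
    simp at h1
    exact h1
  obtain ⟨M, hM, hJM⟩ := Ideal.exists_le_maximal _ hJne
  have hmem : (⟨M, hM.isPrime⟩ : PrimeSpectrum A) ∈ t := by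
    rw [← hzl]
    exact hJM
  obtain ⟨x', hx', hfx'⟩ := hmem
  have hI : I ≤ (f x').asIdeal := by
    rw [hfx']
    exact (IsAdicComplete.le_jacobson_bot I).trans (sInf_le ⟨bot_le, hM⟩)
  obtain ⟨y, hy⟩ := (mem_range_fst_iff A I f x').mpr hI
  refine ⟨ConnectedComponents.mk y, ?_⟩
  rw [Continuous.connectedComponentsMap_mk, hy]
  exact ConnectedComponents.coe_eq_coe'.mpr hx'

theorem connectedComponentsMap_injective :
    Function.Injective (Continuous.connectedComponentsMap
      (pullback.fst f (Spec.map (CommRingCat.ofHom (Ideal.Quotient.mk I)))).continuous) := by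
  intro c₁ c₂ h
  obtain ⟨y₁, rfl⟩ := ConnectedComponents.surjective_coe c₁
  obtain ⟨y₂, rfl⟩ := ConnectedComponents.surjective_coe c₂
  rw [Continuous.connectedComponentsMap_mk, Continuous.connectedComponentsMap_mk,
    ConnectedComponents.coe_eq_coe] at h
  by_contra hne
  haveI : IsLocallyNoetherian X := LocallyOfFiniteType.isLocallyNoetherian f
  haveI : CompactSpace X := QuasiCompact.compactSpace_of_compactSpace f
  haveI : IsNoetherian X := {}
  haveI : IsClosedImmersion (Spec.map (CommRingCat.ofHom (Ideal.Quotient.mk I))) :=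
    IsClosedImmersion.spec_of_surjective _ Ideal.Quotient.mk_surjective
  haveI : IsClosedImmersion
      (pullback.fst f (Spec.map (CommRingCat.ofHom (Ideal.Quotient.mk I)))) :=
    MorphismProperty.pullback_fst _ _ inferInstance
  have hemb : Topology.IsClosedEmbedding
      (pullback.fst f (Spec.map (CommRingCat.ofHom (Ideal.Quotient.mk I)))) :=
    (pullback.fst f (Spec.map (CommRingCat.ofHom (Ideal.Quotient.mk I)))).isClosedEmbedding
  haveI : NoetherianSpace ↥(pullback f (Spec.map (CommRingCat.ofHom (Ideal.Quotient.mk I)))) :=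
    hemb.isInducing.noetherianSpace
  have hTo : IsOpen (connectedComponent y₁) :=
    Groth.Agent.S2277.isOpen_connectedComponent_of_noetherian y₁
  have hTc : IsClosed (connectedComponent y₁) := isClosed_connectedComponent
  have hy₂ : y₂ ∉ connectedComponent y₁ :=
    fun h' => hne (ConnectedComponents.coe_eq_coe'.mpr h').symm
  letI : X.Over (Spec (CommRingCat.of A)) := ⟨f⟩
  haveI : IsProper (X ↘ Spec (CommRingCat.of A)) := ‹IsProper f›
  obtain ⟨ε, hε, h₁, h₂⟩ := exists_idempotent I
    ((pullback.fst f (Spec.map (CommRingCat.ofHom (Ideal.Quotient.mk I)))) '' connectedComponent y₁)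
    ((pullback.fst f (Spec.map (CommRingCat.ofHom (Ideal.Quotient.mk I)))) '' (connectedComponent y₁)ᶜ)
    (hemb.isClosedMap _ hTc) (hemb.isClosedMap _ hTo.isClosed_compl)
    ((Set.disjoint_image_iff hemb.injective).mpr disjoint_compl_right)
    (fun x hx => by
      obtain ⟨y, rfl⟩ := (mem_range_fst_iff A I f x).mpr hx
      by_cases hy : y ∈ connectedComponent y₁
      · exact Or.inl ⟨y, hy, rfl⟩
      · exact Or.inr ⟨y, hy, rfl⟩)
  have hclopen : IsClopen (X.basicOpen ε : Set X) :=
    ⟨isClosed_basicOpen_of_idempotent ε hε, (X.basicOpen ε).2⟩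
  have hin₁ := h₁ _ ⟨y₁, mem_connectedComponent, rfl⟩
    ((mem_range_fst_iff A I f _).mp ⟨y₁, rfl⟩)
  have hin₂ := h₂ _ ⟨y₂, hy₂, rfl⟩ ((mem_range_fst_iff A I f _).mp ⟨y₂, rfl⟩)
  have hsub := hclopen.connectedComponent_subset hin₁
  apply hin₂
  apply hsub
  rw [h]
  exact mem_connectedComponent

theorem connectedComponentsMap_bijective :
    Function.Bijective (Continuous.connectedComponentsMap
      (pullback.fst f (Spec.map (CommRingCat.ofHom (Ideal.Quotient.mk I)))).continuous) :=
  ⟨connectedComponentsMap_injective A I f, connectedComponentsMap_surjective A I f⟩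

end Main

end Groth.Agent.Lib.helper11.Pi0
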