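import Mathlib
import Groth.Agent.Lib.Helper8.GENilIso
import Groth.Agent.Lib.Helper14.DualNumUnram1
import Groth.Agent.Lib.Helper18.NilBaseOpen

/-!
# Morphisms of flat schemes over `A` which are isomorphisms modulo `I` (helper11)

`fn I f hf n : X'_n ⟶ X_n` is an isomorphism for all `n` as soon as `fn I f hf 0` is and `X'` is flat over `A`
(no flatness of `f` needed) : `isIso_fn_of_flat`.
-/

set_option autoImplicit false
set_option backward.isDefEq.respectTransparency false
universe u
open CategoryTheory CategoryTheory.Limits AlgebraicGeometry Opposite TopologicalSpace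

namespace Groth.Agent.Lib.helper11.PnDef

open Groth.Agent.Lib.helper8.GENilIso

section nil

variable {A : Type u} [CommRing A] (I : Ideal A)

theorem isNilpotent_ker_specLe (n : ℕ) : IsNilpotent (specLe I n).ker := by
  unfold specLe
  refine Groth.Agent.Lib.Helper14.DualNumUnram.isNilpotent_ker_SpecMap _
    (Ideal.Quotient.factor_surjective (pow_succ_le I n)) ⟨n + 1, ?_⟩
  change RingHom.ker (Ideal.Quotient.factor (pow_succ_le I n)) ^ (n + 1) = ⊥
  rw [Ideal.Quotient.factor_ker, ← Ideal.map_pow, ← pow_mul, zero_add, one_mul]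
  exact Ideal.map_quotient_self _

end nil

section fn

variable {A : Type u} [CommRing A] (I : Ideal A) {X X' : Scheme.{u}}
  [X.Over (Spec (CommRingCat.of A))] [X'.Over (Spec (CommRingCat.of A))]
  (f : X' ⟶ X) (hf : f ≫ (X ↘ Spec (CommRingCat.of A)) = X' ↘ Spec (CommRingCat.of A))

/-- **isomorphism modulo `I` ⇒ isomorphism modulo `I^(n+1)`**, for `X'` flat over `A` -/
theorem isIso_fn_of_flat [Flat (X' ↘ Spec (CommRingCat.of A))] (h0 : IsIso (fn I f hf 0)) (n : ℕ) :
    IsIso (fn I f hf n) := by
  haveI := h0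
  have hn := isNilpotent_ker_specLe I n
  haveI : Flat (fn I f hf n ≫ CohB1.thickToBase (X ↘ Spec (CommRingCat.of A)) I n) := by
    rw [fn_toBase]
    change Flat (pullback.snd _ _)
    infer_instance
  have hcX : IsPullback (tau (X' ↘ Spec (CommRingCat.of A)) I n)
      (fn I f hf 0 ≫ CohB1.thickToBase (X ↘ Spec (CommRingCat.of A)) I 0)
      (fn I f hf n ≫ CohB1.thickToBase (X ↘ Spec (CommRingCat.of A)) I n) (specLe I n) := by
    rw [fn_toBase, fn_toBase]
    exact isPullback_tau _ I n
  have hcY := isPullback_tau (X ↘ Spec (CommRingCat.of A)) I n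
  exact Groth.Agent.Lib.Helper18.NilBase.isIso_of_thickening_base_scheme hn hcX hcY
    (tau_fn I f hf n)

end fn

end Groth.Agent.Lib.helper11.PnDef
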