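import Mathlib
import Groth.Agent.Lib.Helper11.PnDef1
import Groth.Agent.Lib.Helper11.GEThick3
import Groth.Agent.Lib.Helper11.ComplNear2
import Groth.Prelude.Def_FSch6

/-!
# A morphism of proper schemes over a Noetherian local ring which is an isomorphism on all thickenings
of the closed fibre is an isomorphism (helper11)
-/

set_option autoImplicit false
set_option backward.isDefEq.respectTransparency false
universe u
open CategoryTheory CategoryTheory.Limits AlgebraicGeometry Opposite TopologicalSpace

namespace Groth.Agent.Lib.helper11.PnDef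

open Groth.Agent.Lib.helper8.GENilIso Groth.Agent.Lib.helper11.GEThick
  Groth.Agent.Lib.helper8.GEClopen

section iso

variable {A : Type u} [CommRing A] [IsLocalRing A] [IsNoetherianRing A] {X X' : Scheme.{u}}
  [X.Over (Spec (CommRingCat.of A))] [X'.Over (Spec (CommRingCat.of A))]
  [IsProper (X ↘ Spec (CommRingCat.of A))] [IsProper (X' ↘ Spec (CommRingCat.of A))]
  (f : X' ⟶ X) (hf : f ≫ (X ↘ Spec (CommRingCat.of A)) = X' ↘ Spec (CommRingCat.of A))

theorem isIso_of_isIso_fn (h : ∀ n, IsIso (fn (IsLocalRing.maximalIdeal A) f hf n)) : IsIso f := by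
  set I := IsLocalRing.maximalIdeal A with hI
  set 𝓙 := FSch.idealSpec A I with h𝓙
  have hc : FSch.PowCompat f (𝓙.comap (X' ↘ Spec (CommRingCat.of A)))
      (𝓙.comap (X ↘ Spec (CommRingCat.of A))) := by
    intro n
    rw [Groth.Agent.Lib.helper6.comap_pow, ← Scheme.IdealSheafData.comap_comp, hf]
  have hlev : ∀ n : ℕ, IsIso ((FSch.completionMap f (𝓙.comap (X' ↘ Spec (CommRingCat.of A)))
      (𝓙.comap (X ↘ Spec (CommRingCat.of A))) hc : FSch.Hom _ _).app n) := by
    intro n
    obtain ⟨c, hcι⟩ := exists_iso_thick I X n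
    obtain ⟨c', hcι'⟩ := exists_iso_thick I X' n
    haveI := h n
    have e : (FSch.completionMap f (𝓙.comap (X' ↘ Spec (CommRingCat.of A)))
        (𝓙.comap (X ↘ Spec (CommRingCat.of A))) hc : FSch.Hom _ _).app n ≫ c.hom =
        c'.hom ≫ fn I f hf n := by
      haveI : Mono (ι I X n) := inferInstance
      rw [← cancel_mono (ι I X n), Category.assoc, Category.assoc, hcι, fn_ι, ← Category.assoc,
        hcι']
      exact (FSch.completionMap_sq f _ _ hc n).symm
    have e' : (FSch.completionMap f (𝓙.comap (X' ↘ Spec (CommRingCat.of A)))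
        (𝓙.comap (X ↘ Spec (CommRingCat.of A))) hc : FSch.Hom _ _).app n =
        c'.hom ≫ fn I f hf n ≫ c.inv := by
      rw [← Category.assoc, ← e, Category.assoc, Iso.hom_inv_id, Category.comp_id]
    rw [e']
    infer_instance
  obtain ⟨U, hU, hiso⟩ := (Groth.Agent.Lib.helper11.ComplNear.isIso_iff_near
    (X' ↘ Spec (CommRingCat.of A)) (X ↘ Spec (CommRingCat.of A)) f hf 𝓙 hc).mp hlev
  have hcl : IsLocalRing.closedPoint A ∈ U := by
    apply hU
    apply Groth.Agent.Lib.helper11.FormalFree.mem_support_idealSpec A I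
    intro a ha
    exact ha
  have hU' : U = ⊤ := (IsLocalRing.closedPoint_mem_iff U).mp hcl
  rw [hU'] at hiso
  have key := (IsZariskiLocalAtTarget.iff_of_iSup_eq_top
    (P := MorphismProperty.isomorphisms Scheme.{u}) (f := f)
    (fun _ : Unit => (X ↘ Spec (CommRingCat.of A)) ⁻¹ᵁ ⊤) (by simp)).mpr (fun _ => hiso)
  exact key

end iso

end Groth.Agent.Lib.helper11.PnDef
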