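import Mathlib
import Groth.Agent.Lib.Helper11.FibLift9
import Groth.Agent.Lib.Helper11.InvPullback
import Groth.Agent.Lib.Helper12.ProjUP4

/-!
# Lifting sections from the closed fibre `X ×_A A/m` and generation near the closed fibre (helper11)

* `exists_lift_hom_residue`: `X` proper flat over a Noetherian local ring `A`, `F`, `G` finite locally free,
  `H^1(X₀, g'^*(G ⊗ F^∨)) = 0`: every `u₀ : g'^*F ⟶ g'^*G` is the pullback of some `u : F ⟶ G`.
* `exists_lift_section_residue`: sections of an invertible `L` with `H^1(X₀, g'^*L) = 0`.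
* `iSup_genLocus_eq_top`: sections of an invertible module generating on the closed fibre generate.
-/

set_option autoImplicit false
set_option backward.isDefEq.respectTransparency false
universe u
open CategoryTheory CategoryTheory.Limits AlgebraicGeometry TopologicalSpace Opposite
open Scheme.Modules
open Groth.Agent.Lib.helper11.IsoLocus
open Groth.Agent.Lib.helper21.FLFDual Groth.Agent.Lib.helper12.InvDual
open Groth.Agent.Lib.helper21.InvFibre Groth.Agent.Lib.helper16.FLF
open Groth.Agent.Lib.Helper18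

namespace Groth.Agent.Lib.helper11.PnDef

open Groth.Agent.Lib.helper11.FibLift Groth.Agent.Lib.helper12.ProjUP4
  Groth.Agent.Lib.helper11.InvMod

section lift

variable (A : Type u) [CommRing A] [IsNoetherianRing A] [IsLocalRing A] (X : Scheme.{u})
  [X.Over (Spec (CommRingCat.of A))] [IsProper (X ↘ Spec (CommRingCat.of A))]
  [Flat (X ↘ Spec (CommRingCat.of A))]
  (F G : X.Modules) (hF : FlatMod.IsFinLocFree F) (hG : FlatMod.IsFinLocFree G)
  {X' : Scheme.{u}} (g' : X' ⟶ X) (p : X' ⟶ Spec (CommRingCat.of (IsLocalRing.ResidueField A)))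
  (hpb : IsPullback g' p (X ↘ Spec (CommRingCat.of A))
    (Spec.map (CommRingCat.ofHom (IsLocalRing.residue A))))

include hF hG hpb in
/-- **every morphism on the closed fibre lifts** when `H^1(X₀, g'^*(G ⊗ F^∨)) = 0` -/
theorem exists_lift_hom_residue
    (h1 : Subsingleton (Coh.HH X'
      ((Scheme.Modules.pullback g').obj (CohB1.tensorMod G (dualMod F))) 1))
    (u₀ : (Scheme.Modules.pullback g').obj F ⟶ (Scheme.Modules.pullback g').obj G) :
    ∃ u : F ⟶ G, (Scheme.Modules.pullback g').map u = u₀ := by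
  letI : X'.Over (Spec (CommRingCat.of (IsLocalRing.closedPoint A).asIdeal.ResidueField)) :=
    ⟨p ≫ inv (Spec.map (CommRingCat.ofHom (quotToKappa A)))⟩
  have hpb' : IsPullback g'
      (X' ↘ Spec (CommRingCat.of (IsLocalRing.closedPoint A).asIdeal.ResidueField))
      (X ↘ Spec (CommRingCat.of A))
      (Spec.map (CommRingCat.ofHom
        (algebraMap A (IsLocalRing.closedPoint A).asIdeal.ResidueField))) :=
    isPullback_residueField hpb
  obtain ⟨a, ha, u, hu⟩ := exists_lift_hom A X F G hF hG (IsLocalRing.closedPoint A) X' g' hpb' h1 u₀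
  have hua : IsUnit a := by
    by_contra hcon
    exact ha ((IsLocalRing.mem_maximalIdeal a).mpr hcon)
  obtain ⟨a', rfl⟩ := hua
  refine ⟨u ≫ Formal.smulModΓ G (Coh.toGlobal (X ↘ Spec (CommRingCat.of A)) ((a'⁻¹ : Aˣ) : A)), ?_⟩
  have e1 := (Scheme.Modules.pullback g').map_comp u
    (Formal.smulModΓ G (Coh.toGlobal (X ↘ Spec (CommRingCat.of A)) ((a'⁻¹ : Aˣ) : A)))
  rw [e1, hu, pullback_map_smulModΓ, Category.assoc, ← KLin.smulModΓ_mul,
    ← map_mul, ← map_mul, Units.mul_inv, map_one, map_one, KLin.smulModΓ_one]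
  exact Category.comp_id _

include hpb in
/-- **sections of an invertible module lift from the closed fibre** when `H^1(X₀, g'^*L) = 0` -/
theorem exists_lift_section_residue (L : X.Modules) (hL : PicF.IsInvertible L)
    (h1 : Subsingleton (Coh.HH X' ((Scheme.Modules.pullback g').obj L) 1))
    (τ : Coh.structureModule X' ⟶ (Scheme.Modules.pullback g').obj L) :
    ∃ σ : Coh.structureModule X ⟶ L, pullHom g' σ = τ := by
  have hFL := isFinLocFree_of_isInvertible hL
  have hFO := isFinLocFree_of_isInvertible (isInvertible_structureModule X)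
  haveI := hasSheafHom (Coh.structureModule X')
  have h : Subsingleton (Coh.HH X'
      ((DCoh.sheafHom (Coh.structureModule X')).obj ((Scheme.Modules.pullback g').obj L)) 1) :=
    subsingleton_HH_of_iso ((sheafHomUnitIso X').app ((Scheme.Modules.pullback g').obj L)).symm 1 h1
  have v1 := subsingleton_HH_pullback g' hFO L _ _ (pullbackUnitIso g').symm (Iso.refl _) 1 h
  obtain ⟨u, hu⟩ := exists_lift_hom_residue A X _ _ hFO hFL g' p hpb v1
    ((pullbackUnitIso g').hom ≫ τ)
  refine ⟨u, ?_⟩
  unfold pullHom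
  rw [hu, Iso.inv_hom_id_assoc]

end lift

section cover

variable (A : Type u) [CommRing A] [IsLocalRing A] (X : Scheme.{u})
  [X.Over (Spec (CommRingCat.of A))] [IsProper (X ↘ Spec (CommRingCat.of A))]
  {X' : Scheme.{u}} (g' : X' ⟶ X) (p : X' ⟶ Spec (CommRingCat.of (IsLocalRing.ResidueField A)))
  (hpb : IsPullback g' p (X ↘ Spec (CommRingCat.of A))
    (Spec.map (CommRingCat.ofHom (IsLocalRing.residue A))))

include hpb in
/-- sections of an invertible module generating on the closed fibre generate -/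
theorem iSup_genLocus_eq_top {κ : Type*} (L : X.Modules) (hL : PicF.IsInvertible L)
    (σ : κ → (Coh.structureModule X ⟶ L))
    (hcov : ∀ x' : X', ∃ l, x' ∈ CohB1.genLocus _ (pullHom g' (σ l))) :
    ⨆ l, CohB1.genLocus L (σ l) = ⊤ := by
  set W : X.Opens := ⨆ l, CohB1.genLocus L (σ l) with hW
  let Z : Set X := (W : Set X)ᶜ
  have hZ : IsClosed Z := W.2.isClosed_compl
  have hcl : IsClosed ((X ↘ Spec (CommRingCat.of A)) '' Z) :=
    (X ↘ Spec (CommRingCat.of A)).isClosedMap _ hZ
  let U : TopologicalSpace.Opens (PrimeSpectrum A) :=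
    ⟨((X ↘ Spec (CommRingCat.of A)) '' Z)ᶜ, hcl.isOpen_compl⟩
  have hU : IsLocalRing.closedPoint A ∈ U := by
    rintro ⟨q, hqZ, hq⟩
    obtain ⟨x', rfl⟩ := mem_range_of_isPullback_residue hpb q hq
    obtain ⟨l, hl⟩ := hcov x'
    have e : CohB1.genLocus _ (pullHom g' (σ l)) = g' ⁻¹ᵁ CohB1.genLocus L (σ l) := by
      unfold pullHom
      exact Groth.Agent.Lib.helper11.InvPullback.genLocus_pullback g' L hL (σ l)
        (pullbackUnitIso g').symm
    rw [e] at hl
    exact hqZ (Opens.mem_iSup.mpr ⟨l, hl⟩)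
  have hU' : U = ⊤ := (IsLocalRing.closedPoint_mem_iff U).mp hU
  apply top_unique
  intro q _
  by_contra hq
  have h1 : (X ↘ Spec (CommRingCat.of A)) q ∈ U := by rw [hU']; trivial
  exact h1 ⟨q, hq, rfl⟩

end cover

end Groth.Agent.Lib.helper11.PnDef
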