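import Mathlib
import Groth.Agent.Lib.Helper12.ProjUP4
import Groth.Agent.Lib.Helper11.FormalSpf1
import Groth.Agent.Lib.Helper11.Algz1

/-!
# Pullback of sections along a composite (helper11)
-/

set_option autoImplicit false
set_option backward.isDefEq.respectTransparency false
universe u
open CategoryTheory CategoryTheory.Limits AlgebraicGeometry TopologicalSpace Opposite
open Scheme.Modules

namespace Groth.Agent.Lib.helper11.PnDef

open Groth.Agent.Lib.helper12.ProjUP4 Groth.Agent.Lib.helper11.InvMod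
  Groth.Agent.Lib.helper11.GenLocus Groth.Agent.Lib.helper11.InvHom
  Groth.Agent.Lib.helper12.PullTensor Groth.Agent.Lib.helper12.SecExtend

section comp

variable {X Y Z : Scheme.{u}} (a : X ⟶ Y) (b : Y ⟶ Z)

theorem pullHom_comp_pullbackComp {M : Z.Modules} (t : Coh.structureModule Z ⟶ M) :
    pullHom (a ≫ b) t ≫ (pullbackComp a b).inv.app M = pullHom a (pullHom b t) := by
  apply hom_ext_val_top
  have h1 : sec (pullHom (a ≫ b) t ≫ (pullbackComp a b).inv.app M) ⊤ =
      (((pullbackComp a b).inv.app M).app ⊤).hom (unitSec (a ≫ b) M ⊤ (sec t ⊤)) := by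
    rw [sec_comp]
    exact congrArg _ (sec_pullHom (a ≫ b) t ⊤)
  have h2 : sec (pullHom a (pullHom b t)) ⊤ =
      unitSec a ((Scheme.Modules.pullback b).obj M) ⊤ (unitSec b M ⊤ (sec t ⊤)) := by
    have e1 := sec_pullHom a (pullHom b t) ⊤
    have e2 := sec_pullHom b t ⊤
    exact e1.trans (congrArg _ e2)
  have h3 := Groth.Agent.Lib.helper11.FormalSpf.unit_pullbackComp a b M
  have h4 := congrArg (fun φ => (φ.val.app (op ⊤)).hom (sec t ⊤)) h3
  exact h1.trans (h4.symm.trans h2.symm)

end comp

end Groth.Agent.Lib.helper11.PnDef
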