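import Mathlib
import Groth.Prelude.Def_GrTwist
import Groth.Agent.Lib.Helper28.RelTwistPull

/-!
# `(Proj.map ψ)^* O_{Proj 𝒜}(n) ≅ O_{Proj ℬ}(n)` for `𝒜` covered by `D₊(g)`, `g ∈ 𝒜 1` (helper11)

Absolute version of helper28 `RelTwistPull.nonempty_pullback_iso`, via the prelude's `GrTwist.comap`.
Note `Twist.twist 𝒜 n = GrTwist.twist 𝒜 n` holds by `rfl` for `𝒜 : ℕ → Submodule R A`.
-/

set_option autoImplicit false
set_option linter.style.haveILetI false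
universe u
open CategoryTheory CategoryTheory.Limits AlgebraicGeometry TopologicalSpace Opposite
open Scheme.Modules
open scoped HomogeneousIdeal

namespace Groth.Agent.Lib.helper11.TwistPull

open Groth.Agent.Lib.helper8.PullbackUnit Groth.Agent.Lib.helper28.GTwistFree
  Groth.Agent.Lib.helper28.RelTwistPull

variable {A B σ τ : Type u} [CommRing A] [CommRing B] [SetLike σ A] [AddSubgroupClass σ A]
  [SetLike τ B] [AddSubgroupClass τ B] {𝒜 : ℕ → σ} {ℬ : ℕ → τ} [GradedRing 𝒜] [GradedRing ℬ]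
  (ψ : 𝒜 →+*ᵍ ℬ) (hψ : ℬ₊ ≤ (𝒜₊).map ψ)

theorem pow_mem_one {f : A} (hf : f ∈ 𝒜 1) (p : ℕ) : f ^ p ∈ 𝒜 p := by
  have := SetLike.pow_mem_graded p hf
  simpa [smul_eq_mul] using this

theorem toNat_eq (m : ℤ) : ((m.toNat : ℕ) : ℤ) = ((-m).toNat : ℕ) + m := by
  have := Int.toNat_sub_toNat_neg m
  omega

/-- the basis `D₊(ψ g * h')` of `Proj ℬ` -/
def basisSet : Set (Proj ℬ).Opens :=
  {V | ∃ (g : A) (h' : B) (k : ℕ), g ∈ 𝒜 1 ∧ h' ∈ ℬ k ∧ V = Proj.basicOpen ℬ (ψ g * h')}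

include hψ in
theorem isBasis_basisSet
    (hcov : ∀ x : ProjectiveSpectrum 𝒜, ∃ g ∈ 𝒜 1, g ∉ x.asHomogeneousIdeal) :
    Opens.IsBasis (basisSet (𝒜 := 𝒜) (ℬ := ℬ) ψ) := by
  rw [Opens.isBasis_iff_nbhd]
  intro O z hz
  obtain ⟨k, h', hh, hhz, hhO⟩ :=
    Groth.Agent.Lib.helper28.GTildeSec.exists_homogeneous_basicOpen ℬ O z hz
  obtain ⟨g, hg, hgz⟩ := hcov (ProjectiveSpectrum.comap ψ hψ z)
  have hgz' : ψ g ∉ z.asHomogeneousIdeal := hgz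
  refine ⟨_, ⟨g, h', k, hg, hh, rfl⟩, ?_, ?_⟩
  · exact (ProjectiveSpectrum.mem_basicOpen _ _ z).mpr fun hmem =>
      (z.isPrime.mem_or_mem hmem).elim hgz' hhz
  · intro w hw
    exact hhO w fun hmem => ((ProjectiveSpectrum.mem_basicOpen _ _ w).mp hw)
      (Ideal.mul_mem_left _ _ hmem)

theorem isBC_comap (n : ℤ) (g : A) (h' : B) (k : ℕ) (hg : g ∈ 𝒜 1) (hh' : h' ∈ ℬ k) :
    IsAffineOpen (Proj.basicOpen ℬ (ψ g * h')) ∧
      ∃ (U' : (Proj 𝒜).Opens) (_ : IsAffineOpen U')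
        (e : Proj.basicOpen ℬ (ψ g * h') ≤ Proj.map ψ hψ ⁻¹ᵁ U'),
        IsBC ((Proj.map ψ hψ).appLE U' _ e).hom (ρv (Proj.map ψ hψ) e (GrTwist.comap ψ hψ n)) := by
  have hg' : ψ g ∈ ℬ 1 := ψ.map_mem hg
  have hF' : ψ g * h' ∈ ℬ (1 + k) := SetLike.mul_mem_graded hg' hh'
  let V : (Proj ℬ).Opens := Proj.basicOpen ℬ (ψ g * h')
  let U' : (Proj 𝒜).Opens := Proj.basicOpen 𝒜 g
  have hVaff : IsAffineOpen V := Proj.isAffineOpen_basicOpen ℬ (ψ g * h') hF' (by omega)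
  have hU'aff : IsAffineOpen U' := Proj.isAffineOpen_basicOpen 𝒜 g hg Nat.one_pos
  have e : V ≤ Proj.map ψ hψ ⁻¹ᵁ U' := by
    intro z hz
    show ProjectiveSpectrum.comap ψ hψ z ∈ ProjectiveSpectrum.basicOpen 𝒜 g
    refine (ProjectiveSpectrum.mem_basicOpen 𝒜 g _).mpr fun hmem => ?_
    have hmem' : ψ g ∈ z.asHomogeneousIdeal := hmem
    exact (ProjectiveSpectrum.mem_basicOpen ℬ (ψ g * h') z).mp hz
      (Ideal.mul_mem_right _ _ hmem')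
  refine ⟨hVaff, U', hU'aff, e, ?_⟩
  have hgU' : ∀ (c : ℕ) (x : U'), g ^ c ∉ x.1.asHomogeneousIdeal := fun c x hmem =>
    (ProjectiveSpectrum.mem_basicOpen 𝒜 g x.1).mp x.2 (x.1.isPrime.mem_of_pow_mem c hmem)
  have hgV : ∀ (c : ℕ) (x : V), (ψ g) ^ c ∉ x.1.asHomogeneousIdeal := fun c x hmem =>
    (ProjectiveSpectrum.mem_basicOpen ℬ (ψ g * h') x.1).mp x.2
      (Ideal.mul_mem_right h' _ (x.1.isPrime.mem_of_pow_mem c hmem))
  let um : Γ(GrTwist.twist 𝒜 n, U') :=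
    fracSectN 𝒜 n U' ⟨g ^ n.toNat, pow_mem_one hg _⟩ ⟨g ^ (-n).toNat, pow_mem_one hg _⟩
      (hgU' _) (toNat_eq n)
  have hm : Function.Bijective (fun c : Γ(Proj 𝒜, U') => c • um) :=
    bijective_smul_fracSectN 𝒜 n Nat.one_pos hg U' rfl
      ⟨g ^ n.toNat, pow_mem_one hg _⟩ ⟨g ^ (-n).toNat, pow_mem_one hg _⟩ (hgU' _) (hgU' _)
      (toNat_eq n)
  have ht' : ρv (Proj.map ψ hψ) e (GrTwist.comap ψ hψ n) um =
      fracSectN ℬ n V ⟨(ψ g) ^ n.toNat, pow_mem_one hg' _⟩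
        ⟨(ψ g) ^ (-n).toNat, pow_mem_one hg' _⟩ (hgV _) (toNat_eq n) := by
    refine Groth.Agent.Lib.helper28.GTwistQCoh.sectN_ext _ _ _ fun x => ?_
    rw [ρv_apply]
    have h1 := GrTwist.comap_app_val ψ hψ n U' um ⟨x.1, e x.2⟩
    refine h1.trans ?_
    change GrTwist.locMap ψ hψ x.1 (Localization.mk _ _) = Localization.mk _ _
    rw [GrTwist.locMap_mk]
    exact Groth.Agent.Lib.helper28.RelTwistMap.mk_congr _ _ (map_pow ψ g _) (map_pow ψ g _)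
  have hm' : Function.Bijective
      (fun c : Γ(Proj ℬ, V) => c • ρv (Proj.map ψ hψ) e (GrTwist.comap ψ hψ n) um) := by
    rw [ht']
    exact bijective_smul_fracSectN ℬ n (by omega : 0 < 1 + k) hF' V rfl
      ⟨(ψ g) ^ n.toNat, pow_mem_one hg' _⟩ ⟨(ψ g) ^ (-n).toNat, pow_mem_one hg' _⟩ (hgV _) (hgV _)
      (toNat_eq n)
  refine isBC_of_free ((Proj.map ψ hψ).appLE U' V e).hom
    (ρv (Proj.map ψ hψ) e (GrTwist.comap ψ hψ n)) ?_ um hm.2 hm'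
  intro r x
  rw [ρv_apply, ρv_apply]
  have h1 : (GrTwist.comap ψ hψ n).app U' (r • x) =
      (((Proj.map ψ hψ).app U').hom r •
        (show Γ(GrTwist.twist ℬ n, Proj.map ψ hψ ⁻¹ᵁ U') from (GrTwist.comap ψ hψ n).app U' x) :
      Γ(GrTwist.twist ℬ n, Proj.map ψ hψ ⁻¹ᵁ U')) := by
    rw [Scheme.Modules.Hom.app_smul, Groth.Agent.Lib.helper28.LocalGen.smul_pushforward]
  rw [h1]
  exact Groth.Agent.Lib.helper28.HomOfBasis.map_smul' (GrTwist.twist ℬ n) (homOfLE e)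
    (((Proj.map ψ hψ).app U').hom r) _

/-- the adjoint of `GrTwist.comap` is an isomorphism -/
theorem isIso_adj_comap
    (hcov : ∀ x : ProjectiveSpectrum 𝒜, ∃ g ∈ 𝒜 1, g ∉ x.asHomogeneousIdeal) (n : ℤ) :
    IsIso (((pullbackPushforwardAdjunction (Proj.map ψ hψ)).homEquiv (GrTwist.twist 𝒜 n)
      (GrTwist.twist ℬ n)).symm (GrTwist.comap ψ hψ n)) := by
  haveI : (GrTwist.twist 𝒜 n).IsQuasicoherent :=
    Groth.Agent.Lib.helper28.GTwistQCoh.twist_isQuasicoherent 𝒜 n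
  refine isIso_homEquiv_symm_of_isBC (Proj.map ψ hψ) (GrTwist.comap ψ hψ n)
    (basisSet (𝒜 := 𝒜) (ℬ := ℬ) ψ) (isBasis_basisSet ψ hψ hcov) ?_
  rintro _ ⟨g, h', k, hg, hh', rfl⟩
  exact isBC_comap ψ hψ n g h' k hg hh'

/-- `(Proj.map ψ)^* O_{Proj 𝒜}(n) ≅ O_{Proj ℬ}(n)` -/
noncomputable def pullbackTwistIso
    (hcov : ∀ x : ProjectiveSpectrum 𝒜, ∃ g ∈ 𝒜 1, g ∉ x.asHomogeneousIdeal) (n : ℤ) :
    (Scheme.Modules.pullback (Proj.map ψ hψ)).obj (GrTwist.twist 𝒜 n) ≅ GrTwist.twist ℬ n :=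
  haveI := isIso_adj_comap ψ hψ hcov n
  asIso (((pullbackPushforwardAdjunction (Proj.map ψ hψ)).homEquiv (GrTwist.twist 𝒜 n)
      (GrTwist.twist ℬ n)).symm (GrTwist.comap ψ hψ n))

end Groth.Agent.Lib.helper11.TwistPull
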