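import Mathlib
import Groth.Agent.Lib.Helper11.TwistPull
import Groth.Agent.Lib.Helper11.HUOpen
import Groth.Agent.Lib.Helper12.PnLocal1
import Groth.Agent.Lib.Helper28.TwistPn

/-!
# `O(d)` on `P^n_Y = P^n_ℤ ×_ℤ Y` over an affine open `V ⊆ Y` is `O(d)` on `Proj Γ(Y,V)[T]` (helper11)

* `polyTwistIso n φ d` : `(Proj.map (polyMap n φ))^* O_{P^n_R}(d) ≅ O_{P^n_{R'}}(d)`.
* `restrictTwistOverIso` : `O_{P^n_Y}(d)|_{p⁻¹ V} ≅ θ^* O_{P^n_{Γ(Y,V)}}(d)` for helper12's chart
  `θ = PnLocal.theta n V hV`.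
* `subsingleton_HHon_twistOver` : transport of cohomology vanishing.
-/

set_option autoImplicit false
set_option linter.style.haveILetI false
universe u
open CategoryTheory CategoryTheory.Limits AlgebraicGeometry TopologicalSpace Opposite
open Scheme.Modules
open scoped HomogeneousIdeal

namespace Groth.Agent.Lib.helper11.PnOverBridge

open Groth.Agent.Lib.helper12.PnLocal

section Ring
variable (n : ℕ) {R R' : Type u} [CommRing R] [CommRing R'] (φ : R →+* R')

/-- `(Proj.map (polyMap n φ))^* O(d) ≅ O(d)`. -/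
noncomputable def polyTwistIso (d : ℤ) :
    (Scheme.Modules.pullback (Proj.map (polyMap n φ) (irrelevant_le_polyMap n φ))).obj
        (Twist.twistProjSpace n R d) ≅ Twist.twistProjSpace n R' d :=
  Groth.Agent.Lib.helper11.TwistPull.pullbackTwistIso (polyMap n φ) (irrelevant_le_polyMap n φ)
    (Groth.Agent.Lib.helper28.TwistPn.hcov n R) d

end Ring

section Over
variable (n : ℕ) {Y : Scheme.{u}} (V : Y.Opens) (hV : IsAffineOpen V) (d : ℤ)

/-- `O_{P^n_Y}(d)` restricted to `p⁻¹ V` is the pullback of `O(d)` along the chart `θ`. -/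
noncomputable def restrictTwistOverIso :
    (Twist.twistOver n Y d).restrict (pr2 n Y ⁻¹ᵁ V).ι ≅
      (Scheme.Modules.pullback (theta n V hV).hom).obj (Twist.twistProjSpace n Γ(Y, V) d) :=
  (restrictFunctorIsoPullback (pr2 n Y ⁻¹ᵁ V).ι).app (Twist.twistOver n Y d) ≪≫
    (pullbackComp (pr2 n Y ⁻¹ᵁ V).ι (pr1 n Y)).app (Twist.twistProjSpace n (ULift.{u} ℤ) d) ≪≫
    (pullbackCongr (theta_hom_map n V hV).symm).app (Twist.twistProjSpace n (ULift.{u} ℤ) d) ≪≫
    ((pullbackComp (theta n V hV).hom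
      (Proj.map (polyMap n (zHom Γ(Y, V))) (irrelevant_le_polyMap n _))).app
        (Twist.twistProjSpace n (ULift.{u} ℤ) d)).symm ≪≫
    (Scheme.Modules.pullback (theta n V hV).hom).mapIso (polyTwistIso n (zHom Γ(Y, V)) d)

/-- transport of cohomology vanishing along an isomorphism of schemes -/
theorem subsingleton_HH_of_iso_pullback {W P : Scheme.{u}} (θ : W ⟶ P) [IsIso θ]
    (N : P.Modules) [N.IsQuasicoherent] (M : W.Modules)
    (e : M ≅ (Scheme.Modules.pullback θ).obj N) (q : ℕ)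
    (h : Subsingleton (Coh.HH P N q)) : Subsingleton (Coh.HH W M q) := by
  let M' : W.Modules := (restrictFunctor θ).obj N
  have hM' : M'.IsQuasicoherent := inferInstance
  have hu : IsIso ((restrictAdjunction θ).unit.app N) :=
    Groth.Agent.Lib.helper11.HUOpen.isIso_restrictAdjunction_unit_of_isIso θ N
  let e2 : N ≅ (pushforward θ).obj M' := @asIso _ _ _ _ ((restrictAdjunction θ).unit.app N) hu
  have h1 : Subsingleton (Coh.HH P ((Coh.push θ).obj M') q) :=
    Groth.Agent.Lib.Helper20.TwistEquivPn.subsingleton_of_iso e2 q h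
  have h2 : Subsingleton (Coh.HH W M' q) :=
    (Groth.Agent.Lib.Helper18.HH.subsingleton_iff_push θ M' q).mpr h1
  exact Groth.Agent.Lib.Helper20.TwistEquivPn.subsingleton_of_iso
    ((restrictFunctorIsoPullback θ).app N ≪≫ e.symm) q h2

/-- `H^q(p⁻¹ V, O_{P^n_Y}(d)) = 0` as soon as `H^q(P^n_{Γ(Y,V)}, O(d)) = 0`. -/
theorem subsingleton_HHon_twistOver (hV : IsAffineOpen V) (q : ℕ)
    (h : Subsingleton (Coh.HH (CohB1.ProjSpace n Γ(Y, V)) (Twist.twistProjSpace n Γ(Y, V) d) q)) :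
    Subsingleton (Coh.HHon (CohB1.ProjSpaceOver n Y) (Twist.twistOver n Y d)
      (CohB1.ProjSpaceOver.toBase n Y ⁻¹ᵁ V) q) :=
  @subsingleton_HH_of_iso_pullback _ _ (theta n V hV).hom _ (Twist.twistProjSpace n Γ(Y, V) d)
    (Groth.Agent.Lib.helper28.TwistPn.isQuasicoherent n Γ(Y, V) d) _
    (restrictTwistOverIso n V hV d) q h

end Over

end Groth.Agent.Lib.helper11.PnOverBridge
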