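import Mathlib
import Groth.Agent.Lib.Helper11.PnDef2
import Groth.Agent.Lib.Helper11.PnDef3
import Groth.Agent.Lib.Helper11.PnDef4
import Groth.Agent.Lib.Helper11.GEThick4
import Groth.Agent.Lib.Helper11.PnOverBridge
import Groth.Agent.Lib.Helper12.ProjG4
import Groth.Agent.Lib.Helper12.ProjUP6
import Groth.Agent.Lib.Helper19.ProjSpaceProper
import Groth.Agent.Lib.Helper28.GTwistQCoh
import Groth.Agent.S0844

/-!
# Deformations of projective space over a complete local ring are trivial (helper11; SGA1 III 5.x)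

`A` complete Noetherian local, `f : X ⟶ Spec A` proper flat with closed fibre `≅ P^r_k` over `k`: then
`X ≅ P^r_A` over `A` (`exists_iso_projSpace`).
-/

set_option autoImplicit false
set_option backward.isDefEq.respectTransparency false
universe u
open CategoryTheory CategoryTheory.Limits AlgebraicGeometry TopologicalSpace Opposite
open Scheme.Modules

namespace Groth.Agent.Lib.helper11.PnDef

open Groth.Agent.Lib.helper8.GENilIso Groth.Agent.Lib.helper12.ProjUP4
  Groth.Agent.Lib.helper12.ProjUP3 Groth.Agent.Lib.helper12.ProjUP5 Groth.Agent.Lib.helper12.ProjUP6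
  Groth.Agent.Lib.helper12.PnLocal Groth.Agent.Lib.helper11.InvMod
  Groth.Agent.Lib.helper11.IsoLocus

section zero

variable (A : Type u) [CommRing A] [IsLocalRing A]

theorem pow_zero_add_one : IsLocalRing.maximalIdeal A ^ (0 + 1) = IsLocalRing.maximalIdeal A := by
  rw [zero_add, pow_one]

/-- `Spec k ≅ Spec (A/m^1)` -/
noncomputable def specResQuot : Spec (CommRingCat.of (IsLocalRing.ResidueField A)) ⟶
    Spec (CommRingCat.of (A ⧸ IsLocalRing.maximalIdeal A ^ (0 + 1))) :=
  Spec.map (CommRingCat.ofHom (Ideal.quotEquivOfEq (pow_zero_add_one A)).toRingHom)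

instance isIso_specResQuot : IsIso (specResQuot A) := by
  haveI : IsIso (CommRingCat.ofHom (Ideal.quotEquivOfEq (pow_zero_add_one A)).toRingHom) :=
    inferInstanceAs (IsIso ((Ideal.quotEquivOfEq (pow_zero_add_one A)).toCommRingCatIso).hom)
  unfold specResQuot
  infer_instance

theorem specResQuot_specQuot :
    specResQuot A ≫ CohB1.specQuot (IsLocalRing.maximalIdeal A) 0 =
      Spec.map (CommRingCat.ofHom (IsLocalRing.residue A)) := by
  have hρ : ((Ideal.quotEquivOfEq (pow_zero_add_one A)).toRingHom).comp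
      (Ideal.Quotient.mk (IsLocalRing.maximalIdeal A ^ (0 + 1))) = IsLocalRing.residue A := by
    ext a
    rfl
  change Spec.map _ ≫ Spec.map _ = _
  rw [← Spec.map_comp, ← CommRingCat.ofHom_comp, hρ]

/-- a closed fibre `Y ×_A k` is the zeroth thickening -/
theorem exists_iso_thick_zero' {Y Y' : Scheme.{u}} (g : Y ⟶ Spec (CommRingCat.of A)) (g' : Y' ⟶ Y)
    (p : Y' ⟶ Spec (CommRingCat.of (IsLocalRing.ResidueField A)))
    (hpb : IsPullback g' p g (Spec.map (CommRingCat.ofHom (IsLocalRing.residue A)))) :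
    ∃ c : Y' ≅ CohB1.thick g (IsLocalRing.maximalIdeal A) 0,
      c.hom ≫ CohB1.thickι g (IsLocalRing.maximalIdeal A) 0 = g' ∧
      c.hom ≫ CohB1.thickToBase g (IsLocalRing.maximalIdeal A) 0 = p ≫ specResQuot A := by
  have hsq : IsPullback (Spec.map (CommRingCat.ofHom (IsLocalRing.residue A))) (specResQuot A) (𝟙 _)
      (CohB1.specQuot (IsLocalRing.maximalIdeal A) 0) :=
    IsPullback.of_vert_isIso ⟨by rw [Category.comp_id, specResQuot_specQuot]⟩
  have H1 := hpb.paste_vert hsq
  rw [Category.comp_id] at H1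
  have H3 : IsPullback (CohB1.thickι g (IsLocalRing.maximalIdeal A) 0)
      (CohB1.thickToBase g (IsLocalRing.maximalIdeal A) 0) g
      (CohB1.specQuot (IsLocalRing.maximalIdeal A) 0) := IsPullback.of_hasPullback _ _
  exact ⟨H1.isoIsPullback _ _ H3, H1.isoIsPullback_hom_fst _ _ H3, H1.isoIsPullback_hom_snd _ _ H3⟩

end zero

section main

variable (A : Type u) [CommRing A] [IsLocalRing A] [IsNoetherianRing A]
  [IsAdicComplete (IsLocalRing.maximalIdeal A) A] (r : ℕ)

/-- **deformations of `P^r` over a complete local ring are trivial** -/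
theorem exists_iso_projSpace {X : Scheme.{u}} (f : X ⟶ Spec (CommRingCat.of A)) [IsProper f] [Flat f]
    (e₀ : pullback f (Spec.map (CommRingCat.ofHom (IsLocalRing.residue A))) ≅
      CohB1.ProjSpace r (IsLocalRing.ResidueField A))
    (he₀ : e₀.hom ≫ CohB1.ProjSpace.toSpec r (IsLocalRing.ResidueField A) = pullback.snd f _) :
    ∃ e : X ≅ CohB1.ProjSpace r A, e.hom ≫ CohB1.ProjSpace.toSpec r A = f := by
  -- notation
  obtain ⟨i₀, hi₀⟩ : ∃ i₀ : pullback f (Spec.map (CommRingCat.ofHom (IsLocalRing.residue A))) ⟶ X,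
    i₀ = pullback.fst f _ := ⟨_, rfl⟩
  obtain ⟨q₀, hq₀⟩ : ∃ q₀ : pullback f (Spec.map (CommRingCat.ofHom (IsLocalRing.residue A))) ⟶
    Spec (CommRingCat.of (IsLocalRing.ResidueField A)), q₀ = pullback.snd f _ := ⟨_, rfl⟩
  have hpb : IsPullback i₀ q₀ f (Spec.map (CommRingCat.ofHom (IsLocalRing.residue A))) := by
    rw [hi₀, hq₀]; exact IsPullback.of_hasPullback _ _
  rw [← hq₀] at he₀
  -- the base change map of projective spaces
  obtain ⟨b, hb⟩ : ∃ b : Proj (CohB1.polyGrading r (IsLocalRing.ResidueField A)) ⟶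
      Proj (CohB1.polyGrading r A),
      b = Proj.map (polyMap r (IsLocalRing.residue A)) (irrelevant_le_polyMap r _) := ⟨_, rfl⟩
  have hbpb : IsPullback b (toSpecP r (IsLocalRing.ResidueField A)) (toSpecP r A)
      (Spec.map (CommRingCat.ofHom (IsLocalRing.residue A))) := by
    rw [hb]; exact isPullback_polyMap r (IsLocalRing.residue A)
  obtain ⟨β, hβ⟩ : ∃ β : pullback f (Spec.map (CommRingCat.ofHom (IsLocalRing.residue A))) ⟶
      Proj (CohB1.polyGrading r A), β = e₀.hom ≫ b := ⟨_, rfl⟩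
  have hβbase : β ≫ toSpecP r A = i₀ ≫ f := by
    rw [hβ, Category.assoc, hbpb.w, ← Category.assoc]
    have : e₀.hom ≫ toSpecP r (IsLocalRing.ResidueField A) = q₀ := he₀
    rw [this, hpb.w]
  -- the invertible module on the closed fibre
  have hO1 : PicF.IsInvertible (Twist.twist (CohB1.polyGrading r A) ((1 : ℕ) : ℤ)) :=
    isInvertible_twist_one
  have hL₀ : PicF.IsInvertible ((Scheme.Modules.pullback β).obj
      (Twist.twist (CohB1.polyGrading r A) ((1 : ℕ) : ℤ))) := isInvertible_pullback β hO1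
  -- cohomology of the closed fibre
  have h2 : Subsingleton (Coh.HH (pullback f (Spec.map (CommRingCat.ofHom (IsLocalRing.residue A))))
      (Coh.structureModule _) 2) := by
    refine Groth.Agent.Lib.Helper18.P1Euler.subsingleton_HH_structureModule_of_isIso e₀.hom 2 ?_
    have h := Groth.Agent.S0844.result (IsLocalRing.ResidueField A) r 0 2 (by omega) (by omega)
    exact Groth.Agent.Lib.Helper20.TwistEquivPn.subsingleton_of_iso
      (Groth.Agent.Lib.helper28.TwistPn.zeroIso r (IsLocalRing.ResidueField A)).symm 2 h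
  have h1 : Subsingleton (Coh.HH (pullback f (Spec.map (CommRingCat.ofHom (IsLocalRing.residue A))))
      ((Scheme.Modules.pullback β).obj (Twist.twist (CohB1.polyGrading r A) ((1 : ℕ) : ℤ))) 1) := by
    haveI : (Twist.twistProjSpace r (IsLocalRing.ResidueField A) 1).IsQuasicoherent :=
      Groth.Agent.Lib.helper28.GTwistQCoh.twist_isQuasicoherent _ _
    have h := Groth.Agent.S0844.result (IsLocalRing.ResidueField A) r 1 1 (by omega) (by omega)
    refine Groth.Agent.Lib.helper11.PnOverBridge.subsingleton_HH_of_iso_pullback e₀.hom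
      (Twist.twistProjSpace r (IsLocalRing.ResidueField A) 1) _ ?_ 1 h
    have e1 : (Scheme.Modules.pullback β).obj (Twist.twist (CohB1.polyGrading r A) ((1 : ℕ) : ℤ)) ≅
        (Scheme.Modules.pullback (e₀.hom ≫ b)).obj
          (Twist.twist (CohB1.polyGrading r A) ((1 : ℕ) : ℤ)) := (pullbackCongr hβ).app _
    subst hb
    exact e1 ≪≫ ((pullbackComp e₀.hom _).app _).symm ≪≫ (Scheme.Modules.pullback e₀.hom).mapIso
      (Groth.Agent.Lib.helper11.PnOverBridge.polyTwistIso r (IsLocalRing.residue A) 1)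
  -- the lift of the module
  obtain ⟨L, hL, ⟨ψ'⟩⟩ :=
    Groth.Agent.Lib.helper11.GEThick.exists_invertible_lift_closedFibre A f h2 _ hL₀
  have ψ : (Scheme.Modules.pullback i₀).obj L ≅ (Scheme.Modules.pullback β).obj
      (Twist.twist (CohB1.polyGrading r A) ((1 : ℕ) : ℤ)) := (pullbackCongr hi₀).app L ≪≫ ψ'
  letI : X.Over (Spec (CommRingCat.of A)) := ⟨f⟩
  haveI : IsProper (X ↘ Spec (CommRingCat.of A)) := ‹IsProper f›
  haveI : Flat (X ↘ Spec (CommRingCat.of A)) := ‹Flat f›
  have hpb' : IsPullback i₀ q₀ (X ↘ Spec (CommRingCat.of A))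
      (Spec.map (CommRingCat.ofHom (IsLocalRing.residue A))) := hpb
  have h1' : Subsingleton (Coh.HH (pullback f (Spec.map (CommRingCat.ofHom (IsLocalRing.residue A))))
      ((Scheme.Modules.pullback i₀).obj L) 1) :=
    Groth.Agent.Lib.Helper20.TwistEquivPn.subsingleton_of_iso ψ.symm 1 h1
  -- the lifts of the coordinate sections
  have hlift : ∀ l : Fin (r + 1), ∃ σ : Coh.structureModule X ⟶ L,
      pullHom i₀ σ = pullHom β (tP A r l) ≫ ψ.inv := fun l =>
    exists_lift_section_residue A X i₀ q₀ hpb' L hL h1' _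
  choose σ hσ using hlift
  -- they generate
  have hcov : ⨆ l, CohB1.genLocus L (σ l) = ⊤ := by
    refine iSup_genLocus_eq_top A X i₀ q₀ hpb' L hL σ (fun x' => ?_)
    obtain ⟨l, hl⟩ := Groth.Agent.Lib.helper28.TwistPn.exists_X_notMem r A (β x')
    refine ⟨l, ?_⟩
    rw [hσ l, genLocus_comp_of_isIso (pullHom β (tP A r l)) ψ.inv]
    have e : CohB1.genLocus _ (pullHom β (tP A r l)) = β ⁻¹ᵁ CohB1.genLocus _ (tP A r l) := by
      unfold pullHom
      exact Groth.Agent.Lib.helper11.InvPullback.genLocus_pullback β _ hO1 (tP A r l)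
        (pullbackUnitIso β).symm
    rw [e, genLocus_tP]
    exact (ProjectiveSpectrum.mem_basicOpen (CohB1.polyGrading r A) _ (β x')).mpr hl
  -- the morphism to projective space
  obtain ⟨ρ, hρ⟩ := exists_toProj f σ hcov
  have hρf : (show X ⟶ CohB1.ProjSpace r A from ρ) ≫ CohB1.ProjSpace.toSpec r A = f :=
    toProj_toSpec f σ hcov ρ hρ
  obtain ⟨τ, hτ⟩ := exists_iso_nu f σ ρ hρ hcov
  -- `i₀ ≫ ρ = β`
  have hfX : ∀ i : ULift.{u} (Fin (r + 1)),
      (MvPolynomial.X i.down : MvPolynomial (Fin (r + 1)) A) ∈ CohB1.polyGrading r A 1 :=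
    fun i => Groth.Agent.Lib.helper28.TwistPn.X_mem r A i.down
  have hcovP : ∀ x : ProjectiveSpectrum (CohB1.polyGrading r A),
      ∃ i : ULift.{u} (Fin (r + 1)),
        (MvPolynomial.X i.down : MvPolynomial (Fin (r + 1)) A) ∉ x.asHomogeneousIdeal := by
    intro x
    obtain ⟨i, hi⟩ := Groth.Agent.Lib.helper28.TwistPn.exists_X_notMem r A x
    exact ⟨⟨i⟩, hi⟩
  have hiρ : i₀ ≫ ρ = β := by
    refine Groth.Agent.Lib.helper12.ProjG.toProj_ext (𝒜 := CohB1.polyGrading r A)
      (f := fun i : ULift.{u} (Fin (r + 1)) =>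
        (MvPolynomial.X i.down : MvPolynomial (Fin (r + 1)) A))
      hfX hcovP ?_ (i₀ ≫ ρ) β ?_
      ((pullbackComp i₀ ρ).symm.app _ ≪≫ (Scheme.Modules.pullback i₀).mapIso τ ≪≫ ψ) ?_
    · intro B _ φ φ' h1 h2
      refine MvPolynomial.ringHom_ext (fun c => ?_) (fun l => h2 ⟨l⟩)
      exact congrArg (fun ψ : A →+* B => ψ c) h1
    · have e1 : (i₀ ≫ ρ) ≫ toSpecP r A = i₀ ≫ f := by
        rw [Category.assoc]; exact congrArg (i₀ ≫ ·) hρf
      exact e1.trans hβbase.symm
    · intro l
      change pullHom (i₀ ≫ ρ) (tP A r l.down) ≫ ((pullbackComp i₀ ρ).inv.app _ ≫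
        (Scheme.Modules.pullback i₀).map τ.hom ≫ ψ.hom) = pullHom β (tP A r l.down)
      rw [← Category.assoc, pullHom_comp_pullbackComp, ← Category.assoc,
        ← Groth.Agent.Lib.helper11.Algz.pullHom_comp]
      have : pullHom ρ (tP A r l.down) ≫ τ.hom = σ l.down := hτ l.down
      rw [this, hσ, Category.assoc, Iso.inv_hom_id, Category.comp_id]
  -- the induced map on the closed fibres is `e₀`
  letI : (CohB1.ProjSpace r A).Over (Spec (CommRingCat.of A)) := ⟨CohB1.ProjSpace.toSpec r A⟩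
  haveI : IsProper ((CohB1.ProjSpace r A) ↘ Spec (CommRingCat.of A)) :=
    Groth.Agent.Lib.helper19.ProjSpaceProper.proper_toSpec r A
  have hρf' : (show X ⟶ CohB1.ProjSpace r A from ρ) ≫
      ((CohB1.ProjSpace r A) ↘ Spec (CommRingCat.of A)) = X ↘ Spec (CommRingCat.of A) := hρf
  obtain ⟨cX, hcX1, hcX2⟩ := exists_iso_thick_zero' A (X ↘ Spec (CommRingCat.of A)) i₀ q₀ hpb'
  obtain ⟨cP, hcP1, hcP2⟩ := exists_iso_thick_zero' A
    ((CohB1.ProjSpace r A) ↘ Spec (CommRingCat.of A)) b (toSpecP r (IsLocalRing.ResidueField A)) hbpb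
  have h0 : IsIso (fn (IsLocalRing.maximalIdeal A) (show X ⟶ CohB1.ProjSpace r A from ρ) hρf' 0) := by
    have e : cX.hom ≫ fn (IsLocalRing.maximalIdeal A) (show X ⟶ CohB1.ProjSpace r A from ρ) hρf' 0 =
        e₀.hom ≫ cP.hom := by
      refine pullback.hom_ext (f := (CohB1.ProjSpace r A) ↘ Spec (CommRingCat.of A))
        (g := CohB1.specQuot (IsLocalRing.maximalIdeal A) 0) ?_ ?_
      · have e1 := fn_ι (IsLocalRing.maximalIdeal A) (show X ⟶ CohB1.ProjSpace r A from ρ) hρf' 0
        calc (cX.hom ≫ fn _ _ hρf' 0) ≫ pullback.fst _ _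
            = cX.hom ≫ CohB1.thickι (X ↘ Spec (CommRingCat.of A)) _ 0 ≫ ρ := by
              rw [Category.assoc]; exact congrArg (cX.hom ≫ ·) e1
          _ = i₀ ≫ ρ := by rw [← Category.assoc, hcX1]
          _ = e₀.hom ≫ b := by rw [hiρ, hβ]
          _ = (e₀.hom ≫ cP.hom) ≫ pullback.fst _ _ := by
              rw [Category.assoc]; exact congrArg (e₀.hom ≫ ·) hcP1.symm
      · have e1 := fn_toBase (IsLocalRing.maximalIdeal A) (show X ⟶ CohB1.ProjSpace r A from ρ) hρf' 0
        calc (cX.hom ≫ fn _ _ hρf' 0) ≫ pullback.snd _ _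
            = cX.hom ≫ CohB1.thickToBase (X ↘ Spec (CommRingCat.of A)) _ 0 := by
              rw [Category.assoc]; exact congrArg (cX.hom ≫ ·) e1
          _ = q₀ ≫ specResQuot A := hcX2
          _ = e₀.hom ≫ toSpecP r (IsLocalRing.ResidueField A) ≫ specResQuot A := by
              rw [← Category.assoc]; exact congrArg (· ≫ specResQuot A) he₀.symm
          _ = (e₀.hom ≫ cP.hom) ≫ pullback.snd _ _ := by
              rw [Category.assoc]; exact congrArg (e₀.hom ≫ ·) hcP2.symm
    have e' : fn (IsLocalRing.maximalIdeal A) (show X ⟶ CohB1.ProjSpace r A from ρ) hρf' 0 =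
        cX.inv ≫ e₀.hom ≫ cP.hom := by rw [← e, Iso.inv_hom_id_assoc]
    rw [e']
    infer_instance
  have hn := isIso_fn_of_flat (IsLocalRing.maximalIdeal A) (show X ⟶ CohB1.ProjSpace r A from ρ)
    hρf' h0
  haveI : IsIso (show X ⟶ CohB1.ProjSpace r A from ρ) :=
    isIso_of_isIso_fn (show X ⟶ CohB1.ProjSpace r A from ρ) hρf' hn
  exact ⟨asIso (show X ⟶ CohB1.ProjSpace r A from ρ), hρf⟩

end main

end Groth.Agent.Lib.helper11.PnDef
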