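import Mathlib
import Groth.Agent.Lib.Helper11.LfpNhd

/-!
# Fibre products with spectra of "profinite" algebras (directed unions of `k^n`)
(helper11; for S7460)
-/

universe u

open CategoryTheory CategoryTheory.Limits AlgebraicGeometry Opposite TensorProduct

namespace Groth.Agent.Lib.helper11.ProfAlg

/-- Rewriting a sum of products whose first factors lie in a subalgebra isomorphic to `k^n` as a
sum over a complete system of orthogonal idempotents. -/
theorem decomp {k : Type*} [Field k] {A : Type*} [CommRing A] [Algebra k A] (B : Subalgebra k A)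
    {n : ℕ} (e : B ≃ₐ[k] (Fin n → k)) {R G : Type*} [CommRing R] [CommRing G] (φ : A →+* G)
    (ψ : R →+* G) (κ : k →+* R) (hcomp : φ.comp (algebraMap k A) = ψ.comp κ) {J : Type*}
    [Fintype J] (α : J → A) (hα : ∀ j, α j ∈ B) (r : J → R) :
    ∃ (E : Fin n → A) (R' : Fin n → R), (∀ i, E i * E i = E i) ∧
      (∀ i i', i ≠ i' → E i * E i' = 0) ∧ ∑ i, E i = 1 ∧
      ∑ j, φ (α j) * ψ (r j) = ∑ i, φ (E i) * ψ (R' i) := by
  classical
  let E' : Fin n → B := fun i => e.symm (Pi.single i 1)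
  let c : J → Fin n → k := fun j => e ⟨α j, hα j⟩
  have hE1 : ∀ i, E' i * E' i = E' i := by
    intro i
    change e.symm _ * e.symm _ = e.symm _
    rw [← map_mul]
    congr 1
    ext x
    simp only [Pi.mul_apply, Pi.single_apply]
    split_ifs <;> simp
  have hE2 : ∀ i i', i ≠ i' → E' i * E' i' = 0 := by
    intro i i' hii'
    change e.symm _ * e.symm _ = 0
    rw [← map_mul, ← map_zero e.symm]
    congr 1
    ext x
    simp only [Pi.mul_apply, Pi.single_apply, Pi.zero_apply]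
    split_ifs with h1 h2
    · exact absurd (h1.symm.trans h2) hii'
    · simp
    · simp
    · simp
  have hE3 : ∑ i, E' i = 1 := by
    change ∑ i, e.symm (Pi.single i 1) = 1
    rw [← map_sum, ← map_one e.symm]
    congr 1
    exact Finset.univ_sum_single (1 : Fin n → k)
  have hα' : ∀ j, (⟨α j, hα j⟩ : B) = ∑ i, c j i • E' i := by
    intro j
    change _ = ∑ i, c j i • e.symm (Pi.single i 1)
    simp_rw [← map_smul, ← map_sum]
    rw [AlgEquiv.eq_symm_apply]
    change c j = _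
    conv_lhs => rw [← Finset.univ_sum_single (c j)]
    refine Finset.sum_congr rfl fun i _ => ?_
    ext x
    simp [Pi.single_apply]
  have hα'' : ∀ j, α j = ∑ i, algebraMap k A (c j i) * (E' i : A) := by
    intro j
    have := congrArg (Subtype.val) (hα' j)
    simp only [AddSubmonoidClass.coe_finsetSum, Subalgebra.coe_smul] at this
    rw [this]
    refine Finset.sum_congr rfl fun i _ => ?_
    rw [Algebra.smul_def]
  have hφ : ∀ x : k, φ (algebraMap k A x) = ψ (κ x) := fun x => RingHom.congr_fun hcomp x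
  refine ⟨fun i => (E' i : A), fun i => ∑ j, κ (c j i) * r j, ?_, ?_, ?_, ?_⟩
  · intro i
    have := congrArg Subtype.val (hE1 i)
    simpa using this
  · intro i i' h
    have := congrArg Subtype.val (hE2 i i' h)
    simpa using this
  · have := congrArg Subtype.val hE3
    simpa using this
  · calc ∑ j, φ (α j) * ψ (r j)
        = ∑ j, ∑ i, φ (E' i : A) * (ψ (κ (c j i)) * ψ (r j)) := by
          refine Finset.sum_congr rfl fun j _ => ?_
          rw [hα'' j, map_sum, Finset.sum_mul]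
          refine Finset.sum_congr rfl fun i _ => ?_
          rw [map_mul, hφ]
          ring
      _ = ∑ i, ∑ j, φ (E' i : A) * (ψ (κ (c j i)) * ψ (r j)) := Finset.sum_comm
      _ = ∑ i, φ (E' i : A) * ψ (∑ j, κ (c j i) * r j) := by
          refine Finset.sum_congr rfl fun i _ => ?_
          rw [map_sum, Finset.mul_sum]
          refine Finset.sum_congr rfl fun j _ => ?_
          rw [map_mul]

theorem exists_mem_basicOpen_of_sum {P : Scheme.{u}} {U : P.Opens} {ι : Type*} (s : Finset ι)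
    (g : ι → Γ(P, U)) (p : P) (hp : p ∈ P.basicOpen (∑ i ∈ s, g i)) :
    ∃ i ∈ s, p ∈ P.basicOpen (g i) := by
  classical
  induction s using Finset.induction_on with
  | empty =>
    rw [Finset.sum_empty, Scheme.basicOpen_zero] at hp
    exact absurd hp (by simp)
  | insert a s ha ih =>
    rw [Finset.sum_insert ha] at hp
    have := Scheme.basicOpen_add_le _ _ _ hp
    rcases this with h | h
    · exact ⟨a, Finset.mem_insert_self a s, h⟩
    · obtain ⟨i, hi, hpi⟩ := ih h
      exact ⟨i, Finset.mem_insert_of_mem hi, hpi⟩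

theorem basicOpen_decomp {P : Scheme.{u}} {U : P.Opens} {n : ℕ} (E R : Fin n → Γ(P, U))
    (hE1 : ∀ i, E i * E i = E i) (hE2 : ∀ i i', i ≠ i' → E i * E i' = 0) (hE3 : ∑ i, E i = 1)
    (p : P) (hp : p ∈ P.basicOpen (∑ i, E i * R i)) :
    ∃ i, p ∈ P.basicOpen (E i) ⊓ P.basicOpen (R i) ∧
      P.basicOpen (E i) ⊓ P.basicOpen (R i) ≤ P.basicOpen (∑ i, E i * R i) := by
  classical
  have hpU : p ∈ U := P.basicOpen_le _ hp
  have h1 : p ∈ P.basicOpen (∑ i, E i) := by
    rw [hE3, Scheme.basicOpen_of_isUnit _ isUnit_one]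
    exact hpU
  obtain ⟨i₀, -, hi₀⟩ := exists_mem_basicOpen_of_sum Finset.univ E p h1
  have key : (∑ i, E i * R i) * E i₀ = E i₀ * R i₀ := by
    rw [Finset.sum_mul, Finset.sum_eq_single i₀]
    · rw [mul_comm (E i₀) (R i₀), mul_assoc, hE1, mul_comm]
    · intro i _ hi
      rw [mul_comm (E i) (R i), mul_assoc, hE2 i i₀ hi, mul_zero]
    · intro h; exact absurd (Finset.mem_univ _) h
  have heq : P.basicOpen (E i₀) ⊓ P.basicOpen (R i₀) =
      P.basicOpen (∑ i, E i * R i) ⊓ P.basicOpen (E i₀) := by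
    rw [← Scheme.basicOpen_mul, ← Scheme.basicOpen_mul, key]
  refine ⟨i₀, ?_, ?_⟩
  · rw [heq]
    exact ⟨hp, hi₀⟩
  · rw [heq]
    exact inf_le_left

open Groth.Agent.Lib.helper11 in
/-- Every open neighbourhood of a point of `Spec A ×_k X` contains a "box"
`fst⁻¹ V ⊓ snd⁻¹ W` around the point. -/
theorem exists_box (k : Type u) [Field k] (A : Type u) [CommRing A] [Algebra k A]
    (hA : ∀ s : Finset A, ∃ (B : Subalgebra k A) (n : ℕ), (↑s : Set A) ⊆ (B : Set A) ∧
      Nonempty (B ≃ₐ[k] (Fin n → k)))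
    (X : Scheme.{u}) (f : X ⟶ Spec (CommRingCat.of k))
    (a : Spec (CommRingCat.of A) ⟶ Spec (CommRingCat.of k))
    (ha : a = Spec.map (CommRingCat.ofHom (algebraMap k A)))
    (O : (pullback a f).Opens) (p : ↑(pullback a f)) (hp : p ∈ O) :
    ∃ (V : (Spec (CommRingCat.of A)).Opens) (W : X.Opens),
      p ∈ pullback.fst a f ⁻¹ᵁ V ⊓ pullback.snd a f ⁻¹ᵁ W ∧
      pullback.fst a f ⁻¹ᵁ V ⊓ pullback.snd a f ⁻¹ᵁ W ≤ O := by
  classical
  have H : IsPullback (pullback.fst a f) (pullback.snd a f) a f := IsPullback.of_hasPullback a f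
  obtain ⟨U, hU, hpU, -⟩ := exists_isAffineOpen_mem_and_subset
    (x := pullback.snd a f p) (U := ⊤) trivial
  have hUST : U ≤ f ⁻¹ᵁ ⊤ := le_top
  have hUSX : (⊤ : (Spec (CommRingCat.of A)).Opens) ≤ a ⁻¹ᵁ ⊤ := le_top
  obtain ⟨UY, hUY⟩ : ∃ UY : (pullback a f).Opens,
      UY = pullback.fst a f ⁻¹ᵁ ⊤ ⊓ pullback.snd a f ⁻¹ᵁ U := ⟨_, rfl⟩
  have hUYa : IsAffineOpen UY := LfpNhd.isAffineOpen_of_isPullback H hUST hUSX hUY
    (isAffineOpen_top _) hU (isAffineOpen_top _)
  have hpUY : p ∈ UY := by rw [hUY]; exact ⟨trivial, hpU⟩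
  obtain ⟨t, htO, hpt⟩ := hUYa.exists_basicOpen_le ⟨p, hp⟩ hpUY
  obtain ⟨J, _, a', r, -, ht⟩ := LfpNhd.isSumProd_section H hUST hUSX hUY
    (isAffineOpen_top _) hU (isAffineOpen_top _) t
  set φ := ((pullback.fst a f).appLE ⊤ UY (LfpNhd.le_fst hUY)).hom with hφ
  set ψ := ((pullback.snd a f).appLE U UY (LfpNhd.le_snd hUY)).hom with hψ
  let α : J → A := fun j => (Scheme.ΓSpecIso (CommRingCat.of A)).hom.hom (a' j)
  obtain ⟨B, n, hsB, ⟨e⟩⟩ := hA (Finset.univ.image α)
  have hα : ∀ j, α j ∈ B := fun j => hsB (by simp)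
  let φ' : A →+* Γ(pullback a f, UY) := φ.comp (Scheme.ΓSpecIso (CommRingCat.of A)).inv.hom
  let κ : k →+* Γ(X, U) := (f.appLE ⊤ U le_top).hom.comp (Scheme.ΓSpecIso (CommRingCat.of k)).inv.hom
  have hcomp : φ'.comp (algebraMap k A) = ψ.comp κ := by
    have h1 : CommRingCat.ofHom (algebraMap k A) ≫ (Scheme.ΓSpecIso (CommRingCat.of A)).inv ≫
        (pullback.fst a f).appLE ⊤ UY (LfpNhd.le_fst hUY) =
        (Scheme.ΓSpecIso (CommRingCat.of k)).inv ≫ f.appLE ⊤ U le_top ≫
          (pullback.snd a f).appLE U UY (LfpNhd.le_snd hUY) := by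
      rw [Scheme.ΓSpecIso_inv_naturality_assoc, Scheme.Hom.appLE_comp_appLE]
      congr 1
      have h2 : a.appTop = a.appLE ⊤ ⊤ le_top := by
        rw [Scheme.Hom.appLE, Scheme.Hom.appTop]
        simp
      rw [← ha, h2, Scheme.Hom.appLE_comp_appLE]
      exact LfpNhd.appLE_eq_of_eq pullback.condition _ _ _
    exact congrArg CommRingCat.Hom.hom h1
  have hφα : ∀ j, φ' (α j) = φ (a' j) := by
    intro j
    change φ ((Scheme.ΓSpecIso (CommRingCat.of A)).inv.hom
      ((Scheme.ΓSpecIso (CommRingCat.of A)).hom.hom (a' j))) = _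
    congr 1
    exact congr($((Scheme.ΓSpecIso (CommRingCat.of A)).hom_inv_id).hom (a' j))
  obtain ⟨E, R', hE1, hE2, hE3, hsum⟩ := decomp B e φ' ψ κ hcomp α hα r
  have ht' : t = ∑ i, φ' (E i) * ψ (R' i) := by
    rw [ht, ← hsum]
    exact Finset.sum_congr rfl fun j _ => by rw [hφα]
  obtain ⟨i₀, hpi, hle⟩ := basicOpen_decomp (fun i => φ' (E i)) (fun i => ψ (R' i))
    (fun i => by rw [← map_mul, hE1]) (fun i i' h => by rw [← map_mul, hE2 i i' h, map_zero])
    (by rw [← map_sum, hE3, map_one]) p (by rw [← ht']; exact hpt)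
  rw [← ht'] at hle
  have hb1 : (pullback a f).basicOpen (φ' (E i₀)) = UY ⊓ pullback.fst a f ⁻¹ᵁ
      ((Spec (CommRingCat.of A)).basicOpen
        ((Scheme.ΓSpecIso (CommRingCat.of A)).inv.hom (E i₀))) :=
    Scheme.basicOpen_appLE _ _ _ _ _
  have hb2 : (pullback a f).basicOpen (ψ (R' i₀)) = UY ⊓ pullback.snd a f ⁻¹ᵁ
      (X.basicOpen (R' i₀)) := Scheme.basicOpen_appLE _ _ _ _ _
  rw [hb1, hb2] at hpi hle
  refine ⟨_, _, ⟨hpi.1.2, hpi.2.2⟩, ?_⟩
  intro x hx
  have hxUY : x ∈ UY := by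
    rw [hUY]
    exact ⟨trivial, X.basicOpen_le _ hx.2⟩
  exact htO (hle ⟨⟨hxUY, hx.1⟩, ⟨hxUY, hx.2⟩⟩)

theorem main_aux (k : Type u) [Field k] (A : Type u) [CommRing A] [Algebra k A]
    (hA : ∀ s : Finset A, ∃ (B : Subalgebra k A) (n : ℕ), (↑s : Set A) ⊆ (B : Set A) ∧
      Nonempty (B ≃ₐ[k] (Fin n → k)))
    (X : Scheme.{u}) (f : X ⟶ Spec (CommRingCat.of k))
    (a : Spec (CommRingCat.of A) ⟶ Spec (CommRingCat.of k))
    (ha : a = Spec.map (CommRingCat.ofHom (algebraMap k A))) :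
    IsHomeomorph (fun p : ↑(pullback a f) => (pullback.fst a f p, pullback.snd a f p)) := by
  have hcont : Continuous (fun p : ↑(pullback a f) => (pullback.fst a f p, pullback.snd a f p)) :=
    (pullback.fst a f).continuous.prodMk (pullback.snd a f).continuous
  have hind : Topology.IsInducing
      (fun p : ↑(pullback a f) => (pullback.fst a f p, pullback.snd a f p)) := by
    rw [Topology.isInducing_iff]
    apply le_antisymm
    · exact continuous_iff_le_induced.mp hcont
    · intro O hO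
      rw [isOpen_induced_iff]
      choose V W hpVW hVWO using fun (p : O) =>
        exists_box k A hA X f a ha ⟨O, hO⟩ p.1 p.2
      refine ⟨⋃ p : O, (V p : Set _) ×ˢ (W p : Set _),
        isOpen_iUnion (fun p => (V p).isOpen.prod (W p).isOpen), ?_⟩
      ext x
      simp only [Set.mem_preimage, Set.mem_iUnion, Set.mem_prod]
      constructor
      · rintro ⟨q, hq1, hq2⟩
        exact hVWO q ⟨hq1, hq2⟩
      · intro hx
        exact ⟨⟨x, hx⟩, (hpVW ⟨x, hx⟩).1, (hpVW ⟨x, hx⟩).2⟩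
  rw [isHomeomorph_iff_isEmbedding_surjective]
  refine ⟨⟨hind, hind.injective⟩, ?_⟩
  rintro ⟨x, y⟩
  haveI : Subsingleton ↑(Spec (CommRingCat.of k)) :=
    inferInstanceAs (Subsingleton (PrimeSpectrum k))
  obtain ⟨z, hz1, hz2⟩ := Scheme.Pullback.exists_preimage_pullback (f := a) (g := f) x y
    (Subsingleton.elim _ _)
  exact ⟨z, Prod.ext hz1 hz2⟩

theorem main (k : Type u) [Field k] (A : Type u) [CommRing A] [Algebra k A]
    (hA : ∀ s : Finset A, ∃ (B : Subalgebra k A) (n : ℕ), (↑s : Set A) ⊆ (B : Set A) ∧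
      Nonempty (B ≃ₐ[k] (Fin n → k)))
    (X : Scheme.{u}) (f : X ⟶ Spec (CommRingCat.of k)) :
    IsHomeomorph (fun p : ↑(pullback (Spec.map (CommRingCat.ofHom (algebraMap k A))) f) =>
      (pullback.fst (Spec.map (CommRingCat.ofHom (algebraMap k A))) f p,
        pullback.snd (Spec.map (CommRingCat.ofHom (algebraMap k A))) f p)) :=
  main_aux k A hA X f _ rfl

end Groth.Agent.Lib.helper11.ProfAlg
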