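import Mathlib
import Groth.Agent.Lib.Helper11.RelAmpleVan
import Groth.Agent.Lib.Helper11.RpushAbBridge
import Groth.Agent.Lib.Helper11.AmpOver
import Groth.Agent.Lib.Helper11.ProjFormulaC
import Groth.Agent.Lib.Helper11.ConsMod1
import Groth.Agent.Lib.Helper8.SupportProper
import Groth.Agent.Lib.Helper8.RpushClosed
import Groth.Agent.Lib.Helper12.PullAmple
import Groth.Agent.Lib.Helper12.TensorInv
import Groth.Agent.Lib.Helper16.FLF5

/-!
# Vanishing of `R^p f_*(K ⊗ L^n)` for `K` coherent with support proper over the base (helper11)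

`f : X ⟶ Y` of finite type, `Y` Noetherian, `L` relatively ample, `K` coherent with support proper over `Y`:
`∃ N, ∀ n ≥ N, ∀ p > 0, R^p f_*(K ⊗ L^n) = 0` (via the scheme-theoretic support and S0055).
-/

set_option autoImplicit false
universe u

open CategoryTheory CategoryTheory.Limits AlgebraicGeometry Opposite TopologicalSpace
open Scheme.Modules

namespace Groth.Agent.Lib.helper11.PropSuppVan

variable {X Y : Scheme.{u}}

open Groth.Agent.Lib.Helper20.TensorEquiv in
theorem exists_isZero_rpush_twist (f : X ⟶ Y) [IsNoetherian Y] [LocallyOfFiniteType f]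
    [QuasiCompact f] [HasInjectiveResolutions X.Modules]
    (L : X.Modules) (hL : PicF.IsInvertible L) (hamp : RelAmple.IsRelAmple f L)
    (K : X.Modules) (hK : Coh.IsCoh K) (hs : ClSub.IsProperOver f (CohB1.support K)) :
    ∃ N : ℕ, ∀ n : ℕ, N ≤ n → ∀ p : ℕ, 0 < p →
      IsZero ((Coh.Rpush f p).obj (CohB1.tensorMod K (CohB1.tensorPow L n))) := by
  haveI : K.IsQuasicoherent := hK.1
  let J := Groth.Agent.Lib.helper8.SchemeSupport.annIdeal K hK.2
  let i : J.subscheme ⟶ X := J.subschemeι
  haveI : HasInjectiveResolutions J.subscheme.Modules :=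
    Groth.Agent.Lib.helper21.ModOpenBC.hasInjectiveResolutions_modules _
  haveI : IsProper (i ≫ f) :=
    Groth.Agent.Lib.helper8.SchemeSupport.isProper_annIdeal_subschemeι_comp f K hK.2 hs
  haveI : IsIso ((pullbackPushforwardAdjunction i).unit.app K) :=
    Groth.Agent.Lib.helper8.SchemeSupport.isIso_unit_annIdeal K hK.2
  have hiL : PicF.IsInvertible ((Scheme.Modules.pullback i).obj L) :=
    Groth.Agent.Lib.helper11.InvMod.isInvertible_pullback i hL
  have hiK : Coh.IsCoh ((Scheme.Modules.pullback i).obj K) :=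
    Groth.Agent.Lib.helper11.ConsMod.isCoh_pullback i K hK
  have hover : Groth.Agent.Lib.helper11.RelAmpLocus.AmpOver f L ⊤ :=
    fun B _ hB => hamp.2 ⟨B, hB⟩
  have hover' := Groth.Agent.Lib.helper11.RelAmpLocus.AmpOver.pullback_of_isAffineHom i hover
  obtain ⟨N, hN⟩ := Groth.Agent.Lib.helper11.RelAmpleVan.isZero_RpushAb_twist (i ≫ f)
    ((Scheme.Modules.pullback i).obj L) hiL (fun W hW => hover' W le_top hW)
    ((Scheme.Modules.pullback i).obj K) hiK
  refine ⟨N, fun n hn p hp => ?_⟩
  have h1 := Groth.Agent.Lib.helper11.RpushAbBridge.isZero_rpush_of_isZero_rpushAb (i ≫ f) p _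
    (hN n hn p hp)
  obtain ⟨e2⟩ := Groth.Agent.Lib.helper8.RpushClosed.nonempty_rpush_push_iso i f
    (CohB1.tensorMod ((Scheme.Modules.pullback i).obj K)
      (CohB1.tensorPow ((Scheme.Modules.pullback i).obj L) n)) p
  have hE : FlatMod.IsFinLocFree (CohB1.tensorPow L n) :=
    Groth.Agent.Lib.helper16.FLF.isFinLocFree_of_isInvertible
      (Groth.Agent.Lib.helper12.TensorInv.isInvertible_tensorPow hL n)
  let e1 : CohB1.tensorMod K (CohB1.tensorPow L n) ≅
      (Scheme.Modules.pushforward i).obj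
        (CohB1.tensorMod ((Scheme.Modules.pullback i).obj K)
          (CohB1.tensorPow ((Scheme.Modules.pullback i).obj L) n)) :=
    (tensorRight (CohB1.tensorPow L n)).mapIso
        (asIso ((pullbackPushforwardAdjunction i).unit.app K)) ≪≫
      (Groth.Agent.Lib.helper11.ProjFormula.projIso i hE).app ((Scheme.Modules.pullback i).obj K) ≪≫
      (Scheme.Modules.pushforward i).mapIso
        (PicGrp.tensorModIso (Iso.refl _)
          (Groth.Agent.Lib.helper12.PullAmple.pullTensorPowIso i hL n))
  exact IsZero.of_iso h1 ((Coh.Rpush f p).mapIso e1 ≪≫ e2)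

end Groth.Agent.Lib.helper11.PropSuppVan
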