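import Groth.Agent.Lib.Helper11.JStar

/-!
# Inverse images of locally presented modules (helper11)

`i : Z ⟶ X` a continuous map, `c : O_X ⟶ i_* O_Z` a morphism of sheaves of rings, `f` the
corresponding morphism of ringed spaces.  If an `O_X`-module `M` has local generators `m` and
local relations `a` over `U` (`LocSpan`, `LocSyz`), then `f^* M` has local generators
`unit (m)` and local relations `c (a)` over `i⁻¹ U`: `locSpan_pull`, `locSyz_pull`.
-/

set_option autoImplicit false
set_option backward.isDefEq.respectTransparency false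
universe u
open CategoryTheory CategoryTheory.Limits TopologicalSpace Opposite

namespace Groth.Agent.Lib.helper11.PullPres

open Groth.Agent.Lib.helper11.OverGen Groth.Agent.Lib.helper11.FreeSec
  Groth.Agent.Lib.helper11.LocGen Groth.Agent.Lib.helper11.LocPres
  Groth.Agent.Lib.helper11.LocGenExt Groth.Agent.Lib.helper11.OverPres
  Groth.Agent.Lib.helper11.PushSec Groth.Agent.Lib.helper11.ClosedPushMod
  Groth.Agent.Lib.helper11.JStar Groth.Agent.Lib.helper11.LocHom

variable {Z X : TopCat.{u}} (i : Z ⟶ X)
  {O_Z : TopCat.Sheaf CommRingCat.{u} Z} {O_X : TopCat.Sheaf CommRingCat.{u} X}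
  (c : O_X ⟶ ((TopologicalSpace.Opens.map i).sheafPushforwardContinuous CommRingCat.{u}
      (Opens.grothendieckTopology X) (Opens.grothendieckTopology Z)).obj O_Z)

/-- the morphism of ringed spaces -/
noncomputable abbrev f : ModSite.RMor O_Z O_X := ModSite.RMor.ofFlat (TopologicalSpace.Opens.map i) c

variable (M : ModSite.Mod O_X) {I K : Type u} [Fintype I] [Fintype K] (U : Opens X)
  (m : I → M.val.obj (op U)) (a : K → I → (ModSite.ringSh O_X).obj.obj (op U))

/-- the pulled back generators -/
noncomputable def m' (l : I) : ((f i c).pull.obj M).val.obj (op ((Opens.map i).obj U)) :=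
  ofPush i c ((f i c).pull.obj M) U ((((f i c).adj.unit.app M).val.app (op U)).hom (m l))

/-- the pulled back relations -/
noncomputable def a' (κ : K) (l : I) : (ModSite.ringSh O_Z).obj.obj (op ((Opens.map i).obj U)) :=
  cS i c U (a κ l)

/-- every object of `Over U` is of the form `D → U` -/
theorem exists_ov {T : TopCat.{u}} (U : Opens T) (Y : Over U) :
    ∃ (D : Opens T) (hD : D ≤ U), Y = ov U hD := by
  refine ⟨Y.left, Y.hom.le, ?_⟩
  obtain ⟨l, ⟨⟨⟩⟩, h⟩ := Y
  rfl

/-- the value of the adjunct on sections -/
theorem homEquiv_app {W : ModSite.Mod O_Z} (ψ : (f i c).pull.obj M ⟶ W) (V : Opens X)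
    (y : M.val.obj (op V)) :
    ofPush i c W V (((((f i c).adj.homEquiv M W) ψ).val.app (op V)).hom y) =
      (ψ.val.app (op ((Opens.map i).obj V))).hom
        (ofPush i c ((f i c).pull.obj M) V ((((f i c).adj.unit.app M).val.app (op V)).hom y)) := by
  rw [Adjunction.homEquiv_unit]
  rfl

/-- the pushforward of `j_* N` is determined on `U` -/
theorem resM_push_jStar_bijective (N : SheafOfModules.{u} ((ModSite.ringSh O_Z).over ((Opens.map i).obj U)))
    (V : Opens X) :
    Function.Bijective (resM ((f i c).push.obj (jStar ((Opens.map i).obj U) N))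
      (inf_le_left : V ⊓ U ≤ V)) :=
  JStar.resM_bijective ((Opens.map i).obj U) N ((Opens.map i).obj V)

/-- **the inverse image of a locally generated module is locally generated by the images of the
generators** -/
theorem locSpan_pull (hgen : LocSpan M U m) :
    LocSpan ((f i c).pull.obj M) ((Opens.map i).obj U) (m' i c M U m) := by
  set F := (f i c).pull.obj M with hF
  set U' := (Opens.map i).obj U with hU'
  set σ := (F.over U').freeHomEquiv.symm (fun l => secOver F U' (m' i c M U m l)) with hσ
  haveI : Epi σ := by
    apply Abelian.epi_of_cokernel_π_eq_zero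
    -- the adjunct of the cokernel projection
    set q := cokernel.π σ with hq
    set qb : F ⟶ jStar U' (cokernel σ) := unitJ U' F ≫ jMap U' q with hqb
    have hval : ∀ (D : Opens Z) (hD : D ≤ U') (y : F.val.obj (op D)),
        jOut U' (cokernel σ) hD ((qb.val.app (op D)).hom y) = (q.val.app (op (ov U' hD))).hom y := by
      intro D hD y
      have h1 := jOut_jMap U' q hD (((unitJ U' F).val.app (op D)).hom y)
      rw [jOut_unitJ] at h1
      exact h1
    have hqbb : ((f i c).adj.homEquiv M (jStar U' (cokernel σ))) qb = 0 := by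
      refine hom_ext_of_locSpan U m hgen
        (fun V => (resM_push_jStar_bijective i c U (cokernel σ) V).1) _ _ (fun l => ?_)
      have h0 : ((0 : M ⟶ (f i c).push.obj (jStar U' (cokernel σ))).val.app (op U)).hom (m l) = 0 :=
        rfl
      rw [h0]
      have h1 := homEquiv_app i c M qb U (m l)
      have h2 := hval U' le_rfl (m' i c M U m l)
      have h3 : (q.val.app (op (ov U' le_rfl))).hom (m' i c M U m l) = 0 := by
        have h4 : σ ≫ q = 0 := cokernel.condition σ
        have h5 := congrArg (fun φ => (φ.val.app (op (ov U' le_rfl))).hom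
          (secVal (SheafOfModules.freeSection (R := (ModSite.ringSh O_Z).over U') l)
            (op (ov U' le_rfl)))) h4
        have h6 := π_freeSection (fun l => secOver F U' (m' i c M U m l)) l (op (ov U' le_rfl))
        have h7 : secVal (secOver F U' (m' i c M U m l)) (op (ov U' le_rfl)) = m' i c M U m l :=
          resM_refl F le_rfl _
        rw [h7] at h6
        change (q.val.app (op (ov U' le_rfl))).hom ((σ.val.app (op (ov U' le_rfl))).hom _) = 0 at h5
        rw [h6] at h5
        exact h5
      rw [h3] at h2
      have h8 : ofPush i c (jStar U' (cokernel σ)) U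
          (((((f i c).adj.homEquiv M (jStar U' (cokernel σ))) qb).val.app (op U)).hom (m l)) = 0 := by
        rw [h1]
        apply (jOut_bijective U' (cokernel σ) le_rfl).1
        rw [jOut_zero]
        exact h2
      exact h8
    have hqb0 : qb = 0 := by
      apply ((f i c).adj.homEquiv M (jStar U' (cokernel σ))).injective
      rw [hqbb, Adjunction.homEquiv_unit, Functor.map_zero, comp_zero]
    apply SheafOfModules.hom_ext
    apply PresheafOfModules.hom_ext
    intro Y
    induction Y using Opposite.rec with | _ Y => ?_
    obtain ⟨D, hD, rfl⟩ := exists_ov U' Y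
    ext y
    have h1 := hval D hD y
    rw [hqb0] at h1
    refine h1.symm.trans ?_
    exact jOut_zero U' (cokernel σ) hD
  exact locSpan_of_epi U' (m' i c M U m)

section OverCoker

variable {T : TopCat.{u}} {R : Sheaf (Opens.grothendieckTopology T) RingCat.{u}} {W : Opens T}

/-- a section killed by `cokernel.π ρ` is locally in the image of `ρ` (on `Over W`) -/
theorem exists_local_preimage_over_of_π_eq_zero {A B : SheafOfModules.{u} (R.over W)} (ρ : A ⟶ B)
    (D : Opens T) (hD : D ≤ W) (z : B.val.obj (op (ov W hD)))
    (hz : ((cokernel.π ρ).val.app (op (ov W hD))).hom z = 0) (x : T) (hx : x ∈ D) :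
    ∃ (D' : Opens T) (hD' : D' ≤ D), x ∈ D' ∧ ∃ w : A.val.obj (op (ov W (hD'.trans hD))),
      (ρ.val.app (op (ov W (hD'.trans hD)))).hom w =
        (B.val.map (Over.homMk (homOfLE hD') (Subsingleton.elim _ _) :
          ov W (hD'.trans hD) ⟶ ov W hD).op).hom z := by
  obtain ⟨zt, hzt⟩ := (Groth.Agent.Lib.helper7.KerSections.sections_leftExact_general
    (ShortComplex.mk (kernel.ι (cokernel.π ρ)) (cokernel.π ρ) (kernel.condition _))
    (ShortComplex.exact_of_f_is_kernel _ (kernelIsKernel _)) (op (ov W hD))).2 z hz
  obtain ⟨D', hD', hxD', w, hw⟩ :=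
    exists_local_preimage_over (Abelian.factorThruImage ρ) D hD zt x hx
  refine ⟨D', hD', hxD', w, ?_⟩
  have h1 : Abelian.factorThruImage ρ ≫ kernel.ι (cokernel.π ρ) = ρ := Abelian.image.fac ρ
  have h2 : (ρ.val.app (op (ov W (hD'.trans hD)))).hom w =
      ((kernel.ι (cokernel.π ρ)).val.app (op (ov W (hD'.trans hD)))).hom
        (((Abelian.factorThruImage ρ).val.app (op (ov W (hD'.trans hD)))).hom w) :=
    congrArg (fun ψ => (ψ.val.app (op (ov W (hD'.trans hD)))).hom w) h1.symm
  rw [h2, hw]
  have h3 := PresheafOfModules.naturality_apply (kernel.ι (cokernel.π ρ)).val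
    (Over.homMk (homOfLE hD') (Subsingleton.elim _ _) : ov W (hD'.trans hD) ⟶ ov W hD).op zt
  refine h3.trans ?_
  exact congrArg _ hzt

variable {I K : Type u} [Fintype I] [Fintype K] [DecidableEq I] [DecidableEq K]
  (a : K → I → R.obj.obj (op W))

variable (W) in
/-- the morphism `free K ⟶ free I` on `Over W` with matrix `a` -/
noncomputable def ρ : SheafOfModules.free (R := R.over W) K ⟶ SheafOfModules.free (R := R.over W) I :=
  (SheafOfModules.free (R := R.over W) I).freeHomEquiv.symm (fun κ => secOfCoord (gc W (a κ)))

theorem coord_ρ {D : Opens T} (hD : D ≤ W)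
    (w : (SheafOfModules.free (R := R.over W) K).val.obj (op (ov W hD))) (l : I) :
    (show R.obj.obj (op D) from ((coord (R := R.over W) l).val.app (op (ov W hD))).hom
      (((ρ W a).val.app (op (ov W hD))).hom w)) =
      ∑ κ, (show R.obj.obj (op D) from ((coord (R := R.over W) κ).val.app (op (ov W hD))).hom w) *
        resR hD (a κ l) := by
  have h1 := π_apply (fun κ => secOfCoord (gc W (a κ))) (op (ov W hD)) w
  have h2 := congrArg (fun v => ((coord (R := R.over W) l).val.app (op (ov W hD))).hom v) h1
  refine h2.trans ?_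
  simp only [map_sum]
  refine Finset.sum_congr rfl (fun κ _ => ?_)
  rw [map_smul, secVal_secOfCoord, coord_ofCoord]
  rfl

theorem ρ_freeSection (κ : K) :
    ((ρ W a).val.app (op (ov W le_rfl))).hom
      (secVal (SheafOfModules.freeSection (R := R.over W) κ) (op (ov W le_rfl))) =
      ∑ l, (show (R.over W).obj.obj (op (ov W le_rfl)) from a κ l) •
        secVal (SheafOfModules.freeSection (R := R.over W) l) (op (ov W le_rfl)) := by
  have h1 := π_freeSection (fun κ => secOfCoord (gc W (a κ))) κ (op (ov W le_rfl))
  refine h1.trans ?_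
  rw [secVal_secOfCoord]
  unfold ofCoord
  refine Finset.sum_congr rfl (fun l _ => ?_)
  congr 1
  exact resR_refl le_rfl (a κ l)

theorem jOut_sum_smul (N : SheafOfModules.{u} (R.over W)) {D : Opens T} (hD : D ≤ W) {ι : Type*}
    (s : Finset ι) (r : ι → R.obj.obj (op D)) (w : ι → (jStar W N).val.obj (op D)) :
    jOut W N hD (∑ l ∈ s, r l • w l) =
      ∑ l ∈ s, (show (R.over W).obj.obj (op (ov W hD)) from r l) • jOut W N hD (w l) := by
  classical
  induction s using Finset.induction_on with
  | empty => simp only [Finset.sum_empty]; exact jOut_zero W N hD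
  | insert x s hx ih =>
    rw [Finset.sum_insert hx, Finset.sum_insert hx, jOut_add, jOut_smul, ih]

end OverCoker

section Syz

include m in
theorem rel_pull (hsyz : LocSyz M U m a) (κ : K) :
    ∑ l, a' i c U a κ l • m' i c M U m l = 0 := by
  have h1 := hsyz.1 κ
  have h2 := congrArg ((((f i c).adj.unit.app M).val.app (op U)).hom) h1
  rw [map_sum, map_zero] at h2
  simp only [map_smul] at h2
  have h3 := congrArg (ofPush i c ((f i c).pull.obj M) U) h2
  rw [ofPush_sum_smul, ofPush_zero] at h3
  exact h3

/-- **the inverse image of a locally presented module is locally presented by the images of the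
generators and relations** -/
theorem locSyz_pull (hgen : LocSpan M U m) (hsyz : LocSyz M U m a) :
    LocSyz ((f i c).pull.obj M) ((Opens.map i).obj U) (m' i c M U m) (a' i c U a) := by
  classical
  refine ⟨rel_pull i c M U m a hsyz, ?_⟩
  set F := (f i c).pull.obj M with hF
  set U' := (Opens.map i).obj U with hU'
  set P := cokernel (ρ U' (a' i c U a)) with hP
  set p := cokernel.π (ρ U' (a' i c U a)) with hp
  set W := jStar U' P with hW
  have hsurj := (jOut_bijective U' P (le_refl U')).2
  let e : ∀ (D : Opens Z) (hD : D ≤ U'), I →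
      (SheafOfModules.free (R := (ModSite.ringSh O_Z).over U') I).val.obj (op (ov U' hD)) :=
    fun D hD l => secVal (SheafOfModules.freeSection (R := (ModSite.ringSh O_Z).over U') l)
      (op (ov U' hD))
  let t : I → ((f i c).push.obj W).val.obj (op U) := fun l =>
    toPush i c W U (Function.surjInv hsurj ((p.val.app (op (ov U' le_rfl))).hom (e U' le_rfl l)))
  have ht_out : ∀ l, jOut U' P le_rfl (ofPush i c W U (t l)) =
      (p.val.app (op (ov U' le_rfl))).hom (e U' le_rfl l) :=
    fun l => Function.surjInv_eq hsurj _
  have ht : ∀ κ, ∑ l, a κ l • t l = 0 := by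
    intro κ
    have h1 : ofPush i c W U (∑ l, a κ l • t l) = 0 := by
      rw [ofPush_sum_smul]
      apply (jOut_bijective U' P (le_refl U')).1
      rw [jOut_zero, jOut_sum_smul]
      simp only [ht_out]
      have h2 : ρ U' (a' i c U a) ≫ p = 0 := cokernel.condition _
      have h3 := congrArg (fun φ => (φ.val.app (op (ov U' le_rfl))).hom
        (secVal (SheafOfModules.freeSection (R := (ModSite.ringSh O_Z).over U') κ)
          (op (ov U' le_rfl)))) h2
      change (p.val.app (op (ov U' le_rfl))).hom
        (((ρ U' (a' i c U a)).val.app (op (ov U' le_rfl))).hom _) = 0 at h3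
      rw [ρ_freeSection, map_sum] at h3
      simp only [map_smul] at h3
      exact h3
    exact h1
  set ψ := LocHom.desc U m a t hgen hsyz ht (resM_push_jStar_bijective i c U P) with hψ
  set ψb := ((f i c).adj.homEquiv M W).symm ψ with hψb
  have hψbm : ∀ l, (ψb.val.app (op U')).hom (m' i c M U m l) = ofPush i c W U (t l) := by
    intro l
    have h1 := homEquiv_app i c M ψb U (m l)
    rw [hψb, Equiv.apply_symm_apply, hψ, LocHom.desc_gen] at h1
    exact h1.symm
  intro D hD cc hcc x hx
  have h1 : ∑ l, cc l • resM W hD ((ψb.val.app (op U')).hom (m' i c M U m l)) = 0 := by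
    have h0 := congrArg ((ψb.val.app (op D)).hom) hcc
    rw [map_sum, map_zero] at h0
    simp only [map_smul, app_resM] at h0
    exact h0
  simp only [hψbm] at h1
  have h2 := congrArg (jOut U' P hD) h1
  rw [jOut_zero, jOut_sum_smul] at h2
  have h3 : ∀ l, jOut U' P hD (resM W hD (ofPush i c W U (t l))) =
      (p.val.app (op (ov U' hD))).hom (e D hD l) := by
    intro l
    have h4 := jOut_resM U' P (le_refl U') hD (ofPush i c W U (t l))
    refine h4.trans ?_
    rw [ht_out]
    have h5 := PresheafOfModules.naturality_apply p.val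
      (Over.homMk (homOfLE hD) (Subsingleton.elim _ _) : ov U' hD ⟶ ov U' le_rfl).op
      (e U' le_rfl l)
    refine h5.symm.trans ?_
    congr 1
    exact PresheafOfModules.sections_property
      (SheafOfModules.freeSection (R := (ModSite.ringSh O_Z).over U') l) _
  simp only [h3] at h2
  have h6 : (p.val.app (op (ov U' hD))).hom (ofCoord (R := (ModSite.ringSh O_Z).over U')
      (op (ov U' hD)) cc) = 0 := by
    unfold ofCoord
    rw [map_sum]
    simp only [map_smul]
    exact h2
  obtain ⟨D', hD', hxD', w, hw⟩ := exists_local_preimage_over_of_π_eq_zero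
    (ρ U' (a' i c U a)) D hD _ h6 x hx
  refine ⟨D', hD', hxD', fun κ => ((coord (R := (ModSite.ringSh O_Z).over U') κ).val.app
    (op (ov U' (hD'.trans hD)))).hom w, fun l => ?_⟩
  have h7 := congrArg (fun v => ((coord (R := (ModSite.ringSh O_Z).over U') l).val.app
    (op (ov U' (hD'.trans hD)))).hom v) hw
  have h8 := coord_ρ (a' i c U a) (hD'.trans hD) w l
  rw [map_ofCoord, coord_ofCoord] at h7
  exact h7.symm.trans h8

end Syz

end Groth.Agent.Lib.helper11.PullPres
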