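import Groth.Agent.Lib.Helper11.LocRetract

set_option autoImplicit false
universe u
open CategoryTheory CategoryTheory.Limits TopologicalSpace Opposite

namespace Groth.Agent.Lib.helper11.PushSec

open Groth.Agent.Lib.helper11.OverGen Groth.Agent.Lib.helper11.FreeSec
  Groth.Agent.Lib.helper11.LocGen Groth.Agent.Lib.helper11.LocPres
  Groth.Agent.Lib.helper11.LocGenExt Groth.Agent.Lib.helper11.LocKer
  Groth.Agent.Lib.helper11.OverPres Groth.Agent.Lib.helper11.LocFree

variable {Z X : TopCat.{u}} (i : Z ⟶ X)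
  {O_Z : TopCat.Sheaf CommRingCat.{u} Z} {O_X : TopCat.Sheaf CommRingCat.{u} X}
  (c : O_X ⟶ ((TopologicalSpace.Opens.map i).sheafPushforwardContinuous CommRingCat.{u}
      (Opens.grothendieckTopology X) (Opens.grothendieckTopology Z)).obj O_Z)

/-- the comorphism on sections -/
noncomputable def cS (U : Opens X) (r : (ModSite.ringSh O_X).obj.obj (op U)) :
    (ModSite.ringSh O_Z).obj.obj (op ((Opens.map i).obj U)) :=
  ((ModSite.RMor.ofFlat (TopologicalSpace.Opens.map i) c).sharpR.hom.app (op U)).hom r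

theorem cS_resR {U W : Opens X} (hW : W ≤ U) (γ : (ModSite.ringSh O_X).obj.obj (op U)) :
    cS i c W (resR (R := ModSite.ringSh O_X) hW γ) =
      resR (R := ModSite.ringSh O_Z) ((Opens.map i).monotone hW) (cS i c U γ) := by
  have h := (ModSite.RMor.ofFlat (TopologicalSpace.Opens.map i) c).sharpR.hom.naturality
    (homOfLE hW).op
  exact congrArg (fun φ => φ.hom γ) h

variable (F : ModSite.Mod O_Z)

/-- sections of the pushforward -/
def toPush (U : Opens X) (y : F.val.obj (op ((Opens.map i).obj U))) :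
    ((ModSite.RMor.ofFlat (TopologicalSpace.Opens.map i) c).push.obj F).val.obj (op U) := y

def ofPush (U : Opens X)
    (y : ((ModSite.RMor.ofFlat (TopologicalSpace.Opens.map i) c).push.obj F).val.obj (op U)) :
    F.val.obj (op ((Opens.map i).obj U)) := y

theorem ofPush_smul (U : Opens X) (r : (ModSite.ringSh O_X).obj.obj (op U))
    (y : ((ModSite.RMor.ofFlat (TopologicalSpace.Opens.map i) c).push.obj F).val.obj (op U)) :
    ofPush i c F U (r • y) = cS i c U r • ofPush i c F U y := rfl

theorem ofPush_add (U : Opens X)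
    (y y' : ((ModSite.RMor.ofFlat (TopologicalSpace.Opens.map i) c).push.obj F).val.obj (op U)) :
    ofPush i c F U (y + y') = ofPush i c F U y + ofPush i c F U y' := rfl

theorem ofPush_zero (U : Opens X) :
    ofPush i c F U 0 = 0 := rfl

theorem ofPush_resM {U D : Opens X} (hD : D ≤ U)
    (y : ((ModSite.RMor.ofFlat (TopologicalSpace.Opens.map i) c).push.obj F).val.obj (op U)) :
    ofPush i c F D (resM _ hD y) =
      resM F ((Opens.map i).monotone hD) (ofPush i c F U y) := rfl

/-- `ofPush` as an additive map -/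
def ofPushHom (U : Opens X) :
    ((ModSite.RMor.ofFlat (TopologicalSpace.Opens.map i) c).push.obj F).val.obj (op U) →+
      F.val.obj (op ((Opens.map i).obj U)) where
  toFun := ofPush i c F U
  map_zero' := rfl
  map_add' _ _ := rfl

theorem ofPush_sum_smul (U : Opens X) {ι : Type*} [Fintype ι]
    (r : ι → (ModSite.ringSh O_X).obj.obj (op U))
    (y : ι → ((ModSite.RMor.ofFlat (TopologicalSpace.Opens.map i) c).push.obj F).val.obj (op U)) :
    ofPush i c F U (∑ k, r k • y k) = ∑ k, cS i c U (r k) • ofPush i c F U (y k) :=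
  map_sum (ofPushHom i c F U) _ _

/-- an open of `Z` is the preimage of an open of `X` contained in a given open containing it -/
theorem exists_preimage_eq (hi : Topology.IsInducing i) (U : Opens X) (D : Opens Z)
    (hD : D ≤ (Opens.map i).obj U) :
    ∃ D₁ : Opens X, D₁ ≤ U ∧ (Opens.map i).obj D₁ = D := by
  obtain ⟨W, hW, hWD⟩ := hi.isOpen_iff.mp D.2
  refine ⟨⟨W, hW⟩ ⊓ U, inf_le_right, ?_⟩
  ext z
  constructor
  · rintro ⟨h1, -⟩
    have : z ∈ i ⁻¹' W := h1
    rw [hWD] at this
    exact this
  · intro hz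
    refine ⟨?_, hD hz⟩
    change z ∈ i ⁻¹' W
    rw [hWD]
    exact hz

/-- sections of a sheaf of modules on `Z` over the preimage of an open missing the image vanish -/
theorem eq_zero_of_disjoint (D : Opens X) (hD : ∀ z : Z, i z ∉ D)
    (y : F.val.obj (op ((Opens.map i).obj D))) : y = 0 := by
  apply eq_zero_of_locally_zero
  intro z hz
  exact absurd hz (hD z)

/-- finite type descends along the pushforward of an embedding -/
theorem isFiniteType_of_push (hi : Topology.IsInducing i)
    [SheafOfModules.IsFiniteType (R := ModSite.ringSh O_X)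
      ((ModSite.RMor.ofFlat (TopologicalSpace.Opens.map i) c).push.obj F)] :
    SheafOfModules.IsFiniteType (R := ModSite.ringSh O_Z) F := by
  classical
  apply isFiniteType_of_locSpan
  intro z
  obtain ⟨U₀, hxU₀, ι, hι, m, hm⟩ := exists_locSpan_of_isFiniteType (R := ModSite.ringSh O_X)
    ((ModSite.RMor.ofFlat (TopologicalSpace.Opens.map i) c).push.obj F) (i z)
  haveI := Fintype.ofFinite ι
  refine ⟨(Opens.map i).obj U₀, hxU₀, ι, hι, fun k => ofPush i c F U₀ (m k), ?_⟩
  intro D hD y z' hz'
  obtain ⟨D₁, hD₁, rfl⟩ := exists_preimage_eq i hi U₀ D hD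
  obtain ⟨D₂, hD₂, hzD₂, hmem⟩ := hm D₁ hD₁ (toPush i c F D₁ y) (i z') hz'
  obtain ⟨γ, hγ⟩ := (Submodule.mem_span_range_iff_exists_fun _).mp hmem
  refine ⟨(Opens.map i).obj D₂, (Opens.map i).monotone hD₂, hzD₂,
    (Submodule.mem_span_range_iff_exists_fun _).mpr ⟨fun k => cS i c D₂ (γ k), ?_⟩⟩
  have h1 := congrArg (ofPush i c F D₂) hγ
  rw [ofPush_sum_smul] at h1
  exact h1

/-- finite type ascends along the pushforward of a closed embedding with surjective comorphism -/
theorem isFiniteType_push (hi : Topology.IsClosedEmbedding i) (hc : Sheaf.IsLocallySurjective c)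
    [SheafOfModules.IsFiniteType (R := ModSite.ringSh O_Z) F] :
    SheafOfModules.IsFiniteType (R := ModSite.ringSh O_X)
      ((ModSite.RMor.ofFlat (TopologicalSpace.Opens.map i) c).push.obj F) := by
  classical
  -- the complement of the image
  let Uc : Opens X := ⟨(Set.range i)ᶜ, hi.isClosed_range.isOpen_compl⟩
  have hUc : ∀ z : Z, i z ∉ Uc := fun z hz => hz ⟨z, rfl⟩
  apply isFiniteType_of_locSpan
  intro x
  by_cases hx : x ∈ Set.range i
  · obtain ⟨z, rfl⟩ := hx
    obtain ⟨V₀, hzV₀, ι, hι, m, hm⟩ := exists_locSpan_of_isFiniteType (R := ModSite.ringSh O_Z) F z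
    haveI := Fintype.ofFinite ι
    obtain ⟨U₀, -, rfl⟩ := exists_preimage_eq i hi.isInducing ⊤ V₀ le_top
    refine ⟨U₀, hzV₀, ι, hι, fun k => toPush i c F U₀ (m k), ?_⟩
    intro D hD y x' hx'
    by_cases hx'' : x' ∈ Set.range i
    · obtain ⟨z', rfl⟩ := hx''
      obtain ⟨D', hD', hzD', hmem⟩ := hm ((Opens.map i).obj D) ((Opens.map i).monotone hD)
        (ofPush i c F D y) z' hx'
      obtain ⟨a, ha⟩ := (Submodule.mem_span_range_iff_exists_fun _).mp hmem
      obtain ⟨D₁, hD₁, rfl⟩ := exists_preimage_eq i hi.isInducing D D' hD'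
      -- lift the coefficients
      obtain ⟨D₂, hD₂, hzD₂, hlift⟩ := exists_common_nhd (i z') D₁ hzD'
        (fun (k : ι) (W : Opens X) => ∃ (hW : W ≤ D₁) (γ : (ModSite.ringSh O_X).obj.obj (op W)),
          cS i c W γ = resR (R := ModSite.ringSh O_Z) ((Opens.map i).monotone hW) (a k))
        (fun k => by
          have hmem := Presheaf.imageSieve_mem (Opens.grothendieckTopology X) c.hom
            (show ToType ((((TopologicalSpace.Opens.map i).sheafPushforwardContinuous
              CommRingCat.{u} (Opens.grothendieckTopology X)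
              (Opens.grothendieckTopology Z)).obj O_Z).obj.obj (op D₁)) from a k)
          obtain ⟨W, f, ⟨γ, hγ⟩, hxW⟩ := hmem (i z') hzD'
          exact ⟨W, f.le, hxW, f.le, γ, hγ⟩)
        (fun k W W' hW' hP => by
          obtain ⟨hW, γ, hγ⟩ := hP
          refine ⟨hW'.trans hW, resR (R := ModSite.ringSh O_X) hW' γ, ?_⟩
          rw [cS_resR, hγ, resR_resR])
      choose hD₂' γ hγ using hlift
      refine ⟨D₂, hD₂.trans hD₁, hzD₂,
        (Submodule.mem_span_range_iff_exists_fun _).mpr ⟨γ, ?_⟩⟩
      have h1 := congrArg (resM F ((Opens.map i).monotone hD₂)) ha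
      rw [resM_sum_smul, resM_resM] at h1
      change ofPush i c F D₂ (∑ k, γ k • resM
        ((ModSite.RMor.ofFlat (TopologicalSpace.Opens.map i) c).push.obj F)
        ((hD₂.trans hD₁).trans hD) (toPush i c F U₀ (m k))) = _
      rw [ofPush_sum_smul]
      simp only [hγ]
      refine Eq.trans (Finset.sum_congr rfl (fun k _ => ?_)) h1
      rw [resM_resM]
      rfl
    · refine ⟨D ⊓ Uc, inf_le_left, ⟨hx', hx''⟩, ?_⟩
      have : resM ((ModSite.RMor.ofFlat (TopologicalSpace.Opens.map i) c).push.obj F)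
          (inf_le_left : D ⊓ Uc ≤ D) y = 0 :=
        eq_zero_of_disjoint i F (D ⊓ Uc) (fun z hz => hUc z hz.2) _
      rw [this]
      exact Submodule.zero_mem _
  · refine ⟨Uc, hx, PEmpty, inferInstance, PEmpty.elim, ?_⟩
    intro D hD y x' hx'
    refine ⟨D, le_rfl, hx', ?_⟩
    have : resM ((ModSite.RMor.ofFlat (TopologicalSpace.Opens.map i) c).push.obj F)
        (le_refl D) y = 0 :=
      eq_zero_of_disjoint i F D (fun z hz => hUc z (hD hz)) _
    rw [this]
    exact Submodule.zero_mem _

end Groth.Agent.Lib.helper11.PushSec
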