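import Mathlib
import Groth.Agent.Lib.Helper11.QCohSAFT2

/-!
# The special adjoint functor theorem for `QCoh(X)`, `X` quasi-compact quasi-separated (helper11)

`isLeftAdjoint_of_preservesColimits`: every functor out of `QCoh(X)` which preserves small colimits has a
right adjoint.
-/

set_option autoImplicit false
set_option backward.isDefEq.respectTransparency false
universe u u'

open CategoryTheory CategoryTheory.Limits AlgebraicGeometry Opposite TopologicalSpace
open Scheme.Modules

namespace Groth.Agent.Lib.helper11.QCohSAFT

variable (X : Scheme.{u}) [CompactSpace X] [QuasiSeparatedSpace X]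

/-- `QCoh(X)` is well-powered -/
theorem wellPowered_qcoh : WellPowered.{u} (QCohCat.QCoh X) := by
  obtain ⟨𝒰, h𝒰, hcov⟩ := exists_finset_affine_cover X
  exact wellPowered_of_isDetecting (isSeparating_fam h𝒰 hcov).isDetecting

/-- `QCoh(X)` is well-copowered -/
theorem wellPowered_qcoh_op : WellPowered.{u} (QCohCat.QCoh X)ᵒᵖ := by
  haveI := wellPowered_qcoh X
  infer_instance

/-- **special adjoint functor theorem for `QCoh(X)`** -/
theorem isLeftAdjoint_of_preservesColimits {A : Type u'} [Category.{u} A]
    (F : QCohCat.QCoh X ⥤ A) [PreservesColimitsOfSize.{u, u} F] : F.IsLeftAdjoint := by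
  obtain ⟨𝒰, h𝒰, hcov⟩ := exists_finset_affine_cover X
  haveI := wellPowered_qcoh_op X
  exact isLeftAdjoint_of_preservesColimits_of_isSeparating (isSeparating_fam h𝒰 hcov) F

end Groth.Agent.Lib.helper11.QCohSAFT
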