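import Mathlib
import Groth.Agent.Lib.Helper11.QCohSAFT3
import Groth.Agent.Lib.Helper11.CoprodFilt
import Groth.Agent.Lib.Helper18.HHLES
import Groth.Agent.Lib.Helper18.HHConseq
import Groth.Agent.Lib.Helper27.FiltCohTop
import Groth.Agent.Lib.Lead.RpushCoh
import Groth.Agent.Lib.Helper21.ModSh

/-!
# Cohomology as a colimit-preserving functor on `QCoh(X)` (helper11)

* `HnA A X n : QCoh(X) ⥤ Mod A`, `F ↦ H^n(X, F)`.
* `preservesFiniteColimits_HnA`: right exactness when `H^{n+1}` vanishes on quasi-coherent modules.
* `preservesCoproducts_HnA`: `X` qcqs.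
* `preservesColimits_HnA`, `isLeftAdjoint_HnA`.
-/

set_option autoImplicit false
set_option backward.isDefEq.respectTransparency false
universe u

open CategoryTheory CategoryTheory.Limits AlgebraicGeometry Opposite TopologicalSpace
open Scheme.Modules

namespace Groth.Agent.Lib.helper11.QCohSAFT

open Groth.Agent.Lib.Helper18

section Exact

variable (X : Scheme.{u})

instance instPresFinLim : PreservesFiniteLimits (QCohCat.isQCoh X).ι :=
  ((Functor.preservesFiniteLimits_tfae (QCohCat.isQCoh X).ι).out 2 3).1
    (fun _ _ f => ObjectProperty.preservesKernels_ι _ f)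

instance instPresFinColim : PreservesFiniteColimits (QCohCat.isQCoh X).ι :=
  ((Functor.preservesFiniteColimits_tfae (QCohCat.isQCoh X).ι).out 2 3).1
    (fun _ _ f => ObjectProperty.preservesCokernels_ι _ f)

end Exact

section Functor

variable (A : Type u) [CommRing A] (X : Scheme.{u}) [X.Over (Spec (CommRingCat.of A))] (n : ℕ)

/-- `H^n(X, -)` on quasi-coherent modules, with values in `A`-modules -/
noncomputable def HnA : QCohCat.QCoh X ⥤ ModuleCat.{u} A where
  obj F := ModuleCat.of A (Coh.HH X F.obj n)
  map f := ModuleCat.ofHom (HH.mapOver A f.hom n)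
  map_id F := by
    ext x
    exact congrArg (fun L => L x) (HH.map_id F.obj n)
  map_comp f g := by
    ext x
    exact HH.map_comp_apply f.hom g.hom n x

instance instAddHnA : (HnA A X n).Additive where
  map_add {F G f g} := by
    ext x
    exact congrArg (fun L => L x) (HH.map_add f.hom g.hom n)

theorem HnA_map_apply {F G : QCohCat.QCoh X} (f : F ⟶ G) (x : Coh.HH X F.obj n) :
    ((HnA A X n).map f).hom x =
      Sheaf.H.map ((SheafOfModules.toSheaf X.ringCatSheaf).map f.hom) n x := rfl

/-- right exactness of `H^n` when `H^{n+1}` vanishes on quasi-coherent modules -/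
theorem preservesFiniteColimits_HnA
    (hvan : ∀ K : X.Modules, K.IsQuasicoherent → Subsingleton (Coh.HH X K (n + 1))) :
    PreservesFiniteColimits (HnA A X n) := by
  rw [Functor.preservesFiniteColimits_iff_forall_exact_map_and_epi]
  intro S hS
  have hS' : (S.map (QCohCat.isQCoh X).ι).ShortExact := hS.map_of_exact _
  constructor
  · rw [ShortComplex.ShortExact.moduleCat_exact_iff_function_exact]
    exact HH.exactOver₂ hS' A n
  · rw [ModuleCat.epi_iff_surjective]
    exact HH.surjective_map_g hS' n (hvan _ S.X₁.property)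

end Functor

section Coprod

variable (X : Scheme.{u}) (n : ℕ)

/-- cohomology over the top open, in the form used by helper27's filtered colimit theorem -/
noncomputable abbrev TT : CohTop.Ab X ⥤ AddCommGrpCat.{u} :=
  (Sheaf.cohomologyPresheafFunctor (Opens.grothendieckTopology X) n).flip.obj (op (⊤ : Opens X))

/-- `H^n(⊤, -) ≅ H^n(X, -)` as functors -/
noncomputable def TTIso : TT X n ≅ Sheaf.functorH (Opens.grothendieckTopology X) n :=
  NatIso.ofComponents
    (fun F => (Groth.Agent.Lib.helper27.SerreVan.HEquivHU F n).toAddCommGrpIso)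
    (fun {F G} σ => by
      ext y
      exact Groth.Agent.Lib.Lead.RpushCoh.HEquivHU_map σ n y)

variable [CompactSpace X] [QuasiSeparatedSpace X]

/-- sheaf cohomology of a qcqs scheme commutes with filtered colimits of abelian sheaves -/
theorem preservesFiltered_functorH (Λ : Type u) [SmallCategory Λ] [IsFiltered Λ] :
    PreservesColimitsOfShape Λ (Sheaf.functorH (Opens.grothendieckTopology X) n) := by
  let 𝔅 : Set (Opens X) := {W | IsCompact (W : Set X)}
  haveI : PreservesColimitsOfShape Λ (TT X n) := ⟨fun {F} => by
    refine Groth.Agent.Lib.helper27.FiltCoh.preservesColimit_H_top 𝔅 (fun W hW => hW)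
      (fun W hW W' hW' => ?_) (fun W hW V hVW x hx => ?_) ⊤ isCompact_univ n F
    · exact QuasiSeparatedSpace.inter_isCompact _ _ W.isOpen hW W'.isOpen hW'
    · obtain ⟨W', hW', hxW', hle⟩ :=
        (Opens.isBasis_iff_nbhd.1 X.isBasis_affineOpens) hx
      exact ⟨W', hW'.isCompact, hxW', hle⟩⟩
  exact preservesColimitsOfShape_of_natIso (TTIso X n)

/-- sheaf cohomology of a qcqs scheme commutes with coproducts of abelian sheaves -/
theorem preservesCoprod_functorH (α : Type u) :
    PreservesColimitsOfShape (Discrete α) (Sheaf.functorH (Opens.grothendieckTopology X) n) := by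
  haveI := preservesFiltered_functorH X n (Finset (Discrete α))
  refine ⟨fun {K} => ?_⟩
  let K' : Discrete α ⥤ CohTop.Ab X := K
  let f : α → CohTop.Ab X := fun a => K'.obj ⟨a⟩
  have e : K' ≅ Discrete.functor f := Discrete.natIso (fun ⟨a⟩ => Iso.refl _)
  haveI : HasColimitsOfShape (Discrete α) (CohTop.Ab X) := inferInstance
  haveI : HasCoproduct f := inferInstance
  haveI : HasFiniteCoproducts (CohTop.Ab X) := inferInstance
  haveI : HasColimitsOfShape (Finset (Discrete α)) (CohTop.Ab X) := inferInstance
  haveI : PreservesColimit (Discrete.functor f)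
      (Sheaf.functorH (Opens.grothendieckTopology X) n) :=
    Groth.Agent.Lib.helper11.CoprodFilt.preservesColimit_discrete_of_finite_of_filtered
      (C := CohTop.Ab X) (Sheaf.functorH (Opens.grothendieckTopology X) n) f
  exact preservesColimit_of_iso_diagram _ e.symm

variable (A : Type u) [CommRing A] [X.Over (Spec (CommRingCat.of A))]

/-- `HnA` followed by the forgetful functor to abelian groups -/
noncomputable def HnAForgetIso :
    HnA A X n ⋙ forget₂ (ModuleCat.{u} A) AddCommGrpCat.{u} ≅
      (QCohCat.isQCoh X).ι ⋙ SheafOfModules.toSheaf.{u} X.ringCatSheaf ⋙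
        Sheaf.functorH (Opens.grothendieckTopology X) n :=
  NatIso.ofComponents (fun _ => Iso.refl _) (fun {F G} f => by
    ext x
    rfl)

/-- `H^n(X, -)` commutes with coproducts of quasi-coherent modules, `X` qcqs -/
theorem preservesCoproducts_HnA (α : Type u) :
    PreservesColimitsOfShape (Discrete α) (HnA A X n) := by
  haveI := Groth.Agent.Lib.Helper21.ModSh.toSheaf_preservesColimits X.ringCatSheaf
  haveI := preservesCoprod_functorH X n α
  haveI : PreservesColimitsOfShape (Discrete α)
      (HnA A X n ⋙ forget₂ (ModuleCat.{u} A) AddCommGrpCat.{u}) :=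
    preservesColimitsOfShape_of_natIso (HnAForgetIso X n A).symm
  haveI : ReflectsColimitsOfShape (Discrete α) (forget₂ (ModuleCat.{u} A) AddCommGrpCat.{u}) :=
    reflectsColimitsOfShape_of_reflectsIsomorphisms
  exact preservesColimitsOfShape_of_reflects_of_preserves (HnA A X n)
    (forget₂ (ModuleCat.{u} A) AddCommGrpCat.{u})

/-- `H^n(X, -)` preserves all small colimits of quasi-coherent modules (`X` qcqs, `H^{n+1}` vanishing on
quasi-coherent modules) -/
theorem preservesColimits_HnA
    (hvan : ∀ K : X.Modules, K.IsQuasicoherent → Subsingleton (Coh.HH X K (n + 1))) :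
    PreservesColimitsOfSize.{u, u} (HnA A X n) := by
  haveI := preservesFiniteColimits_HnA A X n hvan
  haveI : ∀ α : Type u, PreservesColimitsOfShape (Discrete α) (HnA A X n) :=
    fun α => preservesCoproducts_HnA X n A α
  exact preservesColimits_of_preservesCoequalizers_and_coproducts (HnA A X n)

/-- `H^n(X, -) : QCoh(X) ⥤ Mod A` has a right adjoint -/
theorem isLeftAdjoint_HnA
    (hvan : ∀ K : X.Modules, K.IsQuasicoherent → Subsingleton (Coh.HH X K (n + 1))) :
    (HnA A X n).IsLeftAdjoint := by
  haveI := preservesColimits_HnA X n A hvan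
  exact isLeftAdjoint_of_preservesColimits X (HnA A X n)

end Coprod

end Groth.Agent.Lib.helper11.QCohSAFT
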