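import Mathlib
import Groth.Agent.Lib.Helper11.QCohSAFT4

/-!
# Existence of a dualizing pair `(ω, γ)` for top cohomology (helper11)

`exists_dualizing_pair`: for `X` qcqs over `Spec A` with `H^{n+1}(X, -) = 0` on quasi-coherent modules, the functor
`F ↦ Hom_A(H^n(X, F), A)` on `QCoh(X)` is representable: there are a quasi-coherent `ω` and `γ : H^n(X, ω) → A` such
that `φ ↦ γ ∘ H^n(φ)` is a bijection `Hom(F, ω) ≃ Hom_A(H^n(X, F), A)` for every quasi-coherent `F`.
-/

set_option autoImplicit false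
set_option backward.isDefEq.respectTransparency false
universe u

open CategoryTheory CategoryTheory.Limits AlgebraicGeometry Opposite TopologicalSpace
open Scheme.Modules

namespace Groth.Agent.Lib.helper11.QCohSAFT

variable (A : Type u) [CommRing A] (X : Scheme.{u}) [X.Over (Spec (CommRingCat.of A))]
  [CompactSpace X] [QuasiSeparatedSpace X] (n : ℕ)

theorem exists_dualizing_pair
    (hvan : ∀ K : X.Modules, K.IsQuasicoherent → Subsingleton (Coh.HH X K (n + 1))) :
    ∃ (ω : X.Modules), ω.IsQuasicoherent ∧ ∃ γ : Coh.HH X ω n →ₗ[A] A,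
      ∀ F : X.Modules, F.IsQuasicoherent →
        ((∀ φ ψ : F ⟶ ω,
          (∀ x : Coh.HH X F n,
            γ (Sheaf.H.map ((SheafOfModules.toSheaf X.ringCatSheaf).map φ) n x) =
              γ (Sheaf.H.map ((SheafOfModules.toSheaf X.ringCatSheaf).map ψ) n x)) → φ = ψ) ∧
        (∀ g : Coh.HH X F n →ₗ[A] A, ∃ φ : F ⟶ ω, ∀ x : Coh.HH X F n,
          γ (Sheaf.H.map ((SheafOfModules.toSheaf X.ringCatSheaf).map φ) n x) = g x)) := by
  haveI := isLeftAdjoint_HnA X n A hvan
  let R := (HnA A X n).rightAdjoint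
  let adj : HnA A X n ⊣ R := Adjunction.ofIsLeftAdjoint (HnA A X n)
  let AA : ModuleCat.{u} A := ModuleCat.of A A
  refine ⟨(R.obj AA).obj, (R.obj AA).property, (adj.counit.app AA).hom, fun F hF => ⟨?_, ?_⟩⟩
  · intro φ ψ h
    let F' : QCohCat.QCoh X := ⟨F, hF⟩
    let φ' : F' ⟶ R.obj AA := ObjectProperty.homMk φ
    let ψ' : F' ⟶ R.obj AA := ObjectProperty.homMk ψ
    have h1 : (HnA A X n).map φ' ≫ adj.counit.app AA = (HnA A X n).map ψ' ≫ adj.counit.app AA := by
      ext x
      exact h x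
    have e1 : (adj.homEquiv F' AA).symm φ' = (HnA A X n).map φ' ≫ adj.counit.app AA :=
      Adjunction.homEquiv_counit adj F' AA φ'
    have e2 : (adj.homEquiv F' AA).symm ψ' = (HnA A X n).map ψ' ≫ adj.counit.app AA :=
      Adjunction.homEquiv_counit adj F' AA ψ'
    have h2 : φ' = ψ' := (adj.homEquiv F' AA).symm.injective (e1.trans (h1.trans e2.symm))
    exact congrArg (fun k => k.hom) h2
  · intro g
    let F' : QCohCat.QCoh X := ⟨F, hF⟩
    let g' : (HnA A X n).obj F' ⟶ AA := ModuleCat.ofHom g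
    let φ' : F' ⟶ R.obj AA := adj.homEquiv F' AA g'
    refine ⟨φ'.hom, fun x => ?_⟩
    have e1 : (adj.homEquiv F' AA).symm φ' = (HnA A X n).map φ' ≫ adj.counit.app AA :=
      Adjunction.homEquiv_counit adj F' AA φ'
    have h1 : (HnA A X n).map φ' ≫ adj.counit.app AA = g' :=
      e1.symm.trans ((adj.homEquiv F' AA).symm_apply_apply g')
    exact congrArg (fun k => k.hom x) h1

end Groth.Agent.Lib.helper11.QCohSAFT
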