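import Mathlib

/-!
# Quasi-finite algebras over absolutely flat rings with algebraically closed residue fields
(helper11; for S0170)
-/

universe u

open TensorProduct

namespace Groth.Agent.Lib.helper11.QfDecomp

section AbsFlat

variable {K : Type*} [CommRing K]

/-- `K` is absolutely flat (von Neumann regular). -/
def AbsFlat (K : Type*) [CommRing K] : Prop := ∀ x : K, ∃ y : K, x * x * y = x

theorem AbsFlat.isReduced (hK : AbsFlat K) : IsReduced K := by
  constructor
  rintro x ⟨n, hn⟩
  obtain ⟨y, hy⟩ := hK x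
  -- x = x^m * y^(m-1) for all m ≥ 1
  have key : ∀ m : ℕ, x = x ^ (m + 1) * y ^ m := by
    intro m
    induction m with
    | zero => simp
    | succ m ih =>
      calc x = x ^ (m + 1) * y ^ m := ih
        _ = x ^ m * x * y ^ m := by rw [pow_succ]
        _ = x ^ m * (x * x * y) * y ^ m := by rw [hy]
        _ = x ^ (m + 1 + 1) * y ^ (m + 1) := by ring
  rw [key n, pow_succ, hn, zero_mul, zero_mul]

/-- For `y` in a proper ideal `q` of an absolutely flat ring, there is an idempotent `e ∉ q`
with `e * y = 0`. -/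
theorem AbsFlat.exists_idem_mul_eq_zero (hK : AbsFlat K) (q : Ideal K) (hq : q ≠ ⊤) {y : K}
    (hy : y ∈ q) : ∃ e : K, IsIdempotentElem e ∧ e ∉ q ∧ e * y = 0 := by
  obtain ⟨y', hy'⟩ := hK y
  refine ⟨1 - y * y', ?_, ?_, ?_⟩
  · change (1 - y * y') * (1 - y * y') = 1 - y * y'
    have : y * y' * (y * y') = y * y' := by
      calc y * y' * (y * y') = (y * y * y') * y' := by ring
        _ = y * y' := by rw [hy']
    linear_combination this
  · intro h
    apply hq
    rw [Ideal.eq_top_iff_one]
    have : (1 : K) = (1 - y * y') + y * y' := by ring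
    rw [this]
    exact q.add_mem h (q.mul_mem_right _ hy)
  · linear_combination -hy'

/-- finite version -/
theorem AbsFlat.exists_idem_forall_mul_eq_zero (hK : AbsFlat K) (q : Ideal K) [q.IsPrime]
    (F : Finset K) (hF : ∀ y ∈ F, y ∈ q) :
    ∃ e : K, IsIdempotentElem e ∧ e ∉ q ∧ ∀ y ∈ F, e * y = 0 := by
  classical
  induction F using Finset.induction_on with
  | empty => exact ⟨1, IsIdempotentElem.one, (Ideal.ne_top_iff_one q).mp (Ideal.IsPrime.ne_top ‹_›),
      by simp⟩
  | insert a F ha ih =>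
    obtain ⟨e, he, heq, heF⟩ := ih fun y hy => hF y (Finset.mem_insert_of_mem hy)
    obtain ⟨e', he', heq', hea⟩ := hK.exists_idem_mul_eq_zero q (Ideal.IsPrime.ne_top ‹_›)
      (hF a (Finset.mem_insert_self a F))
    refine ⟨e * e', he.mul he', ?_, ?_⟩
    · intro h
      rcases Ideal.IsPrime.mem_or_mem ‹_› h with h | h
      · exact heq h
      · exact heq' h
    · intro y hy
      rcases Finset.mem_insert.mp hy with rfl | hy
      · rw [mul_assoc, hea, mul_zero]
      · rw [mul_comm e e', mul_assoc, heF y hy, mul_zero]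

end AbsFlat

section LS

variable (k : Type*) (D : Type u) [Field k] [IsAlgClosed k] [CommRing D] [Algebra k D]
  [Module.Finite k D]

/-- Structure of a finite algebra over an algebraically closed field: finitely many `k`-points,
separated by elements, with nilpotent common kernel. -/
theorem exists_points : ∃ (ι : Type u) (_ : Finite ι) (χ : ι → D →ₐ[k] k),
    (∀ i, ∃ ε : D, χ i ε = 1 ∧ ∀ j, j ≠ i → χ j ε = 0) ∧
    ∀ y : D, (∀ i, χ i y = 0) → IsNilpotent y := by
  classical
  haveI : IsArtinianRing D := IsArtinianRing.of_finite k D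
  have hbij : ∀ m : MaximalSpectrum D, Function.Bijective (algebraMap k (D ⧸ m.asIdeal)) := by
    intro m
    haveI := m.isMaximal
    letI : Field (D ⧸ m.asIdeal) := Ideal.Quotient.field m.asIdeal
    haveI : Algebra.IsIntegral k (D ⧸ m.asIdeal) := Algebra.IsIntegral.of_finite k _
    exact IsAlgClosed.algebraMap_bijective_of_isIntegral
  let e : ∀ m : MaximalSpectrum D, k ≃ₐ[k] (D ⧸ m.asIdeal) := fun m =>
    AlgEquiv.ofBijective (Algebra.ofId k (D ⧸ m.asIdeal)) (hbij m)
  let χ : MaximalSpectrum D → D →ₐ[k] k := fun m =>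
    ((e m).symm : (D ⧸ m.asIdeal) →ₐ[k] k).comp (Ideal.Quotient.mkₐ k m.asIdeal)
  have hχ : ∀ m y, χ m y = 0 ↔ y ∈ m.asIdeal := by
    intro m y
    change (e m).symm (Ideal.Quotient.mk m.asIdeal y) = 0 ↔ _
    rw [map_eq_zero_iff _ (e m).symm.injective, Ideal.Quotient.eq_zero_iff_mem]
  refine ⟨MaximalSpectrum D, inferInstance, χ, ?_, ?_⟩
  · intro m
    obtain ⟨ε', hε'⟩ := (IsArtinianRing.quotNilradicalEquivPi D).surjective
      (fun m' => if m' = m then 1 else 0)
    obtain ⟨ε, rfl⟩ := Ideal.Quotient.mk_surjective ε'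
    have h1 : ∀ m', Ideal.Quotient.mk m'.asIdeal ε = if m' = m then 1 else 0 := by
      intro m'
      have := congr_fun hε' m'
      rw [← this]
      rfl
    refine ⟨ε, ?_, fun m' hm' => ?_⟩
    · change (e m).symm (Ideal.Quotient.mk m.asIdeal ε) = _
      rw [h1, if_pos rfl, map_one]
    · change (e m').symm (Ideal.Quotient.mk m'.asIdeal ε) = _
      rw [h1, if_neg hm', map_zero]
  · intro y hy
    have : y ∈ nilradical D := by
      rw [IsArtinianRing.nilradical_eq_iInf, Ideal.mem_iInf]
      intro m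
      exact (hχ m y).mp (hy m)
    exact this

end LS

section Local

variable {K : Type u} [CommRing K]

theorem one_sub_mem_span_of_mul {e e' : K} (he : IsIdempotentElem e) :
    (1 - e) ∈ Ideal.span {1 - e * e'} := by
  rw [Ideal.mem_span_singleton]
  refine ⟨1 - e, ?_⟩
  have : e * e = e := he
  linear_combination (-e') * this

theorem mem_span_one_sub_iff {e : K} (he : IsIdempotentElem e) (x : K) :
    x ∈ Ideal.span {1 - e} ↔ e * x = 0 := by
  have h2 : e * e = e := he
  rw [Ideal.mem_span_singleton]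
  constructor
  · rintro ⟨c, rfl⟩
    linear_combination (-c) * h2
  · intro h
    exact ⟨x, by linear_combination h⟩

/-- elements of `q • ⊤` are killed by an idempotent outside `q`. -/
theorem exists_idem_smul_eq_zero (hK : AbsFlat K) (q : Ideal K) [q.IsPrime] {B : Type*}
    [CommRing B] [Algebra K B] {z : B} (hz : z ∈ (q • ⊤ : Submodule K B)) :
    ∃ e : K, IsIdempotentElem e ∧ e ∉ q ∧ e • z = 0 := by
  refine Submodule.smul_induction_on hz ?_ ?_
  · intro r hr m _
    obtain ⟨e, he, heq, her⟩ := hK.exists_idem_mul_eq_zero q (Ideal.IsPrime.ne_top ‹_›) hr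
    exact ⟨e, he, heq, by rw [smul_smul, her, zero_smul]⟩
  · intro x y hx hy
    obtain ⟨e, he, heq, hex⟩ := hx
    obtain ⟨e', he', heq', hey⟩ := hy
    refine ⟨e * e', he.mul he', ?_, ?_⟩
    · intro h
      rcases Ideal.IsPrime.mem_or_mem ‹_› h with h | h
      · exact heq h
      · exact heq' h
    · rw [smul_add, mul_smul, mul_smul, hey, smul_zero, add_zero, smul_comm, hex, smul_zero]

theorem one_sub_mem_of_idem {e : K} (he : IsIdempotentElem e) (q : Ideal K) [q.IsPrime]
    (heq : e ∉ q) : 1 - e ∈ q := by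
  have h0 : e * (1 - e) ∈ q := by
    have h2 : e * e = e := he
    have : e * (1 - e) = 0 := by linear_combination -h2
    rw [this]; exact q.zero_mem
  rcases Ideal.IsPrime.mem_or_mem ‹_› h0 with h | h
  · exact absurd h heq
  · exact h

/-- Lifting finitely many `K ⧸ q`-points of a finitely presented algebra to an idempotent
neighbourhood. -/
theorem exists_lift_points (hK : AbsFlat K) (q : Ideal K) [q.IsPrime] (B : Type u) [CommRing B]
    [Algebra K B] [Algebra.FinitePresentation K B] {ι : Type u} [Finite ι]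
    (χ : ι → B →ₐ[K] K ⧸ q) (P : ι → B) (hP1 : ∀ i, χ i (P i) = 1)
    (hP0 : ∀ i j, j ≠ i → χ j (P i) = 0) :
    ∃ e : K, IsIdempotentElem e ∧ e ∉ q ∧ ∃ (χ' : ι → B →ₐ[K] K ⧸ Ideal.span {1 - e}),
      (∀ i y, χ' i y = 0 → χ i y = 0) ∧ (∀ i, χ' i (P i) = 1) ∧
        ∀ i j, j ≠ i → χ' j (P i) = 0 := by
  classical
  have hP : ∀ i j, χ j (P i) = if j = i then 1 else 0 := by
    intro i j
    split_ifs with h
    · rw [h]; exact hP1 i
    · exact hP0 i j h
  obtain ⟨r, π, hπ, G, hG⟩ := Algebra.FinitePresentation.out (R := K) (A := B)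
  cases nonempty_fintype ι
  choose a ha using fun (i : ι) (j : Fin r) =>
    Ideal.Quotient.mk_surjective (χ i (π (MvPolynomial.X j)))
  choose p hp using fun i => hπ (P i)
  let χh : ι → MvPolynomial (Fin r) K →ₐ[K] K := fun i => MvPolynomial.aeval (a i)
  have hcomp : ∀ i, (Ideal.Quotient.mkₐ K q).comp (χh i) = (χ i).comp π := by
    intro i
    apply MvPolynomial.algHom_ext
    intro j
    simp [χh, ha]
  have hcomp' : ∀ i x, Ideal.Quotient.mk q (χh i x) = χ i (π x) :=
    fun i x => DFunLike.congr_fun (hcomp i) x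
  let F : Finset K := (Finset.univ.biUnion fun i => G.image (χh i)) ∪
    (Finset.univ.image fun ij : ι × ι => χh ij.2 (p ij.1) - if ij.2 = ij.1 then 1 else 0)
  have hF : ∀ y ∈ F, y ∈ q := by
    intro y hy
    rcases Finset.mem_union.mp hy with hy | hy
    · obtain ⟨i, -, hy⟩ := Finset.mem_biUnion.mp hy
      obtain ⟨g, hg, rfl⟩ := Finset.mem_image.mp hy
      rw [← Ideal.Quotient.eq_zero_iff_mem, hcomp']
      have : g ∈ RingHom.ker π.toRingHom := by
        rw [← hG]; exact Ideal.subset_span hg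
      have h0 : π g = 0 := this
      rw [h0, map_zero]
    · obtain ⟨⟨i, j⟩, -, rfl⟩ := Finset.mem_image.mp hy
      rw [← Ideal.Quotient.eq_zero_iff_mem, map_sub, hcomp', hp, hP]
      split_ifs <;> simp
  obtain ⟨e, he, heq, heF⟩ := hK.exists_idem_forall_mul_eq_zero q F hF
  have hle : Ideal.span {1 - e} ≤ q := by
    rw [Ideal.span_le, Set.singleton_subset_iff]
    exact one_sub_mem_of_idem he q heq
  have hker : ∀ i, RingHom.ker π.toRingHom ≤
      RingHom.ker ((Ideal.Quotient.mkₐ K (Ideal.span {1 - e})).comp (χh i)).toRingHom := by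
    intro i
    rw [← hG, Ideal.span_le]
    intro g hg
    change (Ideal.Quotient.mk _ (χh i g)) = 0
    rw [Ideal.Quotient.eq_zero_iff_mem, mem_span_one_sub_iff he]
    apply heF
    apply Finset.mem_union_left
    exact Finset.mem_biUnion.mpr ⟨i, Finset.mem_univ _, Finset.mem_image_of_mem _ hg⟩
  let χ' : ι → B →ₐ[K] K ⧸ Ideal.span {1 - e} := fun i =>
    AlgHom.liftOfSurjective π hπ ((Ideal.Quotient.mkₐ K (Ideal.span {1 - e})).comp (χh i)) (hker i)
  have hχ' : ∀ i x, χ' i (π x) = Ideal.Quotient.mk _ (χh i x) := by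
    intro i x
    exact AlgHom.liftOfSurjective_apply _ _ _ _ _
  have key : ∀ i j, χ' j (P i) = if j = i then 1 else 0 := by
    intro i j
    rw [← hp i, hχ']
    have h1 : e * (χh j (p i) - if j = i then 1 else 0) = 0 := by
      apply heF
      apply Finset.mem_union_right
      exact Finset.mem_image.mpr ⟨(i, j), Finset.mem_univ _, rfl⟩
    rw [← mem_span_one_sub_iff he, ← Ideal.Quotient.eq_zero_iff_mem, map_sub] at h1
    rw [sub_eq_zero.mp h1]
    split_ifs <;> simp
  refine ⟨e, he, heq, χ', ?_, ?_, ?_⟩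
  · intro i y hy
    obtain ⟨x, rfl⟩ := hπ y
    rw [hχ', Ideal.Quotient.eq_zero_iff_mem] at hy
    rw [← hcomp', Ideal.Quotient.eq_zero_iff_mem]
    exact hle hy
  · intro i
    rw [key, if_pos rfl]
  · intro i j hij
    rw [key, if_neg hij]

theorem exists_idem_isNilpotent_smul (hK : AbsFlat K) (q : Ideal K) [q.IsPrime] {B : Type*}
    [CommRing B] [Algebra K B] {y : B} (hy : IsNilpotent ((1 : K ⧸ q) ⊗ₜ[K] y)) :
    ∃ e : K, IsIdempotentElem e ∧ e ∉ q ∧ IsNilpotent (e • y) := by
  obtain ⟨N, hN⟩ := hy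
  have h1 : ((1 : K ⧸ q) ⊗ₜ[K] y) ^ N = (1 : K ⧸ q) ⊗ₜ[K] (y ^ N) := by
    rw [Algebra.TensorProduct.tmul_pow, one_pow]
  rw [h1] at hN
  have h2 : y ^ N ∈ (q • ⊤ : Submodule K B) := by
    have := congrArg (TensorProduct.quotTensorEquivQuotSMul B q) hN
    rw [TensorProduct.quotTensorEquivQuotSMul_mk_one_tmul, map_zero,
      Submodule.Quotient.mk_eq_zero] at this
    exact this
  obtain ⟨e, he, heq, hey⟩ := exists_idem_smul_eq_zero hK q h2
  refine ⟨e, he, heq, N + 1, ?_⟩
  rw [smul_pow, pow_succ e, pow_succ y, mul_smul, ← smul_mul_assoc, hey, zero_mul, smul_zero]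

/-- Local structure of a finitely presented quasi-finite algebra over an absolutely flat ring at
a maximal ideal with algebraically closed residue field: on an idempotent neighbourhood, the
reduction is a finite product of copies of the base. -/
theorem local_structure (hK : AbsFlat K) (q : Ideal K) [hq : q.IsMaximal]
    (hac : letI := Ideal.Quotient.field q; IsAlgClosed (K ⧸ q)) (B : Type u) [CommRing B]
    [Algebra K B] [Algebra.FinitePresentation K B] [Algebra.QuasiFinite K B] :
    ∃ e : K, IsIdempotentElem e ∧ e ∉ q ∧ ∃ (ι : Type u) (_ : Finite ι)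
      (Θ : B →ₐ[K] (ι → K ⧸ Ideal.span {1 - e})), Function.Surjective Θ ∧
      RingHom.ker Θ ≤ nilradical B ⊔ Ideal.span {algebraMap K B (1 - e)} := by
  classical
  letI := Ideal.Quotient.field q
  haveI := hac
  haveI : Module.Finite (K ⧸ q) ((K ⧸ q) ⊗[K] B) := Module.Finite.of_quasiFinite
  obtain ⟨ι, hι, χ, hχ1, hχ2⟩ := exists_points (K ⧸ q) ((K ⧸ q) ⊗[K] B)
  let χ₀ : ι → B →ₐ[K] K ⧸ q := fun i =>
    ((χ i).restrictScalars K).comp Algebra.TensorProduct.includeRight
  have hχ₀ : ∀ i y, χ₀ i y = χ i ((1 : K ⧸ q) ⊗ₜ[K] y) := fun i y => rfl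
  have hincl : Function.Surjective
      (Algebra.TensorProduct.includeRight : B →ₐ[K] (K ⧸ q) ⊗[K] B) :=
    Algebra.TensorProduct.includeRight_surjective _ Ideal.Quotient.mk_surjective
  choose ε hε1 hε0 using hχ1
  choose P hP using fun i => hincl (ε i)
  have hP' : ∀ i, (1 : K ⧸ q) ⊗ₜ[K] P i = ε i := hP
  obtain ⟨e₁, he₁, he₁q, χ', hχ'0, hχ'1, hχ'2⟩ := exists_lift_points hK q B χ₀ P
    (fun i => by rw [hχ₀, hP', hε1]) (fun i j hij => by rw [hχ₀, hP', hε0 i j hij])
  cases nonempty_fintype ι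
  let Θ₁ : B →ₐ[K] (ι → K ⧸ Ideal.span {1 - e₁}) :=
    AlgHom.pi χ'
  have hΘ₁a : ∀ z i, Θ₁ z i = χ' i z := fun z i => rfl
  have hΘ₁P : ∀ i, Θ₁ (P i) = Pi.single i 1 := by
    intro i
    ext j
    rw [hΘ₁a, Pi.single_apply]
    split_ifs with h
    · rw [h]; exact hχ'1 i
    · exact hχ'2 i j h
  have hΘ₁ : Function.Surjective Θ₁ := by
    intro c
    choose c' hc' using fun i => Ideal.Quotient.mk_surjective (c i)
    refine ⟨∑ i, c' i • P i, ?_⟩
    rw [map_sum]
    ext j
    rw [Finset.sum_apply]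
    simp only [map_smul, hΘ₁P, Pi.smul_apply, Pi.single_apply, smul_ite, smul_zero,
      Finset.sum_ite_eq, Finset.mem_univ, if_true]
    rw [Algebra.smul_def, mul_one, ← hc' j]
    rfl
  haveI : Algebra.FinitePresentation K (K ⧸ Ideal.span {1 - e₁}) :=
    Algebra.FinitePresentation.quotient ⟨{1 - e₁}, by simp⟩
  haveI : Module.FinitePresentation K (K ⧸ Ideal.span {1 - e₁}) :=
    Module.FinitePresentation.of_finite_of_finitePresentation K _
  haveI : Algebra.FinitePresentation K (ι → K ⧸ Ideal.span {1 - e₁}) := inferInstance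
  obtain ⟨Y, hY⟩ := Algebra.FinitePresentation.ker_fG_of_surjective Θ₁ hΘ₁
  have hnilY : ∀ y ∈ Y, ∃ e' : K, IsIdempotentElem e' ∧ e' ∉ q ∧ IsNilpotent (e' • y) := by
    intro y hy
    apply exists_idem_isNilpotent_smul hK q
    apply hχ2
    intro i
    rw [← hχ₀]
    apply hχ'0
    have : y ∈ RingHom.ker Θ₁.toRingHom := by rw [← hY]; exact Ideal.subset_span hy
    exact congr_fun this i
  have hex : ∃ e₂ : K, IsIdempotentElem e₂ ∧ e₂ ∉ q ∧ ∀ y ∈ Y, IsNilpotent (e₂ • y) := by
    clear hY
    induction Y using Finset.induction_on with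
    | empty =>
      exact ⟨1, IsIdempotentElem.one, (Ideal.ne_top_iff_one q).mp hq.ne_top, by simp⟩
    | insert a Y ha ih =>
      obtain ⟨e, he, heq, heY⟩ := ih fun y hy => hnilY y (Finset.mem_insert_of_mem hy)
      obtain ⟨e', he', heq', hea⟩ := hnilY a (Finset.mem_insert_self a Y)
      refine ⟨e * e', he.mul he', ?_, ?_⟩
      · intro h
        rcases hq.isPrime.mem_or_mem h with h | h
        · exact heq h
        · exact heq' h
      · intro y hy
        rcases Finset.mem_insert.mp hy with rfl | hy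
        · rw [mul_smul, Algebra.smul_def]
          exact (Commute.all _ _).isNilpotent_mul_left hea
        · rw [mul_comm, mul_smul, Algebra.smul_def]
          exact (Commute.all _ _).isNilpotent_mul_left (heY y hy)
  obtain ⟨e₂, he₂, he₂q, hnil⟩ := hex
  have hspan : ∀ w ∈ Ideal.span (Y : Set B), e₂ • w ∈ nilradical B := by
    intro w hw
    refine Submodule.span_induction ?_ ?_ ?_ ?_ hw
    · intro y hy; exact hnil y hy
    · rw [smul_zero]; exact Ideal.zero_mem _
    · intro a b _ _ ha hb; rw [smul_add]; exact Ideal.add_mem _ ha hb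
    · intro a b _ hb
      rw [smul_comm]
      exact Ideal.mul_mem_left _ _ hb
  have hle : Ideal.span {1 - e₁} ≤ Ideal.span {1 - e₁ * e₂} := by
    rw [Ideal.span_le, Set.singleton_subset_iff]
    exact one_sub_mem_span_of_mul he₁
  have hee : IsIdempotentElem (e₁ * e₂) := he₁.mul he₂
  refine ⟨e₁ * e₂, hee, ?_, ι, inferInstance,
    ((Ideal.Quotient.factorₐ K hle).compLeft ι).comp Θ₁, ?_, ?_⟩
  · intro h
    rcases hq.isPrime.mem_or_mem h with h | h
    · exact he₁q h
    · exact he₂q h
  · rw [AlgHom.coe_comp]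
    refine Function.Surjective.comp ?_ hΘ₁
    exact Function.Surjective.comp_left (Ideal.Quotient.factor_surjective hle)
  · intro z hz
    have hz' : ∀ i, Ideal.Quotient.factor hle (χ' i z) = 0 := fun i => congr_fun hz i
    have h1 : ∀ i, χ' i ((e₁ * e₂) • z) = 0 := by
      intro i
      rw [map_smul]
      obtain ⟨c, hc⟩ := Ideal.Quotient.mk_surjective (χ' i z)
      have := hz' i
      rw [← hc, Ideal.Quotient.factor_mk, Ideal.Quotient.eq_zero_iff_mem,
        mem_span_one_sub_iff hee] at this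
      rw [← hc, Algebra.smul_def, Ideal.Quotient.algebraMap_eq, ← map_mul, this, map_zero]
    have h2 : (e₁ * e₂) • z ∈ Ideal.span (Y : Set B) := by
      rw [hY]
      change Θ₁ ((e₁ * e₂) • z) = 0
      ext i
      exact h1 i
    have h3 : (e₁ * e₂) • z ∈ nilradical B := by
      have := hspan _ h2
      rwa [smul_smul, ← mul_assoc, mul_comm e₂, mul_assoc, he₂.eq] at this
    have h4 : z = (e₁ * e₂) • z + algebraMap K B (1 - e₁ * e₂) * z := by
      rw [Algebra.smul_def, ← add_mul, ← map_add]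
      simp
    rw [h4]
    refine Submodule.add_mem_sup h3 ?_
    exact Ideal.mul_mem_right _ _ (Ideal.subset_span rfl)

end Local

section Global

variable {K : Type u} [CommRing K]

theorem AbsFlat.quotient (hK : AbsFlat K) (I : Ideal K) : AbsFlat (K ⧸ I) := by
  intro x
  obtain ⟨c, rfl⟩ := Ideal.Quotient.mk_surjective x
  obtain ⟨c', hc'⟩ := hK c
  exact ⟨Ideal.Quotient.mk I c', by rw [← map_mul, ← map_mul, hc']⟩

/-- Global structure: any local property of ring maps which holds for `R → R^ι` holds for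
`K → B_red`, where `K` is absolutely flat with algebraically closed residue fields and `B` is
finitely presented and quasi-finite over `K`. -/
theorem global_structure {P : ∀ {R S : Type u} [CommRing R] [CommRing S], (R →+* S) → Prop}
    (hP : RingHom.OfLocalizationSpan @P) (hPi : RingHom.RespectsIso @P)
    (hPpi : ∀ (R : Type u) [CommRing R] (ι : Type u) [Finite ι], P (algebraMap R (ι → R)))
    (hK : AbsFlat K)
    (hac : ∀ (q : Ideal K) [q.IsMaximal], letI := Ideal.Quotient.field q; IsAlgClosed (K ⧸ q))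
    (B : Type u) [CommRing B] [Algebra K B] [Algebra.FinitePresentation K B]
    [Algebra.QuasiFinite K B] :
    P (algebraMap K (B ⧸ nilradical B)) := by
  classical
  let s : Set K := {e | IsIdempotentElem e ∧ ∃ (ι : Type u) (_ : Finite ι)
    (Θ : B →ₐ[K] (ι → K ⧸ Ideal.span {1 - e})), Function.Surjective Θ ∧
      RingHom.ker Θ ≤ nilradical B ⊔ Ideal.span {algebraMap K B (1 - e)}}
  have hs : Ideal.span s = ⊤ := by
    by_contra h
    obtain ⟨q, hq, hle⟩ := Ideal.exists_le_maximal _ h
    obtain ⟨e, he, heq, ι, hι, Θ, hΘ, hker⟩ := local_structure hK q (hac q) B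
    exact heq (hle (Ideal.subset_span ⟨he, ι, hι, Θ, hΘ, hker⟩))
  refine hP.ofIsLocalization hPi (algebraMap K (B ⧸ nilradical B)) s hs ?_
  rintro ⟨e, he, ι, hι, Θ, hΘ, hker⟩
  set f := algebraMap K (B ⧸ nilradical B) with hf
  have hfe : IsIdempotentElem (f e) := he.map f
  have hcomap : Ideal.span {1 - e} ≤ (Ideal.span {1 - f e}).comap f := by
    rw [Ideal.span_le, Set.singleton_subset_iff]
    rw [SetLike.mem_coe, Ideal.mem_comap, map_sub, map_one]
    exact Ideal.subset_span rfl
  haveI := IsLocalization.Away.quotient_of_isIdempotentElem he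
  haveI := IsLocalization.Away.quotient_of_isIdempotentElem hfe
  refine ⟨K ⧸ Ideal.span {1 - e}, (B ⧸ nilradical B) ⧸ Ideal.span {1 - f e}, inferInstance,
    inferInstance, inferInstance, inferInstance, inferInstance, inferInstance,
    Ideal.quotientMap _ f hcomap, Ideal.quotientMap_comp_mk hcomap, ?_⟩
  -- the comparison map
  haveI : IsReduced (K ⧸ Ideal.span {1 - e}) := (hK.quotient _).isReduced
  have hN : ∀ x ∈ nilradical B, Θ x = 0 := by
    intro x hx
    ext i
    exact (IsNilpotent.map hx ((Pi.evalRingHom _ i).comp Θ.toRingHom)).eq_zero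
  let Θ₁ : B ⧸ nilradical B →+* (ι → K ⧸ Ideal.span {1 - e}) :=
    Ideal.Quotient.lift _ Θ.toRingHom hN
  have hΘ₁f : ∀ c : K, Θ₁ (f c) = algebraMap K _ c := by
    intro c
    change Θ₁ (Ideal.Quotient.mk _ (algebraMap K B c)) = _
    rw [Ideal.Quotient.lift_mk]
    exact Θ.commutes c
  have hone : ∀ x ∈ Ideal.span {1 - f e}, Θ₁ x = 0 := by
    intro x hx
    obtain ⟨c, rfl⟩ := Ideal.mem_span_singleton'.mp hx
    rw [map_mul, map_sub, map_one, hΘ₁f]
    have : algebraMap K (ι → K ⧸ Ideal.span {1 - e}) e = 1 := by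
      ext i
      change Ideal.Quotient.mk _ e = 1
      rw [← sub_eq_zero, ← map_one (Ideal.Quotient.mk _), ← map_sub,
        Ideal.Quotient.eq_zero_iff_mem]
      rw [show e - 1 = -(1 - e) by ring]
      exact Submodule.neg_mem _ (Ideal.subset_span rfl)
    rw [this, sub_self, mul_zero]
  let Θ₂ : (B ⧸ nilradical B) ⧸ Ideal.span {1 - f e} →+* (ι → K ⧸ Ideal.span {1 - e}) :=
    Ideal.Quotient.lift _ Θ₁ hone
  have hΘ₂ : Function.Bijective Θ₂ := by
    constructor
    · rw [injective_iff_map_eq_zero]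
      intro x hx
      obtain ⟨x, rfl⟩ := Ideal.Quotient.mk_surjective x
      obtain ⟨x, rfl⟩ := Ideal.Quotient.mk_surjective x
      have h0 : Θ x = 0 := hx
      have h1 := hker h0
      obtain ⟨n, hn, m, hm, rfl⟩ := Submodule.mem_sup.mp h1
      obtain ⟨c, rfl⟩ := Ideal.mem_span_singleton'.mp hm
      rw [Ideal.Quotient.eq_zero_iff_mem, map_add, Ideal.Quotient.eq_zero_iff_mem.mpr hn,
        zero_add, map_mul]
      refine Ideal.mul_mem_left _ _ ?_
      have : Ideal.Quotient.mk (nilradical B) (algebraMap K B (1 - e)) = 1 - f e := by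
        rw [hf, map_sub, map_sub, map_one, map_one]
        rfl
      rw [this]
      exact Ideal.subset_span rfl
    · intro c
      obtain ⟨b, rfl⟩ := hΘ c
      exact ⟨Ideal.Quotient.mk _ (Ideal.Quotient.mk _ b), rfl⟩
  let φ := RingEquiv.ofBijective Θ₂ hΘ₂
  have hcompat : Ideal.quotientMap _ f hcomap =
      φ.symm.toRingHom.comp (algebraMap (K ⧸ Ideal.span {1 - e}) (ι → K ⧸ Ideal.span {1 - e})) := by
    apply Ideal.Quotient.ringHom_ext
    ext c
    simp only [RingHom.comp_apply, Ideal.quotientMap_mk, RingEquiv.toRingHom_eq_coe,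
      RingHom.coe_coe]
    rw [RingEquiv.eq_symm_apply]
    change Θ₂ (Ideal.Quotient.mk _ (f c)) = _
    rw [Ideal.Quotient.lift_mk, hΘ₁f]
    rfl
  rw [hcompat]
  exact hPi.1 _ _ (hPpi _ ι)

end Global

section Closure

theorem absFlat_pi {J : Type*} (F : J → Type*) [∀ j, Field (F j)] : AbsFlat (∀ j, F j) := by
  intro x
  refine ⟨fun j => (x j)⁻¹, ?_⟩
  ext j
  simp only [Pi.mul_apply]
  exact mul_self_mul_inv (x j)

theorem isAlgClosed_quotient_pi {J : Type*} (F : J → Type*) [∀ j, Field (F j)]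
    [∀ j, IsAlgClosed (F j)] (q : Ideal (∀ j, F j)) [q.IsMaximal] :
    letI := Ideal.Quotient.field q; IsAlgClosed ((∀ j, F j) ⧸ q) := by
  letI := Ideal.Quotient.field q
  apply IsAlgClosed.of_exists_root
  intro p hp hirr
  obtain ⟨p', hp'map, hp'deg, hp'monic⟩ := Polynomial.lifts_and_natDegree_eq_and_monic
    (Polynomial.mem_lifts_of_surjective Ideal.Quotient.mk_surjective p) hp
  have hdeg : p'.natDegree ≠ 0 := by
    rw [hp'deg]; exact (Irreducible.natDegree_pos hirr).ne'
  have : ∀ j, ∃ r : F j, (p'.map (Pi.evalRingHom F j)).eval r = 0 := by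
    intro j
    apply IsAlgClosed.exists_root
    apply Polynomial.degree_ne_of_natDegree_ne
    rw [hp'monic.natDegree_map]
    exact hdeg
  choose r hr using this
  refine ⟨Ideal.Quotient.mk q r, ?_⟩
  rw [← hp'map, Polynomial.eval_map, Polynomial.eval₂_at_apply]
  have : p'.eval r = 0 := by
    ext j
    have := hr j
    rw [Polynomial.eval_map] at this
    have h2 : Pi.evalRingHom F j r = r j := rfl
    rw [← h2, Polynomial.eval₂_at_apply] at this
    exact this
  rw [this, map_zero]

variable (A : Type u) [CommRing A]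

/-- The product of the algebraic closures of all residue fields of `A`. -/
abbrev KK : Type u := ∀ 𝔭 : PrimeSpectrum A, AlgebraicClosure 𝔭.asIdeal.ResidueField

/-- The canonical map `A → KK A`. -/
noncomputable def toKK : A →+* KK A :=
  RingHom.pi fun 𝔭 => (algebraMap 𝔭.asIdeal.ResidueField
    (AlgebraicClosure 𝔭.asIdeal.ResidueField)).comp (algebraMap A 𝔭.asIdeal.ResidueField)

theorem comap_toKK_surjective : Function.Surjective (PrimeSpectrum.comap (toKK A)) := by
  intro 𝔭
  refine ⟨⟨RingHom.ker (Pi.evalRingHom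
    (fun 𝔭 : PrimeSpectrum A => AlgebraicClosure 𝔭.asIdeal.ResidueField) 𝔭),
    RingHom.ker_isPrime _⟩, ?_⟩
  ext x
  change (toKK A x) 𝔭 = 0 ↔ x ∈ 𝔭.asIdeal
  change algebraMap 𝔭.asIdeal.ResidueField (AlgebraicClosure 𝔭.asIdeal.ResidueField)
    (algebraMap A 𝔭.asIdeal.ResidueField x) = 0 ↔ _
  rw [map_eq_zero_iff _ (algebraMap 𝔭.asIdeal.ResidueField
    (AlgebraicClosure 𝔭.asIdeal.ResidueField)).injective]
  conv_rhs => rw [← Ideal.ker_algebraMap_residueField 𝔭.asIdeal]
  rfl

theorem algebraMap_KK_eq : algebraMap A (KK A) = toKK A := by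
  ext x 𝔭
  change algebraMap A (AlgebraicClosure 𝔭.asIdeal.ResidueField) x = _
  rw [IsScalarTower.algebraMap_apply A 𝔭.asIdeal.ResidueField
    (AlgebraicClosure 𝔭.asIdeal.ResidueField)]
  rfl

theorem comap_algebraMap_KK_surjective :
    Function.Surjective (PrimeSpectrum.comap (algebraMap A (KK A))) := by
  rw [algebraMap_KK_eq]
  exact comap_toKK_surjective A

theorem absFlat_KK : AbsFlat (KK A) := absFlat_pi _

theorem isAlgClosed_KK (q : Ideal (KK A)) [q.IsMaximal] :
    letI := Ideal.Quotient.field q; IsAlgClosed (KK A ⧸ q) :=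
  isAlgClosed_quotient_pi _ q

theorem finite_red {K : Type u} [CommRing K] (hK : AbsFlat K)
    (hac : ∀ (q : Ideal K) [q.IsMaximal], letI := Ideal.Quotient.field q; IsAlgClosed (K ⧸ q))
    (B : Type u) [CommRing B] [Algebra K B] [Algebra.FinitePresentation K B]
    [Algebra.QuasiFinite K B] : (algebraMap K (B ⧸ nilradical B)).Finite :=
  global_structure RingHom.finite_ofLocalizationSpan RingHom.finite_respectsIso
    (fun _ _ _ _ => RingHom.finite_algebraMap.mpr inferInstance) hK hac B

theorem etale_red {K : Type u} [CommRing K] (hK : AbsFlat K)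
    (hac : ∀ (q : Ideal K) [q.IsMaximal], letI := Ideal.Quotient.field q; IsAlgClosed (K ⧸ q))
    (B : Type u) [CommRing B] [Algebra K B] [Algebra.FinitePresentation K B]
    [Algebra.QuasiFinite K B] : (algebraMap K (B ⧸ nilradical B)).Etale :=
  global_structure RingHom.Etale.ofLocalizationSpan RingHom.Etale.respectsIso
    (fun _ _ _ _ => RingHom.etale_algebraMap.mpr inferInstance) hK hac B

end Closure

end Groth.Agent.Lib.helper11.QfDecomp
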