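import Mathlib
import Groth.Agent.Lib.Helper11.QfDecomp

/-!
# Decomposition of quasi-finite morphisms after a surjective affine base change
(helper11; for S0170)
-/

universe u

open CategoryTheory CategoryTheory.Limits AlgebraicGeometry Opposite TensorProduct

namespace Groth.Agent.Lib.helper11.QfDecomp

theorem main_aux {A B : Type u} [CommRing A] [CommRing B] [Algebra A B]
    [Algebra.QuasiFinite A B] [Algebra.FinitePresentation A B] {Y X : Scheme.{u}} (f : Y ⟶ X)
    (eX : Spec (CommRingCat.of A) ≅ X) (eY : Spec (CommRingCat.of B) ≅ Y)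
    (hnat : Spec.map (CommRingCat.ofHom (algebraMap A B)) ≫ eX.hom = eY.hom ≫ f) :
    ∃ (X' : Scheme.{u}) (_ : IsAffine X') (a : X' ⟶ X) (_ : Surjective a) (Z' : Scheme.{u})
      (c : Z' ⟶ pullback a f) (_ : IsClosedImmersion c) (_ : Surjective c),
      IsFinite (c ≫ pullback.fst a f) ∧ Etale (c ≫ pullback.fst a f) := by
  have hpo := CommRingCat.isPushout_tensorProduct A (KK A) B
  have hsq1 := isPullback_SpecMap_of_isPushout _ _ _ _ hpo
  have hsq2 : IsPullback (Spec.map (CommRingCat.ofHom (algebraMap A B))) eY.hom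
      eX.hom f := IsPullback.of_vert_isIso ⟨hnat⟩
  have hpb := hsq1.paste_vert hsq2
  set a : Spec (CommRingCat.of (KK A)) ⟶ X :=
    Spec.map (CommRingCat.ofHom (algebraMap A (KK A))) ≫ eX.hom with ha
  -- surjectivity of `a`
  haveI hsurj1 : Surjective (Spec.map (CommRingCat.ofHom (algebraMap A (KK A)))) :=
    ⟨fun x => comap_algebraMap_KK_surjective A x⟩
  haveI : Surjective a := by rw [ha]; infer_instance
  -- the reduction
  let N : Ideal (KK A ⊗[A] B) := nilradical (KK A ⊗[A] B)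
  let qm : CommRingCat.of (KK A ⊗[A] B) ⟶ CommRingCat.of ((KK A ⊗[A] B) ⧸ N) :=
    CommRingCat.ofHom (Ideal.Quotient.mk N)
  haveI : IsClosedImmersion (Spec.map qm) :=
    IsClosedImmersion.spec_of_surjective qm Ideal.Quotient.mk_surjective
  haveI : Surjective (Spec.map qm) :=
    ⟨(PrimeSpectrum.comap_quotientMk_bijective_of_le_nilradical (le_refl _)).2⟩
  refine ⟨Spec (CommRingCat.of (KK A)), inferInstance, a, inferInstance,
    Spec (CommRingCat.of ((KK A ⊗[A] B) ⧸ N)), Spec.map qm ≫ hpb.isoPullback.hom,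
    inferInstance, inferInstance, ?_⟩
  have hcomp : (Spec.map qm ≫ hpb.isoPullback.hom) ≫ pullback.fst a f =
      Spec.map (CommRingCat.ofHom (algebraMap (KK A) ((KK A ⊗[A] B) ⧸ N))) := by
    rw [Category.assoc, hpb.isoPullback_hom_fst, ← Spec.map_comp]
    rfl
  rw [hcomp]
  constructor
  · rw [IsFinite.SpecMap_iff]
    exact finite_red (absFlat_KK A) (fun q _ => isAlgClosed_KK A q) (KK A ⊗[A] B)
  · rw [HasRingHomProperty.Spec_iff (P := @Etale)]
    exact etale_red (absFlat_KK A) (fun q _ => isAlgClosed_KK A q) (KK A ⊗[A] B)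

theorem main {Y X : Scheme.{u}} [IsAffine X] [IsAffine Y] (f : Y ⟶ X)
    [LocallyQuasiFinite f] [LocallyOfFinitePresentation f] :
    ∃ (X' : Scheme.{u}) (_ : IsAffine X') (a : X' ⟶ X) (_ : Surjective a) (Z' : Scheme.{u})
      (c : Z' ⟶ pullback a f) (_ : IsClosedImmersion c) (_ : Surjective c),
      IsFinite (c ≫ pullback.fst a f) ∧ Etale (c ≫ pullback.fst a f) := by
  letI : Algebra Γ(X, ⊤) Γ(Y, ⊤) := f.appTop.hom.toAlgebra
  have hqf : f.appTop.hom.QuasiFinite :=
    (HasRingHomProperty.iff_of_isAffine (P := @LocallyQuasiFinite)).mp inferInstance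
  have hfp : f.appTop.hom.FinitePresentation :=
    (HasRingHomProperty.iff_of_isAffine (P := @LocallyOfFinitePresentation)).mp inferInstance
  haveI : Algebra.QuasiFinite Γ(X, ⊤) Γ(Y, ⊤) := hqf
  haveI : Algebra.FinitePresentation Γ(X, ⊤) Γ(Y, ⊤) := hfp
  exact main_aux (A := Γ(X, ⊤)) (B := Γ(Y, ⊤)) f X.isoSpec.symm Y.isoSpec.symm
    (Scheme.isoSpec_inv_naturality f)

end Groth.Agent.Lib.helper11.QfDecomp
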