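import Groth.Agent.Lib.Helper11.QuasiReg

/-! Consequences of quasi-regularity for `J ∩ Rⁿ` (helper11). -/

set_option autoImplicit false

namespace Groth.Agent.Lib.helper11.QuasiReg

open MvPolynomial

variable {B : Type*} [CommRing B]

/-! ### Consequences for `J ∩ Rⁿ` -/

/-- from weak regularity on `A ⧸ J` (as `A`-module) to quasi-regularity of the images -/
theorem QR_mk_of_isWeaklyRegular (J : Ideal B) {r : ℕ} (f : Fin r → B)
    (hf : RingTheory.Sequence.IsWeaklyRegular (B ⧸ J) (List.ofFn f)) :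
    QR (Ideal.Quotient.mk J ∘ f) := by
  apply QR_of_isWeaklyRegular
  rw [← RingTheory.Sequence.isWeaklyRegular_map_algebraMap_iff (B ⧸ J) (B ⧸ J) (List.ofFn f)] at hf
  rw [List.map_ofFn] at hf
  exact hf

lemma eval_map_mk (J : Ideal B) {r : ℕ} (f : Fin r → B) (F : MvPolynomial (Fin r) B) :
    MvPolynomial.eval (Ideal.Quotient.mk J ∘ f) (MvPolynomial.map (Ideal.Quotient.mk J) F) =
      Ideal.Quotient.mk J (MvPolynomial.eval f F) := by
  rw [MvPolynomial.eval_map]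
  have := MvPolynomial.eval₂_comp_left (Ideal.Quotient.mk J) (RingHom.id B) f F
  rw [RingHom.comp_id] at this
  exact this.symm

theorem inf_pow_le_step (J : Ideal B) {r : ℕ} (f : Fin r → B)
    (hq : QR (Ideal.Quotient.mk J ∘ f)) (n : ℕ) :
    J ⊓ Ideal.span (Set.range f) ^ n ≤
      J * Ideal.span (Set.range f) ^ n ⊔ J ⊓ Ideal.span (Set.range f) ^ (n + 1) := by
  intro a ha
  obtain ⟨haJ, haR⟩ := ha
  obtain ⟨F, hF, rfl⟩ := (Ideal.mem_span_pow_iff_exists_isHomogeneous f a).1 haR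
  have hmap : Ideal.span (Set.range (Ideal.Quotient.mk J ∘ f)) =
      (Ideal.span (Set.range f)).map (Ideal.Quotient.mk J) := by
    rw [Ideal.map_span, Set.range_comp]
  have h1 : ∀ d, (MvPolynomial.map (Ideal.Quotient.mk J) F).coeff d ∈
      Ideal.span (Set.range (Ideal.Quotient.mk J ∘ f)) := by
    apply hq n _ (hF.map _)
    rw [eval_map_mk, Ideal.Quotient.eq_zero_iff_mem.2 haJ]
    exact Ideal.zero_mem _
  have h2 : ∀ d, F.coeff d ∈ Ideal.span (Set.range f) ⊔ J := by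
    intro d
    have := h1 d
    rw [hmap, MvPolynomial.coeff_map] at this
    exact Ideal.mem_quotient_iff_mem_sup.1 this
  have h3 : MvPolynomial.eval f F ∈ (Ideal.span (Set.range f) ⊔ J) * Ideal.span (Set.range f) ^ n :=
    eval_mem_mul f _ n F hF h2
  have h4 : (Ideal.span (Set.range f) ⊔ J) * Ideal.span (Set.range f) ^ n =
     Ideal.span (Set.range f) ^ (n + 1) ⊔ J * Ideal.span (Set.range f) ^ n := by
    rw [Ideal.sup_mul, pow_succ' (Ideal.span (Set.range f)) n]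
  rw [h4] at h3
  obtain ⟨u, hu, v, hv, huv⟩ := Submodule.mem_sup.1 h3
  have hvJ : v ∈ J := Ideal.mul_le_left hv
  have huJ : u ∈ J := by
    have : u = MvPolynomial.eval f F - v := by
      rw [← huv, add_sub_cancel_right]
    rw [this]
    exact Ideal.sub_mem _ haJ hvJ
  have hu' : u ∈ J ⊓ Ideal.span (Set.range f) ^ (n + 1) := Ideal.mem_inf.2 ⟨huJ, hu⟩
  rw [← huv, add_comm u v]
  exact Submodule.add_mem_sup hv hu'
/-- `J ∩ Rⁿ = J Rⁿ + J ∩ R^N` for `n ≤ N` -/
theorem inf_pow_eq (J : Ideal B) {r : ℕ} (f : Fin r → B)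
    (hq : QR (Ideal.Quotient.mk J ∘ f)) (n N : ℕ) (hnN : n ≤ N) :
    J ⊓ Ideal.span (Set.range f) ^ n =
      J * Ideal.span (Set.range f) ^ n ⊔ J ⊓ Ideal.span (Set.range f) ^ N := by
  apply le_antisymm
  · induction N, hnN using Nat.le_induction with
    | base => exact le_sup_right
    | succ N hN ih =>
      refine ih.trans (sup_le le_sup_left ?_)
      refine (inf_pow_le_step J f hq N).trans (sup_le ?_ le_sup_right)
      exact le_sup_of_le_left (Ideal.mul_mono_right (Ideal.pow_le_pow_right hN))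
  · refine sup_le (Ideal.mul_le_inf) (inf_le_inf_left _ (Ideal.pow_le_pow_right hnN))

/-- Krull intersection, ideal form -/
lemma mem_of_forall_mem_sup_pow [IsNoetherianRing B] (K R : Ideal B)
    (hrad : R ≤ (⊥ : Ideal B).jacobson) (x : B) (hx : ∀ N, x ∈ K ⊔ R ^ N) : x ∈ K := by
  have hkrull := Ideal.iInf_pow_smul_eq_bot_of_le_jacobson (M := B ⧸ K) R hrad
  have hmem : (Ideal.Quotient.mk K x : B ⧸ K) ∈
      (⨅ i : ℕ, R ^ i • ⊤ : Submodule B (B ⧸ K)) := by
    rw [Submodule.mem_iInf]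
    intro N
    obtain ⟨u, hu, v, hv, huv⟩ := Submodule.mem_sup.1 (hx N)
    have h1 : (Ideal.Quotient.mk K x : B ⧸ K) = v • (1 : B ⧸ K) := by
      rw [← huv, map_add, Ideal.Quotient.eq_zero_iff_mem.2 hu, zero_add, Algebra.smul_def,
        mul_one, Ideal.Quotient.algebraMap_eq]
    rw [h1]
    exact Submodule.smul_mem_smul hv Submodule.mem_top
  rw [hkrull, Submodule.mem_bot] at hmem
  exact Ideal.Quotient.eq_zero_iff_mem.1 hmem

/-- Noetherian + Jacobson radical: `J ∩ Rⁿ = J Rⁿ` -/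
theorem inf_pow_eq_mul [IsNoetherianRing B] (J : Ideal B) {r : ℕ} (f : Fin r → B)
    (hq : QR (Ideal.Quotient.mk J ∘ f))
    (hrad : Ideal.span (Set.range f) ≤ (⊥ : Ideal B).jacobson) (n : ℕ) :
    J ⊓ Ideal.span (Set.range f) ^ n = J * Ideal.span (Set.range f) ^ n := by
  apply le_antisymm _ Ideal.mul_le_inf
  intro x hx
  apply mem_of_forall_mem_sup_pow _ _ hrad
  intro N
  have hx' : x ∈ J * Ideal.span (Set.range f) ^ n ⊔ J ⊓ Ideal.span (Set.range f) ^ (n + N) := by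
    rw [← inf_pow_eq J f hq n (n + N) (Nat.le_add_right _ _)]
    exact hx
  have hle : J * Ideal.span (Set.range f) ^ n ⊔ J ⊓ Ideal.span (Set.range f) ^ (n + N) ≤
      J * Ideal.span (Set.range f) ^ n ⊔ Ideal.span (Set.range f) ^ N :=
    sup_le_sup_left (inf_le_right.trans (Ideal.pow_le_pow_right (Nat.le_add_left _ _))) _
  exact hle hx'

/-- `J ∩ Q² = J Q`, `Q = J + R` -/
theorem inf_sq_eq_mul [IsNoetherianRing B] (J : Ideal B) {r : ℕ} (f : Fin r → B)
    (hq : QR (Ideal.Quotient.mk J ∘ f))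
    (hrad : Ideal.span (Set.range f) ≤ (⊥ : Ideal B).jacobson) :
    J ⊓ (J ⊔ Ideal.span (Set.range f)) ^ 2 = J * (J ⊔ Ideal.span (Set.range f)) := by
  have key := inf_pow_eq_mul J f hq hrad 2
  generalize Ideal.span (Set.range f) = R at key
  apply le_antisymm
  · have h1 : R * J ≤ J * (J ⊔ R) ⊔ R ^ 2 := by
      rw [mul_comm R J]
      exact le_sup_of_le_left (Ideal.mul_mono_right (le_sup_right : R ≤ J ⊔ R))
    have h2 : R * R ≤ J * (J ⊔ R) ⊔ R ^ 2 := by
      rw [← pow_two]; exact le_sup_right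
    have hQ2 : (J ⊔ R) ^ 2 ≤ J * (J ⊔ R) ⊔ R ^ 2 := by
      calc (J ⊔ R) ^ 2 = J * (J ⊔ R) ⊔ R * (J ⊔ R) := by rw [pow_two, Ideal.sup_mul]
        _ = J * (J ⊔ R) ⊔ (R * J ⊔ R * R) := by rw [Ideal.mul_sup R J R]
        _ ≤ J * (J ⊔ R) ⊔ R ^ 2 := sup_le le_sup_left (sup_le h1 h2)
    intro x hx
    obtain ⟨hxJ, hxQ⟩ := hx
    obtain ⟨u, hu, v, hv, huv⟩ := Submodule.mem_sup.1 (hQ2 hxQ)
    have huJ : u ∈ J := Ideal.mul_le_left hu
    have hvJ : v ∈ J := by
      have : v = x - u := by rw [← huv]; ring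
      rw [this]; exact Ideal.sub_mem _ hxJ huJ
    have hv' : v ∈ J * R ^ 2 := by
      rw [← key]
      exact Ideal.mem_inf.2 ⟨hvJ, hv⟩
    have h3 : R ^ 2 ≤ J ⊔ R := (Ideal.pow_le_self (by norm_num)).trans le_sup_right
    have h4 : J * R ^ 2 ≤ J * (J ⊔ R) := Ideal.mul_mono_right h3
    rw [← huv]
    exact Ideal.add_mem _ hu (h4 hv')
  · refine le_inf Ideal.mul_le_left ?_
    rw [pow_two]
    exact Ideal.mul_mono_left (le_sup_left : J ≤ J ⊔ R)

end Groth.Agent.Lib.helper11.QuasiReg
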