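import Groth.Agent.Lib.Helper11.QuasiReg

/-! Quasi-regular sequences and the cotangent module `I/I²` (helper11). -/

set_option autoImplicit false

universe u

namespace Groth.Agent.Lib.helper11.QuasiReg

open MvPolynomial

variable {A : Type u} [CommRing A]

/-- degree one quasi-regularity -/
lemma coeff_mem_of_sum_mem_sq {m : ℕ} (g : Fin m → A) (hq : QR g) (c : Fin m → A)
    (h : ∑ i, c i * g i ∈ Ideal.span (Set.range g) ^ 2) (i : Fin m) :
    c i ∈ Ideal.span (Set.range g) := by
  classical
  have hP : (∑ j, C (c j) * X j : MvPolynomial (Fin m) A).IsHomogeneous 1 := by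
    apply IsHomogeneous.sum
    intro j _
    have := (isHomogeneous_C (Fin m) (c j)).mul (isHomogeneous_X A j)
    rwa [zero_add] at this
  have hev : eval g (∑ j, C (c j) * X j) = ∑ j, c j * g j := by
    simp only [map_sum, map_mul, eval_C, eval_X]
  have := hq 1 _ hP (by rw [hev]; exact h) (Finsupp.single i 1)
  rw [coeff_sum] at this
  have h2 : ∑ j, coeff (Finsupp.single i 1) (C (c j) * X j : MvPolynomial (Fin m) A) = c i := by
    rw [Finset.sum_eq_single i]
    · rw [coeff_C_mul, coeff_X, if_pos rfl, mul_one]
    · intro j _ hj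
      rw [coeff_C_mul, coeff_X, if_neg, mul_zero]
      intro hsingle
      apply hj
      have := Finsupp.single_left_injective (one_ne_zero) hsingle
      exact this
    · intro h; exact absurd (Finset.mem_univ i) h
  rwa [h2] at this

variable (I : Ideal A)

lemma toCotangent_sum_smul {m : ℕ} (f : Fin m → I) (c : Fin m → A) :
    ∑ i, (Ideal.Quotient.mk I (c i)) • I.toCotangent (f i) = I.toCotangent (∑ i, c i • f i) := by
  rw [map_sum]
  apply Finset.sum_congr rfl
  intro i _
  rw [map_smul]
  exact algebraMap_smul (A ⧸ I) (c i) (I.toCotangent (f i))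

/-- linear independence in the cotangent module -/
theorem cot_li_of_QR {m : ℕ} (f : Fin m → I) (hq : QR (fun i => (f i : A)))
    (hspan : Ideal.span (Set.range fun i => (f i : A)) = I) :
    LinearIndependent (A ⧸ I) (fun i => I.toCotangent (f i)) := by
  rw [Fintype.linearIndependent_iff]
  intro cbar hc i
  choose c hcc using fun i => Ideal.Quotient.mk_surjective (cbar i)
  have h1 : ∑ i, cbar i • I.toCotangent (f i) = I.toCotangent (∑ i, c i • f i) := by
    rw [← toCotangent_sum_smul]
    apply Finset.sum_congr rfl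
    intro i _
    rw [hcc]
  rw [h1, Ideal.toCotangent_eq_zero] at hc
  have h2 : ((∑ i, c i • f i : I) : A) = ∑ i, c i * (f i : A) := by
    rw [Submodule.coe_sum]
    apply Finset.sum_congr rfl
    intro i _
    rfl
  rw [h2] at hc
  have hc' : ∑ i, c i * (f i : A) ∈ Ideal.span (Set.range fun i => (f i : A)) ^ 2 := by
    rw [hspan]; exact hc
  have h3 := coeff_mem_of_sum_mem_sq _ hq c hc' i
  rw [hspan] at h3
  rw [← hcc i]
  exact Ideal.Quotient.eq_zero_iff_mem.2 h3

/-- generators span the cotangent module -/
theorem cot_span_of_span {m : ℕ} (f : Fin m → I)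
    (hspan : Ideal.span (Set.range fun i => (f i : A)) = I) :
    Submodule.span (A ⧸ I) (Set.range fun i => I.toCotangent (f i)) = ⊤ := by
  rw [eq_top_iff]
  rintro x -
  obtain ⟨y, rfl⟩ := I.toCotangent_surjective x
  have hy : (y : A) ∈ Ideal.span (Set.range fun i => (f i : A)) := by rw [hspan]; exact y.2
  obtain ⟨c, hc⟩ := (Ideal.mem_span_range_iff_exists_fun).1 hy
  have hy' : y = ∑ i, c i • f i := by
    ext
    rw [← hc, Submodule.coe_sum]
    apply Finset.sum_congr rfl
    intro i _
    rfl
  rw [hy', ← toCotangent_sum_smul]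
  apply Submodule.sum_mem
  intro i _
  exact Submodule.smul_mem _ _ (Submodule.subset_span ⟨i, rfl⟩)

/-- Nakayama: a family spanning the cotangent module generates the ideal -/
theorem span_of_cot_span {m : ℕ} (f : Fin m → I) (hfg : I.FG)
    (hrad : I ≤ (⊥ : Ideal A).jacobson)
    (hsp : Submodule.span (A ⧸ I) (Set.range fun i => I.toCotangent (f i)) = ⊤) :
    Ideal.span (Set.range fun i => (f i : A)) = I := by
  apply le_antisymm
  · rw [Ideal.span_le]
    rintro _ ⟨i, rfl⟩
    exact (f i).2
  · apply Submodule.le_of_le_smul_of_le_jacobson_bot hfg hrad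
    intro x hx
    have hx' : I.toCotangent ⟨x, hx⟩ ∈
        Submodule.span (A ⧸ I) (Set.range fun i => I.toCotangent (f i)) := by
      rw [hsp]; exact Submodule.mem_top
    obtain ⟨cbar, hc⟩ := (Submodule.mem_span_range_iff_exists_fun (A ⧸ I)).1 hx'
    choose c hcc using fun i => Ideal.Quotient.mk_surjective (cbar i)
    have h1 : ∑ i, cbar i • I.toCotangent (f i) = I.toCotangent (∑ i, c i • f i) := by
      rw [← toCotangent_sum_smul]
      apply Finset.sum_congr rfl
      intro i _
      rw [hcc]
    rw [h1, Ideal.toCotangent_eq] at hc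
    have h2 : ((∑ i, c i • f i : I) : A) = ∑ i, c i * (f i : A) := by
      rw [Submodule.coe_sum]
      apply Finset.sum_congr rfl
      intro i _
      rfl
    rw [h2] at hc
    have h3 : x = ∑ i, c i * (f i : A) - (∑ i, c i * (f i : A) - x) := by ring
    rw [h3]
    refine Submodule.sub_mem _ (Submodule.mem_sup_left ?_) (Submodule.mem_sup_right ?_)
    · apply Submodule.sum_mem
      intro i _
      exact Ideal.mul_mem_left _ _ (Ideal.subset_span ⟨i, rfl⟩)
    · rw [smul_eq_mul, ← pow_two]
      exact hc

end Groth.Agent.Lib.helper11.QuasiReg
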