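import Mathlib
import Groth.Agent.S2380

/-!
# Splitting differentials of locally constant rank over a reduced ring (helper11, REQ-C of helper18)

`A` reduced, `d : P → Q` with `Q` finite free, such that the fibre rank of `coker d` is constant on
an open neighbourhood of a prime `x₀`: then `d ∘ t ∘ d = a • d` for some `a ∉ x₀` and `t : Q → P`.
-/

set_option autoImplicit false
universe u
open TensorProduct

namespace Groth.Agent.Lib.helper11.RedSplit

section RankId

variable {A : Type u} [CommRing A]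

/-- rank identity: `dim κ ⊗ coker d + rank (κ ⊗ d) = rank Q`. -/
theorem finrank_coker_add_finrank_range (κ : Type u) [Field κ] [Algebra A κ]
    {P Q : Type u} [AddCommGroup P] [Module A P] [AddCommGroup Q] [Module A Q]
    [Module.Finite A Q] [Module.Free A Q] (d : P →ₗ[A] Q) :
    Module.finrank κ (κ ⊗[A] (Q ⧸ LinearMap.range d)) +
      Module.finrank κ (LinearMap.range (d.baseChange κ)) = Module.finrank A Q := by
  have hex : Function.Exact (d.baseChange κ) ((LinearMap.range d).mkQ.baseChange κ) :=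
    lTensor_exact κ (LinearMap.exact_map_mkQ_range d) (Submodule.mkQ_surjective _)
  have hsurj : Function.Surjective ((LinearMap.range d).mkQ.baseChange κ) :=
    LinearMap.lTensor_surjective _ (Submodule.mkQ_surjective _)
  haveI : Nontrivial A := (algebraMap A κ).domain_nontrivial
  have h1 := LinearMap.finrank_range_add_finrank_ker ((LinearMap.range d).mkQ.baseChange κ)
  have h2 : Module.finrank κ (κ ⊗[A] Q) = Module.finrank A Q := Module.finrank_baseChange
  rw [LinearMap.range_eq_top.mpr hsurj, finrank_top, LinearMap.exact_iff.mp hex, h2] at h1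
  exact h1

end RankId

section C1

variable {A : Type u} [CommRing A]

/-- `1 ⊗ k = 0` in `κ(J) ⊗ (Fin n → A)` forces all coordinates of `k` to lie in `J`. -/
theorem mem_of_one_tmul_eq_zero (J : Ideal A) [J.IsPrime] {n : ℕ} (k : Fin n → A)
    (hk : (1 : J.ResidueField) ⊗ₜ[A] k = 0) (i : Fin n) : k i ∈ J := by
  have h1 : (TensorProduct.rid A J.ResidueField)
      (((LinearMap.proj i : (Fin n → A) →ₗ[A] A).baseChange J.ResidueField)
        ((1 : J.ResidueField) ⊗ₜ[A] k)) = 0 := by
    rw [hk, map_zero, map_zero]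
  rw [LinearMap.baseChange_tmul, TensorProduct.rid_tmul, LinearMap.proj_apply,
    Algebra.smul_def, mul_one] at h1
  exact Ideal.algebraMap_residueField_eq_zero.mp h1

variable [IsReduced A]

/-- **REQ-C1**: one map of locally constant rank over a reduced ring splits up to a scalar. -/
theorem exists_split_of_const_coker
    {P Q : Type u} [AddCommGroup P] [Module A P] [AddCommGroup Q] [Module A Q]
    [Module.Finite A Q] [Module.Free A Q]
    (d : P →ₗ[A] Q) (x₀ : PrimeSpectrum A) (U : Set (PrimeSpectrum A)) (hU : IsOpen U)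
    (hx₀ : x₀ ∈ U)
    (h : ∀ x ∈ U,
      Module.finrank x.asIdeal.ResidueField
          (x.asIdeal.ResidueField ⊗[A] (Q ⧸ LinearMap.range d)) =
        Module.finrank x₀.asIdeal.ResidueField
          (x₀.asIdeal.ResidueField ⊗[A] (Q ⧸ LinearMap.range d))) :
    ∃ (a : A) (t : Q →ₗ[A] P), a ∉ x₀.asIdeal ∧ d ∘ₗ t ∘ₗ d = a • d := by
  classical
  set N := Q ⧸ LinearMap.range d with hN
  set π : Q →ₗ[A] N := (LinearMap.range d).mkQ with hπ
  have hπd : ∀ p, π (d p) = 0 := fun p => by
    rw [hπ, Submodule.mkQ_apply, Submodule.Quotient.mk_eq_zero]; exact ⟨p, rfl⟩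
  set κ₀ := x₀.asIdeal.ResidueField with hκ₀
  haveI : Nontrivial A := (algebraMap A κ₀).domain_nontrivial
  have key : ∃ (n : ℕ) (q : Fin n → Q), n = Module.finrank κ₀ (κ₀ ⊗[A] N) ∧
      Submodule.span κ₀ (Set.range fun i => (1 : κ₀) ⊗ₜ[A] π (q i)) = ⊤ := by
    obtain ⟨φ, hφ, hspan, -⟩ := Submodule.exists_fun_fin_finrank_span_eq κ₀
      (Set.range fun c : N => (1 : κ₀) ⊗ₜ[A] c)
    have htop : Submodule.span κ₀ (Set.range fun c : N => (1 : κ₀) ⊗ₜ[A] c) = ⊤ :=
      Groth.Agent.S2380.span_one_tmul_eq_top κ₀ N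
    choose c hc using hφ
    have hq : ∀ i, ∃ q : Q, π q = c i := fun i => Submodule.mkQ_surjective _ (c i)
    choose q hq using hq
    refine ⟨_, q, by rw [htop, finrank_top], ?_⟩
    have : (fun i => (1 : κ₀) ⊗ₜ[A] π (q i)) = φ := by
      funext i
      rw [hq i]
      exact hc i
    rw [this, hspan, htop]
  obtain ⟨n, q, hn', hspan⟩ := key
  set E' : (Fin n → A) →ₗ[A] Q := Fintype.linearCombination A q with hE'
  set W : Submodule A Q := LinearMap.range E' ⊔ LinearMap.range d with hW
  have hqW : ∀ i, q i ∈ W := by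
    intro i
    refine Submodule.mem_sup_left ⟨Pi.single i 1, ?_⟩
    rw [hE', Fintype.linearCombination_apply_single, one_smul]
  -- the fibre of `Q ⧸ W` at `x₀` vanishes
  have hsub : Subsingleton (κ₀ ⊗[A] (Q ⧸ W)) := by
    have hle : LinearMap.range d ≤ W := le_sup_right
    let g : N →ₗ[A] (Q ⧸ W) := Submodule.factor hle
    have hgs : Function.Surjective g := Submodule.factor_surjective hle
    have hsurj : Function.Surjective (LinearMap.baseChange κ₀ g) :=
      LinearMap.lTensor_surjective _ hgs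
    have hzero : LinearMap.baseChange κ₀ g = 0 := by
      apply LinearMap.ext_on_range hspan
      intro i
      simp only [LinearMap.baseChange_tmul, LinearMap.zero_apply]
      have : g (π (q i)) = 0 := by
        change Submodule.factor hle ((LinearMap.range d).mkQ (q i)) = 0
        rw [Submodule.factor_mk, Submodule.mkQ_apply, Submodule.Quotient.mk_eq_zero]
        exact hqW i
      rw [this, TensorProduct.tmul_zero]
    refine ⟨fun a b => ?_⟩
    obtain ⟨a', rfl⟩ := hsurj a
    obtain ⟨b', rfl⟩ := hsurj b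
    rw [hzero]; rfl
  have hx : x₀ ∉ Module.support A (Q ⧸ W) := by
    rw [Module.mem_support_iff_nontrivial_residueField_tensorProduct]
    exact not_nontrivial _
  rw [Module.support_eq_zeroLocus, PrimeSpectrum.mem_zeroLocus, Set.not_subset] at hx
  obtain ⟨a₁, ha₁ann, ha₁x⟩ := hx
  have ha₁W : ∀ y : Q, a₁ • y ∈ W := by
    intro y
    have := (Module.mem_annihilator.mp ha₁ann) (Submodule.Quotient.mk y : Q ⧸ W)
    rwa [← Submodule.Quotient.mk_smul, Submodule.Quotient.mk_eq_zero] at this
  -- decomposition on a basis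
  let b := Module.Free.chooseBasis A Q
  have hdec : ∀ j, ∃ (k : Fin n → A) (p : P), E' k + d p = a₁ • b j := by
    intro j
    obtain ⟨y, ⟨k, rfl⟩, z, ⟨p, rfl⟩, hyz⟩ := Submodule.mem_sup.mp (ha₁W (b j))
    exact ⟨k, p, hyz⟩
  choose kk pp hkp using hdec
  let σ : Q →ₗ[A] (Fin n → A) := b.constr A kk
  let τ : Q →ₗ[A] P := b.constr A pp
  have hdecomp : ∀ y : Q, a₁ • y = E' (σ y) + d (τ y) := by
    have : (a₁ • LinearMap.id : Q →ₗ[A] Q) = E' ∘ₗ σ + d ∘ₗ τ := by
      apply b.ext
      intro j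
      simp only [LinearMap.smul_apply, LinearMap.id_apply, LinearMap.add_apply,
        LinearMap.comp_apply, σ, τ, Module.Basis.constr_basis]
      exact (hkp j).symm
    intro y
    exact LinearMap.congr_fun this y
  -- a basic open neighbourhood inside `U`
  obtain ⟨V, ⟨b₀, rfl⟩, hb₀x, hb₀U⟩ :=
    PrimeSpectrum.isTopologicalBasis_basic_opens.exists_subset_of_mem_open hx₀ hU
  have hb₀x' : b₀ ∉ x₀.asIdeal := (PrimeSpectrum.mem_basicOpen b₀ x₀).mp hb₀x
  -- key claim
  have hkey : ∀ k : Fin n → A, π (E' k) = 0 → ∀ i, (a₁ * b₀) * k i = 0 := by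
    intro k hk i
    apply IsNilpotent.eq_zero
    rw [nilpotent_iff_mem_prime]
    intro J hJ
    by_cases hab : a₁ * b₀ ∈ J
    · exact J.mul_mem_right _ hab
    · have ha₁J : a₁ ∉ J := fun h => hab (J.mul_mem_right _ h)
      have hb₀J : b₀ ∉ J := fun h => hab (J.mul_mem_left _ h)
      refine J.mul_mem_left _ ?_
      let x : PrimeSpectrum A := ⟨J, hJ⟩
      have hxU : x ∈ U := hb₀U ((PrimeSpectrum.mem_basicOpen b₀ x).mpr hb₀J)
      have hrk := h x hxU
      set κ := J.ResidueField with hκ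
      let Eκ : κ ⊗[A] (Fin n → A) →ₗ[κ] κ ⊗[A] N := (π ∘ₗ E').baseChange κ
      have hne : algebraMap A κ a₁ ≠ 0 := by
        rwa [Ne, Ideal.algebraMap_residueField_eq_zero]
      have hsurjE : Function.Surjective Eκ := by
        rw [← LinearMap.range_eq_top, eq_top_iff,
          ← Groth.Agent.S2380.span_one_tmul_eq_top κ N, Submodule.span_le]
        rintro _ ⟨c₀, rfl⟩
        obtain ⟨y, rfl⟩ := Submodule.mkQ_surjective _ c₀
        have h1 : algebraMap A κ a₁ • ((1 : κ) ⊗ₜ[A] (π y)) ∈ LinearMap.range Eκ := by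
          refine ⟨(1 : κ) ⊗ₜ[A] σ y, ?_⟩
          rw [algebraMap_smul, ← TensorProduct.tmul_smul, ← map_smul, hdecomp y, map_add, hπd,
            add_zero]
          rfl
        exact (Submodule.smul_mem_iff _ hne).mp h1
      have hfr : Module.finrank κ (κ ⊗[A] (Fin n → A)) = Module.finrank κ (κ ⊗[A] N) := by
        rw [Module.finrank_baseChange, Module.finrank_fin_fun, hn']
        exact hrk.symm
      have hinjE : Function.Injective Eκ :=
        (LinearMap.injective_iff_surjective_of_finrank_eq_finrank hfr).mpr hsurjE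
      have h0 : (1 : κ) ⊗ₜ[A] k = 0 := by
        apply hinjE
        rw [map_zero]
        change (1 : κ) ⊗ₜ[A] (π (E' k)) = 0
        rw [hk, TensorProduct.tmul_zero]
      exact mem_of_one_tmul_eq_zero J k h0 i
  refine ⟨a₁ * b₀ * a₁, (a₁ * b₀) • τ, ?_, ?_⟩
  · intro hmem
    rcases x₀.2.mem_or_mem hmem with h1 | h1
    · rcases x₀.2.mem_or_mem h1 with h2 | h2
      · exact ha₁x h2
      · exact hb₀x' h2
    · exact ha₁x h1
  · ext p
    show d (((a₁ * b₀) • τ) (d p)) = (a₁ * b₀ * a₁) • d p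
    have h1 := hdecomp (d p)
    have h2 : π (E' (σ (d p))) = 0 := by
      have := congrArg π h1
      rw [map_smul, hπd, smul_zero, map_add, hπd, add_zero] at this
      exact this.symm
    have h3 : (a₁ * b₀) • σ (d p) = 0 := by
      funext i
      exact hkey _ h2 i
    have h4 : (a₁ * b₀) • E' (σ (d p)) = 0 := by
      rw [← map_smul, h3, map_zero]
    rw [LinearMap.smul_apply, map_smul, mul_smul (a₁ * b₀) a₁, h1, smul_add, h4, zero_add]

end C1

section Main

variable {A : Type u} [CommRing A]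

/-- the fibre rank of a cokernel is bounded by its value at `x₀` on an open neighbourhood. -/
theorem exists_open_coker_le {P Q : Type u} [AddCommGroup P] [Module A P] [AddCommGroup Q]
    [Module A Q] [Module.Finite A Q] (d : P →ₗ[A] Q) (x₀ : PrimeSpectrum A) :
    ∃ V : Set (PrimeSpectrum A), IsOpen V ∧ x₀ ∈ V ∧ ∀ x ∈ V,
      Module.finrank x.asIdeal.ResidueField
          (x.asIdeal.ResidueField ⊗[A] (Q ⧸ LinearMap.range d)) ≤
        Module.finrank x₀.asIdeal.ResidueField
          (x₀.asIdeal.ResidueField ⊗[A] (Q ⧸ LinearMap.range d)) := by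
  have husc := Groth.Agent.S2380.fibre_finrank_usc (A := A) (Q ⧸ LinearMap.range d) x₀
    (Module.finrank x₀.asIdeal.ResidueField
      (x₀.asIdeal.ResidueField ⊗[A] (Q ⧸ LinearMap.range d)) + 1) (Nat.lt_succ_self _)
  obtain ⟨V, hV, hVo, hxV⟩ := mem_nhds_iff.mp husc
  exact ⟨V, hVo, hxV, fun x hx => Nat.lt_succ_iff.mp (hV hx)⟩

/-- **REQ-C** (helper18): over a reduced ring, two maps of finite free modules whose fibre ranks
have locally constant sum near `x₀` both split up to a common scalar `a ∉ x₀`. -/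
theorem exists_splits_of_locConst [IsReduced A]
    {M P Q : Type u} [AddCommGroup M] [Module A M] [Module.Finite A M] [Module.Free A M]
    [AddCommGroup P] [Module A P] [Module.Finite A P] [Module.Free A P]
    [AddCommGroup Q] [Module A Q] [Module.Finite A Q] [Module.Free A Q]
    (f : M →ₗ[A] P) (d : P →ₗ[A] Q) (x₀ : PrimeSpectrum A)
    (U : Set (PrimeSpectrum A)) (hU : IsOpen U) (hx₀ : x₀ ∈ U)
    (h : ∀ x ∈ U,
      Module.finrank x.asIdeal.ResidueField
          (LinearMap.range (d.baseChange x.asIdeal.ResidueField)) +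
        Module.finrank x.asIdeal.ResidueField
          (LinearMap.range (f.baseChange x.asIdeal.ResidueField)) =
      Module.finrank x₀.asIdeal.ResidueField
          (LinearMap.range (d.baseChange x₀.asIdeal.ResidueField)) +
        Module.finrank x₀.asIdeal.ResidueField
          (LinearMap.range (f.baseChange x₀.asIdeal.ResidueField))) :
    ∃ (a : A) (t : Q →ₗ[A] P) (t' : P →ₗ[A] M), a ∉ x₀.asIdeal ∧
      d ∘ₗ t ∘ₗ d = a • d ∧ f ∘ₗ t' ∘ₗ f = a • f := by
  obtain ⟨V₁, hV₁, hx₁, hle₁⟩ := exists_open_coker_le d x₀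
  obtain ⟨V₂, hV₂, hx₂, hle₂⟩ := exists_open_coker_le f x₀
  have hidd := fun x : PrimeSpectrum A =>
    finrank_coker_add_finrank_range (A := A) x.asIdeal.ResidueField d
  have hidf := fun x : PrimeSpectrum A =>
    finrank_coker_add_finrank_range (A := A) x.asIdeal.ResidueField f
  have hU' : IsOpen (U ∩ V₁ ∩ V₂) := (hU.inter hV₁).inter hV₂
  have hx' : x₀ ∈ U ∩ V₁ ∩ V₂ := ⟨⟨hx₀, hx₁⟩, hx₂⟩
  have hcd : ∀ x ∈ U ∩ V₁ ∩ V₂,
      Module.finrank x.asIdeal.ResidueField
          (x.asIdeal.ResidueField ⊗[A] (Q ⧸ LinearMap.range d)) =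
        Module.finrank x₀.asIdeal.ResidueField
          (x₀.asIdeal.ResidueField ⊗[A] (Q ⧸ LinearMap.range d)) := by
    rintro x ⟨⟨hxU, hxV₁⟩, hxV₂⟩
    have h1 := h x hxU
    have h2 := hle₁ x hxV₁
    have h3 := hle₂ x hxV₂
    have h4 := hidd x
    have h5 := hidd x₀
    have h6 := hidf x
    have h7 := hidf x₀
    omega
  have hcf : ∀ x ∈ U ∩ V₁ ∩ V₂,
      Module.finrank x.asIdeal.ResidueField
          (x.asIdeal.ResidueField ⊗[A] (P ⧸ LinearMap.range f)) =
        Module.finrank x₀.asIdeal.ResidueField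
          (x₀.asIdeal.ResidueField ⊗[A] (P ⧸ LinearMap.range f)) := by
    rintro x ⟨⟨hxU, hxV₁⟩, hxV₂⟩
    have h1 := h x hxU
    have h2 := hle₁ x hxV₁
    have h3 := hle₂ x hxV₂
    have h4 := hidd x
    have h5 := hidd x₀
    have h6 := hidf x
    have h7 := hidf x₀
    omega
  obtain ⟨a₁, t, ha₁, ht⟩ := exists_split_of_const_coker d x₀ _ hU' hx' hcd
  obtain ⟨a₂, t', ha₂, ht'⟩ := exists_split_of_const_coker f x₀ _ hU' hx' hcf
  refine ⟨a₁ * a₂, a₂ • t, a₁ • t', ?_, ?_, ?_⟩
  · intro hmem
    rcases x₀.2.mem_or_mem hmem with h1 | h1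
    · exact ha₁ h1
    · exact ha₂ h1
  · rw [LinearMap.smul_comp, LinearMap.comp_smul, ht, smul_smul, mul_comm]
  · rw [LinearMap.smul_comp, LinearMap.comp_smul, ht', smul_smul]

end Main

end Groth.Agent.Lib.helper11.RedSplit
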