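import Mathlib
import Groth.Agent.Lib.Helper11.RelAmpFib

/-!
# The locus of relative ampleness on fibres: constructibility for `f` proper (helper11, EGA IV 9.6.2 (ii))
-/

set_option autoImplicit false
set_option linter.style.haveILetI false
universe u
open CategoryTheory CategoryTheory.Limits AlgebraicGeometry TopologicalSpace Topology

namespace Groth.Agent.Lib.helper11.RelAmpLocus

open Scheme.Modules Groth.Agent.Lib.helper11.HomDescPP Groth.Agent.Lib.helper11.InvMod
  Groth.Agent.Lib.helper5.ConsFibre Groth.Agent.Lib.helper5.ConsApprox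

/-- Over a Noetherian base, with `f` proper: `L_s` is `f_s`-ample iff `L` is ample on the fibres of `f`
at all points of `Y_s`. -/
theorem locus_eq_compl_image {X Y S : Scheme.{u}} (f : X ⟶ Y) (g : Y ⟶ S) [IsProper f]
    [LocallyOfFiniteType g] [QuasiCompact g] [IsNoetherian S] (L : X.Modules)
    (hL : PicF.IsInvertible L) :
    locus f g L = (g '' (locA f L)ᶜ)ᶜ := by
  ext s
  let σ := S.fromSpecResidueField s
  haveI : IsProper (fibMap f g σ) :=
    MorphismProperty.of_isPullback (P := @IsProper) (isPullback_fibMap f g σ) inferInstance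
  haveI : IsNoetherian (pullback g σ) := isNoetherian_of_lft (pullback.snd g σ)
  have hLσ := isInvertible_pullback (pullback.fst (f ≫ g) σ) hL
  show RA f g L σ ↔ _
  unfold RA
  rw [isRelAmple_iff_locA (fibMap f g σ) _ hLσ,
    locA_eq_preimage hL (isPullback_fibMap f g σ) (Iso.refl _)]
  have hr : Set.range (pullback.fst g σ) = g ⁻¹' {s} := g.range_fiberι s
  constructor
  · rintro h ⟨y, hy, hys⟩
    have hy' : y ∈ Set.range (pullback.fst g σ) := by rw [hr]; exact hys
    obtain ⟨z, rfl⟩ := hy'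
    have hz : z ∈ (pullback.fst g σ) ⁻¹' locA f L := by rw [h]; trivial
    exact hy hz
  · intro h
    refine Set.eq_univ_of_forall fun z => ?_
    by_contra hz
    refine h ⟨pullback.fst g σ z, hz, ?_⟩
    have : pullback.fst g σ z ∈ g ⁻¹' {s} := by rw [← hr]; exact ⟨z, rfl⟩
    exact this

theorem isLocallyConstructible_locus_noeth {X Y S : Scheme.{u}} (f : X ⟶ Y) (g : Y ⟶ S)
    [IsProper f] [LocallyOfFinitePresentation g] [QuasiCompact g] [IsNoetherian S]
    (L : X.Modules) (hL : PicF.IsInvertible L) :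
    IsLocallyConstructible (locus f g L) := by
  rw [locus_eq_compl_image f g L hL]
  haveI : IsNoetherian Y := isNoetherian_of_lft g
  have h1 : IsConstructible (locA f L) :=
    IsRetrocompact.isConstructible (isOpen_locA f L hL)
      (fun V _ _ => NoetherianSpace.isCompact _)
  exact (g.isConstructible_image h1.compl).compl.isLocallyConstructible

end Groth.Agent.Lib.helper11.RelAmpLocus

namespace Groth.Agent.Lib.helper11.RelAmpLocus

open Scheme.Modules Groth.Agent.Lib.helper11.HomDescPP Groth.Agent.Lib.helper11.InvMod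
  Groth.Agent.Lib.helper5.ConsFibre Groth.Agent.Lib.helper5.ConsApprox

/-- Over an affine open of the base, the locus is the preimage of the locus of a Noetherian model. -/
theorem exists_locus_affine_model {X Y S : Scheme.{u}} (f : X ⟶ Y) (g : Y ⟶ S)
    [LocallyOfFinitePresentation g] [QuasiCompact g] [QuasiSeparated g]
    [LocallyOfFinitePresentation (f ≫ g)] [QuasiCompact (f ≫ g)] [QuasiSeparated (f ≫ g)]
    (L : X.Modules) (hL : PicF.IsInvertible L) (U : S.Opens) (hU : IsAffineOpen U) :
    ∃ (S₀ X₀ Y₀ : Scheme.{u}) (_ : IsNoetherian S₀) (b : (U : Scheme.{u}) ⟶ S₀) (f₀ : X₀ ⟶ Y₀)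
      (g₀ : Y₀ ⟶ S₀) (L₀ : X₀.Modules),
      LocallyOfFinitePresentation g₀ ∧ QuasiCompact g₀ ∧ QuasiSeparated g₀ ∧
      LocallyOfFinitePresentation (f₀ ≫ g₀) ∧ QuasiCompact (f₀ ≫ g₀) ∧
      QuasiSeparated (f₀ ≫ g₀) ∧ PicF.IsInvertible L₀ ∧ (IsProper f → IsProper f₀) ∧
      U.ι ⁻¹' locus f g L = b ⁻¹' locus f₀ g₀ L₀ := by
  haveI : IsAffine (U : Scheme.{u}) := hU
  haveI : QuasiCompact f := QuasiCompact.of_comp f g
  have sqY := IsPullback.of_hasPullback g U.ι
  have sqX := IsPullback.of_hasPullback f (pullback.fst g U.ι)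
  have sqXY : IsPullback (pullback.fst f (pullback.fst g U.ι))
      (pullback.snd f (pullback.fst g U.ι) ≫ pullback.snd g U.ι) (f ≫ g) U.ι :=
    sqX.paste_vert sqY
  haveI : LocallyOfFinitePresentation (pullback.snd f (pullback.fst g U.ι) ≫ pullback.snd g U.ι) :=
    MorphismProperty.of_isPullback (P := @LocallyOfFinitePresentation) sqXY inferInstance
  haveI : QuasiCompact (pullback.snd f (pullback.fst g U.ι) ≫ pullback.snd g U.ι) :=
    MorphismProperty.of_isPullback (P := @QuasiCompact) sqXY inferInstance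
  haveI : QuasiSeparated (pullback.snd f (pullback.fst g U.ι) ≫ pullback.snd g U.ι) :=
    MorphismProperty.of_isPullback (P := @QuasiSeparated) sqXY inferInstance
  let LU := (Scheme.Modules.pullback (pullback.fst f (pullback.fst g U.ι))).obj L
  have hLU : PicF.IsInvertible LU := isInvertible_pullback _ hL
  have hloc1 : locus (pullback.snd f (pullback.fst g U.ι)) (pullback.snd g U.ι) LU =
      U.ι ⁻¹' locus f g L := locus_eq_preimage hL sqY sqX (Iso.refl _)
  obtain ⟨S₀, X₀, Y₀, hS₀, b, f₀, g₀, eX, eY, L₀, h1, h2, h3, h4, h5, h6, sqY₀, sqX₀, hinv, ⟨iso⟩,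
    hprop⟩ := exists_noetherian_model_inv (pullback.snd f (pullback.fst g U.ι))
      (pullback.snd g U.ι) LU hLU
  haveI := h3; haveI := h5
  haveI : QuasiCompact f₀ := QuasiCompact.of_comp f₀ g₀
  have hloc2 : locus (pullback.snd f (pullback.fst g U.ι)) (pullback.snd g U.ι) LU =
      b ⁻¹' locus f₀ g₀ L₀ := locus_eq_preimage hinv sqY₀ sqX₀ iso
  refine ⟨S₀, X₀, Y₀, hS₀, b, f₀, g₀, L₀, h1, h2, h3, h4, h5, h6, hinv, fun hp => ?_,
    hloc1.symm.trans hloc2⟩
  haveI := hp
  exact hprop (MorphismProperty.pullback_snd (P := @IsProper) _ _ inferInstance)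

/-- **EGA IV 9.6.2 (ii)**: for `f` proper, the locus where `L_s` is `f_s`-ample is locally
constructible. -/
theorem isLocallyConstructible_locus {X Y S : Scheme.{u}} (f : X ⟶ Y) (g : Y ⟶ S)
    [LocallyOfFinitePresentation g] [QuasiCompact g] [QuasiSeparated g]
    [LocallyOfFinitePresentation (f ≫ g)] [QuasiCompact (f ≫ g)] [QuasiSeparated (f ≫ g)]
    [IsProper f] (L : X.Modules) (hL : PicF.IsInvertible L) :
    IsLocallyConstructible (locus f g L) := by
  refine isLocallyConstructible_of_affine_models _ fun U hU => ?_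
  obtain ⟨S₀, X₀, Y₀, hS₀, b, f₀, g₀, L₀, h1, h2, h3, h4, h5, h6, hinv, hprop, heq⟩ :=
    exists_locus_affine_model f g L hL U hU
  haveI := hS₀; haveI := h1; haveI := h2
  haveI : IsProper f₀ := hprop inferInstance
  exact ⟨S₀, b, locus f₀ g₀ L₀, isLocallyConstructible_locus_noeth f₀ g₀ L₀ hinv, heq⟩

end Groth.Agent.Lib.helper11.RelAmpLocus
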