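import Mathlib
import Groth.Agent.Lib.Helper11.RelAmpCons

/-!
# The locus of relative ampleness on fibres is ind-constructible (helper11, EGA IV 9.6.2 (i))
-/

set_option autoImplicit false
set_option linter.style.haveILetI false
set_option backward.isDefEq.respectTransparency false
universe u
open CategoryTheory CategoryTheory.Limits AlgebraicGeometry TopologicalSpace Topology Opposite

namespace Groth.Agent.Lib.helper11.RelAmpLocus

open Scheme.Modules Groth.Agent.Lib.helper11.HomDescPP Groth.Agent.Lib.helper11.InvMod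
  Groth.Agent.Lib.helper5.ConsFibre Groth.Agent.Lib.helper5.ConsApprox
  Groth.Agent.Lib.helper9 Groth.Agent.Lib.helper9.LocLim Groth.Agent.Lib.helper11.AmpleLim

theorem isIso_residue_genericPoint {Z : Scheme.{u}} [IsIntegral Z] :
    IsIso (Z.residue (genericPoint Z)) := by
  have h0 : IsField (Z.presheaf.stalk (genericPoint Z)) :=
    isField_stalk_of_closure_mem_irreducibleComponents Z _
      (by simp [irreducibleComponents_eq_singleton])
  have h1 := IsLocalRing.isField_iff_maximalIdeal_eq.mp h0
  rw [ConcreteCategory.isIso_iff_bijective]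
  refine ⟨?_, Ideal.Quotient.mk_surjective⟩
  rw [injective_iff_map_eq_zero]
  intro a ha
  have : a ∈ IsLocalRing.maximalIdeal (Z.presheaf.stalk (genericPoint Z)) := by
    rw [← IsLocalRing.ker_residue]
    exact ha
  rw [h1] at this
  exact this

/-- Spreading out: if `L` is relatively ample on the generic fibre of a family over an integral scheme,
then it is so on the fibres over a nonempty open. -/
theorem interior_locus_nonempty {X Y Z : Scheme.{u}} [IsIntegral Z] (f : X ⟶ Y) (g : Y ⟶ Z)
    [LocallyOfFinitePresentation g] [QuasiCompact g] [QuasiSeparated g]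
    [LocallyOfFinitePresentation (f ≫ g)] [QuasiCompact (f ≫ g)] [QuasiSeparated (f ≫ g)]
    (L : X.Modules) (hL : PicF.IsInvertible L) (h : genericPoint Z ∈ locus f g L) :
    (interior (locus f g L)).Nonempty := by
  haveI : QuasiCompact f := QuasiCompact.of_comp f g
  haveI : QuasiSeparated f := QuasiSeparated.of_comp f g
  set y := genericPoint Z with hy
  obtain ⟨W, hW, hyW⟩ : ∃ W : Z.Opens, IsAffineOpen W ∧ y ∈ W := by
    obtain ⟨W, hW, hyW, -⟩ := TopologicalSpace.Opens.isBasis_iff_nbhd.mp
      Z.isBasis_affineOpens (TopologicalSpace.Opens.mem_top y)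
    exact ⟨W, hW, hyW⟩
  letI : Algebra Γ(Z, W) (Z.presheaf.stalk y) := Z.presheaf.algebra_section_stalk ⟨y, hyW⟩
  haveI hloc : IsLocalization.AtPrime (Z.presheaf.stalk y) (hW.primeIdealOf ⟨y, hyW⟩).asIdeal :=
    hW.isLocalization_stalk ⟨y, hyW⟩
  let M : Submonoid Γ(Z, W) := (hW.primeIdealOf ⟨y, hyW⟩).asIdeal.primeCompl
  let D := specDiagram M
  let c := specCone M (Z.presheaf.stalk y)
  have hc : IsLimit c := isLimitSpecCone M (Z.presheaf.stalk y)
  let k : (Idx M)ᵒᵖ := op Idx.one
  let β : D.obj k ⟶ Z := toBase M k ≫ hW.fromSpec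
  let ℓ := Z.fromSpecStalk y
  have hβ : c.π.app k ≫ β = ℓ := by
    show _ = Z.fromSpecStalk y
    rw [← hW.fromSpecStalk_eq_fromSpecStalk hyW, IsAffineOpen.fromSpecStalk]
    show (specCone M (Z.presheaf.stalk y)).π.app k ≫ toBase M k ≫ hW.fromSpec = _
    rw [← Category.assoc, specCone_π_toBase]
    rfl
  haveI hD : ∀ (i j : (Idx M)ᵒᵖ) (a : i ⟶ j), IsAffineHom (D.map a) := fun i j a => inferInstance
  -- step 1: from the residue field to the local ring
  have hℓ : RA f g L ℓ := by
    haveI := isIso_residue_genericPoint (Z := Z)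
    have h' : RA f g L (Spec.map (Z.residue y) ≫ ℓ) := h
    exact (RA_comp_iff hL ℓ (Spec.map (Z.residue y))).mp h'
  -- step 2: the family over `D.obj k` and the limit argument
  let pY₀ := pullback.fst g β
  let g₀ := pullback.snd g β
  let pX₀ := pullback.fst f pY₀
  let f₀ := pullback.snd f pY₀
  let L₀ := (Scheme.Modules.pullback pX₀).obj L
  have hL₀ : PicF.IsInvertible L₀ := isInvertible_pullback _ hL
  have sqY₀ : IsPullback pY₀ g₀ g β := IsPullback.of_hasPullback g β
  have sqX₀ : IsPullback pX₀ f₀ f pY₀ := IsPullback.of_hasPullback f pY₀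
  obtain ⟨qY, hqY, hY⟩ := exists_isPullback_of_comp hβ sqY₀ (IsPullback.of_hasPullback g ℓ)
  obtain ⟨qX, hqX, hX⟩ := exists_isPullback_of_comp hqY sqX₀ (isPullback_fibMap f g ℓ)
  haveI : QuasiCompact g₀ := MorphismProperty.pullback_snd (P := @QuasiCompact) _ _ inferInstance
  haveI : QuasiCompact f₀ := MorphismProperty.pullback_snd (P := @QuasiCompact) _ _ inferInstance
  haveI : QuasiSeparated f₀ :=
    MorphismProperty.pullback_snd (P := @QuasiSeparated) _ _ inferInstance
  have hamp : RelAmple.IsRelAmple (fibMap f g ℓ) ((Scheme.Modules.pullback qX).obj L₀) :=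
    Groth.Agent.Lib.helper12.AmpleCoprod.isRelAmple_of_iso _
      ((ηcomp qX pX₀ _ hqX).app L).symm hℓ
  obtain ⟨j, φ, hj⟩ := exists_isRelAmple_stage D c hc k f₀ g₀ L₀ hL₀ (fibMap f g ℓ)
    (pullback.snd g ℓ) qY qX hY hX hamp
  -- step 3: back to an open of `Z`
  let βj : D.obj j ⟶ Z := D.map φ ≫ β
  haveI : IsOpenImmersion βj := by
    haveI : IsOpenImmersion (D.map φ ≫ toBase M k) := by
      rw [specDiagram_map_toBase]
      infer_instance
    show IsOpenImmersion (D.map φ ≫ toBase M k ≫ hW.fromSpec)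
    rw [← Category.assoc]
    infer_instance
  have sqYj : IsPullback (pullback.fst g₀ (D.map φ) ≫ pY₀) (pullback.snd g₀ (D.map φ)) g βj :=
    (IsPullback.of_hasPullback g₀ (D.map φ)).paste_horiz sqY₀
  have sqXj : IsPullback (pullback.fst f₀ (pullback.fst g₀ (D.map φ)) ≫ pX₀)
      (pullback.snd f₀ (pullback.fst g₀ (D.map φ))) f (pullback.fst g₀ (D.map φ) ≫ pY₀) :=
    (IsPullback.of_hasPullback f₀ (pullback.fst g₀ (D.map φ))).paste_horiz sqX₀
  have hloc : locus (pullback.snd f₀ (pullback.fst g₀ (D.map φ))) (pullback.snd g₀ (D.map φ))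
      ((Scheme.Modules.pullback (pullback.fst f₀ (pullback.fst g₀ (D.map φ)))).obj L₀) =
      βj ⁻¹' locus f g L :=
    locus_eq_preimage (g := pullback.snd g₀ (D.map φ)) hL sqYj sqXj
      ((ηcomp (pullback.fst f₀ (pullback.fst g₀ (D.map φ))) pX₀ _ rfl).app L)
  haveI : QuasiCompact (pullback.snd f₀ (pullback.fst g₀ (D.map φ))) :=
    MorphismProperty.pullback_snd (P := @QuasiCompact) _ _ inferInstance
  rw [locus_eq_univ hj] at hloc
  have hsub : Set.range βj ⊆ locus f g L := by
    rintro _ ⟨z, rfl⟩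
    have : z ∈ βj ⁻¹' locus f g L := by rw [← hloc]; trivial
    exact this
  obtain ⟨z₀⟩ : Nonempty ↥c.pt :=
    inferInstanceAs (Nonempty (PrimeSpectrum (Z.presheaf.stalk y)))
  exact ⟨βj (c.π.app j z₀), mem_interior.mpr
    ⟨Set.range βj, hsub, βj.isOpenEmbedding.isOpen_range, ⟨_, rfl⟩⟩⟩

theorem isIndConstructible_locus_noeth {X Y S : Scheme.{u}} (f : X ⟶ Y) (g : Y ⟶ S)
    [LocallyOfFinitePresentation g] [QuasiCompact g] [QuasiSeparated g]
    [LocallyOfFinitePresentation (f ≫ g)] [QuasiCompact (f ≫ g)] [QuasiSeparated (f ≫ g)]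
    [IsNoetherian S] (L : X.Modules) (hL : PicF.IsInvertible L) :
    ProCons.IsIndConstructible (locus f g L) := by
  haveI : QuasiCompact f := QuasiCompact.of_comp f g
  refine isIndConstructible_of_forall_integral _ fun Z ι _ _ hgen => ?_
  have sqY := IsPullback.of_hasPullback g ι
  have sqX := IsPullback.of_hasPullback f (pullback.fst g ι)
  have sqXY : IsPullback (pullback.fst f (pullback.fst g ι))
      (pullback.snd f (pullback.fst g ι) ≫ pullback.snd g ι) (f ≫ g) ι := sqX.paste_vert sqY
  haveI : LocallyOfFinitePresentation (pullback.snd g ι) :=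
    MorphismProperty.pullback_snd (P := @LocallyOfFinitePresentation) g _ inferInstance
  haveI : QuasiCompact (pullback.snd g ι) :=
    MorphismProperty.pullback_snd (P := @QuasiCompact) g _ inferInstance
  haveI : QuasiSeparated (pullback.snd g ι) :=
    MorphismProperty.pullback_snd (P := @QuasiSeparated) g _ inferInstance
  haveI : LocallyOfFinitePresentation (pullback.snd f (pullback.fst g ι) ≫ pullback.snd g ι) :=
    MorphismProperty.of_isPullback (P := @LocallyOfFinitePresentation) sqXY inferInstance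
  haveI : QuasiCompact (pullback.snd f (pullback.fst g ι) ≫ pullback.snd g ι) :=
    MorphismProperty.of_isPullback (P := @QuasiCompact) sqXY inferInstance
  haveI : QuasiSeparated (pullback.snd f (pullback.fst g ι) ≫ pullback.snd g ι) :=
    MorphismProperty.of_isPullback (P := @QuasiSeparated) sqXY inferInstance
  have hloc : locus (pullback.snd f (pullback.fst g ι)) (pullback.snd g ι)
      ((Scheme.Modules.pullback (pullback.fst f (pullback.fst g ι))).obj L) =
      ι ⁻¹' locus f g L := locus_eq_preimage hL sqY sqX (Iso.refl _)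
  rw [← hloc]
  refine interior_locus_nonempty _ _ _ (isInvertible_pullback _ hL) ?_
  rw [hloc]
  exact hgen

/-- **EGA IV 9.6.2 (i)**: the locus where `L_s` is `f_s`-ample is ind-constructible. -/
theorem isIndConstructible_locus {X Y S : Scheme.{u}} (f : X ⟶ Y) (g : Y ⟶ S)
    [LocallyOfFinitePresentation g] [QuasiCompact g] [QuasiSeparated g]
    [LocallyOfFinitePresentation (f ≫ g)] [QuasiCompact (f ≫ g)] [QuasiSeparated (f ≫ g)]
    (L : X.Modules) (hL : PicF.IsInvertible L) :
    ProCons.IsIndConstructible (locus f g L) := by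
  refine isIndConstructible_of_affine_models _ fun U hU => ?_
  obtain ⟨S₀, X₀, Y₀, hS₀, b, f₀, g₀, L₀, h1, h2, h3, h4, h5, h6, hinv, hprop, heq⟩ :=
    exists_locus_affine_model f g L hL U hU
  haveI := hS₀; haveI := h1; haveI := h2; haveI := h3; haveI := h4; haveI := h5; haveI := h6
  exact ⟨S₀, b, locus f₀ g₀ L₀, isIndConstructible_locus_noeth f₀ g₀ L₀ hinv, heq⟩

end Groth.Agent.Lib.helper11.RelAmpLocus
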