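import Groth.Agent.Lib.Helper11.SerreCrit

/-!
# Serre's criterion, sections version (helper11)

`Decomp X`: the only consequence of `H¹`-vanishing used in the proof of Serre's criterion
(`SerreCrit.isAffine_of_H1Ideals`): for quasi-coherent ideals `A, B ↪ O`, every global section of the
ideal `A + B` is a sum of global sections of `A` and `B` (more generally with `β : B ⟶ O` arbitrary).
`isAffine_of_decomp`: a quasi-compact scheme with `Decomp X` is affine.
`decomp_of_surjective`, `ses_facts`: how to get `Decomp X` from surjectivity of global sections.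
-/

set_option autoImplicit false
universe v u
open CategoryTheory CategoryTheory.Limits AlgebraicGeometry TopologicalSpace Opposite
open Scheme.Modules Groth.Agent.Lib.helper7
open Groth.Agent.Lib.helper11.GenLocus Groth.Agent.Lib.helper11.IsoLocus
open ZeroObject

namespace Groth.Agent.Lib.helper11.SerreCrit

variable {X : Scheme.{u}}

/-- the decomposition property -/
def Decomp (X : Scheme.{u}) : Prop :=
  ∀ (A B : X.Modules), A.IsQuasicoherent → B.IsQuasicoherent →
    ∀ (α : A ⟶ Coh.structureModule X) (β : B ⟶ Coh.structureModule X)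
      (j : B ⟶ Coh.structureModule X), Mono α → Mono j →
      ∀ (s : Γ(Abelian.image (biprod.desc α β), ⊤)), ∃ (a : Γ(A, ⊤)) (b : Γ(B, ⊤)),
        ((Abelian.image.ι (biprod.desc α β)).app ⊤).hom s = (α.app ⊤).hom a + (β.app ⊤).hom b

theorem decomp_of_surjective
    (hsurj : ∀ (A B : X.Modules), A.IsQuasicoherent → B.IsQuasicoherent →
      ∀ (α : A ⟶ Coh.structureModule X) (β : B ⟶ Coh.structureModule X)
        (j : B ⟶ Coh.structureModule X), Mono α → Mono j →
        Function.Surjective ((Abelian.factorThruImage (biprod.desc α β)).app ⊤)) : Decomp X := by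
  intro A B hA hB α β j hα hj s
  obtain ⟨ab, hab⟩ := hsurj A B hA hB α β j hα hj s
  refine ⟨((biprod.fst : A ⊞ B ⟶ A).app ⊤).hom ab, ((biprod.snd : A ⊞ B ⟶ B).app ⊤).hom ab, ?_⟩
  have e1 : biprod.desc α β = biprod.fst ≫ α + biprod.snd ≫ β := biprod.desc_eq
  have e2 : ((Abelian.image.ι (biprod.desc α β)).app ⊤).hom s = ((biprod.desc α β).app ⊤).hom ab := by
    rw [← hab]
    exact (congrArg (fun ψ => (Scheme.Modules.Hom.app ψ ⊤).hom ab)
      (Abelian.image.fac (biprod.desc α β)))
  rw [e2, e1]
  rfl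

/-- the short exact sequence `0 → K → A ⊞ B → A + B → 0` and its properties -/
theorem ses_facts (A B : X.Modules) [A.IsQuasicoherent] [B.IsQuasicoherent]
    (α : A ⟶ Coh.structureModule X) (β : B ⟶ Coh.structureModule X)
    (j : B ⟶ Coh.structureModule X) [Mono α] [Mono j] :
    (ShortComplex.mk (kernel.ι (Abelian.factorThruImage (biprod.desc α β)))
      (Abelian.factorThruImage (biprod.desc α β)) (kernel.condition _)).ShortExact ∧
    Mono ((kernel.ι (Abelian.factorThruImage (biprod.desc α β)) ≫ biprod.snd) ≫ j) ∧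
    (kernel (Abelian.factorThruImage (biprod.desc α β))).IsQuasicoherent ∧
    (A ⊞ B).IsQuasicoherent ∧ (Abelian.image (biprod.desc α β)).IsQuasicoherent := by
  have hAB : (A ⊞ B).IsQuasicoherent :=
    QCohProd.isQuasicoherent_biprod A B inferInstance inferInstance
  have hIm : (Abelian.image (biprod.desc α β)).IsQuasicoherent := isQuasicoherent_image _
  have hK : (kernel (Abelian.factorThruImage (biprod.desc α β))).IsQuasicoherent :=
    CohKer.isQuasicoherent_kernel (Abelian.factorThruImage (biprod.desc α β))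
  have hκ : kernel.ι (Abelian.factorThruImage (biprod.desc α β)) ≫ biprod.desc α β = 0 := by
    have := Abelian.image.fac (biprod.desc α β)
    calc kernel.ι (Abelian.factorThruImage (biprod.desc α β)) ≫ biprod.desc α β
        = kernel.ι (Abelian.factorThruImage (biprod.desc α β)) ≫
            Abelian.factorThruImage (biprod.desc α β) ≫ Abelian.image.ι (biprod.desc α β) := by
          rw [this]
      _ = 0 := by rw [← Category.assoc, kernel.condition, zero_comp]
  have hm : Mono (kernel.ι (Abelian.factorThruImage (biprod.desc α β)) ≫ biprod.snd) :=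
    mono_comp_snd α β _ hκ
  refine ⟨?_, mono_comp _ _, hK, hAB, hIm⟩
  exact
    { exact := ShortComplex.exact_of_f_is_kernel _
        (kernelIsKernel (Abelian.factorThruImage (biprod.desc α β)))
      mono_f := inferInstanceAs (Mono (kernel.ι (Abelian.factorThruImage (biprod.desc α β))))
      epi_g := inferInstanceAs (Epi (Abelian.factorThruImage (biprod.desc α β))) }

theorem exists_eq_one' (h : Decomp X) (l : List Γ(X, ⊤)) :
    ∀ {A : X.Modules} [A.IsQuasicoherent] (α : A ⟶ Coh.structureModule X) [Mono α],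
      (∀ x : X, SurjNear α x ∨ ∃ f ∈ l, x ∈ X.basicOpen f) →
      ∃ (a : Γ(A, ⊤)) (c : Γ(X, ⊤)), c ∈ Ideal.span {f | f ∈ l} ∧
        (show Γ(X, ⊤) from (α.app ⊤).hom a) + c = 1 := by
  induction l with
  | nil =>
    intro A _ α _ hα
    have hs : ∀ x, SurjNear α x := fun x => (hα x).resolve_right (by simp)
    have : Epi α := epi_of_surjNear α hs
    have : IsIso α := isIso_of_mono_of_epi α
    refine ⟨((inv α).app ⊤).hom ((1 : Γ(X, ⊤)) : Γ(Coh.structureModule X, ⊤)), 0,
      Ideal.zero_mem _, ?_⟩
    rw [add_zero]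
    have e := congrArg (fun ψ : Coh.structureModule X ⟶ Coh.structureModule X =>
      (Scheme.Modules.Hom.app ψ ⊤).hom
      ((1 : Γ(X, ⊤)) : Γ(Coh.structureModule X, ⊤))) (IsIso.inv_hom_id α)
    exact e
  | cons f l ih =>
    intro A _ α _ hα
    let φ := ofSec (Coh.structureModule X) f
    have hAO : (A ⊞ Coh.structureModule X).IsQuasicoherent :=
      QCohProd.isQuasicoherent_biprod A _ inferInstance inferInstance
    have hIm : (Abelian.image (biprod.desc α φ)).IsQuasicoherent :=
      isQuasicoherent_image (biprod.desc α φ)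
    have hfac := Abelian.image.fac (biprod.desc α φ)
    have hα' : ∀ x : X, SurjNear (Abelian.image.ι (biprod.desc α φ)) x ∨
        ∃ g ∈ l, x ∈ X.basicOpen g := by
      intro x
      rcases hα x with h1 | ⟨g, hg, hxg⟩
      · left
        refine h1.of_factor (biprod.inl ≫ Abelian.factorThruImage (biprod.desc α φ)) _ ?_
        rw [Category.assoc, hfac, biprod.inl_desc]
      · rcases List.mem_cons.mp hg with rfl | hg'
        · left
          refine (surjNear_ofSec g x hxg).of_factor
            (biprod.inr ≫ Abelian.factorThruImage (biprod.desc α φ)) _ ?_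
          rw [Category.assoc, hfac, biprod.inr_desc]
        · exact Or.inr ⟨g, hg', hxg⟩
    obtain ⟨a', c, hc, hac⟩ := ih (Abelian.image.ι (biprod.desc α φ)) hα'
    obtain ⟨a, b, hab⟩ := h A _ inferInstance inferInstance α φ (𝟙 _) inferInstance inferInstance a'
    refine ⟨a, (show Γ(X, ⊤) from b) * f + c, ?_, ?_⟩
    · refine Ideal.add_mem _ (Ideal.mul_mem_left _ _ (Ideal.subset_span ?_))
        (Ideal.span_mono ?_ hc)
      · exact List.mem_cons_self
      · intro g hg
        exact List.mem_cons_of_mem _ hg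
    · have hφb : (φ.app ⊤).hom b = (show Γ(X, ⊤) from b) * f := by
        have := app_apply φ ⊤ (show Γ(X, ⊤) from b)
        rw [this]
        show (show Γ(X, ⊤) from b) * fn φ ⊤ = _
        rw [fn_ofSec_top]
      rw [← hac, hab, hφb]
      exact (add_assoc (show Γ(X, ⊤) from (α.app ⊤).hom a) ((show Γ(X, ⊤) from b) * f) c).symm



theorem exists_basicOpen_of_closed_point' (h : Decomp X) (x : X) (hx : IsClosed ({x} : Set X))
    (U : X.Opens) (hxU : x ∈ U) :
    ∃ f : Γ(X, ⊤), x ∈ X.basicOpen f ∧ X.basicOpen f ≤ U := by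
  let Z : Closeds X := ⟨(U : Set X)ᶜ, U.isOpen.isClosed_compl⟩
  let P : Closeds X := ⟨{x}, hx⟩
  let I := Scheme.IdealSheafData.vanishingIdeal Z
  let J := Scheme.IdealSheafData.vanishingIdeal P
  let α := ClSub.idealModι I
  let β := ClSub.idealModι J
  have hAB : (ClSub.idealMod I ⊞ ClSub.idealMod J).IsQuasicoherent :=
    QCohProd.isQuasicoherent_biprod _ _ inferInstance inferInstance
  have hIm : (Abelian.image (biprod.desc α β)).IsQuasicoherent :=
    isQuasicoherent_image (biprod.desc α β)
  have hfac := Abelian.image.fac (biprod.desc α β)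
  have hα' : ∀ y : X, SurjNear (Abelian.image.ι (biprod.desc α β)) y ∨
      ∃ g ∈ ([] : List Γ(X, ⊤)), y ∈ X.basicOpen g := by
    intro y
    left
    by_cases hy : y ∈ U
    · obtain ⟨V, hV, hyV, hVU⟩ := Opens.isBasis_iff_nbhd.mp X.isBasis_affineOpens hy
      have h1 : SurjNear α y := ⟨⟨V, hV⟩, hyV,
        idealModι_app_surjective_of_disjoint Z ⟨V, hV⟩
          (Set.disjoint_left.mpr fun z hzV hzZ => hzZ (hVU hzV))⟩
      refine h1.of_factor (biprod.inl ≫ Abelian.factorThruImage (biprod.desc α β)) _ ?_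
      rw [Category.assoc, hfac, biprod.inl_desc]
    · let W : X.Opens := ⟨({x} : Set X)ᶜ, hx.isOpen_compl⟩
      have hyW : y ∈ W := by
        intro hyx
        have : y = x := hyx
        exact hy (this ▸ hxU)
      obtain ⟨V, hV, hyV, hVW⟩ := Opens.isBasis_iff_nbhd.mp X.isBasis_affineOpens hyW
      have h1 : SurjNear β y := ⟨⟨V, hV⟩, hyV,
        idealModι_app_surjective_of_disjoint P ⟨V, hV⟩
          (Set.disjoint_left.mpr fun z hzV hzP => hVW hzV hzP)⟩
      refine h1.of_factor (biprod.inr ≫ Abelian.factorThruImage (biprod.desc α β)) _ ?_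
      rw [Category.assoc, hfac, biprod.inr_desc]
  obtain ⟨a', c, hc, hac⟩ := exists_eq_one' h [] (Abelian.image.ι (biprod.desc α β)) hα'
  have hc0 : c = 0 := by
    have : {f : Γ(X, ⊤) | f ∈ ([] : List Γ(X, ⊤))} = ∅ := by ext; simp
    rw [this, Ideal.span_empty] at hc
    exact hc
  rw [hc0, add_zero] at hac
  obtain ⟨a, b, hab⟩ := h _ _ inferInstance inferInstance α β β inferInstance inferInstance a'
  let f : Γ(X, ⊤) := (α.app ⊤).hom a
  let g : Γ(X, ⊤) := (β.app ⊤).hom b
  have hfg : f + g = 1 := hab.symm.trans hac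
  have hg : x ∉ X.basicOpen g := not_mem_basicOpen_of_mem P b x rfl
  refine ⟨f, ?_, ?_⟩
  · have h1 : x ∈ X.basicOpen (f + g) := by
      rw [hfg, X.basicOpen_of_isUnit isUnit_one]
      trivial
    rcases X.basicOpen_add_le f g h1 with h2 | h2
    · exact h2
    · exact (hg h2).elim
  · intro z hz
    by_contra hzU
    exact not_mem_basicOpen_of_mem Z a z hzU hz

theorem isAffine_of_decomp [CompactSpace X] (h : Decomp X) : IsAffine X := by
  -- every point lies in an affine basic open
  have key : ∀ x : X, ∃ f : Γ(X, ⊤), x ∈ X.basicOpen f ∧ IsAffineOpen (X.basicOpen f) := by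
    by_contra hcon
    push Not at hcon
    let W : X.Opens := ⨆ f : {f : Γ(X, ⊤) // IsAffineOpen (X.basicOpen f)}, X.basicOpen f.1
    have hWne : ((W : Set X)ᶜ).Nonempty := by
      obtain ⟨x, hx⟩ := hcon
      refine ⟨x, fun hxW => ?_⟩
      obtain ⟨f, hxf⟩ := Opens.mem_iSup.mp hxW
      exact hx f.1 hxf f.2
    obtain ⟨x, hxW, hxc⟩ := W.isOpen.isClosed_compl.exists_closed_singleton hWne
    obtain ⟨U, hxU⟩ := KerSections.exists_affine_mem x
    obtain ⟨f, hxf, hfU⟩ := exists_basicOpen_of_closed_point' h x hxc U.1 hxU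
    have haff : IsAffineOpen (X.basicOpen f) := by
      have := U.2.basicOpen (X.presheaf.map (homOfLE (le_top : U.1 ≤ ⊤)).op f)
      rw [Scheme.basicOpen_res, inf_eq_right.mpr hfU] at this
      exact this
    exact hxW (Opens.mem_iSup.mpr ⟨⟨f, haff⟩, hxf⟩)
  choose f hxf haff using key
  obtain ⟨t, ht⟩ := CompactSpace.elim_nhds_subcover (fun x => (X.basicOpen (f x) : Set X))
    (fun x => (X.basicOpen (f x)).isOpen.mem_nhds (hxf x))
  let l : List Γ(X, ⊤) := t.toList.map f
  have hZ : (0 : X.Modules).IsQuasicoherent := CohKer.isQuasicoherent_of_isZero (isZero_zero _)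
  have hcov : ∀ x : X, SurjNear (0 : (0 : X.Modules) ⟶ Coh.structureModule X) x ∨
      ∃ g ∈ l, x ∈ X.basicOpen g := by
    intro x
    right
    have hx : x ∈ ⋃ y ∈ t, (X.basicOpen (f y) : Set X) := ht ▸ Set.mem_univ x
    simp only [Set.mem_iUnion] at hx
    obtain ⟨y, hyt, hxy⟩ := hx
    exact ⟨f y, List.mem_map.mpr ⟨y, Finset.mem_toList.mpr hyt, rfl⟩, hxy⟩
  obtain ⟨a, c, hc, hac⟩ := exists_eq_one' h l (0 : (0 : X.Modules) ⟶ Coh.structureModule X) hcov
  have hc1 : c = 1 := by
    have h0 : (show Γ(X, ⊤) from ((0 : (0 : X.Modules) ⟶ Coh.structureModule X).app ⊤).hom a) = 0 :=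
      rfl
    rw [h0, zero_add] at hac
    exact hac
  refine isAffine_of_isAffineOpen_basicOpen {g | g ∈ l} ?_ ?_
  · rw [Ideal.eq_top_iff_one, ← hc1]
    exact hc
  · intro g hg
    obtain ⟨y, -, rfl⟩ := List.mem_map.mp hg
    exact haff y



end Groth.Agent.Lib.helper11.SerreCrit
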