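import Groth.Agent.Lib.Helper11.SerreCrit2
import Groth.Agent.Lib.Helper16.Satur5
import Groth.Agent.Lib.Helper16.QCAlg2
import Groth.Agent.Lib.Helper16.CohFinite

/-!
# Serre's criterion with finite type ideals (helper11)

On a quasi-compact quasi-separated scheme, `H¹`-vanishing for the quasi-coherent ideals *of finite
type* already gives `SerreCrit.Decomp X`, hence affineness.
-/

set_option autoImplicit false
universe v u
open CategoryTheory CategoryTheory.Limits AlgebraicGeometry TopologicalSpace Opposite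
open Scheme.Modules Groth.Agent.Lib.helper7
open Groth.Agent.Lib.helper11.GenLocus Groth.Agent.Lib.helper11.IsoLocus
open Groth.Agent.Lib.helper11.SerreCrit

namespace Groth.Agent.Lib.helper11.SerreCritFT

variable {X : Scheme.{u}}

theorem range_subset_of_factor {A A' B : X.Modules} (f : A ⟶ B) (g : A ⟶ A') (f' : A' ⟶ B)
    (h : g ≫ f' = f) (V : X.Opens) : Set.range (f.app V) ⊆ Set.range (f'.app V) := by
  rintro _ ⟨a, rfl⟩
  refine ⟨g.app V a, ?_⟩
  rw [← h]
  rfl

/-- finitely many sections over affine opens of a quasi-coherent module on a qcqs scheme lie in a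
quasi-coherent submodule of finite type -/
theorem exists_ft_sub_list [CompactSpace X] [QuasiSeparatedSpace X] (F : X.Modules)
    [F.IsQuasicoherent] (l : List (Σ V : X.affineOpens, Γ(F, V.1))) :
    ∃ (G : X.Modules) (i : G ⟶ F), Mono i ∧ G.IsQuasicoherent ∧ CohB1.IsFT G ∧
      ∀ p ∈ l, p.2 ∈ Set.range (i.app p.1.1) := by
  induction l with
  | nil =>
    obtain ⟨G, i, hm, hq, hft, -⟩ :=
      Groth.Agent.Lib.helper16.Satur.exists_ft_sub_sections F (isAffineOpen_bot X) ∅
    exact ⟨G, i, hm, hq, hft, by simp⟩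
  | cons p l ih =>
    obtain ⟨G₁, i₁, hm₁, hq₁, hft₁, h₁⟩ := ih
    obtain ⟨G₂, i₂, hm₂, hq₂, hft₂, h₂⟩ :=
      Groth.Agent.Lib.helper16.Satur.exists_ft_sub_sections F p.1.2 {p.2}
    have hb := Groth.Agent.Lib.helper16.Satur.isFT_biprod G₁ G₂ hft₁ hft₂
    have hq : (G₁ ⊞ G₂).IsQuasicoherent := hb.1
    have e1 : biprod.inl ≫ Abelian.factorThruImage (biprod.desc i₁ i₂) ≫
        Abelian.image.ι (biprod.desc i₁ i₂) = i₁ := by
      rw [Abelian.image.fac, biprod.inl_desc]
    have e2 : biprod.inr ≫ Abelian.factorThruImage (biprod.desc i₁ i₂) ≫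
        Abelian.image.ι (biprod.desc i₁ i₂) = i₂ := by
      rw [Abelian.image.fac, biprod.inr_desc]
    refine ⟨Abelian.image (biprod.desc i₁ i₂), Abelian.image.ι _, inferInstance,
      isQuasicoherent_image _,
      CohKer.isFiniteType_of_epi (Abelian.factorThruImage (biprod.desc i₁ i₂)) hb.2, ?_⟩
    intro q hq'
    rcases List.mem_cons.mp hq' with rfl | hq'
    · have := h₂ q.2 (Finset.mem_singleton_self _)
      exact range_subset_of_factor i₂ (biprod.inr ≫ Abelian.factorThruImage _) _
        (by rw [Category.assoc]; exact e2) _ this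
    · exact range_subset_of_factor i₁ (biprod.inl ≫ Abelian.factorThruImage _) _
        (by rw [Category.assoc]; exact e1) _ (h₁ q hq')

theorem sec_ofSec_top (M : X.Modules) (m : Γ(M, ⊤)) : sec (ofSec M m) ⊤ = m := by
  rw [sec_ofSec]
  have : (homOfLE (le_top : (⊤ : X.Opens) ≤ ⊤)).op = 𝟙 _ := rfl
  rw [this, M.val.map_id]
  rfl

theorem ofSec_app_top_one (M : X.Modules) (m : Γ(M, ⊤)) :
    ((ofSec M m).app ⊤).hom ((1 : Γ(X, ⊤)) : Γ(Coh.structureModule X, ⊤)) = m := by
  rw [app_apply, one_smul, sec_ofSec_top]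

/-- the hypothesis of Serre's criterion, finite type ideals only -/
def H1IdealsFT (X : Scheme.{u}) : Prop :=
  ∀ (I : X.Modules) (i : I ⟶ Coh.structureModule X), Mono i →
      Coh.IsQCoh I → CohB1.IsFT I → Subsingleton (Coh.HH X I 1)

/-- the kernel of a morphism `E' ⟶ O` from a finite type quasi-coherent module which hits `1`
over the members of an affine cover is of finite type -/
theorem isFT_kernel_of_local_sections {E' : X.Modules} [E'.IsQuasicoherent] (hft : CohB1.IsFT E')
    (p : E' ⟶ Coh.structureModule X) {ι : Type u} (W : ι → X.Opens) (hW : ∀ i, IsAffineOpen (W i))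
    (hcov : ⨆ i, W i = ⊤) (g : ∀ i, Γ(E', W i))
    (hg : ∀ i, p.app (W i) (g i) = (1 : Γ(X, W i))) :
    CohB1.IsFT (kernel p) := by
  have hK : (kernel p).IsQuasicoherent := CohKer.isQuasicoherent_kernel p
  refine Groth.Agent.Lib.helper16.CohFinite.isFiniteType_of_finite_sections (kernel p) W hW hcov ?_
  intro i
  have hfin : Module.Finite Γ(X, W i) Γ(E', W i) :=
    Groth.Agent.Lib.helper16.CohFinite.finite_sections_of_isFiniteType E' hft (hW i)
  -- the linear maps
  let P : Γ(E', W i) →ₗ[Γ(X, W i)] Γ(X, W i) :=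
    { toFun := fun m => (p.app (W i) m : Γ(X, W i))
      map_add' := fun a b => map_add (p.app (W i)).hom a b
      map_smul' := fun r m => by
        change p.app (W i) (r • m) = r • (p.app (W i) m)
        exact Hom.app_smul p r m }
  let κ : Γ(kernel p, W i) →ₗ[Γ(X, W i)] Γ(E', W i) :=
    { toFun := fun k => (kernel.ι p).app (W i) k
      map_add' := fun a b => map_add ((kernel.ι p).app (W i)).hom a b
      map_smul' := fun r m => Hom.app_smul (kernel.ι p) r m }
  have hκinj : Function.Injective κ := KerSections.kernel_ι_app_injective p (W i)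
  have hκrange : LinearMap.range κ = LinearMap.ker P := by
    ext m
    have := Set.ext_iff.mp (KerSections.range_kernel_ι_app p (W i)) m
    exact this
  let q : Γ(E', W i) →ₗ[Γ(X, W i)] Γ(E', W i) :=
    LinearMap.id - (LinearMap.toSpanSingleton Γ(X, W i) Γ(E', W i) (g i)).comp P
  have hPg : P (g i) = 1 := hg i
  have hq : LinearMap.range q = LinearMap.ker P := by
    ext m
    constructor
    · rintro ⟨m', rfl⟩
      rw [LinearMap.mem_ker]
      simp only [q, LinearMap.sub_apply, LinearMap.id_apply, LinearMap.comp_apply,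
        LinearMap.toSpanSingleton_apply, map_sub]
      rw [LinearMap.map_smul, hPg, smul_eq_mul, mul_one, sub_self]
    · intro hm
      rw [LinearMap.mem_ker] at hm
      refine ⟨m, ?_⟩
      simp only [q, LinearMap.sub_apply, LinearMap.id_apply, LinearMap.comp_apply,
        LinearMap.toSpanSingleton_apply, hm, zero_smul, sub_zero]
  have hfk : Module.Finite Γ(X, W i) (LinearMap.ker P) := by
    rw [← hq]
    exact Module.Finite.range q
  have e : Γ(kernel p, W i) ≃ₗ[Γ(X, W i)] LinearMap.ker P :=
    (LinearEquiv.ofInjective κ hκinj).trans (LinearEquiv.ofEq _ _ hκrange)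
  exact Module.Finite.equiv e.symm

theorem surjective_factorThruImage_top [CompactSpace X] [QuasiSeparatedSpace X]
    (h : H1IdealsFT X) (A B : X.Modules) [A.IsQuasicoherent] [B.IsQuasicoherent]
    (α : A ⟶ Coh.structureModule X) (β : B ⟶ Coh.structureModule X)
    (j : B ⟶ Coh.structureModule X) [Mono α] [Mono j] :
    Function.Surjective ((Abelian.factorThruImage (biprod.desc α β)).app ⊤) := by
  intro s
  have hO : (Coh.structureModule X).IsQuasicoherent := inferInstance
  have hAB : (A ⊞ B).IsQuasicoherent :=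
    QCohProd.isQuasicoherent_biprod A B inferInstance inferInstance
  have hIm : (Abelian.image (biprod.desc α β)).IsQuasicoherent := isQuasicoherent_image _
  let π := Abelian.factorThruImage (biprod.desc α β)
  let σ : Coh.structureModule X ⟶ Abelian.image (biprod.desc α β) := ofSec _ s
  have hE : (pullback π σ).IsQuasicoherent := QCohProd.isQuasicoherent_pullback hAB hO hIm π σ
  have hsnd : Epi (pullback.snd π σ) := Abelian.epi_pullback_of_epi_f π σ
  -- local sections of `E` hitting `1`
  have hloc : ∀ V : X.affineOpens, ∃ t : Γ(pullback π σ, V.1),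
      (pullback.snd π σ).app V.1 t = (1 : Γ(X, V.1)) := by
    intro V
    have hK : (kernel (pullback.snd π σ)).IsQuasicoherent := CohKer.isQuasicoherent_kernel _
    let S : ShortComplex X.Modules :=
      ShortComplex.mk (kernel.ι (pullback.snd π σ)) (pullback.snd π σ) (kernel.condition _)
    have hS : S.ShortExact :=
      { exact := ShortComplex.exact_of_f_is_kernel _ (kernelIsKernel _)
        mono_f := inferInstanceAs (Mono (kernel.ι (pullback.snd π σ)))
        epi_g := hsnd }
    have : S.X₁.IsQuasicoherent := hK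
    exact QCohExt.surjective_app_of_shortExact S hS V.1 V.2 _
  choose t ht using hloc
  -- finite affine cover
  obtain ⟨S, hS, hcov⟩ := (isCompact_iff_finite_and_eq_biUnion_affineOpens
    (U := (⊤ : X.Opens))).mp isCompact_univ
  obtain ⟨E', ι, hm, hq, hft, hmem⟩ := exists_ft_sub_list (pullback π σ)
    (hS.toFinset.toList.map (fun V => (⟨V, t V⟩ : Σ V : X.affineOpens, Γ(pullback π σ, V.1))))
  have hg : ∀ V : S, ∃ g : Γ(E', V.1.1), ι.app V.1.1 g = t V.1 := by
    intro V
    have := hmem ⟨V.1, t V.1⟩ (List.mem_map.mpr ⟨V.1, by simp [V.2], rfl⟩)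
    exact this
  choose g hg using hg
  let p' : E' ⟶ Coh.structureModule X := ι ≫ pullback.snd π σ
  have hp'g : ∀ V : S, p'.app V.1.1 (g V) = (1 : Γ(X, V.1.1)) := by
    intro V
    change (pullback.snd π σ).app V.1.1 (ι.app V.1.1 (g V)) = _
    rw [hg, ht]
  have hcov' : ⨆ V : S, (V.1.1 : X.Opens) = ⊤ := by
    rw [hcov, iSup_subtype']
  have hcovx : ∀ x : X, ∃ V : S, x ∈ V.1.1 := by
    intro x
    have : x ∈ (⨆ V : S, (V.1.1 : X.Opens)) := by rw [hcov']; trivial
    exact Opens.mem_iSup.mp this
  have hepi : Epi p' := by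
    refine KerSections.epi_of_surjective_cover p' (fun V : S => V.1.1) (fun V => V.1.2) hcovx ?_
    intro V c
    refine ⟨(show Γ(X, V.1.1) from c) • g V, ?_⟩
    have h1 := Hom.app_smul p' (show Γ(X, V.1.1) from c) (g V)
    rw [hp'g] at h1
    exact h1.trans (mul_one (show Γ(X, V.1.1) from c))
  have hKft : CohB1.IsFT (kernel p') :=
    isFT_kernel_of_local_sections hft p' (fun V : S => V.1.1) (fun V => V.1.2) hcov' g hp'g
  have hKq : (kernel p').IsQuasicoherent := CohKer.isQuasicoherent_kernel p'
  -- the monomorphism from the kernel to `O`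
  let κ' : kernel p' ⟶ A ⊞ B := kernel.ι p' ≫ ι ≫ pullback.fst π σ
  have hκ'mono : Mono κ' := by
    refine Preadditive.mono_of_cancel_zero _ ?_
    intro T r hr
    have h1 : (r ≫ kernel.ι p' ≫ ι) ≫ pullback.fst π σ = 0 := by
      simpa only [κ', Category.assoc] using hr
    have h2 : (r ≫ kernel.ι p' ≫ ι) ≫ pullback.snd π σ = 0 := by
      have : kernel.ι p' ≫ ι ≫ pullback.snd π σ = 0 := kernel.condition p'
      simp only [Category.assoc, this, comp_zero]
    have h3 : r ≫ kernel.ι p' ≫ ι = 0 := by
      apply pullback.hom_ext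
      · rw [h1, zero_comp]
      · rw [h2, zero_comp]
    have : Mono (kernel.ι p' ≫ ι) := mono_comp _ _
    rw [← cancel_mono (kernel.ι p' ≫ ι), zero_comp]
    exact h3
  have hκ'0 : κ' ≫ biprod.desc α β = 0 := by
    have hfac : π ≫ Abelian.image.ι (biprod.desc α β) = biprod.desc α β := Abelian.image.fac _
    have hcond : pullback.fst π σ ≫ π = pullback.snd π σ ≫ σ := pullback.condition
    have hk : kernel.ι p' ≫ ι ≫ pullback.snd π σ = 0 := kernel.condition p'
    calc κ' ≫ biprod.desc α β
        = kernel.ι p' ≫ ι ≫ (pullback.fst π σ ≫ π) ≫ Abelian.image.ι (biprod.desc α β) := by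
          simp only [κ', Category.assoc, hfac]
      _ = (kernel.ι p' ≫ ι ≫ pullback.snd π σ) ≫ σ ≫ Abelian.image.ι (biprod.desc α β) := by
          rw [hcond]; simp only [Category.assoc]
      _ = 0 := by rw [hk, zero_comp]
  have hmono : Mono ((κ' ≫ biprod.snd) ≫ j) := by
    have := mono_comp_snd α β κ' hκ'0
    exact mono_comp _ _
  have hH1 := h (kernel p') ((κ' ≫ biprod.snd) ≫ j) hmono hKq hKft
  let T : ShortComplex X.Modules := ShortComplex.mk (kernel.ι p') p' (kernel.condition _)
  have hT : T.ShortExact :=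
    { exact := ShortComplex.exact_of_f_is_kernel _ (kernelIsKernel _)
      mono_f := inferInstanceAs (Mono (kernel.ι p'))
      epi_g := hepi }
  obtain ⟨e, he⟩ := surj_top_of_H1 T hT hH1 ((1 : Γ(X, ⊤)) : Γ(Coh.structureModule X, ⊤))
  refine ⟨(ι ≫ pullback.fst π σ).app ⊤ e, ?_⟩
  have hc : (ι ≫ pullback.fst π σ) ≫ π = p' ≫ σ := by
    simp only [p', Category.assoc, pullback.condition]
  have h5 := congrArg (fun ψ => (Hom.app ψ ⊤).hom e) hc
  have h6 : (σ.app ⊤).hom ((p'.app ⊤).hom e) = s := by
    have he' : (p'.app ⊤).hom e = ((1 : Γ(X, ⊤)) : Γ(Coh.structureModule X, ⊤)) := he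
    rw [he']
    exact ofSec_app_top_one _ s
  exact h5.trans h6

theorem decomp_of_H1IdealsFT [CompactSpace X] [QuasiSeparatedSpace X] (h : H1IdealsFT X) :
    Decomp X :=
  decomp_of_surjective fun A B hA hB α β j hα hj =>
    surjective_factorThruImage_top h A B α β j

/-- **Serre's criterion, finite type ideals**: a quasi-compact quasi-separated scheme on which `H¹`
vanishes for all quasi-coherent ideals of finite type is affine. -/
theorem isAffine_of_H1IdealsFT [CompactSpace X] [QuasiSeparatedSpace X] (h : H1IdealsFT X) :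
    IsAffine X :=
  isAffine_of_decomp (decomp_of_H1IdealsFT h)

end Groth.Agent.Lib.helper11.SerreCritFT
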