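import Mathlib
import Groth.Agent.Lib.Helper26.SmoothHensLift

/-!
# Sections of smooth schemes over a henselian local ring (helper11)
`exists_section` (= S5038): scheme-level wrapper around helper26's `exists_lift_of_henselianRing_of_smooth`.
-/

set_option autoImplicit false
universe u
open CategoryTheory CategoryTheory.Limits AlgebraicGeometry Opposite TopologicalSpace

namespace Groth.Agent.Lib.helper11.SmoothSection

theorem exists_section (A : Type u) [CommRing A] [HenselianLocalRing A]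
    {X : Scheme.{u}} (f : X ⟶ Spec (CommRingCat.of A)) [Smooth f]
    (u₀ : Spec (CommRingCat.of (IsLocalRing.ResidueField A)) ⟶ X)
    (h₀ : u₀ ≫ f = Spec.map (CommRingCat.ofHom (IsLocalRing.residue A))) :
    ∃ u : Spec (CommRingCat.of A) ⟶ X, u ≫ f = 𝟙 _ ∧
      Spec.map (CommRingCat.ofHom (IsLocalRing.residue A)) ≫ u = u₀ := by
  let k := IsLocalRing.ResidueField A
  let pt : PrimeSpectrum k := default
  let x : X := u₀.base pt
  obtain ⟨V, hVaff, hxV, -⟩ := exists_isAffineOpen_mem_and_subset (x := x) (U := ⊤) trivial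
  haveI : IsAffine V.toScheme := hVaff
  -- `u₀` factors through `V`
  have hrange : Set.range u₀.base ⊆ Set.range V.ι.base := by
    rintro _ ⟨p, rfl⟩
    rw [Scheme.Opens.range_ι]
    have : p = pt := Subsingleton.elim _ _
    rw [this]
    exact hxV
  let v₀ : Spec (CommRingCat.of k) ⟶ V.toScheme := IsOpenImmersion.lift V.ι u₀ hrange
  have hv₀ : v₀ ≫ V.ι = u₀ := IsOpenImmersion.lift_fac _ _ _
  let g : V.toScheme ⟶ Spec (CommRingCat.of A) := V.ι ≫ f
  let φ : CommRingCat.of A ⟶ Γ(V.toScheme, ⊤) := (Scheme.ΓSpecIso (CommRingCat.of A)).inv ≫ g.appTop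
  have hg : g = V.toScheme.isoSpec.hom ≫ Spec.map φ := by
    rw [Spec.map_comp, ← Category.assoc, Scheme.isoSpec_hom_naturality, Category.assoc]
    have : (Spec (CommRingCat.of A)).isoSpec.hom ≫
        Spec.map (Scheme.ΓSpecIso (CommRingCat.of A)).inv = 𝟙 _ := by
      rw [Scheme.isoSpec_Spec_hom, ← Spec.map_comp, Iso.inv_hom_id, Spec.map_id]
    rw [this, Category.comp_id]
  have hsm : Smooth (Spec.map φ) := by
    have : Spec.map φ = V.toScheme.isoSpec.inv ≫ g := by rw [hg, Iso.inv_hom_id_assoc]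
    rw [this]
    infer_instance
  have hφsm : φ.hom.Smooth := (HasRingHomProperty.Spec_iff (P := @Smooth)).mp hsm
  -- the `k`-point as a ring map
  let σ : Γ(V.toScheme, ⊤) ⟶ CommRingCat.of k := Spec.preimage (v₀ ≫ V.toScheme.isoSpec.hom)
  have hσ : Spec.map σ = v₀ ≫ V.toScheme.isoSpec.hom := Spec.map_preimage _
  have hφσ : φ ≫ σ = CommRingCat.ofHom (IsLocalRing.residue A) := by
    apply Spec.map_injective
    rw [Spec.map_comp, hσ, Category.assoc, ← hg]
    show v₀ ≫ V.ι ≫ f = _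
    rw [← Category.assoc, hv₀, h₀]
  letI alg : Algebra A Γ(V.toScheme, ⊤) := φ.hom.toAlgebra
  haveI : Algebra.Smooth A Γ(V.toScheme, ⊤) := hφsm
  let σ' : Γ(V.toScheme, ⊤) →ₐ[A] A ⧸ IsLocalRing.maximalIdeal A :=
    { toRingHom := σ.hom
      commutes' := by
        intro a
        exact congr($(hφσ).hom a) }
  obtain ⟨τ, hτ⟩ := Groth.Agent.Lib.helper26.SmoothHensLift.exists_lift_of_henselianRing_of_smooth
    (T := A) (S := Γ(V.toScheme, ⊤)) (J := IsLocalRing.maximalIdeal A) inferInstance σ'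
  let τc : Γ(V.toScheme, ⊤) ⟶ CommRingCat.of A := CommRingCat.ofHom τ.toRingHom
  have hφτ : φ ≫ τc = 𝟙 _ := by
    ext a
    exact τ.commutes a
  have hτσ : τc ≫ CommRingCat.ofHom (IsLocalRing.residue A) = σ := by
    ext b
    exact congr($(hτ) b)
  refine ⟨Spec.map τc ≫ V.toScheme.isoSpec.inv ≫ V.ι, ?_, ?_⟩
  · show Spec.map τc ≫ V.toScheme.isoSpec.inv ≫ g = _
    rw [hg, Iso.inv_hom_id_assoc, ← Spec.map_comp, hφτ, Spec.map_id]
  · rw [← Category.assoc, ← Spec.map_comp, hτσ, hσ, Category.assoc, Iso.hom_inv_id_assoc, hv₀]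

end Groth.Agent.Lib.helper11.SmoothSection
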