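import Mathlib

/-!
# Vanishing of stalks of a sheafification (helper11)

* `presheafHom_skyscraper_ext`: two morphisms from a presheaf `P` of abelian groups to a skyscraper presheaf at
  `y` agree as soon as `P` vanishes on arbitrarily small open neighbourhoods of `y`.
* `isZero_stalk_sheafify`: under the same hypothesis the stalk at `y` of the sheafification of `P` is zero.
-/

set_option autoImplicit false
universe u

open CategoryTheory CategoryTheory.Limits TopologicalSpace Opposite TopCat

namespace Groth.Agent.Lib.helper11.StalkZero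

variable {Y : TopCat.{u}}

theorem presheafHom_skyscraper_ext (P : (Opens Y)ᵒᵖ ⥤ AddCommGrpCat.{u}) (y : Y)
    [∀ U : Opens Y, Decidable (y ∈ U)] (A : AddCommGrpCat.{u})
    (h : ∀ W : Opens Y, y ∈ W → ∃ W' : Opens Y, W' ≤ W ∧ y ∈ W' ∧ Subsingleton (P.obj (op W')))
    (φ ψ : P ⟶ skyscraperPresheaf y A) : φ = ψ := by
  apply NatTrans.ext
  funext W
  by_cases hy : y ∈ W.unop
  · obtain ⟨W', hW', hyW', hsub⟩ := h W.unop hy
    have h1 := φ.naturality (homOfLE hW').op
    have h2 := ψ.naturality (homOfLE hW').op
    have h3 : φ.app (op W') = ψ.app (op W') := by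
      apply AddCommGrpCat.hom_ext
      apply AddMonoidHom.ext
      intro s
      rw [Subsingleton.elim s 0, map_zero, map_zero]
    have hiso : IsIso ((skyscraperPresheaf y A).map (homOfLE hW').op) := by
      have : (skyscraperPresheaf y A).map (homOfLE hW').op = eqToHom (by
          simp only [skyscraperPresheaf_obj]
          rw [if_pos hy, if_pos (show y ∈ (op W').unop from hyW')]) := dif_pos hyW'
      rw [this]
      infer_instance
    rw [← cancel_mono ((skyscraperPresheaf y A).map (homOfLE hW').op)]
    change φ.app (op W.unop) ≫ _ = ψ.app (op W.unop) ≫ _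
    rw [← h1, ← h2, h3]
  · have ht : IsTerminal ((skyscraperPresheaf y A).obj W) := by
      have : (skyscraperPresheaf y A).obj W = ⊤_ AddCommGrpCat.{u} := if_neg hy
      rw [this]
      exact terminalIsTerminal
    exact ht.hom_ext _ _

theorem isZero_stalk_sheafify (P : (Opens Y)ᵒᵖ ⥤ AddCommGrpCat.{u}) (y : Y)
    (h : ∀ W : Opens Y, y ∈ W → ∃ W' : Opens Y, W' ≤ W ∧ y ∈ W' ∧ Subsingleton (P.obj (op W'))) :
    IsZero (TopCat.Presheaf.stalk
      ((presheafToSheaf (Opens.grothendieckTopology Y) AddCommGrpCat.{u}).obj P).obj y) := by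
  classical
  let G : Sheaf (Opens.grothendieckTopology Y) AddCommGrpCat.{u} :=
    (presheafToSheaf (Opens.grothendieckTopology Y) AddCommGrpCat.{u}).obj P
  let A : AddCommGrpCat.{u} := TopCat.Presheaf.stalk G.obj y
  rw [IsZero.iff_id_eq_zero]
  apply ((stalkSkyscraperSheafAdjunction (C := AddCommGrpCat.{u}) y).homEquiv G A).injective
  apply ((sheafificationAdjunction (Opens.grothendieckTopology Y) AddCommGrpCat.{u}).homEquiv
    P (skyscraperSheaf y A)).injective
  exact presheafHom_skyscraper_ext P y A h _ _

end Groth.Agent.Lib.helper11.StalkZero
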