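import Groth.Agent.Lib.Helper8.SupportProper
import Groth.Agent.Lib.Helper2.TensorSupp

/-!
# Proper support and closed immersions (helper11)

* `isProper_of_isProperOver_range`: if `j : W ⟶ X` is a closed immersion, `j ≫ f` is locally of
  finite type and the range of `j` is proper over `S` (reduced structure), then `j ≫ f` is proper.
* `range_pullback_snd_eq_support`: for the reduced closed subscheme `ι₀` on `Supp F₀` and any
  `p : X' ⟶ X₀`, the range of the base change of `ι₀` along `p` is `Supp (p^* F₀)`.
-/

set_option autoImplicit false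
universe u
open CategoryTheory CategoryTheory.Limits AlgebraicGeometry

namespace Groth.Agent.Lib.helper11.SuppProper

variable {X S : Scheme.{u}}

theorem isProper_of_isProperOver_range (f : X ⟶ S) {W : Scheme.{u}} (j : W ⟶ X)
    [IsClosedImmersion j] [LocallyOfFiniteType (j ≫ f)]
    (h : ClSub.IsProperOver f (Set.range j)) : IsProper (j ≫ f) := by
  obtain ⟨hc, hp⟩ := h
  set I' := Scheme.IdealSheafData.vanishingIdeal ⟨Set.range j, hc⟩ with hI'
  have H : j.ker ≤ I'.subschemeι.ker := by
    rw [Scheme.IdealSheafData.ker_subschemeι, hI',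
      ← Scheme.IdealSheafData.le_support_iff_le_vanishingIdeal]
    exact j.range_subset_ker_support
  let r : I'.subscheme ⟶ W := IsClosedImmersion.lift j I'.subschemeι H
  have hr : r ≫ j = I'.subschemeι := IsClosedImmersion.lift_fac j I'.subschemeι H
  haveI : IsClosedImmersion (r ≫ j) := by rw [hr]; infer_instance
  haveI : IsClosedImmersion r := IsClosedImmersion.of_comp r j
  haveI : Surjective r := by
    constructor
    intro w
    have h1 : j w ∈ Set.range I'.subschemeι := by
      rw [Scheme.IdealSheafData.range_subschemeι, hI',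
        Scheme.IdealSheafData.coe_support_vanishingIdeal]
      exact ⟨w, rfl⟩
    obtain ⟨z, hz⟩ := h1
    refine ⟨z, ?_⟩
    apply j.isClosedEmbedding.injective
    rw [← hz, ← hr]
    rfl
  haveI : IsProper (r ≫ (j ≫ f)) := by
    rw [← Category.assoc, hr]
    exact hp
  exact Groth.Agent.Lib.helper8.SchemeSupport.isProper_of_comp_surjective r (j ≫ f)

theorem range_pullback_snd_eq_support {X₀ X' : Scheme.{u}} (F₀ : X₀.Modules) [F₀.IsQuasicoherent]
    (hF₀ : CohB1.IsFT F₀) {W₀ : Scheme.{u}} (ι₀ : W₀ ⟶ X₀)
    (hι₀ : Set.range ι₀ = CohB1.support F₀) (p : X' ⟶ X₀) :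
    Set.range (pullback.snd ι₀ p) = CohB1.support ((Scheme.Modules.pullback p).obj F₀) := by
  rw [Scheme.Pullback.range_snd, hι₀,
    Groth.Agent.Lib.helper2.TensorSupp.support_pullback p F₀ hF₀]

end Groth.Agent.Lib.helper11.SuppProper
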