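import Mathlib
import Groth.Prelude.Def_ega3
import Groth.Prelude.Def_Formal
import Groth.Agent.Lib.Helper12.TensorCocont

/-!
# helper11: `M ↦ f^* M~ ⊗ F` (`CohIII.tensorAFunctor A F`) preserves colimits
-/

set_option autoImplicit false
universe u
open CategoryTheory CategoryTheory.Limits AlgebraicGeometry Opposite TopologicalSpace MonoidalCategory

namespace Groth.Agent.Lib.helper11.TensorACocont

noncomputable section

variable {X : Scheme.{u}}

/-- `DCoh.tensorRightMod F` is helper20's `tensorRight F`. -/
def tensorRightModIso (F : X.Modules) :
    DCoh.tensorRightMod F ≅ Groth.Agent.Lib.Helper20.TensorEquiv.tensorRight F :=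
  NatIso.ofComponents (fun M => Iso.refl _) (by
    intro M M' f
    simp only [Iso.refl_hom, Category.comp_id, Category.id_comp,
      Groth.Agent.Lib.Helper20.TensorEquiv.tensorRight_map,
      Groth.Agent.Lib.Helper20.TensorEquiv.tensorMap_eq_whiskerRight]
    rfl)

instance preservesColimits_tensorRightMod (F : X.Modules) :
    PreservesColimitsOfSize.{u, u} (DCoh.tensorRightMod F) :=
  preservesColimits_of_natIso (tensorRightModIso F).symm

variable (A : Type u) [CommRing A] [X.Over (Spec (CommRingCat.of A))] (F : X.Modules)

instance preservesColimits_tensorAFunctor :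
    PreservesColimitsOfSize.{u, u} (CohIII.tensorAFunctor A F) := by
  unfold CohIII.tensorAFunctor
  haveI : PreservesColimitsOfSize.{u, u} (tilde.functor (CommRingCat.of A)) :=
    (tilde.adjunction (R := CommRingCat.of A)).leftAdjoint_preservesColimits
  haveI : PreservesColimitsOfSize.{u, u}
      (Scheme.Modules.pullback (X ↘ Spec (CommRingCat.of A))) :=
    (Scheme.Modules.pullbackPushforwardAdjunction _).leftAdjoint_preservesColimits
  infer_instance

end

end Groth.Agent.Lib.helper11.TensorACocont
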