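import Mathlib
import Groth.Prelude.Def_ega3
import Groth.Prelude.Def_Formal
import Groth.Agent.Lib.Helper11.TensorALin
import Groth.Agent.Lib.Helper2.TpEW

/-!
# helper11: a natural isomorphism `H^p(X, f^* M~ ⊗ F) ≅ T_q(M)` of abelian-group valued functors is `A`-linear
-/

set_option autoImplicit false
set_option linter.unusedSectionVars false
universe u
open CategoryTheory CategoryTheory.Limits AlgebraicGeometry Opposite TopologicalSpace TensorProduct

namespace Groth.Agent.Lib.helper11.TensorAHLin

open Groth.Agent.Lib.helper2.TpLib Groth.Agent.Lib.helper11.TensorASec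

noncomputable section

variable (A : Type u) [CommRing A] {X : Scheme.{u}} [X.Over (Spec (CommRingCat.of A))]
  (F : X.Modules) [F.IsQuasicoherent]

theorem HAb_map_smul (M : ModuleCat.{u} A) (a : A) (p : ℕ)
    (x : Coh.HH X ((CohIII.tensorAFunctor A F).obj M) p) :
    ((CohIII.tensorAFunctor A F ⋙ CohIII.HAb X p).map (a • 𝟙 M)).hom x = a • x := by
  show ((CohIII.HAb X p).map ((CohIII.tensorAFunctor A F).map (a • 𝟙 M))).hom x = _
  rw [tensorAFunctor_map_smul]
  rfl

variable {A F}

/-- the components of a natural isomorphism to `T_q`, as `A`-linear equivalences. -/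
def linEquivOfIso {P : ChainComplex (ModuleCat.{u} A) ℤ} {q : ℤ} {p : ℕ}
    (Ψ : CohIII.tensorAFunctor A F ⋙ CohIII.HAb X p ≅
      CohIII.TFun P q ⋙ forget₂ (ModuleCat.{u} A) AddCommGrpCat.{u}) (M : ModuleCat.{u} A) :
    Coh.HH X ((CohIII.tensorAFunctor A F).obj M) p ≃ₗ[A] (CohIII.TFun P q).obj M :=
  { (Ψ.app M).addCommGroupIsoToAddEquiv with
    map_smul' := fun a x => by
      have hnat := congrArg (fun k => k.hom x) (Ψ.hom.naturality (a • 𝟙 M))
      have h1 : (Ψ.hom.app M).hom
          (((CohIII.tensorAFunctor A F ⋙ CohIII.HAb X p).map (a • 𝟙 M)).hom x) =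
          ((CohIII.TFun P q ⋙ forget₂ (ModuleCat.{u} A) AddCommGrpCat.{u}).map (a • 𝟙 M)).hom
            ((Ψ.hom.app M).hom x) := hnat
      rw [HAb_map_smul] at h1
      have h2 : ∀ y : (CohIII.TFun P q).obj M,
          ((CohIII.TFun P q).map (a • 𝟙 M)).hom y = a • y := by
        intro y
        rw [TFun_map_smul, CategoryTheory.Functor.map_id]
        rfl
      exact h1.trans (h2 _) }

end

end Groth.Agent.Lib.helper11.TensorAHLin
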