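import Mathlib
import Groth.Prelude.Def_ega3
import Groth.Prelude.Def_Formal
import Groth.Agent.Lib.Helper11.TensorACocont
import Groth.Agent.Lib.Helper11.TensorALin
import Groth.Agent.Lib.Helper8.FormalBasic
import Groth.Agent.Lib.Helper2.ModSec

/-!
# helper11: `F ⊗_A (A/J) ≅ F / J F`

For `T = CohIII.tensorAFunctor A F` (`F` quasi-coherent):
* `unitHom A F : F ⟶ T(A)` is an isomorphism;
* `T(A ⧸ J)` is the cokernel of `Formal.smulFamily J (T A)`, compatibly with the projections;
* hence `H^n(F) → H^n(F / J F)` is surjective iff `H^n(T A) → H^n(T (A/J))` is.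
-/

set_option autoImplicit false
universe u
open CategoryTheory CategoryTheory.Limits AlgebraicGeometry Opposite TopologicalSpace TensorProduct

namespace Groth.Agent.Lib.helper11.TensorAQuot

open Groth.Agent.Lib.helper11.TensorASec Groth.Agent.Lib.helper8.FF
  Groth.Agent.Lib.helper8.FlatBC Groth.Agent.Lib.helper8.FlatCohBC

noncomputable section

variable (A : Type u) [CommRing A]

/-- the family of multiplications `⊕_{a ∈ J} A ⟶ A`. -/
def smulFamA (J : Ideal A) : (∐ fun _ : J => ModuleCat.of A A) ⟶ ModuleCat.of A A :=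
  Sigma.desc fun a => (a : A) • 𝟙 (ModuleCat.of A A)

lemma ι_smulFamA (J : Ideal A) (a : J) :
    Sigma.ι (fun _ : J => ModuleCat.of A A) a ≫ smulFamA A J = (a : A) • 𝟙 (ModuleCat.of A A) := by
  simp [smulFamA]

lemma smulFamA_mkQ (J : Ideal A) :
    smulFamA A J ≫ (ModuleCat.ofHom (Submodule.mkQ J) :
      ModuleCat.of A A ⟶ ModuleCat.of A (A ⧸ J)) = 0 := by
  apply Sigma.hom_ext
  intro a
  rw [← Category.assoc, ι_smulFamA, comp_zero]
  ext
  change Submodule.mkQ J ((a : A) • (1 : A)) = 0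
  rw [smul_eq_mul, mul_one]
  exact (Submodule.Quotient.mk_eq_zero J).mpr a.2

/-- `A ⧸ J` is the cokernel of `smulFamA`. -/
def isColimitMkQ (J : Ideal A) :
    IsColimit (CokernelCofork.ofπ (ModuleCat.ofHom (Submodule.mkQ J) :
      ModuleCat.of A A ⟶ ModuleCat.of A (A ⧸ J)) (smulFamA_mkQ A J)) := by
  have hker : ∀ {Z' : ModuleCat.{u} A} (g' : ModuleCat.of A A ⟶ Z') (_ : smulFamA A J ≫ g' = 0),
      J ≤ LinearMap.ker g'.hom := by
    intro Z' g' eq' a ha
    have h1 : ((a : A) • 𝟙 (ModuleCat.of A A)) ≫ g' = 0 := by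
      rw [← ι_smulFamA A J ⟨a, ha⟩, Category.assoc, eq', comp_zero]
    have h2 := congrArg (fun k => k.hom (1 : A)) h1
    have h3 : g'.hom ((a : A) • (1 : A)) = 0 := h2
    rw [smul_eq_mul, mul_one] at h3
    exact h3
  refine CokernelCofork.IsColimit.ofπ _ _
    (fun {Z'} g' eq' => ModuleCat.ofHom (Submodule.liftQ J g'.hom (hker g' eq')))
    (fun {Z'} g' eq' => ?_) (fun {Z'} g' eq' m hm => ?_)
  · ext
    rfl
  · apply ModuleCat.hom_ext
    apply LinearMap.ext
    intro x
    obtain ⟨y, rfl⟩ := Submodule.mkQ_surjective J x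
    have := congrArg (fun k => k.hom y) hm
    exact this

variable {X : Scheme.{u}} [X.Over (Spec (CommRingCat.of A))] (F : X.Modules) [F.IsQuasicoherent]

/-- `s ↦ 1 ⊗ s : F ⟶ f^* A~ ⊗ F`. -/
def unitHom : F ⟶ (CohIII.tensorAFunctor A F).obj (ModuleCat.of A A) :=
  βHom' (X ↘ Spec (CommRingCat.of A)) F (ModuleCat.of A A) (1 : A)

instance isIso_unitHom : IsIso (unitHom A F) := by
  apply Groth.Agent.Lib.helper2.ModSec.isIso_of_bijective_affine
  intro W
  let _ : Module A Γ(F, W.1) := Module.compHom _ (secAlg (X ↘ Spec (CommRingCat.of A)) W.1)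
  have hA : ∀ (a : A) (s : Γ(F, W.1)), a • s = secAlg (X ↘ Spec (CommRingCat.of A)) W.1 a • s :=
    fun _ _ => rfl
  have hb := bijective_bW' (X ↘ Spec (CommRingCat.of A)) F (ModuleCat.of A A) W.1 W.2 hA
  have h2 : Function.Bijective (fun s : Γ(F, W.1) => (s ⊗ₜ[A] (1 : A) : Γ(F, W.1) ⊗[A] A)) :=
    (TensorProduct.rid A Γ(F, W.1)).symm.bijective
  have h3 := hb.comp h2
  have h4 : (fun s : Γ(F, W.1) => ((unitHom A F).app W.1).hom s) =
      (bW' (X ↘ Spec (CommRingCat.of A)) F (ModuleCat.of A A) W.1 hA) ∘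
        (fun s : Γ(F, W.1) => (s ⊗ₜ[A] (1 : A) : Γ(F, W.1) ⊗[A] A)) := by
    funext s
    exact (bW'_tmul (X ↘ Spec (CommRingCat.of A)) F (ModuleCat.of A A) W.1 hA s (1 : A)).symm
  show Function.Bijective (fun s : Γ(F, W.1) => ((unitHom A F).app W.1).hom s)
  rw [h4]
  exact h3

/-- `T(mkQ)` kills the family of multiplications on `T A`. -/
lemma smulFamily_map_mkQ (J : Ideal A) :
    Formal.smulFamily J ((CohIII.tensorAFunctor A F).obj (ModuleCat.of A A)) ≫
      (CohIII.tensorAFunctor A F).map (ModuleCat.ofHom (Submodule.mkQ J) :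
        ModuleCat.of A A ⟶ ModuleCat.of A (A ⧸ J)) = 0 := by
  apply smulFamily_comp_eq_zero
  intro a ha
  rw [← tensorAFunctor_map_smul, ← Functor.map_comp]
  have h0 : ((a : A) • 𝟙 (ModuleCat.of A A)) ≫ (ModuleCat.ofHom (Submodule.mkQ J) :
      ModuleCat.of A A ⟶ ModuleCat.of A (A ⧸ J)) = 0 := by
    rw [← ι_smulFamA A J ⟨a, ha⟩, Category.assoc, smulFamA_mkQ, comp_zero]
  rw [h0, Functor.map_zero]

/-- `T(A ⧸ J)` is the cokernel of the family of multiplications on `T A`. -/
def isColimitMapMkQ (J : Ideal A) :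
    IsColimit (CokernelCofork.ofπ ((CohIII.tensorAFunctor A F).map
      (ModuleCat.ofHom (Submodule.mkQ J) : ModuleCat.of A A ⟶ ModuleCat.of A (A ⧸ J)))
      (smulFamily_map_mkQ A F J)) := by
  let T := CohIII.tensorAFunctor A F
  -- the image under `T` of the cokernel cofork
  have h1 : IsColimit ((CokernelCofork.ofπ (ModuleCat.ofHom (Submodule.mkQ J) :
      ModuleCat.of A A ⟶ ModuleCat.of A (A ⧸ J)) (smulFamA_mkQ A J)).map T) :=
    CokernelCofork.mapIsColimit _ (isColimitMkQ A J) T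
  -- morphisms killing the family kill `T.map smulFamA`
  have hkill : ∀ {Z' : X.Modules} (g' : T.obj (ModuleCat.of A A) ⟶ Z'),
      Formal.smulFamily J (T.obj (ModuleCat.of A A)) ≫ g' = 0 → T.map (smulFamA A J) ≫ g' = 0 := by
    intro Z' g' hg'
    have hepi : Epi (sigmaComparison T (fun _ : J => ModuleCat.of A A)) := inferInstance
    rw [← cancel_epi (sigmaComparison T (fun _ : J => ModuleCat.of A A)), comp_zero]
    apply Sigma.hom_ext
    intro a
    rw [comp_zero, ← Category.assoc, ← Category.assoc, ι_comp_sigmaComparison, ← Functor.map_comp,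
      ι_smulFamA, tensorAFunctor_map_smul, ← ι_smulFamily, Category.assoc, hg', comp_zero]
  refine CokernelCofork.IsColimit.ofπ _ _
    (fun {Z'} g' eq' => h1.desc (CokernelCofork.ofπ g' (hkill g' eq')))
    (fun {Z'} g' eq' => ?_) (fun {Z'} g' eq' m hm => ?_)
  · exact h1.fac (CokernelCofork.ofπ g' (hkill g' eq')) WalkingParallelPair.one
  · refine h1.uniq (CokernelCofork.ofπ g' (hkill g' eq')) m ?_
    rintro (_ | _)
    · change (T.map (smulFamA A J) ≫ T.map _) ≫ m = T.map (smulFamA A J) ≫ g'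
      rw [Category.assoc]
      erw [hm]
    · exact hm

/-- the comparison isomorphism `T(A ⧸ J) ≅ T(A) / J T(A)`. -/
def quotIso (J : Ideal A) :
    (CohIII.tensorAFunctor A F).obj (ModuleCat.of A (A ⧸ J)) ≅
      Q J ((CohIII.tensorAFunctor A F).obj (ModuleCat.of A A)) :=
  (isColimitMapMkQ A F J).coconePointUniqueUpToIso (colimit.isColimit _)

lemma map_mkQ_quotIso (J : Ideal A) :
    (CohIII.tensorAFunctor A F).map (ModuleCat.ofHom (Submodule.mkQ J) :
        ModuleCat.of A A ⟶ ModuleCat.of A (A ⧸ J)) ≫ (quotIso A F J).hom =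
      qπ J ((CohIII.tensorAFunctor A F).obj (ModuleCat.of A A)) :=
  (isColimitMapMkQ A F J).comp_coconePointUniqueUpToIso_hom (colimit.isColimit _)
    WalkingParallelPair.one

/-- functoriality of `M ↦ M / J M` for isomorphisms. -/
def qMapIso (J : Ideal A) {M N : X.Modules} (u : M ≅ N) : Q J M ≅ Q J N :=
  cokernel.mapIso (Formal.smulFamily J M) (Formal.smulFamily J N)
    (Sigma.mapIso fun _ => u) u (by
      apply Sigma.hom_ext
      intro a
      rw [← Category.assoc, ι_smulFamily, Sigma.ι_mapIso_hom_assoc, ι_smulFamily,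
        smulMod_naturality])

lemma qπ_qMapIso (J : Ideal A) {M N : X.Modules} (u : M ≅ N) :
    qπ J M ≫ (qMapIso A J u).hom = u.hom ≫ qπ J N := by
  simp [qMapIso, qπ]

/-- **`H^n(F) → H^n(F / J F)` is `H^n(T A) → H^n(T (A/J))`.** -/
theorem surjective_map_qπ_iff (J : Ideal A) (n : ℕ) :
    Function.Surjective ((CohIII.HAb X n).map (qπ J F)).hom ↔
      Function.Surjective ((CohIII.tensorAFunctor A F ⋙ CohIII.HAb X n).map
        (ModuleCat.ofHom (Submodule.mkQ J) :
          ModuleCat.of A A ⟶ ModuleCat.of A (A ⧸ J))).hom := by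
  let T := CohIII.tensorAFunctor A F
  let u : F ≅ T.obj (ModuleCat.of A A) := asIso (unitHom A F)
  let e : Q J F ≅ T.obj (ModuleCat.of A (A ⧸ J)) := qMapIso A J u ≪≫ (quotIso A F J).symm
  have hsq : qπ J F ≫ e.hom = u.hom ≫ T.map (ModuleCat.ofHom (Submodule.mkQ J) :
      ModuleCat.of A A ⟶ ModuleCat.of A (A ⧸ J)) := by
    simp only [e, Iso.trans_hom, Iso.symm_hom]
    rw [← Category.assoc, qπ_qMapIso, Category.assoc, ← map_mkQ_quotIso, Category.assoc,
      Iso.hom_inv_id, Category.comp_id]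
  have hsq' := congrArg (fun k => (CohIII.HAb X n).map k) hsq
  simp only [Functor.map_comp] at hsq'
  have he : Function.Bijective ((CohIII.HAb X n).map e.hom).hom :=
    (ConcreteCategory.isIso_iff_bijective ((CohIII.HAb X n).map e.hom)).mp inferInstance
  have hu : Function.Bijective ((CohIII.HAb X n).map u.hom).hom :=
    (ConcreteCategory.isIso_iff_bijective ((CohIII.HAb X n).map u.hom)).mp inferInstance
  have h1 : ((CohIII.HAb X n).map e.hom).hom ∘ ((CohIII.HAb X n).map (qπ J F)).hom =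
      ((CohIII.HAb X n).map (T.map (ModuleCat.ofHom (Submodule.mkQ J) :
        ModuleCat.of A A ⟶ ModuleCat.of A (A ⧸ J)))).hom ∘ ((CohIII.HAb X n).map u.hom).hom := by
    funext x
    exact congrArg (fun k => k.hom x) hsq'
  constructor
  · intro h
    have h2 : Function.Surjective (((CohIII.HAb X n).map e.hom).hom ∘
        ((CohIII.HAb X n).map (qπ J F)).hom) := he.surjective.comp h
    rw [h1] at h2
    exact Function.Surjective.of_comp h2
  · intro h
    have h2 : Function.Surjective (((CohIII.HAb X n).map (T.map (ModuleCat.ofHom (Submodule.mkQ J) :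
        ModuleCat.of A A ⟶ ModuleCat.of A (A ⧸ J)))).hom ∘ ((CohIII.HAb X n).map u.hom).hom) :=
      h.comp hu.surjective
    rw [← h1] at h2
    exact (Function.Surjective.of_comp_iff' he _).mp h2

end

end Groth.Agent.Lib.helper11.TensorAQuot
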