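import Mathlib

/-!
# Lifting powers of functions along a surjective morphism with nil kernel (helper11)

`ringStep`: `U` affine, `ι : Z' ⟶ U` surjective on points with `Z'` quasi-compact, `τ ∈ Γ(U, ⊤)`,
`W ⊇ D(τ)` a quasi-compact open of `U`, `σ ∈ Γ(U, W)` with `ι^♯ σ = ι^♯ (τ|_W)`.  Then for all large
`M` there is `τ' ∈ Γ(U, ⊤)` with `τ'|_W = σ^M` and `ι^♯ τ' = (ι^♯ τ)^M`.
-/

set_option autoImplicit false
universe u
open CategoryTheory AlgebraicGeometry TopologicalSpace Opposite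

namespace Groth.Agent.Lib.helper11.ThickAmp

variable {U Z' : Scheme.{u}} (ι : Z' ⟶ U)

/-- sections killed by a surjective morphism are nilpotent (over a quasi-compact open) -/
theorem isNilpotent_of_app_eq_zero (hι : Function.Surjective ι) {W : U.Opens}
    (hW : IsCompact (W : Set U)) (y : Γ(U, W)) (hy : ι.app W y = 0) : IsNilpotent y := by
  rw [Scheme.isNilpotent_iff_basicOpen_eq_bot_of_isCompact hW, eq_bot_iff]
  intro x hx
  obtain ⟨z, rfl⟩ := hι x
  have h1 : z ∈ ι ⁻¹ᵁ U.basicOpen y := hx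
  rw [Scheme.preimage_basicOpen, hy, Scheme.basicOpen_zero] at h1
  exact h1.elim

/-- `ι^♯` commutes with restriction -/
theorem app_res {V V' : U.Opens} (h : V ≤ V') (x : Γ(U, V')) :
    ι.app V (U.presheaf.map (homOfLE h).op x) =
      Z'.presheaf.map (homOfLE (show ι ⁻¹ᵁ V ≤ ι ⁻¹ᵁ V' from fun _ hz => h hz)).op (ι.app V' x) := by
  exact ConcreteCategory.congr_hom (Scheme.Hom.naturality ι (homOfLE h).op) x

/-- restriction of restriction -/
theorem sres_res (Y : Scheme.{u}) {V₁ V₂ V₃ : Y.Opens} (h₁ : V₂ ≤ V₁) (h₂ : V₃ ≤ V₂) (x : Γ(Y, V₁)) :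
    Y.presheaf.map (homOfLE h₂).op (Y.presheaf.map (homOfLE h₁).op x) =
      Y.presheaf.map (homOfLE (h₂.trans h₁)).op x := by
  rw [← CommRingCat.comp_apply, ← Functor.map_comp]
  rfl

/-- sections over `W ⊇ D(τ)` killed by `ι` become, after multiplication by a power of `τ`, restrictions
of global sections killed by `ι` -/
theorem exists_extend_of_app_eq_zero [IsAffine U] [CompactSpace Z'] (τ : Γ(U, ⊤)) {W : U.Opens}
    (hW : IsCompact (W : Set U)) (hτW : U.basicOpen τ ≤ W) (y : Γ(U, W)) (hy : ι.app W y = 0) :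
    ∃ (b : ℕ) (d : Γ(U, ⊤)), ι.appTop d = 0 ∧
      U.presheaf.map (homOfLE (le_top : W ≤ ⊤)).op d =
        (U.presheaf.map (homOfLE (le_top : W ≤ ⊤)).op τ) ^ b * y := by
  -- Step 1
  obtain ⟨b, a, ha⟩ := exists_eq_pow_mul_of_isAffineOpen U ⊤ (isAffineOpen_top U) τ
    (U.presheaf.map (homOfLE hτW).op y)
  rw [TopCat.Presheaf.restrictOpenCommRingCat_apply, TopCat.Presheaf.restrictOpenCommRingCat_apply]
    at ha
  -- Step 2
  have hpre : ι ⁻¹ᵁ U.basicOpen τ = Z'.basicOpen (ι.appTop τ) := Scheme.preimage_basicOpen_top ι τ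
  have h2 : Z'.presheaf.map (homOfLE (le_top : Z'.basicOpen (ι.appTop τ) ≤ ⊤)).op (ι.appTop a) = 0 := by
    have e1 : ι.app (U.basicOpen τ) (U.presheaf.map (homOfLE hτW).op y) = 0 := by
      rw [app_res, hy, map_zero]
    have e2 : ι.app (U.basicOpen τ) (U.presheaf.map (homOfLE (le_top : U.basicOpen τ ≤ ⊤)).op a) = 0 := by
      rw [ha, map_mul, e1, mul_zero]
    rw [app_res] at e2
    have e3 := congrArg (Z'.presheaf.map (homOfLE (le_of_eq hpre.symm)).op) e2
    rw [sres_res, map_zero] at e3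
    exact e3
  obtain ⟨b'', hb''⟩ := exists_pow_mul_eq_zero_of_res_basicOpen_eq_zero_of_isCompact Z'
    (U := ⊤) isCompact_univ (ι.appTop a) (ι.appTop τ) h2
  set τW := U.presheaf.map (homOfLE (le_top : W ≤ ⊤)).op τ with hτWdef
  have hB : U.basicOpen τW ≤ U.basicOpen τ := by
    rw [hτWdef, Scheme.basicOpen_res]; exact inf_le_right
  have hBW : U.basicOpen τW ≤ W := (U.basicOpen_le _)
  have haB := congrArg (U.presheaf.map (homOfLE hB).op) ha
  rw [map_mul, map_pow, sres_res, sres_res, sres_res] at haB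
  have hδ : U.presheaf.map (homOfLE hBW).op (τW ^ (b'' + b) * y -
      U.presheaf.map (homOfLE (le_top : W ≤ ⊤)).op (τ ^ b'' * a)) = 0 := by
    simp only [hτWdef, map_sub, map_mul, map_pow, sres_res]
    rw [haB]
    ring
  obtain ⟨b3, hb3⟩ := exists_pow_mul_eq_zero_of_res_basicOpen_eq_zero_of_isCompact U hW
    (τW ^ (b'' + b) * y - U.presheaf.map (homOfLE (le_top : W ≤ ⊤)).op (τ ^ b'' * a)) τW hδ
  refine ⟨b3 + (b'' + b), τ ^ b3 * (τ ^ b'' * a), ?_, ?_⟩
  · rw [map_mul, map_mul, map_pow, map_pow, hb'', mul_zero]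
  · rw [mul_sub, sub_eq_zero] at hb3
    rw [map_mul, map_pow, ← hb3, pow_add, mul_assoc]
    ring

/-- **Lifting of powers.** -/
theorem ringStep [IsAffine U] [CompactSpace Z'] (hι : Function.Surjective ι) (τ : Γ(U, ⊤))
    {W : U.Opens} (hW : IsCompact (W : Set U)) (hτW : U.basicOpen τ ≤ W) (σ : Γ(U, W))
    (hσ : ι.app W σ = ι.app W (U.presheaf.map (homOfLE (le_top : W ≤ ⊤)).op τ)) :
    ∃ M₀ : ℕ, ∀ M, M₀ ≤ M → ∃ τ' : Γ(U, ⊤),
      U.presheaf.map (homOfLE (le_top : W ≤ ⊤)).op τ' = σ ^ M ∧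
        ι.appTop τ' = (ι.appTop τ) ^ M := by
  set ρ := (U.presheaf.map (homOfLE (le_top : W ≤ ⊤)).op).hom with hρ
  set c := σ - ρ τ with hc
  have hc0 : ι.app W c = 0 := by
    rw [hc, map_sub, hσ, sub_self]
  obtain ⟨n, hn⟩ := isNilpotent_of_app_eq_zero ι hι hW c hc0
  have hck : ∀ l : ℕ, ι.app W (c ^ (l + 1)) = 0 := fun l => by
    rw [map_pow, hc0, zero_pow (Nat.succ_ne_zero l)]
  choose b d hd0 hdρ using fun l : ℕ => exists_extend_of_app_eq_zero ι τ hW hτW (c ^ (l + 1)) (hck l)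
  let B₀ := (Finset.range n).sup b
  refine ⟨n + 1 + B₀, fun M hM => ?_⟩
  have hbl : ∀ l ∈ Finset.range n, b l + (l + 1) ≤ M := fun l hl => by
    have h1 : b l ≤ B₀ := Finset.le_sup hl
    have h2 : l < n := Finset.mem_range.mp hl
    omega
  refine ⟨τ ^ M + ∑ l ∈ Finset.range n, τ ^ (M - (l + 1) - b l) * d l * (M.choose (l + 1) : Γ(U, ⊤)), ?_, ?_⟩
  · have hσ' : σ = c + ρ τ := by rw [hc]; ring
    rw [hσ', add_pow]
    have hsub : Finset.range (n + 1) ⊆ Finset.range (M + 1) :=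
      Finset.range_subset_range.2 (by omega)
    rw [← Finset.sum_subset hsub (fun m _ hm => by
      have hm' : n ≤ m := by
        by_contra h
        exact hm (Finset.mem_range.2 (by omega))
      rw [← Nat.sub_add_cancel hm', pow_add, hn, mul_zero, zero_mul, zero_mul])]
    rw [Finset.sum_range_succ', pow_zero, one_mul, Nat.sub_zero, Nat.choose_zero_right,
      Nat.cast_one, mul_one, add_comm]
    change ρ _ = _
    rw [map_add, map_pow, map_sum]
    congr 1
    refine Finset.sum_congr rfl (fun l hl => ?_)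
    rw [map_mul, map_mul, map_pow, map_natCast]
    have h1 : ρ (d l) = ρ τ ^ b l * c ^ (l + 1) := hdρ l
    rw [h1]
    have h2 : M - (l + 1) = (M - (l + 1) - b l) + b l := by
      have := hbl l hl
      omega
    conv_rhs => rw [h2, pow_add]
    ring
  · rw [map_add, map_pow, map_sum]
    have : ∀ l ∈ Finset.range n, ι.appTop (τ ^ (M - (l + 1) - b l) * d l *
        (M.choose (l + 1) : Γ(U, ⊤))) = 0 := fun l _ => by
      rw [map_mul, map_mul, hd0 l, mul_zero, zero_mul]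
    rw [Finset.sum_eq_zero this, add_zero]

end Groth.Agent.Lib.helper11.ThickAmp
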