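import Groth.Agent.Lib.Helper11.ThickAmp1
import Groth.Agent.Lib.Helper12.TwistLocal
import Groth.Agent.Lib.Helper12.TwistKill
import Groth.Agent.Lib.Helper12.PullAmple
import Groth.Agent.Lib.Helper25.PFRes1

/-!
# Local sections of tensor powers, trivialisations and pullbacks (helper11)

* `lpow t m`: the `m`-th tensor power of a local section `t` of `L`; `lpow_val`, `res_lpow`.
* `trivFn e V t`, `trivSec e V a`: sections of `L` over `U.ι ''ᵁ V` versus functions, in a trivialisation
  `e : L|_U ≅ O_U`; `trivPow_lpow`.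
* `pullTriv f e`: the induced trivialisation of `f^*L` over `f⁻¹U`; `trivFn_pullTriv`.
* `pullTensorPowIso_unitSec_lpow`.
-/

set_option autoImplicit false
universe u
open CategoryTheory AlgebraicGeometry TopologicalSpace Opposite
open Groth.Agent.Lib.helper12.TwistLocal Groth.Agent.Lib.helper12.TensorSec
open Groth.Agent.Lib.helper12.TwistExtend Groth.Agent.Lib.helper12.PullTensor
open Groth.Agent.Lib.helper12.PullAmple Groth.Agent.Lib.helper12.TensorInv
open Groth.Agent.Lib.helper12.TensorRestrict Groth.Agent.Lib.helper11.InvMod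

namespace Groth.Agent.Lib.helper11.ThickAmp

variable {X : Scheme.{u}}

/-- powers of a local section -/
noncomputable def lpow {L : X.Modules} {O : X.Opens} (t : L.val.obj (op O)) :
    (m : ℕ) → (CohB1.tensorPow L m).val.obj (op O)
  | 0 => ((1 : X.ringCatSheaf.obj.obj (op O)) : (Coh.structureModule X).val.obj (op O))
  | m + 1 => SecTwist.tmul (CohB1.tensorPow L m) L O (lpow t m) t

theorem lpow_val {L : X.Modules} (s : Coh.structureModule X ⟶ L) (m : ℕ) (O : X.Opens) :
    lpow (SecTwist.val s O) m = SecTwist.pow s m O := by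
  induction m with
  | zero => rfl
  | succ m ih =>
    change SecTwist.tmul _ _ O (lpow (SecTwist.val s O) m) (SecTwist.val s O) =
      SecTwist.tmul _ _ O (SecTwist.pow s m O) (SecTwist.val s O)
    rw [ih]

theorem res_lpow {L : X.Modules} {O O' : X.Opens} (h : O' ≤ O) (t : L.val.obj (op O)) (m : ℕ) :
    res (CohB1.tensorPow L m) h (lpow t m) = lpow (res L h t) m := by
  induction m with
  | zero => exact PresheafOfModules.unit_map_one _ _
  | succ m ih =>
    change (CohB1.tensorMod (CohB1.tensorPow L m) L).val.map (homOfLE h).op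
      (SecTwist.tmul _ _ O (lpow t m) t) = SecTwist.tmul _ _ O' (lpow (res L h t) m) (res L h t)
    rw [SecTwist.map_tmul]
    congr 1

/-- the function describing a local section in a trivialisation -/
noncomputable def trivFn {L : X.Modules} {U : X.Opens}
    (e : L.restrict U.ι ≅ Coh.structureModule (↑U : Scheme.{u}))
    (V : (↑U : Scheme.{u}).Opens) (t : L.val.obj (op (U.ι ''ᵁ V))) : Γ((↑U : Scheme.{u}), V) :=
  (e.hom.val.app (op V)).hom t

/-- the local section described by a function in a trivialisation -/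
noncomputable def trivSec {L : X.Modules} {U : X.Opens}
    (e : L.restrict U.ι ≅ Coh.structureModule (↑U : Scheme.{u}))
    (V : (↑U : Scheme.{u}).Opens) (a : Γ((↑U : Scheme.{u}), V)) : L.val.obj (op (U.ι ''ᵁ V)) :=
  (e.inv.val.app (op V)).hom a

theorem trivFn_trivSec {L : X.Modules} {U : X.Opens}
    (e : L.restrict U.ι ≅ Coh.structureModule (↑U : Scheme.{u}))
    (V : (↑U : Scheme.{u}).Opens) (a : Γ((↑U : Scheme.{u}), V)) :
    trivFn e V (trivSec e V a) = a :=
  iso_hom_inv_apply e V a

theorem trivSec_trivFn {L : X.Modules} {U : X.Opens}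
    (e : L.restrict U.ι ≅ Coh.structureModule (↑U : Scheme.{u}))
    (V : (↑U : Scheme.{u}).Opens) (t : L.val.obj (op (U.ι ''ᵁ V))) :
    trivSec e V (trivFn e V t) = t :=
  iso_inv_hom_apply e V t

theorem trivFn_injective {L : X.Modules} {U : X.Opens}
    (e : L.restrict U.ι ≅ Coh.structureModule (↑U : Scheme.{u}))
    (V : (↑U : Scheme.{u}).Opens) : Function.Injective (trivFn e V) := fun a b h => by
  rw [← trivSec_trivFn e V a, ← trivSec_trivFn e V b, h]

/-- in the induced trivialisation of `L^{⊗ m}`, `t^{⊗ m}` is the `m`-th power of the function of `t` -/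
theorem trivPow_lpow {L : X.Modules} {U : X.Opens}
    (e : L.restrict U.ι ≅ Coh.structureModule (↑U : Scheme.{u})) (m : ℕ)
    (V : (↑U : Scheme.{u}).Opens) (t : L.val.obj (op (U.ι ''ᵁ V))) :
    trivFn (trivPow e m) V (lpow t m) = (trivFn e V t) ^ m := by
  induction m with
  | zero =>
    rw [pow_zero]
    exact map_one (U.ι.appIso V).hom.hom
  | succ m ih =>
    change ((trivPow e m).hom.val.app (op V)).hom
      (((tensorTrivIso (CohB1.tensorPow L m) L U e).hom.val.app (op V)).hom
        (SecTwist.tmul (CohB1.tensorPow L m) L (U.ι ''ᵁ V) (lpow t m) t)) = _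
    rw [tensorTrivIso_hom_tmul]
    erw [((trivPow e m).hom.val.app (op V)).hom.map_smul]
    rw [pow_succ']
    exact congrArg (fun z : Γ((↑U : Scheme.{u}), V) => trivFn e V t * z) ih

section Pull

open Groth.Agent.Lib.Helper25.PFRes1 Scheme.Modules

variable {Y : Scheme.{u}} (f : Y ⟶ X)

/-- the trivialisation of `f^*M` over `f⁻¹U` induced by a trivialisation of `M` over `U` -/
noncomputable def pullTriv {M : X.Modules} {U : X.Opens}
    (e : M.restrict U.ι ≅ Coh.structureModule (↑U : Scheme.{u})) :
    ((Scheme.Modules.pullback f).obj M).restrict (f ⁻¹ᵁ U).ι ≅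
      Coh.structureModule (↑(f ⁻¹ᵁ U) : Scheme.{u}) :=
  ((cIso f U).app M).symm ≪≫ (Scheme.Modules.pullback (f ∣_ U)).mapIso e ≪≫
    pullbackUnitIso (f ∣_ U)

/-- **the induced trivialisation on sections coming from `X`** -/
theorem trivFn_pullTriv {M : X.Modules} {U : X.Opens}
    (e : M.restrict U.ι ≅ Coh.structureModule (↑U : Scheme.{u}))
    (V : (↑U : Scheme.{u}).Opens) (t : M.val.obj (op (U.ι ''ᵁ V))) :
    trivFn (pullTriv f e) ((f ∣_ U) ⁻¹ᵁ V)
      (((Scheme.Modules.pullback f).obj M).val.map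
        (eqToHom (image_morphismRestrict_preimage f U V)).op (unitSec f M (U.ι ''ᵁ V) t)) =
      (f ∣_ U).app V (trivFn e V t) := by
  unfold trivFn pullTriv
  change ((pullbackUnitIso (f ∣_ U)).hom.val.app (op ((f ∣_ U) ⁻¹ᵁ V))).hom
    ((((Scheme.Modules.pullback (f ∣_ U)).map e.hom).val.app (op ((f ∣_ U) ⁻¹ᵁ V))).hom
      ((((cIso f U).inv.app M).val.app (op ((f ∣_ U) ⁻¹ᵁ V))).hom _)) = _
  rw [cIso_inv_unitSec, unitSec_naturality]
  exact pullbackUnitIso_hom_unitSec (f ∣_ U) V _

/-- the unit `M ⟶ f_* f^* M` is additive on sections -/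
theorem unitSec_sub (M : X.Modules) (O : X.Opens) (a b : M.val.obj (op O)) :
    unitSec f M O (a - b) = unitSec f M O a - unitSec f M O b :=
  map_sub (((pbAdj f).unit.app M).val.app (op O)).hom a b

theorem unitSec_res (M : X.Modules) {O O' : X.Opens} (h : O' ≤ O) (a : M.val.obj (op O)) :
    unitSec f M O' (res M h a) =
      res ((Scheme.Modules.pullback f).obj M)
        (show f ⁻¹ᵁ O' ≤ f ⁻¹ᵁ O from fun _ hz => h hz) (unitSec f M O a) :=
  (naturality_apply' ((pbAdj f).unit.app M) h a).symm

/-- **pullback of tensor powers on powers of sections** -/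
theorem pullTensorPowIso_unitSec_lpow {M : X.Modules} (hM : PicF.IsInvertible M) (m : ℕ)
    (O : X.Opens) (t : M.val.obj (op O)) :
    ((pullTensorPowIso f hM m).hom.val.app (op (f ⁻¹ᵁ O))).hom
      (unitSec f (CohB1.tensorPow M m) O (lpow t m)) = lpow (unitSec f M O t) m := by
  induction m with
  | zero =>
    change ((pullbackUnitIso f).hom.val.app (op (f ⁻¹ᵁ O))).hom _ = _
    erw [pullbackUnitIso_hom_unitSec f O 1]
    exact map_one (f.app O).hom
  | succ m ih =>
    change ((Groth.Agent.Lib.Lead.ModTensor.tensorMap (pullTensorPowIso f hM m).hom (𝟙 _)).val.app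
        (op (f ⁻¹ᵁ O))).hom (((pullTensorHom f (CohB1.tensorPow M m) M).val.app (op (f ⁻¹ᵁ O))).hom
          (unitSec f (CohB1.tensorMod (CohB1.tensorPow M m) M) O
            (SecTwist.tmul (CohB1.tensorPow M m) M O (lpow t m) t))) = _
    rw [pullTensorHom_unitSec_tmul, tensorMap_tmul, ih]
    rfl

end Pull

end Groth.Agent.Lib.helper11.ThickAmp
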