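import Groth.Agent.Lib.Helper11.ThickAmp2

/-!
# Extending a lift of a section across one more affine open (helper11)

`i : Z ⟶ X` a surjective closed immersion, `M` invertible on `X`, `g : O_Z ⟶ i^*M`.
* `exists_glue₂`, `eq_of_cover₂`: gluing and separation for a two-element cover.
* `powPull i hM g m : O_Z ⟶ i^*(M^{⊗ m})` (`g^{⊗ m}` transported), `genLocus_powPull`, `unitSec_lpow_of_eq`.
* `step`: a section `s` of `M` over a quasi-compact open `W ⊇ V` (`i⁻¹V = Z_g`) reducing to `g`, and a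
  trivialising affine open `U`: then some power `g^{⊗ (a+1)}` lifts to a section of `M^{⊗ (a+1)}` over
  `W ⊔ U`.
-/

set_option autoImplicit false
universe u
open CategoryTheory AlgebraicGeometry TopologicalSpace Opposite
open Groth.Agent.Lib.helper12.TwistLocal Groth.Agent.Lib.helper12.TensorSec
open Groth.Agent.Lib.helper12.TwistExtend Groth.Agent.Lib.helper12.PullTensor
open Groth.Agent.Lib.helper12.PullAmple Groth.Agent.Lib.helper12.TensorInv
open Groth.Agent.Lib.helper12.TensorRestrict Groth.Agent.Lib.helper11.InvMod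
open Groth.Agent.Lib.helper11.GenLocus Groth.Agent.Lib.helper12.TwistKill

namespace Groth.Agent.Lib.helper11.ThickAmp

variable {X : Scheme.{u}}

/-- gluing two sections -/
theorem exists_glue₂ (H : X.Modules) {W₁ W₂ W₀ T : X.Opens} (h₁ : W₁ ≤ T) (h₂ : W₂ ≤ T)
    (hT : T ≤ W₁ ⊔ W₂) (h01 : W₀ ≤ W₁) (h02 : W₀ ≤ W₂) (h0 : W₁ ⊓ W₂ ≤ W₀)
    (s₁ : H.val.obj (op W₁)) (s₂ : H.val.obj (op W₂)) (h : res H h01 s₁ = res H h02 s₂) :
    ∃ s : H.val.obj (op T), res H h₁ s = s₁ ∧ res H h₂ s = s₂ := by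
  let Wf : Bool → X.Opens := fun b => if b then W₁ else W₂
  let sf : ∀ b, H.val.obj (op (Wf b)) := fun b => match b with
    | true => s₁
    | false => s₂
  have hle : ∀ b, Wf b ≤ T := fun b => by cases b <;> simp [Wf, h₁, h₂]
  have hcov : T ≤ ⨆ b, Wf b := by
    refine hT.trans (sup_le ?_ ?_)
    · exact le_iSup Wf true
    · exact le_iSup Wf false
  have key : res H (inf_le_left : W₁ ⊓ W₂ ≤ W₁) s₁ = res H (inf_le_right : W₁ ⊓ W₂ ≤ W₂) s₂ := by
    rw [← res_res H h01 h0, ← res_res H h02 h0, h]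
  obtain ⟨Tg, hTg, -⟩ := TopCat.Sheaf.existsUnique_gluing' ⟨H.presheaf, H.isSheaf⟩
    Wf T (fun b => homOfLE (hle b)) hcov sf (fun a b => by
      cases a <;> cases b
      · rfl
      · show res H (inf_le_left : W₂ ⊓ W₁ ≤ W₂) s₂ = res H (inf_le_right : W₂ ⊓ W₁ ≤ W₁) s₁
        have e : W₂ ⊓ W₁ ≤ W₁ ⊓ W₂ := le_of_eq (inf_comm W₂ W₁)
        have := congrArg (res H e) key
        rw [res_res, res_res] at this
        exact this.symm
      · exact key
      · rfl)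
  exact ⟨Tg, hTg true, hTg false⟩

/-- two sections agreeing on a two-element cover are equal -/
theorem eq_of_cover₂ (H : X.Modules) {W₁ W₂ T : X.Opens} (h₁ : W₁ ≤ T) (h₂ : W₂ ≤ T)
    (hT : T ≤ W₁ ⊔ W₂) (x y : H.val.obj (op T)) (e₁ : res H h₁ x = res H h₁ y)
    (e₂ : res H h₂ x = res H h₂ y) : x = y := by
  let Wf : Bool → X.Opens := fun b => if b then W₁ else W₂
  have hle : ∀ b, Wf b ≤ T := fun b => by cases b <;> simp [Wf, h₁, h₂]
  have hcov : T ≤ ⨆ b, Wf b := by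
    refine hT.trans (sup_le ?_ ?_)
    · exact le_iSup Wf true
    · exact le_iSup Wf false
  refine eq_of_cover H Wf T hle hcov x y (fun b => ?_)
  cases b
  · exact e₂
  · exact e₁

theorem map_eqToHom_injective (A : X.Modules) {O O' : X.Opens} (h : O = O') :
    Function.Injective (A.val.map (eqToHom h).op) := by
  subst h
  have : (eqToHom (rfl : O = O)).op = 𝟙 (op O) := rfl
  rw [this, A.val.map_id]
  exact fun a b h => h

/-- `trivFn` commutes with restriction -/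
theorem trivFn_res {L : X.Modules} {U : X.Opens}
    (e : L.restrict U.ι ≅ Coh.structureModule (↑U : Scheme.{u}))
    {V₁ V₂ : (↑U : Scheme.{u}).Opens} (h : V₁ ≤ V₂) (t : L.val.obj (op (U.ι ''ᵁ V₂))) :
    trivFn e V₁ (res L (Scheme.Hom.image_mono U.ι h) t) =
      (↑U : Scheme.{u}).presheaf.map (homOfLE h).op (trivFn e V₂ t) :=
  (res_app e.hom h t).symm

/-- `trivSec` commutes with restriction -/
theorem trivSec_res {L : X.Modules} {U : X.Opens}
    (e : L.restrict U.ι ≅ Coh.structureModule (↑U : Scheme.{u}))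
    {V₁ V₂ : (↑U : Scheme.{u}).Opens} (h : V₁ ≤ V₂) (a : Γ((↑U : Scheme.{u}), V₂)) :
    res L (Scheme.Hom.image_mono U.ι h) (trivSec e V₂ a) =
      trivSec e V₁ ((↑U : Scheme.{u}).presheaf.map (homOfLE h).op a) :=
  (res_app e.inv h a)

section Step

variable {Z : Scheme.{u}} (i : Z ⟶ X)

/-- the pullback-side power of a section of `i^*M`, as a section of `i^*(M^{⊗ m})` -/
noncomputable def powPull {M : X.Modules} (hM : PicF.IsInvertible M)
    (g : Coh.structureModule Z ⟶ (Scheme.Modules.pullback i).obj M) (m : ℕ) :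
    Coh.structureModule Z ⟶ (Scheme.Modules.pullback i).obj (CohB1.tensorPow M m) :=
  SecTwist.powHom g m ≫ (pullTensorPowIso i hM m).inv

theorem genLocus_powPull {M : X.Modules} (hM : PicF.IsInvertible M)
    (g : Coh.structureModule Z ⟶ (Scheme.Modules.pullback i).obj M) (m : ℕ) :
    CohB1.genLocus _ (powPull i hM g (m + 1)) = CohB1.genLocus _ g := by
  unfold powPull
  refine (Groth.Agent.Lib.helper11.IsoLocus.genLocus_comp_iso _
    (pullTensorPowIso i hM (m + 1)).symm).trans ?_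
  exact Groth.Agent.Lib.helper12.AmpleBasis.genLocus_powHom (isInvertible_pullback i hM) g m

/-- if `t` reduces to `g` then `t^{⊗ m}` reduces to `g^{⊗ m}` -/
theorem unitSec_lpow_of_eq {M : X.Modules} (hM : PicF.IsInvertible M)
    (g : Coh.structureModule Z ⟶ (Scheme.Modules.pullback i).obj M) (m : ℕ) {O : X.Opens}
    (t : M.val.obj (op O)) (ht : unitSec i M O t = SecTwist.val g (i ⁻¹ᵁ O)) :
    unitSec i (CohB1.tensorPow M m) O (lpow t m) = SecTwist.val (powPull i hM g m) (i ⁻¹ᵁ O) := by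
  unfold powPull
  rw [val_comp, SecTwist.val_powHom, ← lpow_val, ← ht, ← pullTensorPowIso_unitSec_lpow i hM m O t]
  exact (iso_inv_hom_apply (pullTensorPowIso i hM m) (i ⁻¹ᵁ O) _).symm

/-- **The gluing step**: extend a lift of `g` over `W` across one more trivialising affine `U`,
after passing to a power. -/
theorem step [IsClosedImmersion i] (hi : Function.Surjective i) [QuasiSeparatedSpace X]
    {M : X.Modules} (hM : PicF.IsInvertible M)
    (g : Coh.structureModule Z ⟶ (Scheme.Modules.pullback i).obj M) {V : X.Opens}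
    (hg : CohB1.genLocus _ g = i ⁻¹ᵁ V)
    {W : X.Opens} (hWc : IsCompact (W : Set X)) (hVW : V ≤ W)
    (s : M.val.obj (op W)) (hs : unitSec i M W s = SecTwist.val g (i ⁻¹ᵁ W))
    {U : X.Opens} (hU : IsAffineOpen U)
    (e : M.restrict U.ι ≅ Coh.structureModule (↑U : Scheme.{u})) :
    ∃ (a : ℕ) (s' : (CohB1.tensorPow M (a + 1)).val.obj (op (W ⊔ U))),
      unitSec i (CohB1.tensorPow M (a + 1)) (W ⊔ U) s' =
        SecTwist.val (powPull i hM g (a + 1)) (i ⁻¹ᵁ (W ⊔ U)) := by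
  let Uz : Z.Opens := i ⁻¹ᵁ U
  let iU : (↑Uz : Scheme.{u}) ⟶ (↑U : Scheme.{u}) := i ∣_ U
  let e' := pullTriv i e
  let gbar : Γ((↑Uz : Scheme.{u}), ⊤) :=
    fn (localEnd g (Scheme.Modules.restrictUnitIso Uz.ι) e') ⊤
  haveI : IsAffine (↑U : Scheme.{u}) := hU
  haveI : IsAffine (↑Uz : Scheme.{u}) := hU.preimage i
  obtain ⟨τ, hτ⟩ := iU.app_surjective ⊤ (isAffineOpen_top _) gbar
  have hiU : Function.Surjective iU := by
    intro x
    obtain ⟨z, hz⟩ := hi x.1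
    have hzU : z ∈ Uz := by
      show i z ∈ U
      rw [hz]; exact x.2
    refine ⟨⟨z, hzU⟩, ?_⟩
    apply Subtype.ext
    rw [← hz]
    exact morphismRestrict_base_coe i U ⟨z, hzU⟩
  let W' : (↑U : Scheme.{u}).Opens := U.ι ⁻¹ᵁ W
  have hW'c : IsCompact (W' : Set (↑U : Scheme.{u})) := by
    rw [U.ι.isOpenEmbedding.isInducing.isCompact_iff]
    have : (U.ι : _ → _) '' (W' : Set _) = (W : Set X) ∩ U := by
      rw [show (W' : Set (↑U : Scheme.{u})) = U.ι ⁻¹' W from rfl, Set.image_preimage_eq_inter_range]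
      simp
    rw [this]
    exact QuasiSeparatedSpace.inter_isCompact _ _ W.2 hWc U.2 hU.isCompact
  have hιcomm : ∀ z : (↑Uz : Scheme.{u}), U.ι (iU z) = i (Uz.ι z) := fun z =>
    (morphismRestrict_base_coe i U z)
  have hτW' : (↑U : Scheme.{u}).basicOpen τ ≤ W' := by
    intro x hx
    obtain ⟨z, rfl⟩ := hiU x
    have h1 : z ∈ iU ⁻¹ᵁ (↑U : Scheme.{u}).basicOpen τ := hx
    have h2 : (↑Uz : Scheme.{u}).basicOpen gbar = Uz.ι ⁻¹ᵁ CohB1.genLocus _ g :=
      basicOpen_fn_localEnd g e'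
    rw [Scheme.preimage_basicOpen, hτ] at h1
    erw [h2, hg] at h1
    show U.ι (iU z) ∈ W
    rw [hιcomm]
    exact hVW h1
  have hW0 : U.ι ''ᵁ W' ≤ W := by
    rintro _ ⟨x, hx, rfl⟩
    exact hx
  let σ : Γ((↑U : Scheme.{u}), W') := trivFn e W' (res M hW0 s)
  -- the functions of `g` in the induced trivialisation
  have hgfn : ∀ V'' : (↑Uz : Scheme.{u}).Opens,
      trivFn e' V'' (SecTwist.val g (Uz.ι ''ᵁ V'')) =
        (↑Uz : Scheme.{u}).presheaf.map (homOfLE (le_top : V'' ≤ ⊤)).op gbar := fun V'' => by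
    rw [show (↑Uz : Scheme.{u}).presheaf.map (homOfLE (le_top : V'' ≤ ⊤)).op gbar =
      fn (localEnd g (Scheme.Modules.restrictUnitIso Uz.ι) e') V'' from res_fn _ _]
    exact (val_localEnd g e' V'').symm
  -- reduction of local sections in terms of functions
  have hred : ∀ (V' : (↑U : Scheme.{u}).Opens) (t : M.val.obj (op (U.ι ''ᵁ V'))),
      unitSec i M (U.ι ''ᵁ V') t = SecTwist.val g (i ⁻¹ᵁ (U.ι ''ᵁ V')) ↔
        iU.app V' (trivFn e V' t) =
          (↑Uz : Scheme.{u}).presheaf.map (homOfLE (le_top : iU ⁻¹ᵁ V' ≤ ⊤)).op gbar := by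
    intro V' t
    rw [← trivFn_pullTriv i e V' t, ← hgfn]
    have hmv : SecTwist.val g (Uz.ι ''ᵁ (iU ⁻¹ᵁ V')) =
        ((Scheme.Modules.pullback i).obj M).val.map
          (eqToHom (image_morphismRestrict_preimage i U V')).op
            (SecTwist.val g (i ⁻¹ᵁ (U.ι ''ᵁ V'))) :=
      (SecTwist.map_val g (eqToHom (image_morphismRestrict_preimage i U V'))).symm
    constructor
    · intro h
      rw [h, hmv]
    · intro h
      have h1 := trivFn_injective e' _ h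
      rw [hmv] at h1
      exact map_eqToHom_injective _ _ h1
  have hs0 : unitSec i M (U.ι ''ᵁ W') (res M hW0 s) = SecTwist.val g (i ⁻¹ᵁ (U.ι ''ᵁ W')) := by
    rw [unitSec_res, hs]
    exact SecTwist.map_val g _
  have hσ : iU.app W' σ =
      iU.app W' ((↑U : Scheme.{u}).presheaf.map (homOfLE (le_top : W' ≤ ⊤)).op τ) := by
    rw [(hred W' (res M hW0 s)).mp hs0, app_res, hτ]
    rfl
  obtain ⟨M₀, hM₀⟩ := ringStep iU hiU τ hW'c hτW' σ hσ
  obtain ⟨τ', hτ'1, hτ'2⟩ := hM₀ (M₀ + 1) (Nat.le_succ _)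
  refine ⟨M₀, ?_⟩
  set M₂ := CohB1.tensorPow M (M₀ + 1) with hM₂
  let e₂ : M₂.restrict U.ι ≅ Coh.structureModule (↑U : Scheme.{u}) := trivPow e (M₀ + 1)
  let t' : M₂.val.obj (op (U.ι ''ᵁ ⊤)) := trivSec e₂ ⊤ τ'
  let sW : M₂.val.obj (op W) := lpow s (M₀ + 1)
  have hW0U : U.ι ''ᵁ W' ≤ U.ι ''ᵁ ⊤ := Scheme.Hom.image_mono U.ι le_top
  have hagree : res M₂ hW0 sW = res M₂ hW0U t' := by
    apply trivFn_injective e₂ W'
    rw [res_lpow, trivPow_lpow, trivFn_res e₂ (le_top : W' ≤ ⊤) t', trivFn_trivSec, hτ'1]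
  have hUT : U.ι ''ᵁ ⊤ ≤ W ⊔ U := by rw [U.ι_image_top]; exact le_sup_right
  have hT : W ⊔ U ≤ W ⊔ U.ι ''ᵁ ⊤ := by rw [U.ι_image_top]
  have h0 : W ⊓ U.ι ''ᵁ ⊤ ≤ U.ι ''ᵁ W' := by
    rintro x ⟨hxW, hxU⟩
    rw [U.ι_image_top] at hxU
    exact ⟨⟨x, hxU⟩, hxW, rfl⟩
  obtain ⟨s', hs'1, hs'2⟩ := exists_glue₂ M₂ le_sup_left hUT hT hW0 hW0U h0 sW t' hagree
  refine ⟨s', ?_⟩
  have hp1 : i ⁻¹ᵁ W ≤ i ⁻¹ᵁ (W ⊔ U) := fun _ hz => (le_sup_left : W ≤ W ⊔ U) hz
  have hp2 : i ⁻¹ᵁ (U.ι ''ᵁ ⊤) ≤ i ⁻¹ᵁ (W ⊔ U) := fun _ hz => hUT hz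
  have hpT : i ⁻¹ᵁ (W ⊔ U) ≤ i ⁻¹ᵁ W ⊔ i ⁻¹ᵁ (U.ι ''ᵁ ⊤) := by
    intro z hz
    rcases hT hz with h | h
    · exact Or.inl h
    · exact Or.inr h
  apply eq_of_cover₂ _ hp1 hp2 hpT
  · rw [← unitSec_res i M₂ le_sup_left s', hs'1]
    refine (unitSec_lpow_of_eq i hM g (M₀ + 1) s hs).trans ?_
    exact (SecTwist.map_val _ (homOfLE hp1)).symm
  · rw [← unitSec_res i M₂ hUT s', hs'2]
    let tU : M.val.obj (op (U.ι ''ᵁ ⊤)) := trivSec e ⊤ τ
    have htU : unitSec i M (U.ι ''ᵁ ⊤) tU = SecTwist.val g (i ⁻¹ᵁ (U.ι ''ᵁ ⊤)) := by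
      rw [hred ⊤ tU, trivFn_trivSec, hτ]
      exact (congrFun (congrArg DFunLike.coe (congrArg CommRingCat.Hom.hom
        ((↑Uz : Scheme.{u}).presheaf.map_id (op ⊤)))) gbar).symm
    have h1 := unitSec_lpow_of_eq i hM g (M₀ + 1) tU htU
    refine Eq.trans ?_ (h1.trans (SecTwist.map_val _ (homOfLE hp2)).symm)
    apply map_eqToHom_injective _ (image_morphismRestrict_preimage i U ⊤)
    apply trivFn_injective (pullTriv i e₂) (iU ⁻¹ᵁ ⊤)
    rw [trivFn_pullTriv i e₂ ⊤ t', trivFn_pullTriv i e₂ ⊤ (lpow tU (M₀ + 1)), trivFn_trivSec,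
      trivPow_lpow, trivFn_trivSec, map_pow]
    exact hτ'2

end Step

end Groth.Agent.Lib.helper11.ThickAmp
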