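import Groth.Agent.Lib.Helper11.ThickAmp3
import Groth.Agent.Lib.Helper11.HomDescSec
import Groth.Agent.Lib.Helper12.AmplePow
import Groth.Agent.Lib.Helper12.AmpleSep
import Groth.Agent.Lib.Helper12.Ferrand8

/-!
# Ampleness ascends along thickenings (helper11)

`i : Z ⟶ X` a surjective closed immersion (no Noetherian / nilpotency hypothesis).
* `IsBC.surjective`, `unitSec_surjective_of_isAffineOpen`.
* `Lifts i V W`: over `W` some power of `g` lifts; `Lifts.mono`, `Lifts.base`, `Lifts.step`.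
* `exists_section_genLocus_eq`: `g : O_Z ⟶ i^*N` with `Z_g = i⁻¹V`, `V` affine ⇒ some
  `s : O_X ⟶ N^{⊗ (k+1)}` has `X_s = V`.
* `isAmple_of_thickening`: `i^*L` ample ⇒ `L` ample (Stacks 09MS, EGA II 4.5.13).
-/

set_option autoImplicit false
universe u
open CategoryTheory AlgebraicGeometry TopologicalSpace Opposite
open Groth.Agent.Lib.helper12.TwistLocal Groth.Agent.Lib.helper12.TensorSec
open Groth.Agent.Lib.helper12.TwistExtend Groth.Agent.Lib.helper12.PullTensor
open Groth.Agent.Lib.helper12.PullAmple Groth.Agent.Lib.helper12.TensorInv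
open Groth.Agent.Lib.helper12.TensorRestrict Groth.Agent.Lib.helper11.InvMod
open Groth.Agent.Lib.helper11.GenLocus Groth.Agent.Lib.helper12.TwistKill
open Groth.Agent.Lib.helper8.PullbackUnit

namespace Groth.Agent.Lib.helper11.ThickAmp

/-- a base change along a surjective ring map is surjective -/
theorem IsBC.surjective {R R' : Type u} [CommRing R] [CommRing R'] {φ : R →+* R'} {N P : Type u}
    [AddCommGroup N] [Module R N] [AddCommGroup P] [Module R' P] {k : N →+ P}
    (hk : IsBC φ k) (hφ : Function.Surjective φ) : Function.Surjective k := by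
  let S : Submodule R' P :=
    { carrier := Set.range k
      add_mem' := by
        rintro _ _ ⟨a, rfl⟩ ⟨b, rfl⟩
        exact ⟨a + b, map_add k a b⟩
      zero_mem' := ⟨0, map_zero k⟩
      smul_mem' := by
        rintro r' _ ⟨n, rfl⟩
        obtain ⟨r, rfl⟩ := hφ r'
        exact ⟨r • n, hk.map_smul r n⟩ }
  obtain ⟨w, -, hw⟩ := hk.existsUnique_lift (P ⧸ S) 0 (by intro r n; simp)
  have h1 : S.mkQ = w := hw _ (fun n => by
    show S.mkQ (k n) = 0
    rw [Submodule.mkQ_apply, Submodule.Quotient.mk_eq_zero]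
    exact ⟨n, rfl⟩)
  have h2 : (0 : P →ₗ[R'] P ⧸ S) = w := hw _ (fun n => rfl)
  intro p
  have h3 : S.mkQ p = 0 := by rw [h1, ← h2]; rfl
  rw [Submodule.mkQ_apply, Submodule.Quotient.mk_eq_zero] at h3
  exact h3

variable {X Z : Scheme.{u}} (i : Z ⟶ X)

/-- over an affine open, sections of `i^*M` lift to sections of `M` (closed immersion) -/
theorem unitSec_surjective_of_isAffineOpen [IsClosedImmersion i] (M : X.Modules)
    [M.IsQuasicoherent] {V : X.Opens} (hV : IsAffineOpen V) :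
    Function.Surjective (unitSec i M V) := by
  have h := Groth.Agent.Lib.helper11.HomDescSec.isBC_unitSec i M hV (hV.preimage i)
  exact IsBC.surjective h (i.app_surjective V hV)

/-- the inductive invariant: over `W`, some power of `g` lifts -/
def Lifts {N : X.Modules} (V W : X.Opens) : Prop :=
  ∃ (N₁ : X.Modules) (hN₁ : PicF.IsInvertible N₁) (k : ℕ)
    (_ : Nonempty (N₁ ≅ CohB1.tensorPow N (k + 1)))
    (g₁ : Coh.structureModule Z ⟶ (Scheme.Modules.pullback i).obj N₁)
    (_ : CohB1.genLocus _ g₁ = i ⁻¹ᵁ V) (s : N₁.val.obj (op W)),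
    unitSec i N₁ W s = SecTwist.val g₁ (i ⁻¹ᵁ W)

theorem Lifts.mono {N : X.Modules} {V W W' : X.Opens} (h : W' ≤ W)
    (hL : Lifts i (N := N) V W) : Lifts i (N := N) V W' := by
  obtain ⟨N₁, hN₁, k, e, g₁, hg₁, s, hs⟩ := hL
  refine ⟨N₁, hN₁, k, e, g₁, hg₁, res N₁ h s, ?_⟩
  rw [unitSec_res, hs]
  exact SecTwist.map_val g₁ _

theorem Lifts.base [IsClosedImmersion i] {N : X.Modules} (hN : PicF.IsInvertible N)
    (g : Coh.structureModule Z ⟶ (Scheme.Modules.pullback i).obj N) {V : X.Opens}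
    (hV : IsAffineOpen V) (hg : CohB1.genLocus _ g = i ⁻¹ᵁ V) : Lifts i (N := N) V V := by
  have hN₁ : PicF.IsInvertible (CohB1.tensorPow N 1) := isInvertible_tensorPow hN 1
  haveI : (CohB1.tensorPow N 1).IsQuasicoherent :=
    Groth.Agent.Lib.helper12.AmpleBasis.isQuasicoherent_of_isInvertible hN₁
  let e : (Scheme.Modules.pullback i).obj N ≅ (Scheme.Modules.pullback i).obj (CohB1.tensorPow N 1) :=
    (Scheme.Modules.pullback i).mapIso (Groth.Agent.Lib.Lead.ModTensor.tensorPowOne N).symm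
  obtain ⟨s, hs⟩ := unitSec_surjective_of_isAffineOpen i (CohB1.tensorPow N 1) hV
    (SecTwist.val (g ≫ e.hom) (i ⁻¹ᵁ V))
  exact ⟨CohB1.tensorPow N 1, hN₁, 0, ⟨Iso.refl _⟩, g ≫ e.hom,
    (Groth.Agent.Lib.helper11.IsoLocus.genLocus_comp_iso g e).trans hg, s, hs⟩

theorem Lifts.step [IsClosedImmersion i] (hi : Function.Surjective i) [QuasiSeparatedSpace X]
    {N : X.Modules} {V W U : X.Opens} (hWc : IsCompact (W : Set X)) (hVW : V ≤ W)
    (hU : IsAffineOpen U) (hUN : IsTrivOn N U) (hL : Lifts i (N := N) V W) :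
    Lifts i (N := N) V (W ⊔ U) := by
  obtain ⟨N₁, hN₁, k, ⟨e⟩, g₁, hg₁, s, hs⟩ := hL
  obtain ⟨e₁⟩ : IsTrivOn N₁ U := IsTrivOn.of_iso e.symm (isTrivOn_tensorPow hUN (k + 1))
  obtain ⟨a, s', hs'⟩ := Groth.Agent.Lib.helper11.ThickAmp.step i hi hN₁ g₁ hg₁ hWc hVW s hs hU e₁
  have hpos : 0 < (k + 1) * (a + 1) := Nat.mul_pos (Nat.succ_pos k) (Nat.succ_pos a)
  refine ⟨CohB1.tensorPow N₁ (a + 1), isInvertible_tensorPow hN₁ (a + 1), (k + 1) * (a + 1) - 1, ⟨?_⟩,
    powPull i hN₁ g₁ (a + 1), (genLocus_powPull i hN₁ g₁ a).trans hg₁, s', hs'⟩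
  refine Groth.Agent.Lib.helper12.AmplePow.tensorPowIso e (a + 1) ≪≫
    Groth.Agent.Lib.helper12.TensorPowAdd.tensorPowMul N (k + 1) (a + 1) ≪≫ eqToIso ?_
  rw [Nat.sub_add_cancel hpos]

/-- a lift over the whole of `X` gives a section with `X_s = V` -/
theorem exists_section_of_lifts_top (hi : Function.Surjective i) {N : X.Modules} {V : X.Opens}
    (hL : Lifts i (N := N) V ⊤) :
    ∃ (k : ℕ) (s : Coh.structureModule X ⟶ CohB1.tensorPow N (k + 1)), CohB1.genLocus _ s = V := by
  obtain ⟨N₁, hN₁, k, ⟨e⟩, g₁, hg₁, s, hs⟩ := hL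
  let ŝ : Coh.structureModule X ⟶ N₁ := Groth.Agent.Lib.helper12.AmpleBasis.homOfSec N₁ s
  have hval : SecTwist.val ŝ ⊤ = s :=
    (Groth.Agent.Lib.helper12.AmpleBasis.val_homOfSec N₁ s ⊤).trans
      (Groth.Agent.Lib.helper12.AmpleQAff.res_self N₁ ⊤ s)
  have hone : ((pullbackUnitIso i).inv.val.app (op ⊤)).hom
      (1 : Z.ringCatSheaf.obj.obj (op ⊤)) =
      unitSec i (Coh.structureModule X) ⊤ (1 : X.ringCatSheaf.obj.obj (op ⊤)) := by
    have h1 := pullbackUnitIso_hom_unitSec i ⊤ 1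
    rw [map_one] at h1
    have h2 := iso_inv_hom_apply (pullbackUnitIso i) (i ⁻¹ᵁ ⊤)
      (unitSec i (Coh.structureModule X) ⊤ (1 : X.ringCatSheaf.obj.obj (op ⊤)))
    exact (congrArg (fun z => ((pullbackUnitIso i).inv.val.app (op (i ⁻¹ᵁ ⊤))).hom z) h1).symm.trans h2
  have hcomp : (pullbackUnitIso i).symm.hom ≫ (Scheme.Modules.pullback i).map ŝ = g₁ := by
    apply Groth.Agent.Lib.helper12.SecExtend.hom_ext_val_top
    rw [val_comp]
    change (((Scheme.Modules.pullback i).map ŝ).val.app (op ⊤)).hom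
      (((pullbackUnitIso i).inv.val.app (op ⊤)).hom (1 : Z.ringCatSheaf.obj.obj (op ⊤))) = _
    rw [hone]
    erw [unitSec_naturality i ŝ ⊤]
    change unitSec i N₁ ⊤ (SecTwist.val ŝ ⊤) = _
    rw [hval, hs]
    rfl
  have h2 := Groth.Agent.Lib.helper11.InvPullback.genLocus_pullback i N₁ hN₁ ŝ (pullbackUnitIso i).symm
  rw [hcomp, hg₁] at h2
  have h3 : CohB1.genLocus N₁ ŝ = V := by
    ext x
    obtain ⟨z, rfl⟩ := hi x
    have := congrArg (fun O : Z.Opens => z ∈ O) h2
    exact (iff_of_eq this).symm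
  exact ⟨k, ŝ ≫ e.hom, (Groth.Agent.Lib.helper11.IsoLocus.genLocus_comp_iso ŝ e).trans h3⟩

theorem isCompact_finset_sup {α : Type*} (F : Finset α) (U : α → X.Opens)
    (h : ∀ a ∈ F, IsCompact ((U a : X.Opens) : Set X)) :
    IsCompact ((F.sup U : X.Opens) : Set X) := by
  classical
  induction F using Finset.induction_on with
  | empty => simp
  | insert a F ha ih =>
    rw [Finset.sup_insert, Opens.coe_sup]
    exact (h a (Finset.mem_insert_self a F)).union
      (ih fun b hb => h b (Finset.mem_insert_of_mem hb))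

/-- **Lifting a power of a section with affine non-vanishing locus along a surjective closed
immersion.** -/
theorem exists_section_genLocus_eq [IsClosedImmersion i] (hi : Function.Surjective i)
    [CompactSpace X] [QuasiSeparatedSpace X] {N : X.Modules} (hN : PicF.IsInvertible N)
    (g : Coh.structureModule Z ⟶ (Scheme.Modules.pullback i).obj N) {V : X.Opens}
    (hV : IsAffineOpen V) (hg : CohB1.genLocus _ g = i ⁻¹ᵁ V) :
    ∃ (k : ℕ) (s : Coh.structureModule X ⟶ CohB1.tensorPow N (k + 1)), CohB1.genLocus _ s = V := by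
  classical
  have hex : ∀ x : X, ∃ U : X.Opens, IsAffineOpen U ∧ x ∈ U ∧ IsTrivOn N U := fun x => by
    obtain ⟨U, h1, h2, -, h3⟩ := exists_affine_isTrivOn hN x ⊤ trivial
    exact ⟨U, h1, h2, h3⟩
  choose U hUaff hxU hUtriv using hex
  obtain ⟨T, hT⟩ := isCompact_univ.elim_finite_subcover
    (fun x : X => ((U x : X.Opens) : Set X)) (fun x => (U x).isOpen)
    (fun x _ => Set.mem_iUnion.mpr ⟨x, hxU x⟩)
  have key : ∀ F : Finset X, Lifts i (N := N) V (V ⊔ F.sup U) := by
    intro F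
    induction F using Finset.induction_on with
    | empty =>
      exact (Lifts.base i hN g hV hg).mono i (by simp)
    | insert a F ha ih =>
      have hc : IsCompact ((V ⊔ F.sup U : X.Opens) : Set X) := by
        rw [Opens.coe_sup]
        exact hV.isCompact.union (isCompact_finset_sup F U fun b _ => (hUaff b).isCompact)
      have h1 := Lifts.step i hi hc le_sup_left (hUaff a) (hUtriv a) ih
      refine h1.mono i ?_
      rw [Finset.sup_insert]
      exact sup_le (le_sup_left.trans le_sup_left)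
        (sup_le le_sup_right (le_sup_right.trans le_sup_left))
  have htop : (⊤ : X.Opens) ≤ V ⊔ T.sup U := by
    intro x _
    have hx : x ∈ ⋃ a ∈ T, ((U a : X.Opens) : Set X) := hT (Set.mem_univ x)
    simp only [Set.mem_iUnion] at hx
    obtain ⟨a, haT, hxa⟩ := hx
    exact Or.inr ((Finset.le_sup (f := U) haT) hxa)
  exact exists_section_of_lifts_top i hi ((key T).mono i htop)

/-- **Ampleness ascends along thickenings** (Stacks 09MS / EGA II 4.5.13, no Noetherian or
nilpotency hypothesis): `i : Z ⟶ X` a surjective closed immersion, `L` invertible on `X` with `i^*L`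
ample; then `L` is ample. -/
theorem isAmple_of_thickening [IsClosedImmersion i] (hi : Function.Surjective i) {L : X.Modules}
    (hL : PicF.IsInvertible L) (h : CohB1.IsAmple ((Scheme.Modules.pullback i).obj L)) :
    CohB1.IsAmple L := by
  have hhomeo : IsHomeomorph i :=
    isHomeomorph_iff_isEmbedding_surjective.mpr ⟨i.isClosedEmbedding.isEmbedding, hi⟩
  haveI : CompactSpace Z := h.2.1
  haveI : CompactSpace X := by
    constructor
    rw [← hi.range_eq]
    exact isCompact_range i.continuous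
  haveI : Z.IsSeparated := Groth.Agent.Lib.helper12.AmpleSep.isSeparated_of_isAmple h
  haveI : QuasiSeparatedSpace Z := inferInstance
  haveI : QuasiSeparatedSpace X :=
    QuasiSeparatedSpace.of_isOpenEmbedding hhomeo.homeomorph.symm.isOpenEmbedding
  refine ⟨hL, inferInstance, fun x => ?_⟩
  obtain ⟨z, rfl⟩ := hi x
  obtain ⟨n, g', hz, haff⟩ := h.2.2 z
  set N := CohB1.tensorPow L (n + 1) with hNdef
  have hN : PicF.IsInvertible N := isInvertible_tensorPow hL (n + 1)
  let g : Coh.structureModule Z ⟶ (Scheme.Modules.pullback i).obj N :=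
    g' ≫ (pullTensorPowIso i hL (n + 1)).inv
  have hgg' : CohB1.genLocus _ g = CohB1.genLocus _ g' :=
    Groth.Agent.Lib.helper11.IsoLocus.genLocus_comp_iso g' (pullTensorPowIso i hL (n + 1)).symm
  let V : X.Opens := ⟨i '' (CohB1.genLocus _ g' : Set Z), hhomeo.isOpenMap _ (CohB1.genLocus _ g').isOpen⟩
  have hV : i ⁻¹ᵁ V = CohB1.genLocus _ g' := by
    ext y
    change i y ∈ i '' (CohB1.genLocus _ g' : Set Z) ↔ _
    rw [hhomeo.injective.mem_set_image]
  have hVaff : IsAffineOpen V :=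
    Groth.Agent.Lib.Helper12.Ferrand8.isAffineOpen_of_thickening i hi V (hV ▸ haff)
  obtain ⟨k, s, hs⟩ := exists_section_genLocus_eq i hi hN g hVaff (hgg'.trans hV.symm)
  have hpos : 0 < (n + 1) * (k + 1) := Nat.mul_pos (Nat.succ_pos n) (Nat.succ_pos k)
  have heq : (n + 1) * (k + 1) = ((n + 1) * (k + 1) - 1) + 1 := (Nat.sub_add_cancel hpos).symm
  let E : CohB1.tensorPow N (k + 1) ≅ CohB1.tensorPow L (((n + 1) * (k + 1) - 1) + 1) :=
    Groth.Agent.Lib.helper12.TensorPowAdd.tensorPowMul L (n + 1) (k + 1) ≪≫ eqToIso (by rw [← heq])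
  refine ⟨(n + 1) * (k + 1) - 1, s ≫ E.hom, ?_, ?_⟩
  · rw [Groth.Agent.Lib.helper11.IsoLocus.genLocus_comp_iso, hs]
    exact ⟨z, hz, rfl⟩
  · rw [Groth.Agent.Lib.helper11.IsoLocus.genLocus_comp_iso, hs]
    exact hVaff

end Groth.Agent.Lib.helper11.ThickAmp
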