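import Groth.Agent.Lib.Helper11.ThickAmp4
import Groth.Agent.Lib.Helper12.Thickening

/-!
# Relative ampleness and thickenings (helper11)

* `isAmple_restrict_iff_of_thickening`: for a surjective closed immersion `i : Z ⟶ X`, `L` invertible
  on `X` and `O ⊆ X` open: `(i^*L)|_{i⁻¹O}` is ample iff `L|_O` is.
* `isRelAmple_iff_of_thickening`: EGA II 4.6.16-type statement for a morphism of thickenings.
-/

set_option autoImplicit false
universe u
open CategoryTheory AlgebraicGeometry TopologicalSpace Opposite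
open Groth.Agent.Lib.helper11.InvMod

namespace Groth.Agent.Lib.helper11.ThickAmp

theorem isAmple_restrict_congr {X : Scheme.{u}} (M : X.Modules) {O₁ O₂ : X.Opens} (h : O₁ = O₂) :
    CohB1.IsAmple (M.restrict O₁.ι) ↔ CohB1.IsAmple (M.restrict O₂.ι) := by
  subst h
  rfl

theorem isAmple_restrict_iff_of_thickening {X Z : Scheme.{u}} (i : Z ⟶ X) [IsClosedImmersion i]
    (hi : Function.Surjective i) {L : X.Modules} (hL : PicF.IsInvertible L) (O : X.Opens) :
    CohB1.IsAmple (((Scheme.Modules.pullback i).obj L).restrict (i ⁻¹ᵁ O).ι) ↔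
      CohB1.IsAmple (L.restrict O.ι) := by
  have hsurj : Function.Surjective (i ∣_ O) := by
    rintro ⟨x', hx'⟩
    obtain ⟨x, rfl⟩ := hi x'
    refine ⟨⟨x, hx'⟩, ?_⟩
    apply Subtype.ext
    exact morphismRestrict_base_coe i O ⟨x, hx'⟩
  rw [Groth.Agent.Lib.helper12.AmplePow.isAmple_iff_of_iso (pullbackRestrictIso i L O)]
  constructor
  · intro h
    exact isAmple_of_thickening (i ∣_ O) hsurj (isInvertible_restrict O.ι hL) h
  · intro h
    exact Groth.Agent.Lib.helper12.PullAmple.isAmple_pullback_of_isAffineHom (i ∣_ O) h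

theorem isRelAmple_iff_of_thickening {X X' S S' : Scheme.{u}} (iX : X ⟶ X') (iS : S ⟶ S')
    (f : X ⟶ S) (f' : X' ⟶ S') [IsClosedImmersion iX] (hX : Function.Surjective iX)
    [IsClosedImmersion iS] (hS : Function.Surjective iS) (w : iX ≫ f' = f ≫ iS)
    (L' : X'.Modules) (hL' : PicF.IsInvertible L') :
    RelAmple.IsRelAmple f' L' ↔ RelAmple.IsRelAmple f ((Scheme.Modules.pullback iX).obj L') := by
  have hpre : ∀ V' : S'.Opens, iX ⁻¹ᵁ (f' ⁻¹ᵁ V') = f ⁻¹ᵁ (iS ⁻¹ᵁ V') := fun V' => by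
    change (iX ≫ f') ⁻¹ᵁ V' = (f ≫ iS) ⁻¹ᵁ V'
    rw [w]
  have hhomeo : IsHomeomorph iS :=
    isHomeomorph_iff_isEmbedding_surjective.mpr ⟨iS.isClosedEmbedding.isEmbedding, hS⟩
  constructor
  · rintro ⟨hqc, h⟩
    haveI := hqc
    haveI : QuasiCompact (f ≫ iS) := by rw [← w]; infer_instance
    refine ⟨QuasiCompact.of_comp f iS, fun V => ?_⟩
    let V' : S'.Opens := ⟨iS '' (V.1 : Set S), hhomeo.isOpenMap _ V.1.isOpen⟩
    have hV' : iS ⁻¹ᵁ V' = V.1 := by
      ext y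
      change iS y ∈ iS '' (V.1 : Set S) ↔ _
      rw [hhomeo.injective.mem_set_image]
    have hV'aff : IsAffineOpen V' :=
      Groth.Agent.Lib.Helper12.Ferrand8.isAffineOpen_of_thickening iS hS V' (hV' ▸ V.2)
    have h1 := (isAmple_restrict_iff_of_thickening iX hX hL' (f' ⁻¹ᵁ V')).mpr (h ⟨V', hV'aff⟩)
    have h2 : iX ⁻¹ᵁ (f' ⁻¹ᵁ V') = f ⁻¹ᵁ V.1 := by rw [hpre, hV']
    exact (isAmple_restrict_congr _ h2).mp h1
  · rintro ⟨hqc, h⟩
    haveI := hqc
    haveI : Surjective iX := ⟨hX⟩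
    haveI : QuasiCompact (iX ≫ f') := by rw [w]; infer_instance
    refine ⟨Groth.Agent.Lib.helper12.quasiCompact_of_comp_surjective iX f', fun V' => ?_⟩
    have hVaff : IsAffineOpen (iS ⁻¹ᵁ V'.1) := V'.2.preimage iS
    have h1 := h ⟨iS ⁻¹ᵁ V'.1, hVaff⟩
    have h2 : f ⁻¹ᵁ (iS ⁻¹ᵁ V'.1) = iX ⁻¹ᵁ (f' ⁻¹ᵁ V'.1) := (hpre V'.1).symm
    exact (isAmple_restrict_iff_of_thickening iX hX hL' (f' ⁻¹ᵁ V'.1)).mp
      ((isAmple_restrict_congr _ h2).mp h1)

end Groth.Agent.Lib.helper11.ThickAmp
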