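import Groth.Agent.Lib.Helper11.ThickAmp4

set_option autoImplicit false
universe u
open CategoryTheory AlgebraicGeometry TopologicalSpace Opposite TensorProduct
open Groth.Agent.Lib.helper12.TwistLocal Groth.Agent.Lib.helper12.TensorSec
open Groth.Agent.Lib.helper12.TwistExtend Groth.Agent.Lib.helper12.PullTensor
open Groth.Agent.Lib.helper12.PullAmple Groth.Agent.Lib.helper12.TensorInv
open Groth.Agent.Lib.helper12.TensorRestrict Groth.Agent.Lib.helper11.InvMod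
open Groth.Agent.Lib.helper11.GenLocus Groth.Agent.Lib.helper12.TwistKill

namespace Groth.Agent.Lib.helper11.ThickAmp

variable {X : Scheme.{u}}

theorem tmul_smul_right (M N : X.Modules) (U : X.Opens) (r : X.ringCatSheaf.obj.obj (op U))
    (m : M.val.obj (op U)) (n : N.val.obj (op U)) :
    SecTwist.tmul M N U m (r • n) = r • SecTwist.tmul M N U m n := by
  rw [← Groth.Agent.Lib.helper12.AmpleBasis.tmul_smul_left]
  unfold SecTwist.tmul
  congr 1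
  exact (TensorProduct.smul_tmul
    (R := ((X.sheaf.obj ⋙ forget₂ CommRingCat RingCat.{u}).obj (op U)))
    (R' := ((X.sheaf.obj ⋙ forget₂ CommRingCat RingCat.{u}).obj (op U)))
    (M := ↑((CohB1.toPMod M).obj (op U))) (N := ↑((CohB1.toPMod N).obj (op U))) r m n).symm

theorem map_eqToHom_eq_res (A : X.Modules) {O O' : X.Opens} (h : O = O') (x : A.val.obj (op O')) :
    A.val.map (eqToHom h).op x = res A (le_of_eq h) x :=
  congrArg (fun k : op O' ⟶ op O => A.val.map k x) (Subsingleton.elim _ _)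

/-- `(r • t)^{⊗ m} = r^m • t^{⊗ m}` -/
theorem lpow_smul {L : X.Modules} {O : X.Opens} (r : X.ringCatSheaf.obj.obj (op O))
    (t : L.val.obj (op O)) (m : ℕ) : lpow (r • t) m = r ^ m • lpow t m := by
  induction m with
  | zero =>
    rw [pow_zero, one_smul]
    rfl
  | succ m ih =>
    change SecTwist.tmul _ _ O (lpow (r • t) m) (r • t) = r ^ (m + 1) • SecTwist.tmul _ _ O (lpow t m) t
    rw [ih, Groth.Agent.Lib.helper12.AmpleBasis.tmul_smul_left, tmul_smul_right, smul_smul, pow_succ]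

section Pull

variable {Y : Scheme.{u}} (f : Y ⟶ X)

/-- the unit section, transported to the open `(f⁻¹U).ι ''ᵁ ((f ∣_ U)⁻¹V)` -/
noncomputable def usec (M : X.Modules) (U : X.Opens) (V : (↑U : Scheme.{u}).Opens)
    (t : M.val.obj (op (U.ι ''ᵁ V))) :
    ((Scheme.Modules.pullback f).obj M).val.obj (op ((f ⁻¹ᵁ U).ι ''ᵁ ((f ∣_ U) ⁻¹ᵁ V))) :=
  res ((Scheme.Modules.pullback f).obj M) (le_of_eq (image_morphismRestrict_preimage f U V))
    (unitSec f M (U.ι ''ᵁ V) t)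

theorem trivFn_usec {M : X.Modules} {U : X.Opens}
    (e : M.restrict U.ι ≅ Coh.structureModule (↑U : Scheme.{u}))
    (V : (↑U : Scheme.{u}).Opens) (t : M.val.obj (op (U.ι ''ᵁ V))) :
    trivFn (pullTriv f e) ((f ∣_ U) ⁻¹ᵁ V) (usec f M U V t) = (f ∣_ U).app V (trivFn e V t) := by
  unfold usec
  rw [← map_eqToHom_eq_res]
  exact trivFn_pullTriv f e V t

/-- `usec` of a power -/
theorem usec_lpow {M : X.Modules} (hM : PicF.IsInvertible M) (U : X.Opens)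
    (V : (↑U : Scheme.{u}).Opens) (t : M.val.obj (op (U.ι ''ᵁ V))) (m : ℕ) :
    usec f (CohB1.tensorPow M m) U V (lpow t m) =
      ((pullTensorPowIso f hM m).inv.val.app (op ((f ⁻¹ᵁ U).ι ''ᵁ ((f ∣_ U) ⁻¹ᵁ V)))).hom
        (lpow (usec f M U V t) m) := by
  unfold usec
  rw [← res_lpow, ← pullTensorPowIso_unitSec_lpow f hM m (U.ι ''ᵁ V) t, res_app,
    iso_inv_hom_apply]

/-- linearity of `trivFn` -/
theorem trivFn_smul {L : X.Modules} {U : X.Opens}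
    (e : L.restrict U.ι ≅ Coh.structureModule (↑U : Scheme.{u}))
    (V : (↑U : Scheme.{u}).Opens) (r : X.ringCatSheaf.obj.obj (op (U.ι ''ᵁ V)))
    (t : L.val.obj (op (U.ι ''ᵁ V))) :
    trivFn e V (r • t) = (U.ι.appIso V).hom.hom r * trivFn e V t := by
  have h := (e.hom.val.app (op V)).hom.map_smul
    (show (↑U : Scheme.{u}).ringCatSheaf.obj.obj (op V) from (U.ι.appIso V).hom.hom r)
    (show ((Scheme.Modules.restrictFunctor U.ι).obj L).val.obj (op V) from t)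
  refine Eq.trans ?_ h
  have h0 : (U.ι.appIso V).inv.hom ((U.ι.appIso V).hom.hom r) = r :=
    Iso.hom_inv_id_apply (U.ι.appIso V) r
  conv_lhs => rw [← h0]
  rfl

theorem trivFn_smul_inv {L : X.Modules} {U : X.Opens}
    (e : L.restrict U.ι ≅ Coh.structureModule (↑U : Scheme.{u}))
    (V : (↑U : Scheme.{u}).Opens) (r : Γ((↑U : Scheme.{u}), V))
    (t : L.val.obj (op (U.ι ''ᵁ V))) :
    trivFn e V ((show X.ringCatSheaf.obj.obj (op (U.ι ''ᵁ V)) from (U.ι.appIso V).inv.hom r) • t) =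
      r * trivFn e V t := by
  rw [trivFn_smul]
  congr 1
  exact Iso.inv_hom_id_apply (U.ι.appIso V) r

/-- **compatibility of the induced trivialisations with tensor powers** -/
theorem trivFn_pullTriv_lpow {M : X.Modules} (hM : PicF.IsInvertible M) {U : X.Opens}
    (e : M.restrict U.ι ≅ Coh.structureModule (↑U : Scheme.{u})) (m : ℕ)
    (V : (↑U : Scheme.{u}).Opens)
    (t' : ((Scheme.Modules.pullback f).obj M).val.obj
      (op ((f ⁻¹ᵁ U).ι ''ᵁ ((f ∣_ U) ⁻¹ᵁ V)))) :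
    trivFn (pullTriv f (trivPow e m)) ((f ∣_ U) ⁻¹ᵁ V)
      (((pullTensorPowIso f hM m).inv.val.app (op ((f ⁻¹ᵁ U).ι ''ᵁ ((f ∣_ U) ⁻¹ᵁ V)))).hom
        (lpow t' m)) = (trivFn (pullTriv f e) ((f ∣_ U) ⁻¹ᵁ V) t') ^ m := by
  have h1 : trivFn (pullTriv f e) ((f ∣_ U) ⁻¹ᵁ V) (usec f M U V (trivSec e V 1)) = 1 := by
    rw [trivFn_usec, trivFn_trivSec, map_one]
  have h2 : t' = (show Y.ringCatSheaf.obj.obj (op ((f ⁻¹ᵁ U).ι ''ᵁ ((f ∣_ U) ⁻¹ᵁ V))) from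
      ((f ⁻¹ᵁ U).ι.appIso ((f ∣_ U) ⁻¹ᵁ V)).inv.hom
        (trivFn (pullTriv f e) ((f ∣_ U) ⁻¹ᵁ V) t')) • usec f M U V (trivSec e V 1) := by
    apply trivFn_injective (pullTriv f e) ((f ∣_ U) ⁻¹ᵁ V)
    rw [trivFn_smul_inv, h1, mul_one]
  have h3 : trivFn (pullTriv f (trivPow e m)) ((f ∣_ U) ⁻¹ᵁ V)
      (((pullTensorPowIso f hM m).inv.val.app (op ((f ⁻¹ᵁ U).ι ''ᵁ ((f ∣_ U) ⁻¹ᵁ V)))).hom
        (lpow (usec f M U V (trivSec e V 1)) m)) = 1 := by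
    rw [← usec_lpow, trivFn_usec, trivPow_lpow, trivFn_trivSec, one_pow, map_one]
  generalize trivFn (pullTriv f e) ((f ∣_ U) ⁻¹ᵁ V) t' = φ at h2 ⊢
  subst h2
  rw [lpow_smul]
  erw [((pullTensorPowIso f hM m).inv.val.app (op ((f ⁻¹ᵁ U).ι ''ᵁ ((f ∣_ U) ⁻¹ᵁ V)))).hom.map_smul]
  rw [trivFn_smul, h3, mul_one]
  refine (map_pow ((f ⁻¹ᵁ U).ι.appIso ((f ∣_ U) ⁻¹ᵁ V)).hom.hom _ m).trans ?_
  congr 1
  exact Iso.inv_hom_id_apply ((f ⁻¹ᵁ U).ι.appIso ((f ∣_ U) ⁻¹ᵁ V)) φ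

end Pull

section StepH

variable {Z : Scheme.{u}} (i : Z ⟶ X)

/-- **The gluing step, abstract form**: the ring-level input is the hypothesis `H`. -/
theorem stepH {M : X.Modules} (hM : PicF.IsInvertible M)
    (g : Coh.structureModule Z ⟶ (Scheme.Modules.pullback i).obj M)
    {W : X.Opens} (s : M.val.obj (op W)) (hs : unitSec i M W s = SecTwist.val g (i ⁻¹ᵁ W))
    {U : X.Opens} (e : M.restrict U.ι ≅ Coh.structureModule (↑U : Scheme.{u}))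
    (H : ∀ σ : Γ((↑U : Scheme.{u}), U.ι ⁻¹ᵁ W),
      (i ∣_ U).app (U.ι ⁻¹ᵁ W) σ =
        (↑(i ⁻¹ᵁ U) : Scheme.{u}).presheaf.map
          (homOfLE (le_top : (i ∣_ U) ⁻¹ᵁ (U.ι ⁻¹ᵁ W) ≤ ⊤)).op
          (fn (localEnd g (Scheme.Modules.restrictUnitIso (i ⁻¹ᵁ U).ι) (pullTriv i e)) ⊤) →
      ∃ (a : ℕ) (τ' : Γ((↑U : Scheme.{u}), ⊤)),
        (↑U : Scheme.{u}).presheaf.map (homOfLE (le_top : U.ι ⁻¹ᵁ W ≤ ⊤)).op τ' = σ ^ (a + 1) ∧
        (i ∣_ U).app ⊤ τ' =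
          (fn (localEnd g (Scheme.Modules.restrictUnitIso (i ⁻¹ᵁ U).ι) (pullTriv i e)) ⊤) ^ (a + 1)) :
    ∃ (a : ℕ) (s' : (CohB1.tensorPow M (a + 1)).val.obj (op (W ⊔ U))),
      unitSec i (CohB1.tensorPow M (a + 1)) (W ⊔ U) s' =
        SecTwist.val (powPull i hM g (a + 1)) (i ⁻¹ᵁ (W ⊔ U)) := by
  let Uz : Z.Opens := i ⁻¹ᵁ U
  let iU : (↑Uz : Scheme.{u}) ⟶ (↑U : Scheme.{u}) := i ∣_ U
  let e' := pullTriv i e
  let gbar : Γ((↑Uz : Scheme.{u}), ⊤) :=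
    fn (localEnd g (Scheme.Modules.restrictUnitIso Uz.ι) e') ⊤
  let W' : (↑U : Scheme.{u}).Opens := U.ι ⁻¹ᵁ W
  have hW0 : U.ι ''ᵁ W' ≤ W := by
    rintro _ ⟨x, hx, rfl⟩
    exact hx
  let σ : Γ((↑U : Scheme.{u}), W') := trivFn e W' (res M hW0 s)
  -- the functions of `g` in the induced trivialisation
  have hgfn : ∀ V'' : (↑Uz : Scheme.{u}).Opens,
      trivFn e' V'' (SecTwist.val g (Uz.ι ''ᵁ V'')) =
        (↑Uz : Scheme.{u}).presheaf.map (homOfLE (le_top : V'' ≤ ⊤)).op gbar := fun V'' => by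
    rw [show (↑Uz : Scheme.{u}).presheaf.map (homOfLE (le_top : V'' ≤ ⊤)).op gbar =
      fn (localEnd g (Scheme.Modules.restrictUnitIso Uz.ι) e') V'' from res_fn _ _]
    exact (val_localEnd g e' V'').symm
  -- reduction of local sections in terms of functions
  have hred : ∀ (V' : (↑U : Scheme.{u}).Opens) (t : M.val.obj (op (U.ι ''ᵁ V'))),
      unitSec i M (U.ι ''ᵁ V') t = SecTwist.val g (i ⁻¹ᵁ (U.ι ''ᵁ V')) ↔
        iU.app V' (trivFn e V' t) =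
          (↑Uz : Scheme.{u}).presheaf.map (homOfLE (le_top : iU ⁻¹ᵁ V' ≤ ⊤)).op gbar := by
    intro V' t
    rw [← trivFn_pullTriv i e V' t, ← hgfn]
    have hmv : SecTwist.val g (Uz.ι ''ᵁ (iU ⁻¹ᵁ V')) =
        ((Scheme.Modules.pullback i).obj M).val.map
          (eqToHom (image_morphismRestrict_preimage i U V')).op
            (SecTwist.val g (i ⁻¹ᵁ (U.ι ''ᵁ V'))) :=
      (SecTwist.map_val g (eqToHom (image_morphismRestrict_preimage i U V'))).symm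
    constructor
    · intro h
      rw [h, hmv]
    · intro h
      have h1 := trivFn_injective e' _ h
      rw [hmv] at h1
      exact map_eqToHom_injective _ _ h1
  have hs0 : unitSec i M (U.ι ''ᵁ W') (res M hW0 s) = SecTwist.val g (i ⁻¹ᵁ (U.ι ''ᵁ W')) := by
    rw [unitSec_res, hs]
    exact SecTwist.map_val g _
  obtain ⟨M₀, τ', hτ'1, hτ'2⟩ := H σ ((hred W' (res M hW0 s)).mp hs0)
  refine ⟨M₀, ?_⟩
  set M₂ := CohB1.tensorPow M (M₀ + 1) with hM₂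
  let e₂ : M₂.restrict U.ι ≅ Coh.structureModule (↑U : Scheme.{u}) := trivPow e (M₀ + 1)
  let t' : M₂.val.obj (op (U.ι ''ᵁ ⊤)) := trivSec e₂ ⊤ τ'
  let sW : M₂.val.obj (op W) := lpow s (M₀ + 1)
  have hW0U : U.ι ''ᵁ W' ≤ U.ι ''ᵁ ⊤ := Scheme.Hom.image_mono U.ι le_top
  have hagree : res M₂ hW0 sW = res M₂ hW0U t' := by
    apply trivFn_injective e₂ W'
    rw [res_lpow, trivPow_lpow, trivFn_res e₂ (le_top : W' ≤ ⊤) t', trivFn_trivSec, hτ'1]
  have hUT : U.ι ''ᵁ ⊤ ≤ W ⊔ U := by rw [U.ι_image_top]; exact le_sup_right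
  have hT : W ⊔ U ≤ W ⊔ U.ι ''ᵁ ⊤ := by rw [U.ι_image_top]
  have h0 : W ⊓ U.ι ''ᵁ ⊤ ≤ U.ι ''ᵁ W' := by
    rintro x ⟨hxW, hxU⟩
    rw [U.ι_image_top] at hxU
    exact ⟨⟨x, hxU⟩, hxW, rfl⟩
  obtain ⟨s', hs'1, hs'2⟩ := exists_glue₂ M₂ le_sup_left hUT hT hW0 hW0U h0 sW t' hagree
  refine ⟨s', ?_⟩
  have hp1 : i ⁻¹ᵁ W ≤ i ⁻¹ᵁ (W ⊔ U) := fun _ hz => (le_sup_left : W ≤ W ⊔ U) hz
  have hp2 : i ⁻¹ᵁ (U.ι ''ᵁ ⊤) ≤ i ⁻¹ᵁ (W ⊔ U) := fun _ hz => hUT hz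
  have hpT : i ⁻¹ᵁ (W ⊔ U) ≤ i ⁻¹ᵁ W ⊔ i ⁻¹ᵁ (U.ι ''ᵁ ⊤) := by
    intro z hz
    rcases hT hz with h | h
    · exact Or.inl h
    · exact Or.inr h
  apply eq_of_cover₂ _ hp1 hp2 hpT
  · rw [← unitSec_res i M₂ le_sup_left s', hs'1]
    refine (unitSec_lpow_of_eq i hM g (M₀ + 1) s hs).trans ?_
    exact (SecTwist.map_val _ (homOfLE hp1)).symm
  · rw [← unitSec_res i M₂ hUT s', hs'2]
    refine Eq.trans ?_ (SecTwist.map_val _ (homOfLE hp2)).symm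
    apply map_eqToHom_injective _ (image_morphismRestrict_preimage i U ⊤)
    apply trivFn_injective (pullTriv i e₂) (iU ⁻¹ᵁ ⊤)
    rw [trivFn_pullTriv i e₂ ⊤ t', trivFn_trivSec]
    refine hτ'2.trans ?_
    have hmv : ((Scheme.Modules.pullback i).obj M₂).val.map
          (eqToHom (image_morphismRestrict_preimage i U ⊤)).op
            (SecTwist.val (powPull i hM g (M₀ + 1)) (i ⁻¹ᵁ (U.ι ''ᵁ ⊤))) =
        SecTwist.val (powPull i hM g (M₀ + 1)) (Uz.ι ''ᵁ (iU ⁻¹ᵁ ⊤)) :=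
      SecTwist.map_val (powPull i hM g (M₀ + 1)) (eqToHom (image_morphismRestrict_preimage i U ⊤))
    rw [hmv]
    unfold powPull
    rw [val_comp, SecTwist.val_powHom, ← lpow_val]
    rw [trivFn_pullTriv_lpow i hM e (M₀ + 1) ⊤, hgfn]
    congr 1
    exact (congrFun (congrArg DFunLike.coe (congrArg CommRingCat.Hom.hom
      ((↑Uz : Scheme.{u}).presheaf.map_id (op ⊤)))) gbar).symm

end StepH

end Groth.Agent.Lib.helper11.ThickAmp
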