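import Groth.Agent.Lib.Helper11.ThickAmp6
import Groth.Agent.Lib.Helper2.UHAffine
import Groth.Agent.Lib.Helper2.PerfSchLib

set_option autoImplicit false
universe u
open CategoryTheory AlgebraicGeometry TopologicalSpace Opposite
open Groth.Agent.Lib.helper12.TwistLocal Groth.Agent.Lib.helper12.TensorSec
open Groth.Agent.Lib.helper12.TwistExtend Groth.Agent.Lib.helper12.PullTensor
open Groth.Agent.Lib.helper12.PullAmple Groth.Agent.Lib.helper12.TensorInv
open Groth.Agent.Lib.helper12.TensorRestrict Groth.Agent.Lib.helper11.InvMod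
open Groth.Agent.Lib.helper11.GenLocus Groth.Agent.Lib.helper12.TwistKill

namespace Groth.Agent.Lib.helper11.ThickAmp

section RingP

/-- the ring-level step for a universal homeomorphism in characteristic `p` -/
theorem ringStepP (p : ℕ) [hp : Fact p.Prime] {U Z' : Scheme.{u}} [FrobSch.IsCharP U p] (ι : Z' ⟶ U)
    (hι : FlatMor.IsUnivHomeo ι) [IsAffine U] (gbar : Γ(Z', ⊤)) {W : U.Opens} (hW : IsCompact (W : Set U))
    (σ : Γ(U, W))
    (hσ : ι.app W σ = Z'.presheaf.map (homOfLE (le_top : ι ⁻¹ᵁ W ≤ ⊤)).op gbar) :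
    ∃ (a : ℕ) (τ' : Γ(U, ⊤)),
      U.presheaf.map (homOfLE (le_top : W ≤ ⊤)).op τ' = σ ^ (a + 1) ∧
        ι.app ⊤ τ' = gbar ^ (a + 1) := by
  obtain ⟨-, h2⟩ := Groth.Agent.Lib.helper2.UHAffine.affine_facts p ι hι (isAffineOpen_top U)
  obtain ⟨n₁, τ₁, hτ₁⟩ := h2 gbar
  have hsurj : Function.Surjective ι :=
    (Groth.Agent.Lib.helper2.AWNScheme.isHomeomorph_of_isUnivHomeo ι hι).surjective
  set ρ := (U.presheaf.map (homOfLE (le_top : W ≤ ⊤)).op).hom with hρ
  set c := σ ^ p ^ n₁ - ρ τ₁ with hc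
  have hc0 : ι.app W c = 0 := by
    rw [hc, map_sub, map_pow, hσ, sub_eq_zero]
    have := app_res ι (le_top : W ≤ ⊤) τ₁
    rw [hρ]
    erw [this, hτ₁]
    rw [map_pow]
    rfl
  obtain ⟨e, he⟩ := isNilpotent_of_app_eq_zero ι hsurj hW c hc0
  have h0 : (p : Γ(U, W)) = 0 := FrobSch.natCast_eq_zero_app U p W
  have h3 : c ^ p ^ e = 0 := Groth.Agent.Lib.helper2.UHAffine.pow_p_pow_eq_zero p c he le_rfl
  rw [hc, Groth.Agent.Lib.helper2.UHAffine.sub_pow_p_pow p h0, sub_eq_zero, ← pow_mul] at h3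
  have hpos : 0 < p ^ n₁ * p ^ e :=
    Nat.mul_pos (pow_pos hp.out.pos _) (pow_pos hp.out.pos _)
  refine ⟨p ^ n₁ * p ^ e - 1, τ₁ ^ p ^ e, ?_, ?_⟩
  · rw [Nat.sub_add_cancel hpos, h3, map_pow]
  · rw [Nat.sub_add_cancel hpos, map_pow, hτ₁, ← pow_mul]
    rfl

end RingP

section LiftsP

open Groth.Agent.Lib.helper2.AWNScheme

variable {X Z : Scheme.{u}} (i : Z ⟶ X)

/-- over the empty open everything lifts -/
theorem Lifts.bot {N : X.Modules} (hN : PicF.IsInvertible N)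
    (g : Coh.structureModule Z ⟶ (Scheme.Modules.pullback i).obj N) {V : X.Opens}
    (hg : CohB1.genLocus _ g = i ⁻¹ᵁ V) : Lifts i (N := N) V ⊥ := by
  have hN₁ : PicF.IsInvertible (CohB1.tensorPow N 1) := isInvertible_tensorPow hN 1
  let e : (Scheme.Modules.pullback i).obj N ≅ (Scheme.Modules.pullback i).obj (CohB1.tensorPow N 1) :=
    (Scheme.Modules.pullback i).mapIso (Groth.Agent.Lib.Lead.ModTensor.tensorPowOne N).symm
  refine ⟨CohB1.tensorPow N 1, hN₁, 0, ⟨Iso.refl _⟩, g ≫ e.hom,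
    (Groth.Agent.Lib.helper11.IsoLocus.genLocus_comp_iso g e).trans hg, 0, ?_⟩
  exact eq_of_cover _ (fun j : Empty => j.elim) (i ⁻¹ᵁ ⊥) (fun j => j.elim)
    (fun z hz => hz.elim) _ _ (fun j => j.elim)

/-- the gluing step for a universal homeomorphism in characteristic `p` -/
theorem Lifts.stepP (p : ℕ) [hp : Fact p.Prime] [FrobSch.IsCharP X p] (hi : FlatMor.IsUnivHomeo i)
    [QuasiSeparatedSpace X]
    {N : X.Modules} {V W U : X.Opens} (hWc : IsCompact (W : Set X))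
    (hU : IsAffineOpen U) (hUN : IsTrivOn N U) (hL : Lifts i (N := N) V W) :
    Lifts i (N := N) V (W ⊔ U) := by
  obtain ⟨N₁, hN₁, k, ⟨e⟩, g₁, hg₁, s, hs⟩ := hL
  obtain ⟨e₁⟩ : IsTrivOn N₁ U := IsTrivOn.of_iso e.symm (isTrivOn_tensorPow hUN (k + 1))
  haveI : IsAffine (↑U : Scheme.{u}) := hU
  haveI : FrobSch.IsCharP (↑U : Scheme.{u}) p := FrobSch.IsCharP.of_hom U.ι p
  have hiU : FlatMor.IsUnivHomeo (i ∣_ U) := IsZariskiLocalAtTarget.restrict hi _
  have hW'c : IsCompact ((U.ι ⁻¹ᵁ W : (↑U : Scheme.{u}).Opens) : Set (↑U : Scheme.{u})) := by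
    rw [U.ι.isOpenEmbedding.isInducing.isCompact_iff]
    have : (U.ι : _ → _) '' ((U.ι ⁻¹ᵁ W : (↑U : Scheme.{u}).Opens) : Set _) = (W : Set X) ∩ U := by
      rw [show ((U.ι ⁻¹ᵁ W : (↑U : Scheme.{u}).Opens) : Set (↑U : Scheme.{u})) = U.ι ⁻¹' W from rfl,
        Set.image_preimage_eq_inter_range]
      simp
    rw [this]
    exact QuasiSeparatedSpace.inter_isCompact _ _ W.2 hWc U.2 hU.isCompact
  obtain ⟨a, s', hs'⟩ := stepH i hN₁ g₁ s hs e₁
    (fun σ hσ => ringStepP p (i ∣_ U) hiU _ hW'c σ hσ)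
  have hpos : 0 < (k + 1) * (a + 1) := Nat.mul_pos (Nat.succ_pos k) (Nat.succ_pos a)
  refine ⟨CohB1.tensorPow N₁ (a + 1), isInvertible_tensorPow hN₁ (a + 1), (k + 1) * (a + 1) - 1, ⟨?_⟩,
    powPull i hN₁ g₁ (a + 1), (genLocus_powPull i hN₁ g₁ a).trans hg₁, s', hs'⟩
  refine Groth.Agent.Lib.helper12.AmplePow.tensorPowIso e (a + 1) ≪≫
    Groth.Agent.Lib.helper12.TensorPowAdd.tensorPowMul N (k + 1) (a + 1) ≪≫ eqToIso ?_
  rw [Nat.sub_add_cancel hpos]

/-- **Lifting a power of a section along a universal homeomorphism in characteristic `p`.** -/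
theorem exists_section_genLocus_eqP (p : ℕ) [hp : Fact p.Prime] [FrobSch.IsCharP X p]
    (hi : FlatMor.IsUnivHomeo i)
    [CompactSpace X] [QuasiSeparatedSpace X] {N : X.Modules} (hN : PicF.IsInvertible N)
    (g : Coh.structureModule Z ⟶ (Scheme.Modules.pullback i).obj N) {V : X.Opens}
    (hg : CohB1.genLocus _ g = i ⁻¹ᵁ V) :
    ∃ (k : ℕ) (s : Coh.structureModule X ⟶ CohB1.tensorPow N (k + 1)), CohB1.genLocus _ s = V := by
  classical
  have hsurj : Function.Surjective i := (isHomeomorph_of_isUnivHomeo i hi).surjective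
  have hex : ∀ x : X, ∃ U : X.Opens, IsAffineOpen U ∧ x ∈ U ∧ IsTrivOn N U := fun x => by
    obtain ⟨U, h1, h2, -, h3⟩ := exists_affine_isTrivOn hN x ⊤ trivial
    exact ⟨U, h1, h2, h3⟩
  choose U hUaff hxU hUtriv using hex
  obtain ⟨T, hT⟩ := isCompact_univ.elim_finite_subcover
    (fun x : X => ((U x : X.Opens) : Set X)) (fun x => (U x).isOpen)
    (fun x _ => Set.mem_iUnion.mpr ⟨x, hxU x⟩)
  have key : ∀ F : Finset X, Lifts i (N := N) V (F.sup U) := by
    intro F
    induction F using Finset.induction_on with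
    | empty =>
      exact (Lifts.bot i hN g hg).mono i (by simp)
    | insert a F ha ih =>
      have hc : IsCompact ((F.sup U : X.Opens) : Set X) :=
        isCompact_finset_sup F U fun b _ => (hUaff b).isCompact
      have h1 := Lifts.stepP i p hi hc (hUaff a) (hUtriv a) ih
      refine h1.mono i ?_
      rw [Finset.sup_insert]
      exact sup_le le_sup_right le_sup_left
  have htop : (⊤ : X.Opens) ≤ T.sup U := by
    intro x _
    have hx : x ∈ ⋃ a ∈ T, ((U a : X.Opens) : Set X) := hT (Set.mem_univ x)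
    simp only [Set.mem_iUnion] at hx
    obtain ⟨a, haT, hxa⟩ := hx
    exact (Finset.le_sup (f := U) haT) hxa
  exact exists_section_of_lifts_top i hsurj ((key T).mono i htop)

/-- **Ampleness descends along universal homeomorphisms in characteristic `p`**: `i : Z ⟶ X` a universal
homeomorphism of `𝔽_p`-schemes, `L` invertible on `X` with `i^*L` ample; then `L` is ample. -/
theorem isAmple_of_isUnivHomeo_charP (p : ℕ) [hp : Fact p.Prime] [FrobSch.IsCharP X p]
    (hi : FlatMor.IsUnivHomeo i) {L : X.Modules}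
    (hL : PicF.IsInvertible L) (h : CohB1.IsAmple ((Scheme.Modules.pullback i).obj L)) :
    CohB1.IsAmple L := by
  have hhomeo : IsHomeomorph i := isHomeomorph_of_isUnivHomeo i hi
  have hsurj : Function.Surjective i := hhomeo.surjective
  haveI : CompactSpace Z := h.2.1
  haveI : CompactSpace X := by
    constructor
    rw [← hsurj.range_eq]
    exact isCompact_range i.continuous
  haveI : Z.IsSeparated := Groth.Agent.Lib.helper12.AmpleSep.isSeparated_of_isAmple h
  haveI : QuasiSeparatedSpace Z := inferInstance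
  haveI : QuasiSeparatedSpace X :=
    QuasiSeparatedSpace.of_isOpenEmbedding hhomeo.homeomorph.symm.isOpenEmbedding
  refine ⟨hL, inferInstance, fun x => ?_⟩
  obtain ⟨z, rfl⟩ := hsurj x
  obtain ⟨n, g', hz, haff⟩ := h.2.2 z
  set N := CohB1.tensorPow L (n + 1) with hNdef
  have hN : PicF.IsInvertible N := isInvertible_tensorPow hL (n + 1)
  let g : Coh.structureModule Z ⟶ (Scheme.Modules.pullback i).obj N :=
    g' ≫ (pullTensorPowIso i hL (n + 1)).inv
  have hgg' : CohB1.genLocus _ g = CohB1.genLocus _ g' :=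
    Groth.Agent.Lib.helper11.IsoLocus.genLocus_comp_iso g' (pullTensorPowIso i hL (n + 1)).symm
  let V : X.Opens := ⟨i '' (CohB1.genLocus _ g' : Set Z), hhomeo.isOpenMap _ (CohB1.genLocus _ g').isOpen⟩
  have hV : i ⁻¹ᵁ V = CohB1.genLocus _ g' := by
    ext y
    change i y ∈ i '' (CohB1.genLocus _ g' : Set Z) ↔ _
    rw [hhomeo.injective.mem_set_image]
  have hVaff : IsAffineOpen V := by
    haveI : FrobSch.IsCharP (↑V : Scheme.{u}) p := FrobSch.IsCharP.of_hom V.ι p
    have h1 : FlatMor.IsUnivHomeo (i ∣_ V) := IsZariskiLocalAtTarget.restrict hi _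
    haveI : IsAffine (↑(i ⁻¹ᵁ V) : Scheme.{u}) := by
      have : IsAffineOpen (i ⁻¹ᵁ V) := hV ▸ haff
      exact this
    exact Groth.Agent.Lib.helper2.UHAffine.isAffine_of_isUnivHomeo p (i ∣_ V) h1
  obtain ⟨k, s, hs⟩ := exists_section_genLocus_eqP i p hi hN g (hgg'.trans hV.symm)
  have hpos : 0 < (n + 1) * (k + 1) := Nat.mul_pos (Nat.succ_pos n) (Nat.succ_pos k)
  have heq : (n + 1) * (k + 1) = ((n + 1) * (k + 1) - 1) + 1 := (Nat.sub_add_cancel hpos).symm
  let E : CohB1.tensorPow N (k + 1) ≅ CohB1.tensorPow L (((n + 1) * (k + 1) - 1) + 1) :=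
    Groth.Agent.Lib.helper12.TensorPowAdd.tensorPowMul L (n + 1) (k + 1) ≪≫ eqToIso (by rw [← heq])
  refine ⟨(n + 1) * (k + 1) - 1, s ≫ E.hom, ?_, ?_⟩
  · rw [Groth.Agent.Lib.helper11.IsoLocus.genLocus_comp_iso, hs]
    exact ⟨z, hz, rfl⟩
  · rw [Groth.Agent.Lib.helper11.IsoLocus.genLocus_comp_iso, hs]
    exact hVaff

end LiftsP

end Groth.Agent.Lib.helper11.ThickAmp
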