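import Mathlib
import Groth.Prelude.Def_Formal2
import Groth.Agent.Lib.Helper8.FormalBasic

set_option autoImplicit false
universe u v
open CategoryTheory CategoryTheory.Limits AlgebraicGeometry Opposite

namespace Groth.Agent.Lib.helper11.ThirdIso

section Abstract

variable {C : Type u} [Category.{v} C] [Abelian C]

/-- third isomorphism theorem in an abelian category: for `c = b ≫ a` with `a` a monomorphism,
`0 → coker b → coker c → coker a → 0` is exact. -/
theorem shortExact_of_cokernels {F Cb Cc Ca : C} (a b c : F ⟶ F) [Mono a] (hc : c = b ≫ a)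
    (qa : F ⟶ Ca) (qb : F ⟶ Cb) (qc : F ⟶ Cc)
    (wa : a ≫ qa = 0) (wb : b ≫ qb = 0) (wc : c ≫ qc = 0)
    (ha : IsColimit (CokernelCofork.ofπ qa wa)) (hb : IsColimit (CokernelCofork.ofπ qb wb))
    (hcc : IsColimit (CokernelCofork.ofπ qc wc))
    (i : Cb ⟶ Cc) (t : Cc ⟶ Ca) (hi : qb ≫ i = a ≫ qc) (ht : qc ≫ t = qa) :
    Mono i ∧ ∃ w : i ≫ t = 0, (ShortComplex.mk i t w).ShortExact := by
  haveI : Epi qa := epi_of_isColimit_cofork ha
  haveI : Epi qb := epi_of_isColimit_cofork hb
  haveI : Epi qc := epi_of_isColimit_cofork hcc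
  have exa : (ShortComplex.mk a qa wa).Exact := ShortComplex.exact_of_g_is_cokernel _ ha
  have exc : (ShortComplex.mk c qc wc).Exact := ShortComplex.exact_of_g_is_cokernel _ hcc
  have hmono : Mono i := by
    refine Preadditive.mono_of_cancel_zero _ (fun {P} g hg => ?_)
    obtain ⟨P', π, hπ, x, hx⟩ := surjective_up_to_refinements_of_epi qb g
    have h1 : (x ≫ a) ≫ qc = 0 := by
      rw [Category.assoc, ← hi, ← Category.assoc, ← hx, Category.assoc, hg, comp_zero]
    obtain ⟨P'', π', hπ', y, hy⟩ := exc.exact_up_to_refinements (x ≫ a) h1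
    dsimp at y hy
    have h2 : π' ≫ x = y ≫ b := by
      rw [← cancel_mono a, Category.assoc, Category.assoc, ← hc, hy]
    have h3 : (π' ≫ π) ≫ g = 0 := by
      rw [Category.assoc, hx, ← Category.assoc, h2, Category.assoc, wb, comp_zero]
    haveI : Epi (π' ≫ π) := epi_comp _ _
    exact (cancel_epi (π' ≫ π)).mp (h3.trans comp_zero.symm)
  have w : i ≫ t = 0 := by
    rw [← cancel_epi qb, ← Category.assoc, hi, Category.assoc, ht, wa, comp_zero]
  refine ⟨hmono, w, ?_⟩
  haveI : Epi t := by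
    have : Epi (qc ≫ t) := by rw [ht]; infer_instance
    exact epi_of_epi qc t
  haveI := hmono
  refine ShortComplex.ShortExact.mk' ?_ hmono ‹Epi t›
  rw [ShortComplex.exact_iff_exact_up_to_refinements]
  intro P x₂ hx₂
  dsimp at x₂ hx₂
  obtain ⟨P', π, hπ, x, hx⟩ := surjective_up_to_refinements_of_epi qc x₂
  have h1 : x ≫ qa = 0 := by
    rw [← ht, ← Category.assoc, ← hx, Category.assoc, hx₂, comp_zero]
  obtain ⟨P'', π', hπ', y, hy⟩ := exa.exact_up_to_refinements x h1
  dsimp at y hy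
  haveI : Epi (π' ≫ π) := epi_comp _ _
  refine ⟨P'', π' ≫ π, inferInstance, y ≫ qb, ?_⟩
  dsimp
  rw [Category.assoc, hx, ← Category.assoc, hy, Category.assoc, Category.assoc, hi]

end Abstract

section Concrete

open Formal Groth.Agent.Lib.helper8.FF

variable {A : Type u} [CommRing A] {X : Scheme.{u}} [X.Over (Spec (CommRingCat.of A))]

instance epi_modPowπ (I : Ideal A) (k : ℕ) (F : X.Modules) : Epi (modPowπ I k F) :=
  inferInstanceAs (Epi (cokernel.π (smulFamily (I ^ k) F)))

lemma smulMod_pow_comp_modPowπ (f : A) (k : ℕ) (F : X.Modules) :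
    smulMod A F (f ^ k) ≫ modPowπ (Ideal.span {f}) k F = 0 := by
  have hmem : f ^ k ∈ (Ideal.span {f}) ^ k := Ideal.pow_mem_pow (Ideal.mem_span_singleton_self f) _
  have h := ι_smulFamily ((Ideal.span {f}) ^ k) F ⟨f ^ k, hmem⟩
  rw [← h, Category.assoc]
  exact (congrArg (fun z => Sigma.ι (fun _ : ((Ideal.span {f}) ^ k : Ideal A) => F) ⟨f ^ k, hmem⟩ ≫ z)
    (cokernel.condition (smulFamily ((Ideal.span {f}) ^ k) F))).trans comp_zero

/-- `F ⟶ F/(f)^k F` is a cokernel of multiplication by `f^k` -/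
noncomputable def isColimitModPowπ (f : A) (k : ℕ) (F : X.Modules) :
    IsColimit (CokernelCofork.ofπ (modPowπ (Ideal.span {f}) k F) (smulMod_pow_comp_modPowπ f k F)) :=
  CokernelCofork.IsColimit.ofπ' _ _ (fun {Z} g hg => by
    have h0 : smulFamily ((Ideal.span {f}) ^ k) F ≫ g = 0 := by
      apply smulFamily_comp_eq_zero
      intro a ha
      rw [Ideal.span_singleton_pow, Ideal.mem_span_singleton'] at ha
      obtain ⟨b, rfl⟩ := ha
      rw [smulMod_mul, Category.assoc, smulMod_naturality g b, ← Category.assoc, hg, zero_comp]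
    exact ⟨cokernel.desc _ g h0, cokernel.π_desc _ _ _⟩)

lemma mono_smulMod_pow (f : A) (F : X.Modules) (hF : Mono (smulMod A F f)) (k : ℕ) :
    Mono (smulMod A F (f ^ k)) := by
  induction k with
  | zero =>
    rw [pow_zero, smulMod_one]
    infer_instance
  | succ k ih =>
    rw [pow_succ, smulMod_mul]
    exact mono_comp _ _

/-- **S8821** -/
theorem main (f : A) (F : X.Modules) (hF : Mono (smulMod A F f)) (n : ℕ) :
    ∃ i : modPow (Ideal.span ({f} : Set A)) 1 F ⟶ modPow (Ideal.span ({f} : Set A)) (n + 1) F,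
      Mono i ∧
      Formal2.modPowLE (Ideal.span ({f} : Set A)) (Nat.le_add_left 1 n) F ≫ i =
        smulMod A (modPow (Ideal.span ({f} : Set A)) (n + 1) F) (f ^ n) ∧
      ∃ w : i ≫ modPowTrans (Ideal.span ({f} : Set A)) n F = 0,
        (ShortComplex.mk i (modPowTrans (Ideal.span ({f} : Set A)) n F) w).ShortExact := by
  haveI := mono_smulMod_pow f F hF n
  have hc : smulMod A F (f ^ (n + 1)) = smulMod A F (f ^ 1) ≫ smulMod A F (f ^ n) := by
    rw [pow_succ, pow_one, smulMod_mul]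
  have w0 : smulMod A F (f ^ 1) ≫ smulMod A F (f ^ n) ≫ modPowπ (Ideal.span {f}) (n + 1) F = 0 := by
    rw [← Category.assoc, ← hc, smulMod_pow_comp_modPowπ]
  let i : modPow (Ideal.span ({f} : Set A)) 1 F ⟶ modPow (Ideal.span ({f} : Set A)) (n + 1) F :=
    (isColimitModPowπ f 1 F).desc (CokernelCofork.ofπ _ w0)
  have hi : modPowπ (Ideal.span {f}) 1 F ≫ i =
      smulMod A F (f ^ n) ≫ modPowπ (Ideal.span {f}) (n + 1) F :=
    (isColimitModPowπ f 1 F).fac (CokernelCofork.ofπ _ w0) WalkingParallelPair.one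
  obtain ⟨hm, w, hse⟩ := shortExact_of_cokernels (smulMod A F (f ^ n)) (smulMod A F (f ^ 1))
    (smulMod A F (f ^ (n + 1))) hc _ _ _ _ _ _ (isColimitModPowπ f n F) (isColimitModPowπ f 1 F)
    (isColimitModPowπ f (n + 1) F) i (modPowTrans (Ideal.span ({f} : Set A)) n F) hi
    (modPowπ_trans _ n F)
  refine ⟨i, hm, ?_, w, hse⟩
  rw [← cancel_epi (modPowπ (Ideal.span {f}) (n + 1) F), ← Category.assoc,
    Formal2.modPowπ_modPowLE, hi, smulMod_naturality]

end Concrete

end Groth.Agent.Lib.helper11.ThirdIso
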