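import Mathlib

set_option autoImplicit false
universe u

namespace Groth.Agent.Lib.helper11.TowerLim

/-- an inverse system of modules `M n` (thought of as `M/f^(n+1)M`) with the maps `i n : M n → M (n+1)`
(thought of as multiplication by `f`), as in Stacks 09AT-type statements. -/
structure Tower (R : Type u) [CommRing R] (f : R) where
  M : ℕ → Type u
  [acg : ∀ n, AddCommGroup (M n)]
  [mod : ∀ n, Module R (M n)]
  T : ∀ {k n : ℕ}, k ≤ n → M n →ₗ[R] M k
  T_refl : ∀ (n : ℕ) (x : M n), T (le_refl n) x = x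
  T_trans : ∀ {k m n : ℕ} (h₁ : k ≤ m) (h₂ : m ≤ n) (x : M n), T h₁ (T h₂ x) = T (h₁.trans h₂) x
  i : ∀ n, M n →ₗ[R] M (n + 1)
  i_inj : ∀ n, Function.Injective (i n)
  it : ∀ n (x : M (n + 1)), i n (T (Nat.le_succ n) x) = f • x
  τi : ∀ n (x : M n), T (Nat.zero_le (n + 1)) (i n x) = 0
  exact : ∀ n (x : M (n + 1)), T (Nat.zero_le (n + 1)) x = 0 → ∃ y, i n y = x
  τ_surj : ∀ n, Function.Surjective (T (Nat.zero_le (n + 1)))

attribute [instance] Tower.acg Tower.mod

namespace Tower

variable {R : Type u} [CommRing R] {f : R} (W : Tower R f)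

/-- the one-step transition -/
abbrev t (n : ℕ) : W.M (n + 1) →ₗ[R] W.M n := W.T (Nat.le_succ n)

lemma f_smul_zero (x : W.M 0) : f • x = 0 := by
  obtain ⟨y, rfl⟩ := W.τ_surj 0 x
  have h1 : f • W.T (Nat.zero_le (0 + 1)) y = W.T (Nat.zero_le (0 + 1)) (f • y) := (map_smul _ _ _).symm
  rw [h1, ← W.it 0 y]
  exact W.τi 0 _

lemma f_pow_smul_zero : ∀ (n : ℕ) (x : W.M n), f ^ (n + 1) • x = 0
  | 0, x => by rw [zero_add, pow_one]; exact W.f_smul_zero x
  | n + 1, x => by
    rw [pow_succ, mul_smul, ← W.it n x, ← map_smul, f_pow_smul_zero n, map_zero]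

lemma t_surj : ∀ n, Function.Surjective (W.t n)
  | 0 => W.τ_surj 0
  | n + 1 => by
    intro x
    have ih := t_surj n
    -- decomposition `w = t y + f w'`
    have hdec : ∀ w : W.M (n + 1), ∃ (y : W.M (n + 2)) (w' : W.M (n + 1)),
        w = W.t (n + 1) y + f • w' := by
      intro w
      obtain ⟨y, hy⟩ := W.τ_surj (n + 1) (W.T (Nat.zero_le (n + 1)) w)
      have h0 : W.T (Nat.zero_le (n + 1)) (w - W.t (n + 1) y) = 0 := by
        rw [map_sub, W.T_trans, hy, sub_self]
      obtain ⟨z, hz⟩ := W.exact n _ h0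
      obtain ⟨w', rfl⟩ := ih z
      refine ⟨y, w', ?_⟩
      rw [← W.it n w', hz]
      abel
    have key : ∀ j : ℕ, ∃ (y : W.M (n + 2)) (w : W.M (n + 1)), x = W.t (n + 1) y + f ^ j • w := by
      intro j
      induction j with
      | zero => exact ⟨0, x, by simp⟩
      | succ j ihj =>
        obtain ⟨y, w, hyw⟩ := ihj
        obtain ⟨y', w', hw⟩ := hdec w
        refine ⟨y + f ^ j • y', w', ?_⟩
        rw [hyw, hw, map_add, map_smul, smul_add, pow_succ, mul_smul]
        abel
    obtain ⟨y, w, hyw⟩ := key (n + 2)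
    rw [W.f_pow_smul_zero (n + 1) w, add_zero] at hyw
    exact ⟨y, hyw.symm⟩

lemma ti (n : ℕ) (x : W.M n) : W.t n (W.i n x) = f • x := by
  obtain ⟨z, rfl⟩ := W.t_surj n x
  rw [W.it n z, map_smul]

/-- the limit of the tower -/
def lim : Submodule R (∀ n, W.M n) where
  carrier := {y | ∀ n, W.t n (y (n + 1)) = y n}
  add_mem' := by
    intro a b ha hb n
    simp only [Pi.add_apply, map_add, ha n, hb n]
  zero_mem' := by intro n; simp
  smul_mem' := by
    intro c a ha n
    simp only [Pi.smul_apply, map_smul, ha n]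

lemma T_of_mem_lim {y : ∀ n, W.M n} (hy : y ∈ W.lim) {k n : ℕ} (h : k ≤ n) : W.T h (y n) = y k := by
  induction n, h using Nat.le_induction with
  | base => exact W.T_refl k _
  | succ n h ih =>
    rw [← W.T_trans h (Nat.le_succ n), ← ih]
    exact congrArg _ (hy n)

/-- (A1) the projections from the limit are surjective -/
theorem proj_surjective (n : ℕ) (x : W.M n) : ∃ y ∈ W.lim, y n = x := by
  classical
  let s : ∀ k, W.M k → W.M (k + 1) := fun k => Function.surjInv (W.t_surj k)
  have hs : ∀ k z, W.t k (s k z) = z := fun k z => Function.surjInv_eq (W.t_surj k) z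
  let y : ∀ k, W.M k := fun k => Nat.rec (motive := fun k => W.M k) (W.T (Nat.zero_le n) x)
    (fun k yk => if h : k + 1 ≤ n then W.T h x else s k yk) k
  have y_succ : ∀ k, y (k + 1) = if h : k + 1 ≤ n then W.T h x else s k (y k) := fun k => rfl
  have y_le : ∀ k (h : k ≤ n), y k = W.T h x := by
    intro k h
    cases k with
    | zero => rfl
    | succ k => rw [y_succ, dif_pos h]
  refine ⟨y, fun k => ?_, ?_⟩
  · by_cases h : k + 1 ≤ n
    · rw [y_le (k + 1) h, y_le k ((Nat.le_succ k).trans h)]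
      exact W.T_trans _ _ _
    · rw [y_succ, dif_neg h]
      exact hs k _
  · rw [y_le n le_rfl]
    exact W.T_refl n x

/-- (A2) `f` is injective on the limit -/
theorem smul_injective {y : ∀ n, W.M n} (hy : y ∈ W.lim) (h : f • y = 0) : y = 0 := by
  funext k
  have h1 : f • y (k + 1) = 0 := congrFun h (k + 1)
  rw [← W.it k (y (k + 1)), hy k] at h1
  exact W.i_inj k (h1.trans (map_zero _).symm)

/-- (A3), level `0` -/
theorem exists_smul_eq_of_zero {y : ∀ n, W.M n} (hy : y ∈ W.lim) (h0 : y 0 = 0) :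
    ∃ z ∈ W.lim, f • z = y := by
  have h1 : ∀ k, ∃ z : W.M k, W.i k z = y (k + 1) := by
    intro k
    apply W.exact k
    rw [W.T_of_mem_lim hy, h0]
  choose z hz using h1
  have hzlim : z ∈ W.lim := by
    intro k
    apply W.i_inj k
    rw [W.it k (z (k + 1)), hz k, ← hy (k + 1), ← hz (k + 1), W.ti]
  refine ⟨z, hzlim, ?_⟩
  funext k
  show f • z k = y k
  rw [← W.ti k (z k), hz k, hy k]

/-- (A3) the kernel of the projection to level `n` is `f^(n+1)` times the limit -/
theorem exists_pow_smul_eq_of_zero : ∀ (n : ℕ) {y : ∀ n, W.M n} (_ : y ∈ W.lim) (_ : y n = 0),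
    ∃ z ∈ W.lim, f ^ (n + 1) • z = y
  | 0, y, hy, h0 => by
    obtain ⟨z, hz, hzy⟩ := W.exists_smul_eq_of_zero hy h0
    exact ⟨z, hz, by rw [zero_add, pow_one]; exact hzy⟩
  | n + 1, y, hy, hn => by
    have h0 : y 0 = 0 := by rw [← W.T_of_mem_lim hy (Nat.zero_le (n + 1)), hn, map_zero]
    obtain ⟨z, hz, hzy⟩ := W.exists_smul_eq_of_zero hy h0
    have hzn : z n = 0 := by
      have h1 : f • z (n + 1) = 0 := by
        have := congrFun hzy (n + 1)
        rw [hn] at this
        exact this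
      rw [← W.it n (z (n + 1)), hz n] at h1
      exact W.i_inj n (h1.trans (map_zero _).symm)
    obtain ⟨z', hz', hzz⟩ := exists_pow_smul_eq_of_zero n hz hzn
    refine ⟨z', hz', ?_⟩
    rw [pow_succ, mul_comm, mul_smul, hzz, hzy]

end Tower

end Groth.Agent.Lib.helper11.TowerLim
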