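import Mathlib
import Groth.Prelude.Def_Formal
import Groth.Agent.Lib.Helper11.TowerLim1
import Groth.Agent.Lib.Lead.GE2
import Groth.Agent.Lib.Helper8.FormalTorsion

set_option autoImplicit false
universe u
open CategoryTheory CategoryTheory.Limits AlgebraicGeometry Opposite TopologicalSpace

namespace Groth.Agent.Lib.helper11.TowerLim

open Formal Groth.Agent.Lib.helper8.FF Groth.Agent.Lib.helper8.Rees Groth.Agent.Lib.helper8.Rees.Sys
  Groth.Agent.Lib.Lead.GE Scheme.Modules

variable {A : Type u} [CommRing A] {X : Scheme.{u}} [X.Over (Spec (CommRingCat.of A))]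

/-- the data of S8830 -/
structure SysData (f : A) (G : ℕᵒᵖ ⥤ X.Modules) where
  qc : ∀ n : ℕ, (G.obj (op n)).IsQuasicoherent
  i : ∀ n : ℕ, G.obj (op n) ⟶ G.obj (op (n + 1))
  mono : ∀ n, Mono (i n)
  it : ∀ n, G.map (homOfLE (Nat.le_succ n)).op ≫ i n = smulMod A (G.obj (op (n + 1))) f
  w : ∀ n, i n ≫ G.map (homOfLE (Nat.zero_le (n + 1))).op = 0
  se : ∀ n, (ShortComplex.mk (i n) (G.map (homOfLE (Nat.zero_le (n + 1))).op) (w n)).ShortExact

variable {f : A} {G : ℕᵒᵖ ⥤ X.Modules} (D : SysData f G)

/-- the tower of sections over an affine open -/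
noncomputable def SysData.tower {U : X.Opens} (hU : IsAffineOpen U) : Tower Γ(X, U) (resA A U f) where
  M n := Γ(G.obj (op n), U)
  T h := appLin (G.map (homOfLE h).op) U
  T_refl n x := by
    have : G.map (homOfLE (le_refl n)).op = 𝟙 _ := G.map_id _
    rw [this]
    rfl
  T_trans h₁ h₂ x := by
    have : G.map (homOfLE (h₁.trans h₂)).op = G.map (homOfLE h₂).op ≫ G.map (homOfLE h₁).op := by
      rw [← G.map_comp]; rfl
    rw [this]
    rfl
  i n := appLin (D.i n) U
  i_inj n := by
    haveI := D.mono n
    exact appLin_injective_of_mono (D.i n) U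
  it n x := by
    have h := congrArg (fun φ => appLin φ U x) (D.it n)
    exact h
  τi n x := by
    have h := congrArg (fun φ => appLin φ U x) (D.w n)
    exact h
  exact n x hx := by
    haveI := D.qc n
    haveI := D.qc (n + 1)
    haveI := D.qc 0
    let S := ShortComplex.mk (D.i n) (G.map (homOfLE (Nat.zero_le (n + 1))).op) (D.w n)
    haveI : S.X₁.IsQuasicoherent := D.qc n
    haveI : S.X₂.IsQuasicoherent := D.qc (n + 1)
    haveI : S.X₃.IsQuasicoherent := D.qc 0
    exact exists_appLin_eq_of_exact S (D.se n).exact hU x hx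
  τ_surj n := by
    haveI := D.qc (n + 1)
    haveI := D.qc 0
    haveI : Epi (G.map (homOfLE (Nat.zero_le (n + 1))).op) := (D.se n).epi_g
    exact appLin_surjective_of_epi (G.map (homOfLE (Nat.zero_le (n + 1))).op) hU

section Limit

variable (G)

/-- the family of images in the `G_n(U)` of a section of `lim G` over `U` -/
noncomputable def Φ (U : X.Opens) (y : Γ(limit G, U)) : ∀ n : ℕ, Γ(G.obj (op n), U) :=
  fun n => appLin (limit.π G (op n)) U y

lemma Φ_compat (U : X.Opens) (y : Γ(limit G, U)) {k n : ℕ} (h : k ≤ n) :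
    appLin (G.map (homOfLE h).op) U (Φ G U y n) = Φ G U y k := by
  have h1 : limit.π G (op n) ≫ G.map (homOfLE h).op = limit.π G (op k) := limit.w G _
  exact congrArg (fun φ => appLin φ U y) h1

/-- the limit cone on sections over `U`, in types -/
noncomputable def isLimitSec (U : X.Opens) :
    IsLimit ((forget (ModuleCat Γ(X, U))).mapCone
      ((SheafOfModules.evaluation X.ringCatSheaf (op U)).mapCone (limit.cone G))) :=
  isLimitOfPreserves (forget (ModuleCat Γ(X, U)))
    (isLimitOfPreserves (SheafOfModules.evaluation X.ringCatSheaf (op U)) (limit.isLimit G))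

lemma Φ_injective (U : X.Opens) : Function.Injective (Φ G U) := by
  intro y y' h
  apply (Types.isLimitEquivSections (isLimitSec G U)).injective
  apply Subtype.ext
  funext j
  induction j using Opposite.rec with | _ n => ?_
  rw [Types.isLimitEquivSections_apply, Types.isLimitEquivSections_apply]
  exact congrFun h n

lemma Φ_surjective (U : X.Opens) (z : ∀ n : ℕ, Γ(G.obj (op n), U))
    (hz : ∀ {k n : ℕ} (h : k ≤ n), appLin (G.map (homOfLE h).op) U (z n) = z k) :
    ∃ y, Φ G U y = z := by
  let σ : ((G ⋙ SheafOfModules.evaluation X.ringCatSheaf (op U)) ⋙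
      forget (ModuleCat Γ(X, U))).sections :=
    ⟨fun j => z j.unop, by
      intro j j' φ
      induction j using Opposite.rec with | _ n => ?_
      induction j' using Opposite.rec with | _ k => ?_
      have h : k ≤ n := φ.unop.le
      have e : φ = (homOfLE h).op := rfl
      rw [e]
      exact hz h⟩
  refine ⟨(Types.isLimitEquivSections (isLimitSec G U)).symm σ, ?_⟩
  funext n
  exact Types.isLimitEquivSections_symm_apply (isLimitSec G U) σ (op n)

end Limit

section Main

open Groth.Agent.Lib.helper16.QCohEpi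

include D

lemma Φ_mem_lim {U : X.Opens} (hU : IsAffineOpen U) (y : Γ(limit G, U)) :
    Φ G U y ∈ (D.tower hU).lim := fun n => Φ_compat G U y (Nat.le_succ n)

/-- the projections from the limit are epimorphisms -/
theorem epi_limitπ (n : ℕ) : Epi (limit.π G (op n)) := by
  refine epi_of_surjective_on_basis _ X.affineOpens X.isBasis_affineOpens (fun U hU x => ?_)
  obtain ⟨y, hy, hyn⟩ := (D.tower hU).proj_surjective n x
  obtain ⟨y', rfl⟩ := Φ_surjective G U y (fun h => (D.tower hU).T_of_mem_lim hy h)
  exact ⟨y', hyn⟩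

/-- multiplication by `f` is a monomorphism on the limit -/
theorem mono_smulMod_limit : Mono (smulMod A (limit G) f) := by
  refine mono_of_injective_on_basis _ X.affineOpens X.isBasis_affineOpens (fun U hU => ?_)
  have hinj : Function.Injective (appLin (smulMod A (limit G) f) U) := by
    rw [injective_iff_map_eq_zero]
    intro y hy
    rw [appLin_smulMod] at hy
    have h1 : resA A U f • Φ G U y = 0 := by
      funext n
      have : appLin (limit.π G (op n)) U (resA A U f • y) = 0 := by rw [hy, map_zero]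
      exact ((appLin (limit.π G (op n)) U).map_smul (resA A U f) y).symm.trans this
    have h2 := (D.tower hU).smul_injective (Φ_mem_lim D hU y) h1
    apply Φ_injective G U
    rw [h2]
    funext n
    exact (map_zero (appLin (limit.π G (op n)) U)).symm
  exact hinj

/-- `f^(n+1)` kills `G_n` -/
theorem smulMod_pow_eq_zero (n : ℕ) : smulMod A (G.obj (op n)) (f ^ (n + 1)) = 0 := by
  refine hom_ext_of_basis _ _ X.affineOpens X.isBasis_affineOpens (fun U hU x => ?_)
  have h1 : appLin (smulMod A (G.obj (op n)) (f ^ (n + 1))) U x = 0 := by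
    rw [appLin_smulMod, map_pow]
    exact (D.tower hU).f_pow_smul_zero n x
  exact h1

lemma smulMod_pow_comp_π (n : ℕ) :
    smulMod A (limit G) (f ^ (n + 1)) ≫ limit.π G (op n) = 0 := by
  rw [smulMod_naturality, smulMod_pow_eq_zero D n, comp_zero]

/-- the map `lim G ⟶ ker (lim G ⟶ G_n)` induced by `f^(n+1)` is an epimorphism -/
theorem epi_kernel_lift (n : ℕ) :
    Epi (kernel.lift (limit.π G (op n)) (smulMod A (limit G) (f ^ (n + 1)))
      (smulMod_pow_comp_π D n)) := by
  refine epi_of_surjective_on_basis _ X.affineOpens X.isBasis_affineOpens (fun U hU k => ?_)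
  -- the section of the limit named by `k`
  set s := appLin (kernel.ι (limit.π G (op n))) U k with hs
  have hs0 : appLin (limit.π G (op n)) U s = 0 := by
    rw [hs, ← appLin_comp_apply, kernel.condition, appLin_zero]
    rfl
  obtain ⟨z, hz, hzs⟩ := (D.tower hU).exists_pow_smul_eq_of_zero n (Φ_mem_lim D hU s) hs0
  obtain ⟨z', rfl⟩ := Φ_surjective G U z (fun h => (D.tower hU).T_of_mem_lim hz h)
  refine ⟨z', ?_⟩
  apply appLin_injective_of_mono (kernel.ι (limit.π G (op n))) U
  have h1 : appLin (kernel.ι (limit.π G (op n))) U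
      (appLin (kernel.lift (limit.π G (op n)) (smulMod A (limit G) (f ^ (n + 1)))
        (smulMod_pow_comp_π D n)) U z') = appLin (smulMod A (limit G) (f ^ (n + 1))) U z' := by
    rw [← appLin_comp_apply, kernel.lift_ι]
  refine h1.trans ?_
  rw [appLin_smulMod, map_pow]
  apply Φ_injective G U
  rw [← hzs]
  funext m
  exact map_smul (appLin (limit.π G (op m)) U) _ _

open Groth.Agent.Lib.helper8.FTors in
/-- `lim G ⟶ G_n` is the quotient by `(f)^(n+1)` -/
theorem isCok_limitπ (n : ℕ) :
    IsCok ((Ideal.span {f}) ^ (n + 1)) (limit.π G (op n)) := by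
  haveI := epi_limitπ D n
  haveI := epi_kernel_lift D n
  have hmem : f ^ (n + 1) ∈ (Ideal.span {f}) ^ (n + 1) :=
    Ideal.pow_mem_pow (Ideal.mem_span_singleton_self f) _
  have h0 : smulFamily ((Ideal.span {f}) ^ (n + 1)) (limit G) ≫ limit.π G (op n) = 0 := by
    apply smulFamily_comp_eq_zero
    intro a ha
    rw [Ideal.span_singleton_pow, Ideal.mem_span_singleton'] at ha
    obtain ⟨b, rfl⟩ := ha
    rw [smulMod_mul, Category.assoc, smulMod_naturality, smulMod_pow_eq_zero D n, comp_zero]
  refine isCok_of_isColimit h0 ?_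
  refine CokernelCofork.IsColimit.ofπ' _ _ (fun {Z} k hk => ?_)
  have hker : kernel.ι (limit.π G (op n)) ≫ k = 0 := by
    rw [← cancel_epi (kernel.lift (limit.π G (op n)) (smulMod A (limit G) (f ^ (n + 1)))
      (smulMod_pow_comp_π D n)), ← Category.assoc, kernel.lift_ι, comp_zero,
      ← ι_smulFamily ((Ideal.span {f}) ^ (n + 1)) (limit G) ⟨f ^ (n + 1), hmem⟩, Category.assoc,
      hk, comp_zero]
  exact ⟨(Abelian.epiIsCokernelOfKernel _ (kernelIsKernel (limit.π G (op n)))).desc
      (CokernelCofork.ofπ k hker),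
    (Abelian.epiIsCokernelOfKernel _ (kernelIsKernel (limit.π G (op n)))).fac
      (CokernelCofork.ofπ k hker) WalkingParallelPair.one⟩

end Main

section Assemble

open Groth.Agent.Lib.helper8.FTors

/-- a system of compatible quotient maps `F ⟶ G_n` identifies `G` with the completion of `F` -/
theorem nonempty_completion_iso (I : Ideal A) (F : X.Modules) (G : ℕᵒᵖ ⥤ X.Modules)
    (p : ∀ n : ℕ, F ⟶ G.obj (op n)) (hp : ∀ n, IsCok (I ^ (n + 1)) (p n))
    (hcompat : ∀ (n m : ℕ) (h : n ≤ m), p m ≫ G.map (homOfLE h).op = p n) :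
    Nonempty (Formal.completion I F ≅ G) := by
  choose θ hθ using fun n => (hp n).exists_iso
  refine ⟨NatIso.ofComponents (fun n => θ n.unop) ?_⟩
  intro m n f
  induction m using Opposite.rec with | _ m => ?_
  induction n using Opposite.rec with | _ n => ?_
  have h : n ≤ m := f.unop.le
  have ef : f = (homOfLE h).op := rfl
  rw [ef]
  have key : qπ (I ^ (m + 1)) F ≫
      ((Formal.completion I F).map (homOfLE h).op ≫ (θ n).hom) =
      qπ (I ^ (m + 1)) F ≫ ((θ m).hom ≫ G.map (homOfLE h).op) := by
    calc qπ (I ^ (m + 1)) F ≫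
          ((Formal.completion I F).map (homOfLE h).op ≫ (θ n).hom)
        = (qπ (I ^ (m + 1)) F ≫
          (Formal.completion I F).map (homOfLE h).op) ≫ (θ n).hom :=
          (Category.assoc _ _ _).symm
      _ = qπ (I ^ (n + 1)) F ≫ (θ n).hom :=
          congrArg (fun z => z ≫ (θ n).hom)
            (Groth.Agent.Lib.helper8.Rees.qπ_completion_map I F h)
      _ = p n := hθ n
      _ = p m ≫ G.map (homOfLE h).op := (hcompat n m h).symm
      _ = (qπ (I ^ (m + 1)) F ≫ (θ m).hom) ≫ G.map (homOfLE h).op := by rw [hθ m]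
      _ = _ := Category.assoc _ _ _
  exact (cancel_epi (qπ (I ^ (m + 1)) F)).mp key

/-- **S8830**: the limit of the system is `f`-torsion free with completion `G` -/
theorem main {f : A} {G : ℕᵒᵖ ⥤ X.Modules} (D : SysData f G) :
    ∃ F : X.Modules, Mono (smulMod A F f) ∧
      Nonempty (Formal.completion (Ideal.span {f}) F ≅ G) :=
  ⟨limit G, mono_smulMod_limit D,
    nonempty_completion_iso _ (limit G) G (fun n => limit.π G (op n)) (isCok_limitπ D)
      (fun _ _ h => limit.w G (homOfLE h).op)⟩

end Assemble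

end Groth.Agent.Lib.helper11.TowerLim
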