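import Mathlib
import Groth.Prelude.Def_ega3
import Groth.Agent.Lib.Helper2.TpEW
import Groth.Agent.Lib.Helper13.MLfp

/-!
# `M ↦ H_p(P ⊗ M)` commutes with products (helper11)

For a chain complex `P` of finite modules over a Noetherian ring `A`, the functor
`CohIII.TFun P p : M ↦ H_p(P ⊗_A M)` preserves arbitrary products.  (Used for S16719.)
-/

set_option autoImplicit false
universe u
open CategoryTheory CategoryTheory.Limits MonoidalCategory TensorProduct

namespace Groth.Agent.Lib.helper11.TpProd

open Groth.Agent.Lib.helper2.TpLib

noncomputable section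

variable {A : Type u} [CommRing A]

/-- For a finitely presented module `N`, the map `N ⊗ ∏ᶜ f → ∏ (N ⊗ f j)` is bijective. -/
theorem bijective_components (N : Type u) [AddCommGroup N] [Module A N]
    [Module.FinitePresentation A N] {J : Type u} (f : J → ModuleCat.{u} A) :
    Function.Bijective (fun (m : N ⊗[A] ((∏ᶜ f : ModuleCat.{u} A) : Type u)) (j : J) =>
      LinearMap.lTensor N (Pi.π f j).hom m) := by
  have hb := Groth.Agent.Lib.helper13.piRightHom_bijective_of_finitePresentation A N
    (fun j => (f j : Type u))
  let e := ModuleCat.piIsoPi f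
  have he : Function.Bijective (LinearMap.lTensor N e.hom.hom) :=
    (LinearEquiv.lTensor N e.toLinearEquiv).bijective
  have hfun : (fun (m : N ⊗[A] ((∏ᶜ f : ModuleCat.{u} A) : Type u)) (j : J) =>
      LinearMap.lTensor N (Pi.π f j).hom m) =
      (TensorProduct.piRightHom A A N (fun j => (f j : Type u))) ∘
        (LinearMap.lTensor N e.hom.hom) := by
    funext m j
    induction m using TensorProduct.induction_on with
    | zero => simp
    | tmul n x =>
      simp only [Function.comp_apply, LinearMap.lTensor_tmul, TensorProduct.piRightHom_tmul]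
      exact congrArg (fun t => n ⊗ₜ[A] t)
        (congrArg (fun k => k.hom x) (ModuleCat.piIsoPi_hom_ker_subtype f j)).symm
    | add a b ha hb =>
      simp only [map_add, Function.comp_apply, Pi.add_apply] at ha hb ⊢
      rw [ha, hb]
  rw [hfun]
  exact hb.comp he

variable [IsNoetherianRing A] (P : ChainComplex (ModuleCat.{u} A) ℤ)
  (hP : ∀ i, Module.Finite A (P.X i))

include hP in
/-- The comparison map `T_p(∏ M_j) → ∏ T_p(M_j)` is bijective. -/
theorem bijective_piComparison (p : ℤ) {J : Type u} (f : J → ModuleCat.{u} A) :
    Function.Bijective (piComparison (CohIII.TFun P p) f).hom := by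
  have := hP p
  have := hP ((ComplexShape.down ℤ).next p)
  have hW : Module.FinitePresentation A (W P p) := Module.finitePresentation_of_finite A _
  have hX : Module.FinitePresentation A (P.X ((ComplexShape.down ℤ).next p)) :=
    Module.finitePresentation_of_finite A _
  have hcomp : ∀ (j : J) (x : (CohIII.TFun P p).obj (∏ᶜ f)),
      (Pi.π (fun j => (CohIII.TFun P p).obj (f j)) j).hom ((piComparison (CohIII.TFun P p) f).hom x) =
        ((CohIII.TFun P p).map (Pi.π f j)).hom x :=
    fun j x => congrArg (fun k => k.hom x) (piComparison_comp_π (CohIII.TFun P p) f j)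
  constructor
  · rw [injective_iff_map_eq_zero]
    intro x hx
    apply Phi_injective P _ p
    rw [map_zero]
    apply (bijective_components (W P p) f).1
    funext j
    show LinearMap.lTensor (W P p) (Pi.π f j).hom (Phi P _ p x) =
      LinearMap.lTensor (W P p) (Pi.π f j).hom 0
    rw [← Phi_naturality, ← hcomp, hx, map_zero, map_zero, map_zero]
  · intro y
    obtain ⟨z, hz⟩ := (bijective_components (W P p) f).2
      (fun j => Phi P (f j) p ((Pi.π (fun j => (CohIII.TFun P p).obj (f j)) j).hom y))
    have hz' : ∀ j, LinearMap.lTensor (W P p) (Pi.π f j).hom z =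
        Phi P (f j) p ((Pi.π (fun j => (CohIII.TFun P p).obj (f j)) j).hom y) :=
      fun j => congrFun hz j
    have hzker : z ∈ LinearMap.ker (LinearMap.rTensor (∏ᶜ f : ModuleCat.{u} A) (fromW P p)) := by
      rw [LinearMap.mem_ker]
      apply (bijective_components (P.X ((ComplexShape.down ℤ).next p)) f).1
      funext j
      show LinearMap.lTensor _ (Pi.π f j).hom (LinearMap.rTensor _ (fromW P p) z) =
        LinearMap.lTensor _ (Pi.π f j).hom 0
      rw [map_zero, ← LinearMap.comp_apply, LinearMap.lTensor_comp_rTensor,
        ← LinearMap.rTensor_comp_lTensor, LinearMap.comp_apply, hz' j]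
      have hmem : Phi P (f j) p ((Pi.π (fun j => (CohIII.TFun P p).obj (f j)) j).hom y) ∈
          LinearMap.range (Phi P (f j) p) := ⟨_, rfl⟩
      rw [range_Phi] at hmem
      exact hmem
    rw [← range_Phi] at hzker
    obtain ⟨x, hx⟩ := hzker
    refine ⟨x, ?_⟩
    apply (Concrete.productEquiv (fun j => (CohIII.TFun P p).obj (f j))).injective
    funext j
    rw [Concrete.productEquiv_apply_apply, Concrete.productEquiv_apply_apply]
    show (Pi.π (fun j => (CohIII.TFun P p).obj (f j)) j).hom
        ((piComparison (CohIII.TFun P p) f).hom x) = _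
    rw [hcomp]
    apply Phi_injective P _ p
    rw [Phi_naturality, hx, hz' j]

include hP in
/-- **`M ↦ H_p(P ⊗ M)` preserves products** (`P` a complex of finite modules over a Noetherian ring). -/
theorem preservesLimitsOfShape_discrete (p : ℤ) (J : Type u) :
    PreservesLimitsOfShape (Discrete J) (CohIII.TFun P p) := by
  have : ∀ f : J → ModuleCat.{u} A, PreservesLimit (Discrete.functor f) (CohIII.TFun P p) := by
    intro f
    have : IsIso (piComparison (CohIII.TFun P p) f) :=
      (ConcreteCategory.isIso_iff_bijective _).mpr (bijective_piComparison P hP p f)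
    exact PreservesProduct.of_iso_comparison _ _
  exact preservesLimitsOfShape_of_discrete _

end

end Groth.Agent.Lib.helper11.TpProd
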