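import Groth.Agent.Lib.Helper1.QcSections

/-!
# Modules of "type A" on a ringed site (helper11), part 1: site-level lemmas

`freeOn O U` for `U` in a set `B` of quasi-compact objects: finite `B`-covers, epimorphisms from covering families,
gluing maps out of `freeOn`, the Čech presentation of a refinement.
-/

set_option autoImplicit false
universe u
open CategoryTheory CategoryTheory.Limits Opposite

namespace Groth.Agent.Lib.helper11.TypeA

open Groth.Agent.H1.FreeOnLoc Groth.Agent.H1.QcSections Groth.Agent.Lib.Helper21.ModFree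

variable {C : Type u} [SmallCategory C] {J : GrothendieckTopology C} (O : Sheaf J CommRingCat.{u})
  (B : Set C)

/-- a covering family gives a jointly surjective family of representable sheaves -/
lemma jointlySurjective_of_ofArrows {W : C} {I : Type u} (V : I → C) (g : ∀ i, V i ⟶ W)
    (h : Sieve.ofArrows V g ∈ J W) :
    CohCx.JointlySurjective (K := hSh J W) (L := fun i => hSh J (V i))
      (fun i => hMap J (g i)) := by
  intro U' σ
  obtain ⟨S, hS, hS'⟩ := jointlySurjective_of_covering (Sieve.ofArrows V g) h U' σ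
  refine ⟨S, hS, fun V' k hk => ?_⟩
  obtain ⟨⟨V'', g', hg'⟩, x, hx⟩ := hS' V' k hk
  obtain ⟨i, a, rfl⟩ := (Sieve.mem_ofArrows_iff V g g').mp hg'
  refine ⟨i, (hMap J a).hom.app (op V') x, ?_⟩
  have h1 : hMap J (a ≫ g i) = hMap J a ≫ hMap J (g i) := by
    unfold hMap
    rw [Functor.map_comp, Functor.map_comp]
  rw [← hx]
  exact (congrArg (fun φ => φ.hom.app (op V') x) h1).symm

variable {B}

/-- finite covers by members of `B` of a quasi-compact object, refining a covering sieve -/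
theorem exists_finite_cover
    (hB₁ : ∀ X : C, ∃ (κ : Type u) (Y : κ → C) (g : ∀ k, Y k ⟶ X),
      Sieve.ofArrows Y g ∈ J X ∧ ∀ k, Y k ∈ B)
    (W : C) (hW : CohCx.IsQcObject (hSh J W)) (T : Sieve W) (hT : T ∈ J W) :
    ∃ (ι : Type u) (_ : Finite ι) (V : ι → C) (g : ∀ k, V k ⟶ W),
      (∀ k, V k ∈ B) ∧ (∀ k, T (g k)) ∧ Sieve.ofArrows V g ∈ J W := by
  classical
  let I := {p : Σ V : C, V ⟶ W // p.1 ∈ B ∧ T p.2}
  let V' : I → C := fun p => p.1.1
  let g' : ∀ p : I, V' p ⟶ W := fun p => p.1.2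
  have h1 : Sieve.ofArrows V' g' ∈ J W := by
    apply J.transitive hT
    intro Y f hf
    obtain ⟨κ, Y', gk, hcov, hYB⟩ := hB₁ Y
    refine J.superset_covering ?_ hcov
    intro Z a ha
    obtain ⟨k, b, rfl⟩ := (Sieve.mem_ofArrows_iff Y' gk a).mp ha
    change Sieve.ofArrows V' g' ((b ≫ gk k) ≫ f)
    rw [Category.assoc]
    exact Sieve.downward_closed _ (Sieve.ofArrows_mk V' g'
      ⟨⟨Y' k, gk k ≫ f⟩, hYB k, T.downward_closed hf _⟩) b
  obtain ⟨t, ht⟩ := hW I (fun p => hSh J (V' p)) (fun p => hMap J (g' p))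
    (jointlySurjective_of_ofArrows V' g' h1)
  refine ⟨t, inferInstance, fun k => V' k.1, fun k => g' k.1, fun k => k.1.2.1,
    fun k => k.1.2.2, ?_⟩
  exact covering_of_jointlySurjective V' g' t ht _
    (fun i hi => Sieve.ofArrows_mk (fun k : t => V' k.1) (fun k => g' k.1) ⟨i, hi⟩)

/-- the map from the free modules of a covering family is an epimorphism -/
lemma epi_desc_fmap {ι : Type u} {W : C} (V : ι → C) (g : ∀ k, V k ⟶ W)
    (h : Sieve.ofArrows V g ∈ J W) :
    Epi (Sigma.desc (fun k => fmap O (g k)) : (∐ fun k => ModSite.freeOn O (V k)) ⟶ _) := by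
  refine ⟨fun {N} a b hab => ?_⟩
  apply hom_ext_of_cover O a b _ h
  intro Y f hf
  obtain ⟨k, c, rfl⟩ := (Sieve.mem_ofArrows_iff V g f).mp hf
  rw [fmap_comp, Category.assoc, Category.assoc]
  congr 1
  have := Sigma.ι (fun k => ModSite.freeOn O (V k)) k ≫= hab
  simpa using this

/-- gluing maps out of `freeOn` along a covering family -/
lemma exists_glue [HasPullbacks C] {ι : Type u} {W : C} (V : ι → C) (g : ∀ k, V k ⟶ W)
    (h : Sieve.ofArrows V g ∈ J W) (N : ModSite.Mod O) (b : ∀ k, ModSite.freeOn O (V k) ⟶ N)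
    (hb : ∀ k k', fmap O (pullback.fst (g k) (g k')) ≫ b k =
      fmap O (pullback.snd (g k) (g k')) ≫ b k') :
    ∃ a : ModSite.freeOn O W ⟶ N, ∀ k, fmap O (g k) ≫ a = b k := by
  let P : Cᵒᵖ ⥤ Type u := N.val.presheaf ⋙ forget AddCommGrpCat.{u}
  have hP : Presieve.IsSheaf J P := (isSheaf_iff_isSheaf_of_type J P).mp
    ((Presheaf.isSheaf_iff_isSheaf_forget J N.val.presheaf (forget _)).mp N.isSheaf)
  have h1 : Presieve.IsSheafFor P (Presieve.ofArrows V g) := by
    rw [Presieve.isSheafFor_iff_generate]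
    exact hP _ h
  rw [Presieve.isSheafFor_arrows_iff_pullbacks] at h1
  obtain ⟨t, ht, -⟩ := h1 (fun k => freeOnHomEquiv O (V k) N (b k)) (fun k k' => by
    have := congrArg (freeOnHomEquiv O _ N) (hb k k')
    rw [freeOnHomEquiv_fmap_comp, freeOnHomEquiv_fmap_comp] at this
    exact this)
  refine ⟨(freeOnHomEquiv O W N).symm t, fun k => ?_⟩
  apply (freeOnHomEquiv O (V k) N).injective
  rw [freeOnHomEquiv_fmap_comp, Equiv.apply_symm_apply]
  exact ht k

section Refine

variable {ι : Type u} (U : ι → C) (n : ι → Type u) (V : ∀ i, n i → C) (g : ∀ i k, V i k ⟶ U i)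

/-- the refinement map `⊕_{i,k} freeOn (V i k) ⟶ ⊕_i freeOn (U i)` -/
noncomputable def refineMap : (∐ fun p : Σ i, n i => ModSite.freeOn O (V p.1 p.2)) ⟶
    ∐ fun i => ModSite.freeOn O (U i) :=
  Sigma.desc (fun p => fmap O (g p.1 p.2) ≫ Sigma.ι (fun i => ModSite.freeOn O (U i)) p.1)

@[reassoc]
lemma ι_refineMap (i : ι) (k : n i) :
    Sigma.ι (fun p : Σ i, n i => ModSite.freeOn O (V p.1 p.2)) ⟨i, k⟩ ≫ refineMap O U n V g =
      fmap O (g i k) ≫ Sigma.ι (fun i => ModSite.freeOn O (U i)) i := by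
  unfold refineMap
  simp

lemma epi_refineMap (hcov : ∀ i, Sieve.ofArrows (V i) (g i) ∈ J (U i)) :
    Epi (refineMap O U n V g) := by
  refine ⟨fun {N} a b hab => ?_⟩
  apply Sigma.hom_ext
  intro i
  apply hom_ext_of_cover O _ _ _ (hcov i)
  intro Y f hf
  obtain ⟨k, c, rfl⟩ := (Sieve.mem_ofArrows_iff (V i) (g i) f).mp hf
  rw [fmap_comp, Category.assoc, Category.assoc]
  congr 1
  have := Sigma.ι (fun p : Σ i, n i => ModSite.freeOn O (V p.1 p.2)) ⟨i, k⟩ ≫= hab
  rw [ι_refineMap_assoc, ι_refineMap_assoc] at this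
  exact this

variable [HasPullbacks C]

/-- the Čech relations map -/
noncomputable def cechMap :
    (∐ fun q : Σ i, n i × n i => ModSite.freeOn O (pullback (g q.1 q.2.1) (g q.1 q.2.2))) ⟶
      ∐ fun p : Σ i, n i => ModSite.freeOn O (V p.1 p.2) :=
  Sigma.desc (fun q =>
    fmap O (pullback.fst (g q.1 q.2.1) (g q.1 q.2.2)) ≫
      Sigma.ι (fun p : Σ i, n i => ModSite.freeOn O (V p.1 p.2)) ⟨q.1, q.2.1⟩ -
    fmap O (pullback.snd (g q.1 q.2.1) (g q.1 q.2.2)) ≫
      Sigma.ι (fun p : Σ i, n i => ModSite.freeOn O (V p.1 p.2)) ⟨q.1, q.2.2⟩)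

@[reassoc]
lemma ι_cechMap (i : ι) (k k' : n i) :
    Sigma.ι (fun q : Σ i, n i × n i => ModSite.freeOn O (pullback (g q.1 q.2.1) (g q.1 q.2.2)))
        ⟨i, (k, k')⟩ ≫ cechMap O U n V g =
      fmap O (pullback.fst (g i k) (g i k')) ≫
        Sigma.ι (fun p : Σ i, n i => ModSite.freeOn O (V p.1 p.2)) ⟨i, k⟩ -
      fmap O (pullback.snd (g i k) (g i k')) ≫
        Sigma.ι (fun p : Σ i, n i => ModSite.freeOn O (V p.1 p.2)) ⟨i, k'⟩ := by
  unfold cechMap
  simp

lemma cechMap_refineMap : cechMap O U n V g ≫ refineMap O U n V g = 0 := by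
  apply Sigma.hom_ext
  rintro ⟨i, k, k'⟩
  rw [ι_cechMap_assoc, comp_zero, Preadditive.sub_comp, Category.assoc, Category.assoc,
    ι_refineMap, ι_refineMap, ← Category.assoc, ← Category.assoc, ← fmap_comp, ← fmap_comp,
    pullback.condition, sub_self]

/-- the refinement map is a cokernel of the Čech relations map -/
theorem nonempty_isColimit_refine (hcov : ∀ i, Sieve.ofArrows (V i) (g i) ∈ J (U i)) :
    Nonempty (IsColimit (CokernelCofork.ofπ (refineMap O U n V g) (cechMap_refineMap O U n V g))) := by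
  haveI := epi_refineMap O U n V g hcov
  have key : ∀ {N : ModSite.Mod O}
      (b : (∐ fun p : Σ i, n i => ModSite.freeOn O (V p.1 p.2)) ⟶ N)
      (_ : cechMap O U n V g ≫ b = 0),
      ∃ a : (∐ fun i => ModSite.freeOn O (U i)) ⟶ N, refineMap O U n V g ≫ a = b := by
    intro N b hb
    have hglue : ∀ i, ∃ a : ModSite.freeOn O (U i) ⟶ N, ∀ k, fmap O (g i k) ≫ a =
        Sigma.ι (fun p : Σ i, n i => ModSite.freeOn O (V p.1 p.2)) ⟨i, k⟩ ≫ b := by
      intro i
      apply exists_glue O (V i) (g i) (hcov i) N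
      intro k k'
      have h1 := Sigma.ι (fun q : Σ i, n i × n i =>
        ModSite.freeOn O (pullback (g q.1 q.2.1) (g q.1 q.2.2))) ⟨i, (k, k')⟩ ≫= hb
      rw [ι_cechMap_assoc, comp_zero, Preadditive.sub_comp, sub_eq_zero, Category.assoc,
        Category.assoc] at h1
      exact h1
    choose a ha using hglue
    refine ⟨Sigma.desc a, ?_⟩
    apply Sigma.hom_ext
    rintro ⟨i, k⟩
    rw [ι_refineMap_assoc, Sigma.ι_desc, ha]
  choose desc hdesc using @key
  exact ⟨CokernelCofork.IsColimit.ofπ _ _ (fun b hb => desc b hb) (fun b hb => hdesc b hb)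
    (fun b hb m hm => by rw [← cancel_epi (refineMap O U n V g), hm, hdesc b hb])⟩

theorem epi_kernelLift_cechMap (hcov : ∀ i, Sieve.ofArrows (V i) (g i) ∈ J (U i)) :
    Epi (kernel.lift (refineMap O U n V g) (cechMap O U n V g) (cechMap_refineMap O U n V g)) := by
  obtain ⟨h⟩ := nonempty_isColimit_refine O U n V g hcov
  have hS : (ShortComplex.mk _ _ (cechMap_refineMap O U n V g)).Exact :=
    ShortComplex.exact_of_g_is_cokernel _ h
  exact hS.epi_kernelLift

end Refine

end Groth.Agent.Lib.helper11.TypeA
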