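import Groth.Agent.Lib.Helper11.TypeA1

/-!
# Modules of "type A" on a ringed site (helper11), part 2: finite free modules on `B` and the lifting property
-/

set_option autoImplicit false
universe u
open CategoryTheory CategoryTheory.Limits Opposite

namespace Groth.Agent.Lib.helper11.TypeA

open Groth.Agent.H1.FreeOnLoc Groth.Agent.H1.QcSections Groth.Agent.Lib.Helper21.ModFree

variable {C : Type u} [SmallCategory C] {J : GrothendieckTopology C} (O : Sheaf J CommRingCat.{u})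
  (B : Set C)

/-- finite direct sums of `freeOn O U` with `U ∈ B` -/
def IsBFree (P : ModSite.Mod O) : Prop :=
  ∃ (ι : Type u) (_ : Finite ι) (U : ι → C), (∀ i, U i ∈ B) ∧
    Nonempty (P ≅ ∐ fun i => ModSite.freeOn O (U i))

/-- quotients of finite free modules on `B` -/
def IsBFG (K : ModSite.Mod O) : Prop :=
  ∃ (P : ModSite.Mod O) (π : P ⟶ K), IsBFree O B P ∧ Epi π

variable {O B}

lemma IsBFG.of_epi {K K' : ModSite.Mod O} (h : IsBFG O B K) (p : K ⟶ K') [Epi p] : IsBFG O B K' := by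
  obtain ⟨P, π, hP, hπ⟩ := h
  exact ⟨P, π ≫ p, hP, epi_comp _ _⟩

lemma IsBFree.isBFG {P : ModSite.Mod O} (h : IsBFree O B P) : IsBFG O B P := ⟨P, 𝟙 P, h, inferInstance⟩

/-- the kernel of a refinement map is finitely generated on `B` -/
theorem isBFG_kernel_refineMap [HasPullbacks C]
    (hB₁ : ∀ X : C, ∃ (κ : Type u) (Y : κ → C) (g : ∀ k, Y k ⟶ X),
      Sieve.ofArrows Y g ∈ J X ∧ ∀ k, Y k ∈ B)
    (hB₃ : ∀ (U U₁ U₂ : C) (f₁ : U₁ ⟶ U) (f₂ : U₂ ⟶ U), U ∈ B → U₁ ∈ B → U₂ ∈ B →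
      CohCx.IsQcObject ((presheafToSheaf J (Type u)).obj (yoneda.obj (pullback f₁ f₂))))
    {ι : Type u} [Finite ι] (U : ι → C) (n : ι → Type u) [∀ i, Finite (n i)]
    (V : ∀ i, n i → C) (g : ∀ i k, V i k ⟶ U i) (hU : ∀ i, U i ∈ B) (hVB : ∀ i k, V i k ∈ B)
    (hcov : ∀ i, Sieve.ofArrows (V i) (g i) ∈ J (U i)) :
    IsBFG O B (kernel (refineMap O U n V g)) := by
  have h4 : ∀ q : Σ i, n i × n i, ∃ (κ : Type u) (_ : Finite κ) (Y : κ → C)
      (y : ∀ j, Y j ⟶ pullback (g q.1 q.2.1) (g q.1 q.2.2)),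
      (∀ j, Y j ∈ B) ∧ (∀ j, (⊤ : Sieve _) (y j)) ∧
        Sieve.ofArrows Y y ∈ J (pullback (g q.1 q.2.1) (g q.1 q.2.2)) :=
    fun q => exists_finite_cover hB₁ (pullback (g q.1 q.2.1) (g q.1 q.2.2))
      (hB₃ (U q.1) (V q.1 q.2.1) (V q.1 q.2.2) (g q.1 q.2.1) (g q.1 q.2.2) (hU _) (hVB _ _)
        (hVB _ _)) ⊤ (J.top_mem _)
  choose m hm Y y hYB _ hycov using h4
  haveI : ∀ q, Finite (m q) := hm
  let ρ := refineMap O (fun q : Σ i, n i × n i => pullback (g q.1 q.2.1) (g q.1 q.2.2)) m Y y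
  let κ := kernel.lift (refineMap O U n V g) (cechMap O U n V g) (cechMap_refineMap O U n V g)
  haveI : Epi ρ := epi_refineMap O _ m Y y hycov
  haveI : Epi κ := epi_kernelLift_cechMap O U n V g hcov
  have hfree : IsBFree O B (∐ fun p : Σ q : (Σ i, n i × n i), m q => ModSite.freeOn O (Y p.1 p.2)) :=
    ⟨(Σ q : (Σ i, n i × n i), m q), inferInstance, fun p => Y p.1 p.2, fun p => hYB p.1 p.2,
      ⟨Iso.refl _⟩⟩
  exact ⟨_, ρ ≫ κ, hfree, epi_comp ρ κ⟩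

/-- the lifting property of finite free modules on `B`, with finitely generated kernel of the refinement -/
theorem exists_lift [HasPullbacks C]
    (hB₁ : ∀ X : C, ∃ (κ : Type u) (Y : κ → C) (g : ∀ k, Y k ⟶ X),
      Sieve.ofArrows Y g ∈ J X ∧ ∀ k, Y k ∈ B)
    (hB₂ : ∀ U ∈ B, CohCx.IsQcObject ((presheafToSheaf J (Type u)).obj (yoneda.obj U)))
    (hB₃ : ∀ (U U₁ U₂ : C) (f₁ : U₁ ⟶ U) (f₂ : U₂ ⟶ U), U ∈ B → U₁ ∈ B → U₂ ∈ B →
      CohCx.IsQcObject ((presheafToSheaf J (Type u)).obj (yoneda.obj (pullback f₁ f₂))))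
    {P : ModSite.Mod O} (hP : IsBFree O B P) {G' G'' : ModSite.Mod O} (e : G' ⟶ G'') [Epi e]
    (s : P ⟶ G'') :
    ∃ (P' : ModSite.Mod O) (r : P' ⟶ P) (s' : P' ⟶ G'),
      IsBFree O B P' ∧ Epi r ∧ IsBFG O B (kernel r) ∧ s' ≫ e = r ≫ s := by
  obtain ⟨ι, _, U, hU, ⟨φ⟩⟩ := hP
  have h1 : ∀ i, ∃ T ∈ J (U i), ∀ ⦃Y : C⦄ (g : Y ⟶ U i), T g →
      ∃ s' : ModSite.freeOn O Y ⟶ G', s' ≫ e =
        fmap O g ≫ Sigma.ι (fun i => ModSite.freeOn O (U i)) i ≫ φ.inv ≫ s :=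
    fun i => exists_local_lift O e _
  choose T hT hlift using h1
  have h2 : ∀ i, ∃ (κ : Type u) (_ : Finite κ) (V : κ → C) (g : ∀ k, V k ⟶ U i),
      (∀ k, V k ∈ B) ∧ (∀ k, T i (g k)) ∧ Sieve.ofArrows V g ∈ J (U i) :=
    fun i => exists_finite_cover hB₁ (U i) (hB₂ _ (hU i)) (T i) (hT i)
  choose n hn V g hVB hgT hcov using h2
  have h3 : ∀ i k, ∃ s' : ModSite.freeOn O (V i k) ⟶ G', s' ≫ e =
      fmap O (g i k) ≫ Sigma.ι (fun i => ModSite.freeOn O (U i)) i ≫ φ.inv ≫ s :=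
    fun i k => hlift i (g i k) (hgT i k)
  choose s' hs' using h3
  haveI : ∀ i, Finite (n i) := hn
  haveI : Epi (refineMap O U n V g) := epi_refineMap O U n V g hcov
  have hfree : IsBFree O B (∐ fun p : Σ i, n i => ModSite.freeOn O (V p.1 p.2)) :=
    ⟨(Σ i, n i), inferInstance, fun p => V p.1 p.2, fun p => hVB p.1 p.2, ⟨Iso.refl _⟩⟩
  have h5 : IsBFG O B (kernel (refineMap O U n V g)) :=
    isBFG_kernel_refineMap hB₁ hB₃ U n V g hU hVB hcov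
  have h6 : IsBFG O B (kernel (refineMap O U n V g ≫ φ.inv)) :=
    h5.of_epi (kernelCompMono (refineMap O U n V g) φ.inv).inv
  refine ⟨_, refineMap O U n V g ≫ φ.inv, Sigma.desc (fun p => s' p.1 p.2), hfree,
    epi_comp _ _, h6, ?_⟩
  apply Sigma.hom_ext
  rintro ⟨i, k⟩
  rw [Sigma.ι_desc_assoc, Category.assoc, ι_refineMap_assoc, hs']

end Groth.Agent.Lib.helper11.TypeA
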