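import Groth.Agent.Lib.Helper11.TypeA2
import Groth.Agent.Lib.Helper11.AbsFP
import Groth.Agent.Lib.Helper21.TypeA

/-!
# Modules of "type A" on a ringed site (helper11), part 3: type A = finitely presented relative to the
finite free modules on `B`; extensions and kernels
-/

set_option autoImplicit false
universe u
open CategoryTheory CategoryTheory.Limits Opposite

namespace Groth.Agent.Lib.helper11.TypeA

open Groth.Agent.H1.FreeOnLoc Groth.Agent.H1.QcSections Groth.Agent.Lib.Helper21.ModFree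
open Groth.Agent.Lib.helper11.AbsFP Groth.Agent.Lib.helper21.TypeA

variable {C : Type u} [SmallCategory C] {J : GrothendieckTopology C} {O : Sheaf J CommRingCat.{u}}
  {B : Set C}

lemma IsBFree.of_iso {P Q : ModSite.Mod O} (e : P ≅ Q) (h : IsBFree O B P) : IsBFree O B Q := by
  obtain ⟨ι, hι, U, hU, ⟨φ⟩⟩ := h
  exact ⟨ι, hι, U, hU, ⟨e.symm ≪≫ φ⟩⟩

lemma IsBFree.biprod {P Q : ModSite.Mod O} (hP : IsBFree O B P) (hQ : IsBFree O B Q) :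
    IsBFree O B (P ⊞ Q) := by
  obtain ⟨ι, hι, U, hU, ⟨φ⟩⟩ := hP
  obtain ⟨κ, hκ, V, hV, ⟨ψ⟩⟩ := hQ
  refine ⟨ι ⊕ κ, inferInstance, Sum.elim U V, ?_, ⟨biprod.mapIso φ ψ ≪≫ ?_⟩⟩
  · rintro (i | j)
    · exact hU i
    · exact hV j
  · exact biprodSigmaIso (fun x : ι ⊕ κ => ModSite.freeOn O (Sum.elim U V x))

lemma isBFree_sigma_fin {n : ℕ} (U : Fin n → C) (hU : ∀ i, U i ∈ B) :
    IsBFree O B (∐ fun i => ModSite.freeOn O (U i)) :=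
  ⟨ULift.{u} (Fin n), inferInstance, fun i => U i.down, fun i => hU _,
    ⟨(Sigma.reindex Equiv.ulift (fun i => ModSite.freeOn O (U i))).symm⟩⟩

lemma IsBFree.exists_fin {P : ModSite.Mod O} (h : IsBFree O B P) :
    ∃ (n : ℕ) (U : Fin n → C), (∀ i, U i ∈ B) ∧
      Nonempty (P ≅ ∐ fun i => ModSite.freeOn O (U i)) := by
  obtain ⟨ι, hι, U, hU, ⟨φ⟩⟩ := h
  let ε : Fin (Nat.card ι) ≃ ι := (Finite.equivFin ι).symm
  exact ⟨Nat.card ι, fun k => U (ε k), fun k => hU _,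
    ⟨φ ≪≫ (Sigma.reindex ε (fun i => ModSite.freeOn O (U i))).symm⟩⟩

/-- the finite free modules on `B` satisfy the axioms of `AbsFP` -/
theorem ax [HasPullbacks C]
    (hB₁ : ∀ X : C, ∃ (κ : Type u) (Y : κ → C) (g : ∀ k, Y k ⟶ X),
      Sieve.ofArrows Y g ∈ J X ∧ ∀ k, Y k ∈ B)
    (hB₂ : ∀ U ∈ B, CohCx.IsQcObject ((presheafToSheaf J (Type u)).obj (yoneda.obj U)))
    (hB₃ : ∀ (U U₁ U₂ : C) (f₁ : U₁ ⟶ U) (f₂ : U₂ ⟶ U), U ∈ B → U₁ ∈ B → U₂ ∈ B →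
      CohCx.IsQcObject ((presheafToSheaf J (Type u)).obj (yoneda.obj (pullback f₁ f₂)))) :
    Ax (IsBFree O B) where
  iso e h := h.of_iso e
  biprod hP hQ := hP.biprod hQ
  lift hP e _ s := exists_lift hB₁ hB₂ hB₃ hP e s

theorem isTypeA_iff_fp (F : ModSite.Mod O) : IsTypeA O B F ↔ FP (IsBFree O B) F := by
  constructor
  · rintro ⟨m', n', V', U', ψ, hV', hU', ⟨e⟩⟩
    exact (FP.of_cokernel ψ (isBFree_sigma_fin V' hV') (isBFree_sigma_fin U' hU')).of_iso e.symm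
  · intro h
    obtain ⟨P, Q, ψ, hP, hQ, ⟨e⟩⟩ := h.exists_presentation
    obtain ⟨m, V, hV, ⟨eP⟩⟩ := hP.exists_fin
    obtain ⟨n, U, hU, ⟨eQ⟩⟩ := hQ.exists_fin
    exact ⟨m, n, V, U, eP.inv ≫ ψ ≫ eQ.hom, hV, hU,
      ⟨e ≪≫ cokernel.mapIso ψ (eP.inv ≫ ψ ≫ eQ.hom) eP eQ (by simp)⟩⟩

/-- extensions of modules of type A are of type A -/
theorem isTypeA_ext [HasPullbacks C]
    (hB₁ : ∀ X : C, ∃ (κ : Type u) (Y : κ → C) (g : ∀ k, Y k ⟶ X),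
      Sieve.ofArrows Y g ∈ J X ∧ ∀ k, Y k ∈ B)
    (hB₂ : ∀ U ∈ B, CohCx.IsQcObject ((presheafToSheaf J (Type u)).obj (yoneda.obj U)))
    (hB₃ : ∀ (U U₁ U₂ : C) (f₁ : U₁ ⟶ U) (f₂ : U₂ ⟶ U), U ∈ B → U₁ ∈ B → U₂ ∈ B →
      CohCx.IsQcObject ((presheafToSheaf J (Type u)).obj (yoneda.obj (pullback f₁ f₂))))
    (S : ShortComplex (ModSite.Mod O)) (hS : S.ShortExact)
    (h₁ : IsTypeA O B S.X₁) (h₃ : IsTypeA O B S.X₃) : IsTypeA O B S.X₂ :=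
  (isTypeA_iff_fp _).2 (FP.ext (ax hB₁ hB₂ hB₃) S hS ((isTypeA_iff_fp _).1 h₁)
    ((isTypeA_iff_fp _).1 h₃))

/-- kernels of maps between modules of type A are of type A, provided that kernels of maps between finite
free modules on `B` are -/
theorem isTypeA_kernel [HasPullbacks C]
    (hB₁ : ∀ X : C, ∃ (κ : Type u) (Y : κ → C) (g : ∀ k, Y k ⟶ X),
      Sieve.ofArrows Y g ∈ J X ∧ ∀ k, Y k ∈ B)
    (hB₂ : ∀ U ∈ B, CohCx.IsQcObject ((presheafToSheaf J (Type u)).obj (yoneda.obj U)))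
    (hB₃ : ∀ (U U₁ U₂ : C) (f₁ : U₁ ⟶ U) (f₂ : U₂ ⟶ U), U ∈ B → U₁ ∈ B → U₂ ∈ B →
      CohCx.IsQcObject ((presheafToSheaf J (Type u)).obj (yoneda.obj (pullback f₁ f₂))))
    (hker : ∀ (m n : ℕ) (V : Fin m → C) (U : Fin n → C)
      (φ : (∐ fun j => ModSite.freeOn O (V j)) ⟶ ∐ fun i => ModSite.freeOn O (U i)),
      (∀ j, V j ∈ B) → (∀ i, U i ∈ B) → IsTypeA O B (kernel φ))
    {F G : ModSite.Mod O} (α : F ⟶ G) (hF : IsTypeA O B F) (hG : IsTypeA O B G) :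
    IsTypeA O B (kernel α) := by
  refine (isTypeA_iff_fp _).2 (FP.ker_map (ax hB₁ hB₂ hB₃) ?_ α ((isTypeA_iff_fp _).1 hF)
    ((isTypeA_iff_fp _).1 hG))
  intro P Q φ hP hQ
  obtain ⟨m, V, hV, ⟨eP⟩⟩ := hP.exists_fin
  obtain ⟨n, U, hU, ⟨eQ⟩⟩ := hQ.exists_fin
  have h := (isTypeA_iff_fp _).1 (hker m n V U (eP.inv ≫ φ ≫ eQ.hom) hV hU)
  exact h.of_iso (kernel.mapIso φ (eP.inv ≫ φ ≫ eQ.hom) eP eQ (by simp)).symm

end Groth.Agent.Lib.helper11.TypeA
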