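import Mathlib
import Groth.Agent.Lib.Helper11.UnitsK6

/-!
# The dual numbers case: the tangent space of `A ↦ H^q(X₀ ⊗ A, O^×)` (helper11)
-/

set_option autoImplicit false
universe u
open CategoryTheory CategoryTheory.Limits AlgebraicGeometry TopologicalSpace Opposite
open Scheme.Modules Abelian DualNumber

namespace Groth.Agent.Lib.helper11.UnitsK

section surj

/-- `Spec` of a surjective ring map with nil kernel is surjective -/
theorem surjective_specMap_of_nil {R S : Type u} [CommRing R] [CommRing S] (f : R →+* S)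
    (hf : Function.Surjective f) (hnil : ∀ a ∈ RingHom.ker f, IsNilpotent a) :
    Surjective (Spec.map (CommRingCat.ofHom f)) := by
  refine ⟨fun x => ?_⟩
  have h1 : Set.range (PrimeSpectrum.comap f) = PrimeSpectrum.zeroLocus (RingHom.ker f) :=
    _root_.range_comap_of_surjective _ f hf
  have h2 : PrimeSpectrum.zeroLocus ((RingHom.ker f : Ideal R) : Set R) = Set.univ := by
    rw [PrimeSpectrum.zeroLocus_eq_univ_iff]
    intro a ha
    exact (mem_nilradical).mpr (hnil a ha)
  rw [h2] at h1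
  have h3 : x ∈ Set.range (PrimeSpectrum.comap f) := by rw [h1]; trivial
  obtain ⟨y, hy⟩ := h3
  exact ⟨y, hy⟩

end surj

section dual

variable (k : Type u) [Field k]

theorem ker_fstHom_eq :
    RingHom.ker (TrivSqZeroExt.fstHom k k k).toRingHom = Ideal.span {(ε : DualNumber k)} := by
  ext x
  rw [RingHom.mem_ker, Ideal.mem_span_singleton]
  exact DualNumber.fst_eq_zero_iff_eps_dvd

theorem mul_eps_eq_zero_iff (a : DualNumber k) :
    a * ε = 0 ↔ a ∈ RingHom.ker (TrivSqZeroExt.fstHom k k k).toRingHom := by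
  rw [RingHom.mem_ker]
  change a * ε = 0 ↔ a.fst = 0
  constructor
  · intro h
    have := congrArg TrivSqZeroExt.snd h
    simpa using this
  · intro h
    ext <;> simp [h]

theorem fstHom_surjective : Function.Surjective (TrivSqZeroExt.fstHom k k k).toRingHom :=
  fun x => ⟨TrivSqZeroExt.inl x, rfl⟩

theorem isNilpotent_of_mem_ker_fstHom (a : DualNumber k)
    (ha : a ∈ RingHom.ker (TrivSqZeroExt.fstHom k k k).toRingHom) : IsNilpotent a := by
  rw [TrivSqZeroExt.isNilpotent_iff_isNilpotent_fst]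
  have : a.fst = 0 := ha
  rw [this]
  exact IsNilpotent.zero

end dual

section general

open Groth.Agent.Lib.helper11.Thick

/-- a retraction of the left map of two pasted pullback squares over a retraction of the base -/
theorem exists_retraction {X X' X₀ S S' : Scheme.{u}} {i : X ⟶ X'} {f₀ : X ⟶ S} {fX : X' ⟶ S'}
    {b : S ⟶ S'} {p₁ : X' ⟶ X₀} {s₀ : X₀ ⟶ S} {a : S' ⟶ S}
    (hL : IsPullback i f₀ fX b) (hR : IsPullback p₁ fX s₀ a) (hba : b ≫ a = 𝟙 S) :
    ∃ r : X' ⟶ X, i ≫ r = 𝟙 X := by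
  have hP := hL.paste_horiz hR
  haveI : IsIso (b ≫ a) := by rw [hba]; infer_instance
  haveI : IsIso (i ≫ p₁) := hP.isIso_fst_of_isIso
  refine ⟨p₁ ≫ inv (i ≫ p₁), ?_⟩
  rw [← Category.assoc, IsIso.hom_inv_id]

variable {A B₁ : Type u} [CommRing A] [CommRing B₁] [Algebra A B₁]
variable {X X₁ : Scheme.{u}} (fX : X ⟶ Spec (CommRingCat.of A))
  (fX₁ : X₁ ⟶ Spec (CommRingCat.of B₁)) (g₁ : X₁ ⟶ X)
  (h₁ : IsPullback g₁ fX₁ fX (Spec.map (CommRingCat.ofHom (algebraMap A B₁))))
  (t : A) (hann : ∀ a : A, a * t = 0 ↔ a ∈ RingHom.ker (algebraMap A B₁))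
  (hs₁ : Function.Surjective (algebraMap A B₁))
  (hk₁ : RingHom.ker (algebraMap A B₁) = Ideal.span {t})
  (hnil : IsNilpotent t)
  (r : X ⟶ X₁) (hir : g₁ ≫ r = 𝟙 X₁) (hsurj : Function.Surjective g₁)

include h₁ hann hs₁ hk₁ hnil hir hsurj in
/-- the split case: for a closed subscheme `X₁ = V(t)` with a retraction (`t` with annihilator the
maximal ideal), `ker (H^q(X, O^×) → H^q(X, g_* O_{X₁}^×)) ≃ H^q(X₁, O)` -/
theorem nonempty_ker_equiv_of_retraction (hfl : FlatMod.IsFlatOver fX (Coh.structureModule X))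
    (q : ℕ) :
    Nonempty ((Sheaf.H.map (UnitsSh.comap g₁) q).ker ≃+ Coh.HH X₁ (Coh.structureModule X₁) q) := by
  obtain ⟨e1⟩ := nonempty_ker_H_equiv (UnitsSh.comap g₁) (retrU g₁ r hir hsurj)
    (retrU_comap g₁ r hir hsurj) q
  have hcan : IsPullback
      (pullback.fst fX (Spec.map (CommRingCat.ofHom (algebraMap A (A ⧸ (⊥ : Ideal A))))))
      (pullback.snd fX (Spec.map (CommRingCat.ofHom (algebraMap A (A ⧸ (⊥ : Ideal A)))))) fX
      (Spec.map (CommRingCat.ofHom (algebraMap A (A ⧸ (⊥ : Ideal A))))) :=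
    IsPullback.of_hasPullback _ _
  have hz := isZero_KU_of_ker_eq_bot fX _ _ hcan Ideal.Quotient.mk_surjective Ideal.mk_ker
  have hk₁' : RingHom.ker (algebraMap A B₁) = ⊥ ⊔ Ideal.span {t} := by
    rw [bot_sup_eq]
    exact hk₁
  have hann' : ∀ x : A, x * t ∈ (⊥ : Ideal A) ↔ x ∈ RingHom.ker (algebraMap A B₁) := by
    intro x
    rw [Ideal.mem_bot]
    exact hann x
  have htm : t ∈ RingHom.ker (algebraMap A B₁) := by
    rw [hk₁]
    exact Ideal.mem_span_singleton_self _
  obtain ⟨e2⟩ := nonempty_H_KU_equiv fX _ _ hcan _ g₁ h₁ _ g₁ h₁ t ⊥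
    (RingHom.ker (algebraMap A B₁)) hann' bot_le Ideal.Quotient.mk_surjective
    Ideal.mk_ker hs₁ hk₁' hs₁ rfl htm hnil hfl hz q
  exact ⟨e1.trans e2⟩

end general

section dual2

variable (k : Type u) [Field k]
variable (X₀ : Scheme.{u}) [X₀.Over (Spec (CommRingCat.of k))] (q : ℕ)

/-- **the tangent space of `H^q(−, O^×)`**: for the trivial deformation `X₀[ε]`, the kernel of
`H^q(X₀[ε], O^×) → H^q(X₀, O^×)` is `H^q(X₀, O)` -/
theorem dual_main :
    Nonempty ((Sheaf.H.map (UnitsSh.comap (pullback.fst (pullback.snd (X₀ ↘ Spec (CommRingCat.of k)) (Spec.map (CommRingCat.ofHom (algebraMap k (DualNumber k))))) (Spec.map (CommRingCat.ofHom (TrivSqZeroExt.fstHom k k k).toRingHom)))) q).ker ≃+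
      Coh.HH (pullback (pullback.snd (X₀ ↘ Spec (CommRingCat.of k)) (Spec.map (CommRingCat.ofHom (algebraMap k (DualNumber k))))) (Spec.map (CommRingCat.ofHom (TrivSqZeroExt.fstHom k k k).toRingHom))) (Coh.structureModule (pullback (pullback.snd (X₀ ↘ Spec (CommRingCat.of k)) (Spec.map (CommRingCat.ofHom (algebraMap k (DualNumber k))))) (Spec.map (CommRingCat.ofHom (TrivSqZeroExt.fstHom k k k).toRingHom)))) q) := by
  letI alg : Algebra (DualNumber k) k := (TrivSqZeroExt.fstHom k k k).toRingHom.toAlgebra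
  have hba : Spec.map (CommRingCat.ofHom (TrivSqZeroExt.fstHom k k k).toRingHom) ≫
      Spec.map (CommRingCat.ofHom (algebraMap k (DualNumber k))) = 𝟙 _ := by
    rw [← Spec.map_comp, ← CommRingCat.ofHom_comp]
    have : (TrivSqZeroExt.fstHom k k k).toRingHom.comp (algebraMap k (DualNumber k)) =
        RingHom.id k := rfl
    rw [this]
    exact Spec.map_id _
  obtain ⟨r, hir⟩ := exists_retraction
    (IsPullback.of_hasPullback (pullback.snd (X₀ ↘ Spec (CommRingCat.of k))
      (Spec.map (CommRingCat.ofHom (algebraMap k (DualNumber k)))))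
      (Spec.map (CommRingCat.ofHom (TrivSqZeroExt.fstHom k k k).toRingHom)))
    (IsPullback.of_hasPullback (X₀ ↘ Spec (CommRingCat.of k))
      (Spec.map (CommRingCat.ofHom (algebraMap k (DualNumber k))))) hba
  haveI : Surjective (Spec.map (CommRingCat.ofHom (TrivSqZeroExt.fstHom k k k).toRingHom)) :=
    surjective_specMap_of_nil _ (fstHom_surjective k) (isNilpotent_of_mem_ker_fstHom k)
  have hfl : FlatMod.IsFlatOver (pullback.snd (X₀ ↘ Spec (CommRingCat.of k))
      (Spec.map (CommRingCat.ofHom (algebraMap k (DualNumber k))))) (Coh.structureModule _) :=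
    Groth.Agent.Lib.helper21.InvFibre.isFlatOver_of_isFinLocFree _ _
      (Groth.Agent.Lib.helper16.FLF.isFinLocFree_of_isInvertible
        (Groth.Agent.Lib.helper11.InvMod.isInvertible_structureModule _))
  exact nonempty_ker_equiv_of_retraction
    (pullback.snd (X₀ ↘ Spec (CommRingCat.of k))
      (Spec.map (CommRingCat.ofHom (algebraMap k (DualNumber k)))))
    (pullback.snd _ _) (pullback.fst _ _)
    (IsPullback.of_hasPullback (pullback.snd (X₀ ↘ Spec (CommRingCat.of k))
      (Spec.map (CommRingCat.ofHom (algebraMap k (DualNumber k)))))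
      (Spec.map (CommRingCat.ofHom (algebraMap (DualNumber k) k))))
    ε (mul_eps_eq_zero_iff k) (fstHom_surjective k) (ker_fstHom_eq k) DualNumber.isNilpotent_eps
    r hir (Scheme.Hom.surjective _) hfl q

end dual2


end Groth.Agent.Lib.helper11.UnitsK
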