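import Mathlib

/-!
# Lifting idempotents to the integral closure via Zariski's main theorem (helper11)

`A → B` of finite type, `I ⊆ A`, `e ∈ B/IB` idempotent with `(B/IB)/(1-e)` finite over `A/I`.
Then some `g` in the integral closure `B'` of `A` in `B` lifts `e`, is idempotent modulo `IB'`,
and `B'[1/g] = B[1/g]`.
-/

set_option autoImplicit false
universe u

namespace Groth.Agent.Lib.helper11.ZMTIdem

open Algebra

section good

variable (A : Type u) {B : Type u} [CommRing A] [CommRing B] [Algebra A B]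

/-- "good" elements: integral elements `r` with `B'[1/r] = B[1/r]` -/
def Good (r : B) : Prop :=
  IsIntegral A r ∧ ∀ x : B, ∃ m : ℕ, IsIntegral A (r ^ m * x)

variable {A}

lemma Good.mono {r : B} (hr : Good A r) {x : B} {m m' : ℕ} (h : IsIntegral A (r ^ m * x))
    (hm : m ≤ m') : IsIntegral A (r ^ m' * x) := by
  obtain ⟨k, rfl⟩ := Nat.exists_eq_add_of_le hm
  rw [pow_add, mul_comm (r ^ m), mul_assoc]
  exact (hr.1.pow k).mul h

lemma Good.mul_left {r : B} (hr : Good A r) {c : B} (hc : IsIntegral A c) : Good A (c * r) :=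
  ⟨hc.mul hr.1, fun x => by
    obtain ⟨m, hm⟩ := hr.2 x
    refine ⟨m, ?_⟩
    rw [mul_pow, mul_assoc]
    exact (hc.pow m).mul hm⟩

lemma good_zero : Good A (0 : B) :=
  ⟨isIntegral_zero, fun x => ⟨1, by simpa using isIntegral_zero⟩⟩

lemma Good.add {r s : B} (hr : Good A r) (hs : Good A s) : Good A (r + s) := by
  refine ⟨hr.1.add hs.1, fun x => ?_⟩
  obtain ⟨m, hm⟩ := hr.2 x
  obtain ⟨n, hn⟩ := hs.2 x
  refine ⟨m + n, ?_⟩
  rw [add_pow, Finset.sum_mul]
  refine IsIntegral.sum _ fun i hi => ?_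
  have hc : IsIntegral A (((m + n).choose i : ℕ) : B) := by
    rw [← map_natCast (algebraMap A B)]
    exact isIntegral_algebraMap
  by_cases h : m ≤ i
  · have h1 := hr.mono hm h
    have e : r ^ i * s ^ (m + n - i) * ((m + n).choose i : B) * x =
        s ^ (m + n - i) * ((m + n).choose i : B) * (r ^ i * x) := by ring
    rw [e]
    exact ((hs.1.pow _).mul hc).mul h1
  · have h2 : n ≤ m + n - i := by omega
    have h1 := hs.mono hn h2
    have e : r ^ i * s ^ (m + n - i) * ((m + n).choose i : B) * x =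
        r ^ i * ((m + n).choose i : B) * (s ^ (m + n - i) * x) := by ring
    rw [e]
    exact ((hr.1.pow _).mul hc).mul h1

lemma Good.pow_succ {r : B} (hr : Good A r) (n : ℕ) : Good A (r ^ (n + 1)) := by
  rw [_root_.pow_succ]
  exact hr.mul_left (hr.1.pow n)

end good

section step1

variable {A B : Type u} [CommRing A] [CommRing B] [Algebra A B]
  (I : Ideal A) (e : B ⧸ Ideal.map (algebraMap A B) I)

/-- the finite factor -/
abbrev C₁ : Type u := (B ⧸ Ideal.map (algebraMap A B) I) ⧸ Ideal.span {1 - e}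

/-- the projection `B → C₁` -/
noncomputable def π : B →ₐ[A] C₁ I e :=
  (Ideal.Quotient.mkₐ A (Ideal.span {1 - e})).comp (Ideal.Quotient.mkₐ A _)

lemma π_apply (b : B) : π I e b = Ideal.Quotient.mk _ (Ideal.Quotient.mk _ b) := rfl

lemma π_surjective : Function.Surjective (π I e) := by
  intro c
  obtain ⟨c', rfl⟩ := Ideal.Quotient.mk_surjective c
  obtain ⟨b, rfl⟩ := Ideal.Quotient.mk_surjective c'
  exact ⟨b, rfl⟩

variable {I e}

lemma π_eq_zero_of_mem {b : B} (hb : b ∈ Ideal.map (algebraMap A B) I) : π I e b = 0 := by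
  rw [π_apply, Ideal.Quotient.eq_zero_iff_mem.mpr hb, map_zero]

lemma π_one_sub {et : B} (het : Ideal.Quotient.mk _ et = e) : π I e (1 - et) = 0 := by
  rw [π_apply, map_sub, map_one, het]
  exact Ideal.Quotient.eq_zero_iff_mem.mpr (Ideal.mem_span_singleton_self _)

variable [Algebra.FiniteType A B]
  (hfin : Module.Finite (A ⧸ I) ((B ⧸ Ideal.map (algebraMap A B) I) ⧸ Ideal.span {1 - e}))

omit [Algebra.FiniteType A B] in
include hfin in
lemma finite_C₁ : Module.Finite A (C₁ I e) := by
  have : IsScalarTower A (A ⧸ I) (C₁ I e) := inferInstance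
  exact Module.Finite.trans (A ⧸ I) _

include hfin in
theorem zmp_of_mem (he : IsIdempotentElem e) (q : Ideal B) [q.IsPrime]
    (hq : Ideal.map (algebraMap A B) I ≤ q) (et : B)
    (het : Ideal.Quotient.mk _ et = e) (hetq : et ∉ q) : Algebra.ZariskisMainProperty A q := by
  haveI : Algebra.WeaklyQuasiFiniteAt A q := by
    rw [Algebra.weaklyQuasiFiniteAt_iff]
    have hF : Module.Finite A (C₁ I e) := finite_C₁ hfin
    let f₀ : B →ₐ[A] (Localization.AtPrime q ⧸
        (q.under A).map (algebraMap A (Localization.AtPrime q))) :=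
      (Ideal.Quotient.mkₐ A _).comp (IsScalarTower.toAlgHom A B (Localization.AtPrime q))
    have hf₀ : ∀ b, f₀ b = Ideal.Quotient.mk _ (algebraMap B (Localization.AtPrime q) b) :=
      fun b => rfl
    have h0 : ∀ b ∈ Ideal.map (algebraMap A B) I, f₀ b = 0 := by
      intro b hb
      have hle : Ideal.map (algebraMap A B) I ≤ RingHom.ker f₀.toRingHom := by
        rw [Ideal.map_le_iff_le_comap]
        intro i hi
        rw [Ideal.mem_comap, RingHom.mem_ker]
        change f₀ (algebraMap A B i) = 0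
        rw [f₀.commutes]
        change Ideal.Quotient.mk _ (algebraMap A (Localization.AtPrime q) i) = 0
        rw [Ideal.Quotient.eq_zero_iff_mem]
        apply Ideal.mem_map_of_mem
        exact hq (Ideal.mem_map_of_mem _ hi)
      exact hle hb
    let f₁ : (B ⧸ Ideal.map (algebraMap A B) I) →ₐ[A] (Localization.AtPrime q ⧸
        (q.under A).map (algebraMap A (Localization.AtPrime q))) :=
      Ideal.Quotient.liftₐ _ f₀ h0
    have hf₁ : ∀ b, f₁ (Ideal.Quotient.mk _ b) = f₀ b := fun b => rfl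
    have hu : IsUnit (f₀ et) := by
      rw [hf₀]
      exact (IsLocalization.map_units (M := q.primeCompl) (Localization.AtPrime q)
        ⟨et, hetq⟩).map (Ideal.Quotient.mk _)
    have hone : f₀ et = 1 := by
      have hid : IsIdempotentElem (f₀ et) := by
        rw [← hf₁, het]
        exact he.map f₁
      exact (IsIdempotentElem.iff_eq_one_of_isUnit hu).mp hid
    have h1 : ∀ c ∈ Ideal.span {1 - e}, f₁ c = 0 := by
      intro c hc
      have hle : Ideal.span {1 - e} ≤ RingHom.ker f₁.toRingHom := by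
        rw [Ideal.span_singleton_le_iff_mem, RingHom.mem_ker]
        change f₁ (1 - e) = 0
        rw [map_sub, map_one, ← het, hf₁, hone, sub_self]
      exact hle hc
    let f : C₁ I e →ₐ[A] (Localization.AtPrime q ⧸
        (q.under A).map (algebraMap A (Localization.AtPrime q))) :=
      Ideal.Quotient.liftₐ _ f₁ h1
    have hf : ∀ b, f (π I e b) = f₀ b := fun b => rfl
    refine Algebra.QuasiFinite.of_forall_exists_mul_mem_range f ?_
    intro x
    obtain ⟨x', rfl⟩ := Ideal.Quotient.mk_surjective x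
    obtain ⟨b, t, rfl⟩ := IsLocalization.exists_mk'_eq q.primeCompl x'
    refine ⟨π I e t.1, ?_, ⟨π I e b, ?_⟩⟩
    · rw [hf, hf₀]
      exact (IsLocalization.map_units (M := q.primeCompl) (Localization.AtPrime q) t).map
        (Ideal.Quotient.mk _)
    · change f (π I e b) = _
      rw [hf, hf, hf₀, hf₀, ← map_mul, IsLocalization.mk'_spec]
  exact Algebra.ZariskisMainProperty.of_finiteType_of_weaklyQuasiFiniteAt q

include hfin in
theorem span_good_eq_top (he : IsIdempotentElem e) (et : B)
    (het : Ideal.Quotient.mk _ et = e) :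
    Ideal.span ((π I e) '' {r | Good A r}) = ⊤ := by
  by_contra h
  obtain ⟨𝔪, hm, hle⟩ := Ideal.exists_le_maximal _ h
  let q : Ideal B := 𝔪.comap (π I e).toRingHom
  haveI : q.IsPrime := Ideal.comap_isPrime _ _
  have hq : Ideal.map (algebraMap A B) I ≤ q := fun b hb => by
    rw [Ideal.mem_comap]
    change π I e b ∈ 𝔪
    rw [π_eq_zero_of_mem hb]
    exact 𝔪.zero_mem
  have h1 : 1 - et ∈ q := by
    rw [Ideal.mem_comap]
    change π I e (1 - et) ∈ 𝔪
    rw [π_one_sub het]
    exact 𝔪.zero_mem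
  have hetq : et ∉ q := fun h' => by
    have h2 := q.add_mem h1 h'
    rw [sub_add_cancel] at h2
    exact (Ideal.IsPrime.ne_top inferInstance) ((Ideal.eq_top_iff_one q).mpr h2)
  obtain ⟨r, hr, hint, H⟩ :=
    Algebra.zariskisMainProperty_iff.mp (zmp_of_mem hfin he q hq et het hetq)
  exact hr (hle (Ideal.subset_span ⟨r, ⟨hint, H⟩, rfl⟩))

include hfin in
theorem exists_good_π_eq_one (he : IsIdempotentElem e) (et : B)
    (het : Ideal.Quotient.mk _ et = e) : ∃ g : B, Good A g ∧ π I e g = 1 := by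
  classical
  have htop := span_good_eq_top hfin he et het
  obtain ⟨S', hS', hS'top⟩ := (Ideal.span_eq_top_iff_finite _).mp htop
  have hlift : ∀ s ∈ S', ∃ r, Good A r ∧ π I e r = s := fun s hs => by
    obtain ⟨r, hr, rfl⟩ := hS' hs
    exact ⟨r, hr, rfl⟩
  have hF := finite_C₁ hfin
  obtain ⟨T, hT⟩ := hF.fg_top
  let C' : Subalgebra A (C₁ I e) := (integralClosure A B).map (π I e)
  have key : ∀ s ∈ S', ∃ m, ∀ c : C₁ I e, s ^ m * c ∈ C' := by
    intro s hs
    obtain ⟨r, hr, rfl⟩ := hlift s hs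
    have h1 : ∀ c : C₁ I e, ∃ m, ∀ m', m ≤ m' → (π I e r) ^ m' * c ∈ C' := by
      intro c
      obtain ⟨y, rfl⟩ := π_surjective I e c
      obtain ⟨m, hm⟩ := hr.2 y
      exact ⟨m, fun m' hm' => ⟨r ^ m' * y, hr.mono hm hm', by simp⟩⟩
    choose mf hmf using h1
    refine ⟨T.sup mf, fun c => ?_⟩
    have hc : c ∈ Submodule.span A (T : Set (C₁ I e)) := by rw [hT]; trivial
    induction hc using Submodule.span_induction with
    | mem c hc => exact hmf c _ (Finset.le_sup hc)
    | zero => rw [mul_zero]; exact C'.zero_mem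
    | add x y _ _ hx hy => rw [mul_add]; exact C'.add_mem hx hy
    | smul a x _ hx => rw [mul_smul_comm]; exact C'.smul_mem hx a
  choose! mf hmf using key
  let m := S'.sup mf
  have key' : ∀ s ∈ S', ∀ c : C₁ I e, s ^ m * c ∈ C' := by
    intro s hs c
    have hle : mf s ≤ m := Finset.le_sup hs
    obtain ⟨k, hk⟩ := Nat.exists_eq_add_of_le hle
    rw [hk, pow_add, mul_assoc]
    exact hmf s hs _
  have hpow : Ideal.span ((fun x => x ^ (m + 1)) '' (S' : Set (C₁ I e))) = ⊤ :=
    Ideal.span_pow_eq_top _ hS'top _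
  have P : ∀ x ∈ Ideal.span ((fun x => x ^ (m + 1)) '' (S' : Set (C₁ I e))),
      ∀ c : C₁ I e, ∃ g, Good A g ∧ π I e g = c * x := by
    intro x hx
    induction hx using Submodule.span_induction with
    | mem x hx =>
      obtain ⟨s, hs, rfl⟩ := hx
      intro c
      obtain ⟨r, hr, rfl⟩ := hlift s hs
      obtain ⟨w, hw, hwc⟩ := key' _ hs c
      refine ⟨w * r, hr.mul_left hw, ?_⟩
      change π I e w = _ at hwc
      rw [map_mul, hwc]
      ring
    | zero => intro c; exact ⟨0, good_zero, by simp⟩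
    | add x y _ _ hx hy =>
      intro c
      obtain ⟨g1, h1, e1⟩ := hx c
      obtain ⟨g2, h2, e2⟩ := hy c
      exact ⟨g1 + g2, h1.add h2, by rw [map_add, e1, e2, mul_add]⟩
    | smul a x _ hx =>
      intro c
      obtain ⟨g, hg, eg⟩ := hx (c * a)
      exact ⟨g, hg, by rw [eg, smul_eq_mul]; ring⟩
  obtain ⟨g, hg, hg1⟩ := P 1 (by rw [hpow]; trivial) 1
  exact ⟨g, hg, by simpa using hg1⟩

omit [Algebra.FiniteType A B] in
theorem exists_pow_mul_mem {r : B} (hr : Good A r) {t : B}
    (ht : t ∈ Ideal.map (algebraMap A B) I) :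
    ∃ M : ℕ, ∃ w ∈ Ideal.map (algebraMap A (integralClosure A B)) I, (w : B) = r ^ M * t := by
  rw [Ideal.map] at ht
  induction ht using Submodule.span_induction with
  | mem x hx =>
    obtain ⟨i, hi, rfl⟩ := hx
    exact ⟨0, algebraMap A (integralClosure A B) i, Ideal.mem_map_of_mem _ hi, by simp⟩
  | zero => exact ⟨0, 0, Ideal.zero_mem _, by simp⟩
  | add x y _ _ hx hy =>
    obtain ⟨M1, w1, h1, e1⟩ := hx
    obtain ⟨M2, w2, h2, e2⟩ := hy
    refine ⟨M1 + M2, ⟨r ^ M2, hr.1.pow _⟩ * w1 + ⟨r ^ M1, hr.1.pow _⟩ * w2,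
      Ideal.add_mem _ (Ideal.mul_mem_left _ _ h1) (Ideal.mul_mem_left _ _ h2), ?_⟩
    push_cast
    rw [e1, e2]
    ring
  | smul a x _ hx =>
    obtain ⟨M, w, h, e1⟩ := hx
    obtain ⟨m, hm⟩ := hr.2 a
    refine ⟨m + M, ⟨r ^ m * a, hm⟩ * w, Ideal.mul_mem_left _ _ h, ?_⟩
    push_cast
    rw [e1, smul_eq_mul]
    ring

omit [Algebra.FiniteType A B] in
theorem bijective_of_good (g : integralClosure A B) (hg : Good A (g : B)) :
    Function.Bijective (algebraMap (Localization.Away g)
      (Localization (Algebra.algebraMapSubmonoid B (Submonoid.powers g)))) := by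
  constructor
  · exact localizationAlgebra_injective (Rₘ := Localization.Away g)
      (Sₘ := Localization (Algebra.algebraMapSubmonoid B (Submonoid.powers g)))
      (show Function.Injective (algebraMap (integralClosure A B) B) from Subtype.val_injective)
  · intro y
    obtain ⟨b, ⟨s, hs⟩, rfl⟩ :=
      IsLocalization.exists_mk'_eq (Algebra.algebraMapSubmonoid B (Submonoid.powers g)) y
    obtain ⟨t, ⟨k, rfl⟩, rfl⟩ := hs
    obtain ⟨m, hm⟩ := hg.2 b
    refine ⟨IsLocalization.mk' _ (⟨(g : B) ^ m * b, hm⟩ : integralClosure A B)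
      (⟨g ^ (m + k), ⟨m + k, rfl⟩⟩ : Submonoid.powers g), ?_⟩
    rw [localizationAlgebraMap_def, IsLocalization.map_mk', IsLocalization.mk'_eq_iff_eq]
    congr 1
    simp only [pow_add, map_mul, map_pow]
    change (g : B) ^ k * ((g : B) ^ m * b) = (g : B) ^ m * (g : B) ^ k * b
    ring

include hfin in
theorem main (he : IsIdempotentElem e) :
    ∃ g : integralClosure A B,
      IsIdempotentElem (Ideal.Quotient.mk (Ideal.map (algebraMap A (integralClosure A B)) I) g) ∧
      Ideal.Quotient.mk (Ideal.map (algebraMap A B) I) (g : B) = e ∧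
      Function.Bijective (algebraMap (Localization.Away g)
        (Localization (Algebra.algebraMapSubmonoid B (Submonoid.powers g)))) := by
  obtain ⟨et, het⟩ := Ideal.Quotient.mk_surjective e
  obtain ⟨g, hg, hg1⟩ := exists_good_π_eq_one hfin he et het
  have hγ : Ideal.Quotient.mk (Ideal.map (algebraMap A B) I) g * e = e := by
    have h1 : Ideal.Quotient.mk (Ideal.span {1 - e})
        (Ideal.Quotient.mk (Ideal.map (algebraMap A B) I) g) = 1 := hg1
    have h2 : Ideal.Quotient.mk (Ideal.map (algebraMap A B) I) g - 1 ∈ Ideal.span {1 - e} := by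
      rw [← Ideal.Quotient.eq_zero_iff_mem, map_sub, h1, map_one, sub_self]
    obtain ⟨z, hz⟩ := Ideal.mem_span_singleton'.mp h2
    have h3 : (Ideal.Quotient.mk (Ideal.map (algebraMap A B) I) g - 1) * e = 0 := by
      rw [← hz, mul_assoc, sub_mul, one_mul, he.eq, sub_self, mul_zero]
    linear_combination h3
  obtain ⟨m', hm'⟩ := hg.2 et
  have hg' : Good A ((g ^ m' * et) * g) := hg.mul_left hm'
  have hg'e : Ideal.Quotient.mk (Ideal.map (algebraMap A B) I) ((g ^ m' * et) * g) = e := by
    have hpow : ∀ k : ℕ, Ideal.Quotient.mk (Ideal.map (algebraMap A B) I) g ^ k * e = e := by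
      intro k
      induction k with
      | zero => simp
      | succ k ih => rw [pow_succ, mul_assoc, hγ, ih]
    rw [map_mul, map_mul, map_pow, het, hpow, mul_comm, hγ]
  obtain ⟨M, w, hw, hwe⟩ := exists_pow_mul_mem (I := I) hg'
    (t := (g ^ m' * et) * g * ((g ^ m' * et) * g) - (g ^ m' * et) * g) (by
      rw [← Ideal.Quotient.eq_zero_iff_mem, map_sub, map_mul, hg'e, he.eq, sub_self])
  let G' : integralClosure A B := ⟨(g ^ m' * et) * g, hg'.1⟩
  have hx : (Ideal.Quotient.mk (Ideal.map (algebraMap A (integralClosure A B)) I) G') ^ M *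
      ((Ideal.Quotient.mk _ G') * (Ideal.Quotient.mk _ G') - Ideal.Quotient.mk _ G') = 0 := by
    rw [← map_mul, ← map_sub, ← map_pow, ← map_mul, Ideal.Quotient.eq_zero_iff_mem]
    convert hw using 1
    apply Subtype.ext
    rw [hwe]
    rfl
  have hstep : (Ideal.Quotient.mk (Ideal.map (algebraMap A (integralClosure A B)) I) G') ^
      (M + 1 + 1) = (Ideal.Quotient.mk _ G') ^ (M + 1) := by
    linear_combination hx
  have hall : ∀ k : ℕ, (Ideal.Quotient.mk (Ideal.map (algebraMap A (integralClosure A B)) I) G') ^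
      (M + 1 + k) = (Ideal.Quotient.mk _ G') ^ (M + 1) := by
    intro k
    induction k with
    | zero => rfl
    | succ k ih => rw [← add_assoc, pow_succ, ih, ← pow_succ, hstep]
  refine ⟨G' ^ (M + 1), ?_, ?_, ?_⟩
  · rw [map_pow]
    unfold IsIdempotentElem
    rw [← pow_add, hall]
  · change Ideal.Quotient.mk _ (((g ^ m' * et) * g) ^ (M + 1)) = e
    rw [map_pow, hg'e]
    exact he.pow_succ_eq M
  · apply bijective_of_good
    change Good A (((g ^ m' * et) * g) ^ (M + 1))
    exact hg'.pow_succ M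

end step1

end Groth.Agent.Lib.helper11.ZMTIdem
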